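import Mathlib

namespace Groth.Agent.Lib.Helper95.RGNil

open MvPolynomial IsLocalRing

universe u

/-- Gröbner-type finiteness over a field. -/
theorem exists_groebner {k : Type*} [Field k] {n : ℕ} (m : MonomialOrder (Fin n))
    (Jb : Ideal (MvPolynomial (Fin n) k)) :
    ∃ (D' : Finset (Fin n →₀ ℕ)) (F : (Fin n →₀ ℕ) → MvPolynomial (Fin n) k),
      (∀ d ∈ D', F d ∈ Jb ∧ F d ≠ 0 ∧ m.degree (F d) = d) ∧
      ∀ f ∈ Jb, f ≠ 0 → ∃ d ∈ D', d ≤ m.degree f := by
  classical
  set D : Set (Fin n →₀ ℕ) := {d | ∃ f ∈ Jb, f ≠ 0 ∧ m.degree f = d} with hD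
  have hfg : (Ideal.span ((fun s => monomial s (1 : k)) '' D)).FG :=
    IsNoetherian.noetherian _
  obtain ⟨T, hTsub, hTeq⟩ := (Submodule.fg_span_iff_fg_span_finset_subset _).mp hfg
  obtain ⟨D', hD'sub, hD'img⟩ := Finset.subset_set_image_iff.mp hTsub
  have hch : ∀ d : Fin n →₀ ℕ, ∃ f : MvPolynomial (Fin n) k,
      d ∈ D → (f ∈ Jb ∧ f ≠ 0 ∧ m.degree f = d) := by
    intro d
    by_cases hd : d ∈ D
    · obtain ⟨f, hf⟩ := hd
      exact ⟨f, fun _ => hf⟩
    · exact ⟨0, fun h => absurd h hd⟩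
  choose F hF using hch
  refine ⟨D', F, fun d hd => hF d (hD'sub hd), fun f hf hf0 => ?_⟩
  have hmem : monomial (m.degree f) (1 : k) ∈ Ideal.span ((fun s => monomial s (1 : k)) '' D) :=
    Ideal.subset_span ⟨m.degree f, ⟨f, hf, hf0, rfl⟩, rfl⟩
  have hmem' : monomial (m.degree f) (1 : k) ∈
      Ideal.span ((fun s => monomial s (1 : k)) '' (D' : Set (Fin n →₀ ℕ))) := by
    have : Ideal.span ((fun s => monomial s (1 : k)) '' (D' : Set (Fin n →₀ ℕ))) =
        Ideal.span ((fun s => monomial s (1 : k)) '' D) := by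
      rw [← Finset.coe_image, hD'img]
      exact hTeq.symm
    rw [this]; exact hmem
  rw [mem_ideal_span_monomial_image] at hmem'
  obtain ⟨d, hd, hle⟩ := hmem' (m.degree f) (by simp [support_monomial])
  exact ⟨d, hd, hle⟩

/-- the part of `g` supported on `S`. -/
noncomputable def trunc {R : Type*} [CommRing R] {σ : Type*} (S : Finset (σ →₀ ℕ))
    (g : MvPolynomial σ R) : MvPolynomial σ R :=
  ∑ c ∈ S, monomial c (coeff c g)

theorem coeff_trunc {R : Type*} [CommRing R] {σ : Type*} [DecidableEq σ] (S : Finset (σ →₀ ℕ))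
    (g : MvPolynomial σ R) (c : σ →₀ ℕ) :
    coeff c (trunc S g) = if c ∈ S then coeff c g else 0 := by
  classical
  unfold trunc
  rw [coeff_sum]
  simp only [coeff_monomial]
  split_ifs with h
  · rw [Finset.sum_eq_single c]
    · simp
    · intro b _ hb; simp [hb]
    · intro hc; exact absurd h hc
  · apply Finset.sum_eq_zero
    intro b hb
    have : b ≠ c := fun e => h (e ▸ hb)
    simp [this]

variable {R₀ : Type u} [CommRing R₀] [IsLocalRing R₀]

theorem linearIndependent_standard {n : ℕ} (m : MonomialOrder (Fin n))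
    (J : Ideal (MvPolynomial (Fin n) R₀)) [Module.Flat R₀ (MvPolynomial (Fin n) R₀ ⧸ J)]
    (B : Set (Fin n →₀ ℕ))
    (hB : ∀ f ∈ J.map (MvPolynomial.map (residue R₀)), f ≠ 0 → m.degree f ∉ B) :
    LinearIndependent R₀ (fun c : B => (Ideal.Quotient.mk J (monomial c.1 (1 : R₀)))) := by
  classical
  apply Module.IsLocalRing.linearIndependent_of_flat
  set k := ResidueField R₀
  set Jb := J.map (MvPolynomial.map (residue R₀)) with hJb
  -- the comparison map
  let φ : MvPolynomial (Fin n) R₀ →ₐ[R₀] (MvPolynomial (Fin n) k ⧸ Jb) :=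
    (Ideal.Quotient.mkₐ R₀ Jb).comp (MvPolynomial.mapAlgHom (Algebra.ofId R₀ k))
  have hφ : ∀ p, φ p = Ideal.Quotient.mk Jb (MvPolynomial.map (residue R₀) p) := by
    intro p; rfl
  have hφJ : ∀ a ∈ J, φ a = 0 := by
    intro a ha
    rw [hφ, Ideal.Quotient.eq_zero_iff_mem]
    exact Ideal.mem_map_of_mem _ ha
  let f : (MvPolynomial (Fin n) R₀ ⧸ J) →ₐ[R₀] (MvPolynomial (Fin n) k ⧸ Jb) :=
    Ideal.Quotient.liftₐ J φ hφJ
  let θ : TensorProduct R₀ k (MvPolynomial (Fin n) R₀ ⧸ J) →ₗ[k] (MvPolynomial (Fin n) k ⧸ Jb) :=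
    LinearMap.liftBaseChange k f.toLinearMap
  rw [linearIndependent_iff']
  intro s a hsum i hi
  have h1 := congrArg θ hsum
  rw [map_zero, map_sum] at h1
  have h2 : ∀ c : B, θ (a c • (TensorProduct.mk R₀ k (MvPolynomial (Fin n) R₀ ⧸ J) 1 ∘
      fun c : B => (Ideal.Quotient.mk J (monomial c.1 (1 : R₀)))) c) =
      Ideal.Quotient.mk Jb (monomial c.1 (a c)) := by
    intro c
    rw [map_smul]
    simp only [Function.comp_apply, TensorProduct.mk_apply]
    erw [LinearMap.liftBaseChange_tmul]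
    rw [one_smul]
    show a c • f (Ideal.Quotient.mk J (monomial c.1 (1 : R₀))) = _
    have : f (Ideal.Quotient.mk J (monomial c.1 (1 : R₀))) = φ (monomial c.1 1) :=
      Ideal.Quotient.liftₐ_apply J φ hφJ _
    rw [this, hφ, MvPolynomial.map_monomial, map_one]
    show a c • (Ideal.Quotient.mkₐ k Jb) (monomial c.1 1) = _
    rw [← map_smul, smul_monomial, smul_eq_mul, mul_one]
    rfl
  rw [Finset.sum_congr rfl (fun c _ => h2 c), ← map_sum, Ideal.Quotient.eq_zero_iff_mem] at h1
  set p : MvPolynomial (Fin n) k := ∑ c ∈ s, monomial c.1 (a c) with hp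
  have hcoeff : ∀ c : B, c ∈ s → coeff c.1 p = a c := by
    intro c hc
    rw [hp, coeff_sum, Finset.sum_eq_single c]
    · simp
    · intro b _ hb
      rw [coeff_monomial, if_neg]
      intro e; exact hb (Subtype.ext e)
    · intro h; exact absurd hc h
  have hsupp : ∀ c ∈ p.support, c ∈ B := by
    intro c hc
    rw [mem_support_iff, hp, coeff_sum] at hc
    obtain ⟨b, hb, hb'⟩ := Finset.exists_ne_zero_of_sum_ne_zero hc
    rw [coeff_monomial] at hb'
    split_ifs at hb' with e
    · rw [← e]; exact b.2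
    · exact absurd rfl hb'
  by_cases hp0 : p = 0
  · rw [← hcoeff i hi, hp0, coeff_zero]
  · exfalso
    exact hB p h1 hp0 (hsupp _ (m.degree_mem_support hp0))

theorem fg_of_flat_quotient_fin (hnil : ∀ x ∈ maximalIdeal R₀, IsNilpotent x) {n : ℕ}
    (J : Ideal (MvPolynomial (Fin n) R₀)) [Module.Flat R₀ (MvPolynomial (Fin n) R₀ ⧸ J)] :
    J.FG := by
  classical
  set k := ResidueField R₀
  let m : MonomialOrder (Fin n) := MonomialOrder.lex
  set π : MvPolynomial (Fin n) R₀ →+* MvPolynomial (Fin n) k := MvPolynomial.map (residue R₀)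
    with hπ
  have hπsurj : Function.Surjective π := MvPolynomial.map_surjective _ (residue_surjective)
  set Jb := J.map π with hJb
  obtain ⟨D', F, hF, hFdeg⟩ := exists_groebner m Jb
  -- lifts
  have hlift : ∀ d : Fin n →₀ ℕ, ∃ g : MvPolynomial (Fin n) R₀, d ∈ D' → (g ∈ J ∧ π g = F d) := by
    intro d
    by_cases hd : d ∈ D'
    · obtain ⟨g, hg, hg'⟩ := (Ideal.mem_map_iff_of_surjective π hπsurj).mp (hF d hd).1
      exact ⟨g, fun _ => ⟨hg, hg'⟩⟩
    · exact ⟨0, fun h => absurd h hd⟩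
  choose g hg using hlift
  set g0 : (Fin n →₀ ℕ) → MvPolynomial (Fin n) R₀ := fun d => trunc (F d).support (g d) with hg0
  set nn : (Fin n →₀ ℕ) → MvPolynomial (Fin n) R₀ := fun d => g d - g0 d with hnn
  have hcoeffπ : ∀ d ∈ D', ∀ c, residue R₀ (coeff c (g d)) = coeff c (F d) := by
    intro d hd c
    rw [← (hg d hd).2, hπ, coeff_map]
  -- support of g0
  have hsupp0 : ∀ d ∈ D', (g0 d).support = (F d).support := by
    intro d hd
    ext c
    rw [mem_support_iff, hg0, coeff_trunc]
    split_ifs with h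
    · simp only [h, iff_true]
      intro h0
      rw [mem_support_iff, ← hcoeffπ d hd c, h0, map_zero] at h
      exact h rfl
    · simp [h]
  have hdeg0 : ∀ d ∈ D', m.degree (g0 d) = d := by
    intro d hd
    have h1 : m.degree (g0 d) = m.degree (F d) := by
      unfold MonomialOrder.degree
      rw [hsupp0 d hd]
    rw [h1, (hF d hd).2.2]
  have hlc0 : ∀ d ∈ D', IsUnit (m.leadingCoeff (g0 d)) := by
    intro d hd
    unfold MonomialOrder.leadingCoeff
    rw [hdeg0 d hd, hg0, coeff_trunc]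
    have hdm : d ∈ (F d).support := by
      have := m.degree_mem_support (hF d hd).2.1
      rwa [(hF d hd).2.2] at this
    rw [if_pos hdm]
    rw [← IsLocalRing.residue_ne_zero_iff_isUnit, hcoeffπ d hd]
    exact mem_support_iff.mp hdm
  -- coefficients of nn in the maximal ideal
  have hnncoeff : ∀ d ∈ D', ∀ c, coeff c (nn d) ∈ maximalIdeal R₀ := by
    intro d hd c
    rw [hnn, coeff_sub, hg0, coeff_trunc]
    split_ifs with h
    · simp
    · rw [sub_zero, ← IsLocalRing.residue_eq_zero_iff, hcoeffπ d hd]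
      exact notMem_support_iff.mp h
  -- the ideal 𝔞
  set S : Finset R₀ := D'.biUnion (fun d => (nn d).support.image (fun c => coeff c (nn d))) with hS
  set 𝔞 : Ideal R₀ := Ideal.span (S : Set R₀) with h𝔞
  have h𝔞nil : 𝔞 ≤ nilradical R₀ := by
    rw [h𝔞, Ideal.span_le]
    intro x hx
    rw [Finset.mem_coe, hS, Finset.mem_biUnion] at hx
    obtain ⟨d, hd, hx⟩ := hx
    rw [Finset.mem_image] at hx
    obtain ⟨c, _, rfl⟩ := hx
    exact mem_nilradical.mpr (hnil _ (hnncoeff d hd c))
  obtain ⟨E, hE⟩ := Ideal.exists_pow_le_of_le_radical_of_fg (J := (⊥ : Ideal R₀)) h𝔞nil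
    ⟨S, rfl⟩
  have hnn𝔞 : ∀ d ∈ D', nn d ∈ Ideal.map (C : R₀ →+* MvPolynomial (Fin n) R₀) 𝔞 := by
    intro d hd
    rw [mem_map_C_iff]
    intro c
    by_cases hc : c ∈ (nn d).support
    · apply Ideal.subset_span
      rw [Finset.mem_coe, hS, Finset.mem_biUnion]
      exact ⟨d, hd, Finset.mem_image.mpr ⟨c, hc, rfl⟩⟩
    · rw [notMem_support_iff.mp hc]; exact zero_mem _
  set J' : Ideal (MvPolynomial (Fin n) R₀) := Ideal.span (g '' (D' : Set (Fin n →₀ ℕ))) with hJ'
  have hJ'J : J' ≤ J := by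
    rw [hJ', Ideal.span_le]
    rintro _ ⟨d, hd, rfl⟩
    exact (hg d hd).1
  set B : Set (Fin n →₀ ℕ) := {c | ∀ d ∈ D', ¬ d ≤ c} with hB
  -- Claim 1
  have claim1 : ∀ f : MvPolynomial (Fin n) R₀, ∃ t j h, t ∈ restrictSupport R₀ B ∧ j ∈ J' ∧
      h ∈ Ideal.map (C : R₀ →+* MvPolynomial (Fin n) R₀) 𝔞 ∧ f = t + j + h := by
    intro f
    obtain ⟨q, r, hfr, -, hr⟩ := m.div (b := fun d : D' => g0 d.1) (fun d => hlc0 d.1 d.2) f
    refine ⟨r, q.sum (fun d a => a * g d.1), - q.sum (fun d a => a * nn d.1), ?_, ?_, ?_, ?_⟩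
    · rw [mem_restrictSupport_iff]
      intro c hc d hd
      have := hr c hc ⟨d, hd⟩
      rwa [hdeg0 d hd] at this
    · apply Ideal.sum_mem
      intro d _
      exact Ideal.mul_mem_left _ _ (Ideal.subset_span ⟨d.1, d.2, rfl⟩)
    · apply neg_mem
      apply Ideal.sum_mem
      intro d _
      exact Ideal.mul_mem_left _ _ (hnn𝔞 d.1 d.2)
    · rw [hfr, Finsupp.linearCombination_apply]
      simp only [Finsupp.sum, smul_eq_mul, hnn, mul_sub, Finset.sum_sub_distrib]
      ring
  choose t1 j1 h1 ht1 hj1 hh1 hsum1 using claim1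
  -- Claim 2
  have claim2 : ∀ (E : ℕ) (f : MvPolynomial (Fin n) R₀), ∃ t j h, t ∈ restrictSupport R₀ B ∧
      j ∈ J' ∧ h ∈ Ideal.map (C : R₀ →+* MvPolynomial (Fin n) R₀) (𝔞 ^ E) ∧ f = t + j + h := by
    intro E
    induction E with
    | zero =>
      intro f
      exact ⟨0, 0, f, zero_mem _, zero_mem _,
        by rw [pow_zero, Ideal.one_eq_top, Ideal.map_top]; trivial, by simp⟩
    | succ E ih =>
      intro f
      obtain ⟨t, j, h, ht, hj, hh, hf⟩ := ih f
      rw [mem_map_C_iff] at hh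
      refine ⟨t + ∑ c ∈ h.support, C (coeff c h) * t1 (monomial c 1),
        j + ∑ c ∈ h.support, C (coeff c h) * j1 (monomial c 1),
        ∑ c ∈ h.support, C (coeff c h) * h1 (monomial c 1), ?_, ?_, ?_, ?_⟩
      · apply add_mem ht
        apply sum_mem
        intro c _
        rw [← smul_eq_C_mul]
        exact Submodule.smul_mem _ _ (ht1 _)
      · apply add_mem hj
        apply sum_mem
        intro c _
        exact Ideal.mul_mem_left _ _ (hj1 _)
      · apply sum_mem
        intro c _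
        rw [pow_succ, Ideal.map_mul]
        exact Ideal.mul_mem_mul (Ideal.mem_map_of_mem _ (hh c)) (hh1 _)
      · have hh' : h = ∑ c ∈ h.support, C (coeff c h) * monomial c 1 := by
          conv_lhs => rw [h.as_sum]
          apply Finset.sum_congr rfl
          intro c _
          rw [C_mul_monomial, mul_one]
        conv_lhs => rw [hf, hh']
        have : ∀ c ∈ h.support, C (coeff c h) * (monomial c) 1 =
            C (coeff c h) * t1 (monomial c 1) + C (coeff c h) * j1 (monomial c 1) +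
              C (coeff c h) * h1 (monomial c 1) := by
          intro c _
          conv_lhs => rw [hsum1 (monomial c 1)]
          ring
        rw [Finset.sum_congr rfl this, Finset.sum_add_distrib, Finset.sum_add_distrib]
        ring
  -- Claim 3
  have hBcond : ∀ f ∈ J.map (MvPolynomial.map (residue R₀)), f ≠ 0 → m.degree f ∉ B := by
    intro f hf hf0 hB'
    obtain ⟨d, hd, hle⟩ := hFdeg f hf hf0
    exact hB' d hd hle
  have hli := linearIndependent_standard m J B hBcond
  have hJJ' : J ≤ J' := by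
    intro f hf
    obtain ⟨t, j, h, ht, hj, hh, hfe⟩ := claim2 E f
    have hh0 : h = 0 := by
      have : Ideal.map (C : R₀ →+* MvPolynomial (Fin n) R₀) (𝔞 ^ E) ≤ ⊥ := by
        rw [le_bot_iff.mp hE, Ideal.map_bot]
      exact (Submodule.mem_bot _).mp (this hh)
    have htJ : t ∈ J := by
      have : t = f - j := by rw [hfe, hh0]; ring
      rw [this]
      exact sub_mem hf (hJ'J hj)
    have ht0 : t = 0 := by
      rw [restrictSupport_eq_span, Set.image_eq_range,
        Finsupp.mem_span_range_iff_exists_finsupp] at ht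
      obtain ⟨l, hl⟩ := ht
      have h0 : Ideal.Quotient.mk J t = 0 := Ideal.Quotient.eq_zero_iff_mem.mpr htJ
      rw [← hl, Finsupp.sum, map_sum] at h0
      have h0' : (Finsupp.linearCombination R₀
          (fun c : B => (Ideal.Quotient.mk J (monomial c.1 (1 : R₀))))) l = 0 := by
        rw [Finsupp.linearCombination_apply, Finsupp.sum, ← h0]
        apply Finset.sum_congr rfl
        intro c _
        exact (map_smul (Ideal.Quotient.mkₐ R₀ J) (l c) (monomial c.1 1)).symm
      have hl0 : l = 0 := (linearIndependent_iff.mp hli) l h0'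
      rw [← hl, hl0]
      simp
    rw [hfe, ht0, hh0]
    simpa using hj
  have hJeq : J = J' := le_antisymm hJJ' hJ'J
  rw [hJeq]
  exact ⟨D'.image g, by rw [hJ', Finset.coe_image]⟩

end Groth.Agent.Lib.Helper95.RGNil
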