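import Mathlib
import Groth.Agent.Lib.Helper95.RGNilA

namespace Groth.Agent.Lib.Helper95.RGNil

open MvPolynomial IsLocalRing

universe u

variable {R₀ : Type u} [CommRing R₀] [IsLocalRing R₀]

/-- FG transfers along ring equivalences. -/
theorem fg_of_map_equiv_fg {A B : Type*} [CommRing A] [CommRing B] (e : A ≃+* B) (J : Ideal A)
    (h : (J.map (e : A →+* B)).FG) : J.FG := by
  have : J = (J.map (e : A →+* B)).map (e.symm : B →+* A) := by
    rw [Ideal.map_map]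
    have : (e.symm : B →+* A).comp (e : A →+* B) = RingHom.id A := by
      ext x; simp
    rw [this, Ideal.map_id]
  rw [this]
  exact h.map _

theorem fg_of_flat_quotient (hnil : ∀ x ∈ maximalIdeal R₀, IsNilpotent x) {σ : Type*} [Finite σ]
    (J : Ideal (MvPolynomial σ R₀)) [Module.Flat R₀ (MvPolynomial σ R₀ ⧸ J)] : J.FG := by
  obtain ⟨n, ⟨e⟩⟩ := Finite.exists_equiv_fin σ
  let ψ : MvPolynomial σ R₀ ≃ₐ[R₀] MvPolynomial (Fin n) R₀ := renameEquiv R₀ e
  set J₂ : Ideal (MvPolynomial (Fin n) R₀) := J.map (ψ : MvPolynomial σ R₀ →+* _) with hJ₂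
  let eq : (MvPolynomial σ R₀ ⧸ J) ≃ₐ[R₀] (MvPolynomial (Fin n) R₀ ⧸ J₂) :=
    Ideal.quotientEquivAlg J J₂ ψ rfl
  haveI : Module.Flat R₀ (MvPolynomial (Fin n) R₀ ⧸ J₂) :=
    Module.Flat.of_linearEquiv eq.toLinearEquiv.symm
  have h2 : J₂.FG := fg_of_flat_quotient_fin hnil J₂
  exact fg_of_map_equiv_fg ψ.toRingEquiv J h2

end Groth.Agent.Lib.Helper95.RGNil
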