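import Mathlib
import Groth.Agent.Lib.Helper95.RGNilB

namespace Groth.Agent.Lib.Helper95.RGNil

open MvPolynomial IsLocalRing

universe u v

open TensorProduct in
theorem flat_prod {R M N : Type*} [CommRing R] [AddCommGroup M] [Module R M] [AddCommGroup N]
    [Module R N] [Module.Flat R M] [Module.Flat R N] : Module.Flat R (M × N) := by
  rw [Module.Flat.iff_rTensor_injectiveₛ]
  intro P _ _ Q
  have h1 := Module.Flat.rTensor_preserves_injective_linearMap (M := M) Q.subtype
    Subtype.val_injective
  have h2 := Module.Flat.rTensor_preserves_injective_linearMap (M := N) Q.subtype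
    Subtype.val_injective
  have key : (TensorProduct.prodRight R R P M N).toLinearMap ∘ₗ Q.subtype.rTensor (M × N) =
      (LinearMap.prodMap (Q.subtype.rTensor M) (Q.subtype.rTensor N)) ∘ₗ
        (TensorProduct.prodRight R R Q M N).toLinearMap := by
    ext q x <;> simp
  have hinj : Function.Injective ((TensorProduct.prodRight R R P M N).toLinearMap ∘ₗ
      Q.subtype.rTensor (M × N)) := by
    rw [key]
    exact (Function.Injective.prodMap h1 h2).comp (TensorProduct.prodRight R R Q M N).injective
  exact Function.Injective.of_comp hinj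

section idealization

variable {P : Type*} [CommRing P] {M : Type*} [AddCommGroup M] [Module P M]
  [Module Pᵐᵒᵖ M] [IsCentralScalar P M] {s : ℕ} (v : Fin s → M)

variable (P) in
/-- the idealization map -/
noncomputable def Phi : MvPolynomial (Fin s) P →ₐ[P] TrivSqZeroExt P M :=
  aeval (fun j => TrivSqZeroExt.inr (v j))

theorem fst_Phi (F : MvPolynomial (Fin s) P) : (Phi P v F).fst = coeff 0 F := by
  induction F using MvPolynomial.induction_on with
  | C a => simp [Phi, TrivSqZeroExt.algebraMap_eq_inl]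
  | add p q hp hq => rw [map_add, TrivSqZeroExt.fst_add, hp, hq, coeff_add]
  | mul_X p i hp =>
    rw [map_mul, TrivSqZeroExt.fst_mul, hp]
    simp [Phi, coeff_mul_X']

theorem snd_Phi (F : MvPolynomial (Fin s) P) :
    (Phi P v F).snd = ∑ j, coeff (Finsupp.single j 1) F • v j := by
  classical
  induction F using MvPolynomial.induction_on with
  | C a =>
    have h0 : ∀ j : Fin s, (0 : Fin s →₀ ℕ) ≠ Finsupp.single j 1 := fun j h => by
      have := congrArg (fun f => f j) h
      simp at this
    simp [Phi, TrivSqZeroExt.algebraMap_eq_inl, coeff_C, h0]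
  | add p q hp hq =>
    rw [map_add, TrivSqZeroExt.snd_add, hp, hq, ← Finset.sum_add_distrib]
    apply Finset.sum_congr rfl
    intro j _
    rw [coeff_add, add_smul]
  | mul_X p i hp =>
    rw [map_mul, TrivSqZeroExt.snd_mul, fst_Phi]
    have h1 : Phi P v (X i : MvPolynomial (Fin s) P) = TrivSqZeroExt.inr (v i) := by simp [Phi]
    rw [h1, TrivSqZeroExt.snd_inr, TrivSqZeroExt.fst_inr]
    simp only [MulOpposite.op_zero, zero_smul, add_zero]
    rw [Finset.sum_eq_single i]
    · rw [coeff_mul_X']
      simp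
    · intro j _ hji
      rw [coeff_mul_X']
      have : i ∉ (Finsupp.single j 1 : Fin s →₀ ℕ).support := by
        rw [Finsupp.support_single_ne_zero _ one_ne_zero]
        simpa using hji.symm
      rw [if_neg this, zero_smul]
    · intro h; exact absurd (Finset.mem_univ i) h

theorem Phi_surjective (hv : Submodule.span P (Set.range v) = ⊤) :
    Function.Surjective (Phi P v) := by
  intro y
  have hx : y.snd ∈ Submodule.span P (Set.range v) := by rw [hv]; trivial
  obtain ⟨c, hc⟩ := (Submodule.mem_span_range_iff_exists_fun P).mp hx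
  refine ⟨C y.fst + ∑ j, C (c j) * X j, ?_⟩
  rw [map_add, map_sum]
  have h1 : ∀ j, Phi P v (C (c j) * X j : MvPolynomial (Fin s) P) =
      TrivSqZeroExt.inr (c j • v j) := by
    intro j
    rw [map_mul]
    have h2 : Phi P v (X j : MvPolynomial (Fin s) P) = TrivSqZeroExt.inr (v j) := by simp [Phi]
    have h3 : Phi P v (C (c j) : MvPolynomial (Fin s) P) = TrivSqZeroExt.inl (c j) := by
      simp [Phi, TrivSqZeroExt.algebraMap_eq_inl]
    rw [h2, h3, TrivSqZeroExt.inl_mul_inr]
  have h0 : Phi P v (C y.fst : MvPolynomial (Fin s) P) = TrivSqZeroExt.inl y.fst := by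
    simp [Phi, TrivSqZeroExt.algebraMap_eq_inl]
  rw [h0, Finset.sum_congr rfl (fun j _ => h1 j)]
  have : ∑ j, (TrivSqZeroExt.inr (c j • v j) : TrivSqZeroExt P M) =
      TrivSqZeroExt.inr (∑ j, c j • v j) := by
    rw [← TrivSqZeroExt.inrHom_apply (R := P), map_sum]
    rfl
  rw [this, hc, TrivSqZeroExt.inl_fst_add_inr_snd_eq]

theorem coeff_single_one_mul (U g : MvPolynomial (Fin s) P) (j : Fin s) :
    coeff (Finsupp.single j 1) (U * g) =
      coeff 0 U * coeff (Finsupp.single j 1) g + coeff (Finsupp.single j 1) U * coeff 0 g := by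
  classical
  rw [coeff_mul, Finsupp.antidiagonal_single]
  simp [Finset.Nat.antidiagonal_succ]

/-- finite generation of the relation module from finite generation of the kernel of `Phi`. -/
theorem ker_fg_of_ker_Phi_fg (h : (RingHom.ker (Phi P v)).FG) :
    (LinearMap.ker (Fintype.linearCombination P v)).FG := by
  classical
  obtain ⟨G, hG⟩ := h
  let ℓ : MvPolynomial (Fin s) P →ₗ[P] (Fin s → P) :=
    LinearMap.pi (fun j => lcoeff P (Finsupp.single j 1))
  have hℓ : ∀ F j, ℓ F j = coeff (Finsupp.single j 1) F := fun F j => rfl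
  have hker : ∀ F, F ∈ RingHom.ker (Phi P v) →
      coeff 0 F = 0 ∧ Fintype.linearCombination P v (ℓ F) = 0 := by
    intro F hF
    rw [RingHom.mem_ker] at hF
    have hF' : Phi P v F = 0 := hF
    constructor
    · rw [← fst_Phi v, hF', TrivSqZeroExt.fst_zero]
    · rw [Fintype.linearCombination_apply]
      simp only [hℓ]
      rw [← snd_Phi v, hF', TrivSqZeroExt.snd_zero]
  refine ⟨G.image ℓ, ?_⟩
  apply le_antisymm
  · rw [Submodule.span_le]
    intro p hp
    rw [Finset.coe_image] at hp
    obtain ⟨F, hF, rfl⟩ := hp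
    have : F ∈ RingHom.ker (Phi P v) := by
      rw [← hG]; exact Ideal.subset_span hF
    exact (hker F this).2
  · intro p hp
    rw [LinearMap.mem_ker, Fintype.linearCombination_apply] at hp
    set F : MvPolynomial (Fin s) P := ∑ j, C (p j) * X j with hFdef
    have hcoeff : ∀ j, coeff (Finsupp.single j 1) F = p j := by
      intro j
      rw [hFdef, coeff_sum, Finset.sum_eq_single j]
      · rw [coeff_C_mul, coeff_X', if_pos rfl, mul_one]
      · intro i _ hij
        rw [coeff_C_mul, coeff_X', if_neg, mul_zero]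
        intro e
        exact hij (Finsupp.single_left_injective one_ne_zero e)
      · intro h; exact absurd (Finset.mem_univ j) h
    have hF0 : coeff 0 F = 0 := by
      rw [hFdef, coeff_sum]
      apply Finset.sum_eq_zero
      intro j _
      rw [coeff_C_mul, coeff_zero_X, mul_zero]
    have hFker : F ∈ RingHom.ker (Phi P v) := by
      rw [RingHom.mem_ker]
      show Phi P v F = 0
      apply TrivSqZeroExt.ext
      · rw [fst_Phi, hF0, TrivSqZeroExt.fst_zero]
      · rw [snd_Phi, TrivSqZeroExt.snd_zero]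
        simp only [hcoeff]
        exact hp
    rw [← hG] at hFker
    obtain ⟨U, -, hU⟩ := Submodule.mem_span_finset.mp hFker
    have hp' : p = ℓ F := by
      ext j; rw [hℓ, hcoeff]
    rw [hp', ← hU, map_sum]
    apply Submodule.sum_mem
    intro g hg
    have hgker : g ∈ RingHom.ker (Phi P v) := by
      rw [← hG]; exact Ideal.subset_span hg
    have : ℓ (U g • g) = coeff 0 (U g) • ℓ g := by
      ext j
      rw [hℓ, smul_eq_mul, coeff_single_one_mul, (hker g hgker).1, mul_zero, add_zero]
      rfl
    rw [this]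
    exact Submodule.smul_mem _ _ (Submodule.subset_span (Finset.mem_image_of_mem ℓ hg))

end idealization

variable {R₀ : Type u} [CommRing R₀] [IsLocalRing R₀]

theorem finitePresentation_of_flat (hnil : ∀ x ∈ maximalIdeal R₀, IsNilpotent x)
    {σ : Type*} [Finite σ]
    (M : Type*) [AddCommGroup M] [Module (MvPolynomial σ R₀) M] [Module R₀ M]
    [IsScalarTower R₀ (MvPolynomial σ R₀) M] [Module.Finite (MvPolynomial σ R₀) M]
    [Module.Flat R₀ M] : Module.FinitePresentation (MvPolynomial σ R₀) M := by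
  classical
  obtain ⟨s, v, hv⟩ := Module.Finite.exists_fin (R := MvPolynomial σ R₀) (M := M)
  letI : Module (MvPolynomial σ R₀)ᵐᵒᵖ M :=
    Module.compHom _ ((RingHom.id (MvPolynomial σ R₀)).fromOpposite mul_comm)
  haveI : IsCentralScalar (MvPolynomial σ R₀) M := ⟨fun r m => rfl⟩
  haveI : IsScalarTower R₀ (MvPolynomial σ R₀)ᵐᵒᵖ M := ⟨fun r p m => by
    show (MulOpposite.unop (r • p)) • m = r • (MulOpposite.unop p • m)
    rw [MulOpposite.unop_smul, smul_assoc]⟩
  -- the R₀-algebra map from the big polynomial ring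
  let Ψ : MvPolynomial (Fin s ⊕ σ) R₀ →ₐ[R₀] TrivSqZeroExt (MvPolynomial σ R₀) M :=
    aeval (Sum.elim (fun j => TrivSqZeroExt.inr (v j)) (fun i => TrivSqZeroExt.inl (X i)))
  let ε : MvPolynomial (Fin s ⊕ σ) R₀ ≃ₐ[R₀] MvPolynomial (Fin s) (MvPolynomial σ R₀) :=
    sumAlgEquiv R₀ (Fin s) σ
  have hΨ : Ψ.toRingHom = (Phi (MvPolynomial σ R₀) v).toRingHom.comp ε.toAlgHom.toRingHom := by
    apply MvPolynomial.ringHom_ext
    · intro r
      simp [Ψ, ε, Phi, TrivSqZeroExt.algebraMap_eq_inl', TrivSqZeroExt.algebraMap_eq_inl]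
    · rintro (j | i)
      · simp [Ψ, ε, Phi]
      · simp [Ψ, ε, Phi, TrivSqZeroExt.algebraMap_eq_inl]
  have hΨsurj : Function.Surjective Ψ := by
    have : (Ψ : MvPolynomial (Fin s ⊕ σ) R₀ → _) =
        (Phi (MvPolynomial σ R₀) v) ∘ ε := by
      funext x
      exact congrArg (fun f : MvPolynomial (Fin s ⊕ σ) R₀ →+*
        TrivSqZeroExt (MvPolynomial σ R₀) M => f x) hΨ
    rw [this]
    exact (Phi_surjective v hv).comp ε.surjective
  haveI : Module.Flat R₀ (TrivSqZeroExt (MvPolynomial σ R₀) M) :=
    flat_prod (R := R₀) (M := MvPolynomial σ R₀) (N := M)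
  let eq : (MvPolynomial (Fin s ⊕ σ) R₀ ⧸ RingHom.ker Ψ) ≃ₐ[R₀]
      TrivSqZeroExt (MvPolynomial σ R₀) M :=
    Ideal.quotientKerAlgEquivOfSurjective hΨsurj
  haveI : Module.Flat R₀ (MvPolynomial (Fin s ⊕ σ) R₀ ⧸ RingHom.ker Ψ) :=
    Module.Flat.of_linearEquiv eq.toLinearEquiv
  have hfg : (RingHom.ker Ψ).FG := fg_of_flat_quotient hnil _
  have hker : RingHom.ker (Phi (MvPolynomial σ R₀) v) =
      (RingHom.ker Ψ).map (ε : MvPolynomial (Fin s ⊕ σ) R₀ →+* _) := by
    have h1 : RingHom.ker Ψ = (RingHom.ker (Phi (MvPolynomial σ R₀) v)).comap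
        (ε : MvPolynomial (Fin s ⊕ σ) R₀ →+* _) := by
      ext x
      rw [RingHom.mem_ker, Ideal.mem_comap, RingHom.mem_ker]
      have := congrArg (fun f : MvPolynomial (Fin s ⊕ σ) R₀ →+*
        TrivSqZeroExt (MvPolynomial σ R₀) M => f x) hΨ
      change Ψ x = Phi (MvPolynomial σ R₀) v (ε x) at this
      constructor
      · intro h; rw [← h]; exact this.symm
      · intro h; rw [← h]; exact this
    rw [h1]
    exact (Ideal.map_comap_of_surjective
      (ε : MvPolynomial (Fin s ⊕ σ) R₀ →+* MvPolynomial (Fin s) (MvPolynomial σ R₀))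
      ε.surjective _).symm
  have hfg' : (RingHom.ker (Phi (MvPolynomial σ R₀) v)).FG := by
    rw [hker]; exact hfg.map _
  have hkerfg := ker_fg_of_ker_Phi_fg v hfg'
  have hsurj : Function.Surjective (Fintype.linearCombination (MvPolynomial σ R₀) v) := by
    rw [← LinearMap.range_eq_top, Fintype.range_linearCombination, hv]
  exact Module.finitePresentation_of_free_of_surjective _ hsurj hkerfg

end Groth.Agent.Lib.Helper95.RGNil
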