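import Mathlib
import Groth.Agent.Lib.Helper95.RGNilC

namespace Groth.Agent.Lib.Helper95.RGNil

open MvPolynomial IsLocalRing

universe u

/-- finite presentation descends along a surjective ring map. -/
theorem finitePresentation_of_surjective_of_restrictScalars {P B : Type*} [CommRing P] [CommRing B]
    [Algebra P B] (hsurj : Function.Surjective (algebraMap P B))
    (M : Type*) [AddCommGroup M] [Module B M] [Module P M] [IsScalarTower P B M]
    [Module.FinitePresentation P M] : Module.FinitePresentation B M := by
  classical
  haveI : Module.Finite B M := Module.Finite.of_restrictScalars_finite P B M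
  obtain ⟨s, w, hw⟩ := Module.Finite.exists_fin (R := B) (M := M)
  have hsurjB : Function.Surjective (Fintype.linearCombination B w) := by
    rw [← LinearMap.range_eq_top, Fintype.range_linearCombination, hw]
  -- the P-linear version
  have hcomp : ∀ p : Fin s → P, Fintype.linearCombination P w p =
      Fintype.linearCombination B w (fun j => algebraMap P B (p j)) := by
    intro p
    simp only [Fintype.linearCombination_apply, algebraMap_smul]
  have hsurjP : Function.Surjective (Fintype.linearCombination P w) := by
    intro x
    obtain ⟨b, hb⟩ := hsurjB x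
    choose p hp using fun j => hsurj (b j)
    refine ⟨p, ?_⟩
    rw [hcomp, ← hb]
    congr 1
    funext j; exact hp j
  obtain ⟨G, hG⟩ := Module.FinitePresentation.fg_ker (Fintype.linearCombination P w) hsurjP
  apply Module.finitePresentation_of_free_of_surjective _ hsurjB
  refine ⟨G.image (fun g => fun j => algebraMap P B (g j)), ?_⟩
  apply le_antisymm
  · rw [Submodule.span_le]
    intro b hb
    rw [Finset.coe_image] at hb
    obtain ⟨g, hg, rfl⟩ := hb
    have : g ∈ LinearMap.ker (Fintype.linearCombination P w) := by
      rw [← hG]; exact Submodule.subset_span hg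
    rw [SetLike.mem_coe, LinearMap.mem_ker, ← hcomp]
    exact this
  · intro b hb
    choose p hp using fun j => hsurj (b j)
    have hpk : p ∈ LinearMap.ker (Fintype.linearCombination P w) := by
      rw [LinearMap.mem_ker, hcomp]
      have : (fun j => algebraMap P B (p j)) = b := funext hp
      rw [this]; exact hb
    rw [← hG] at hpk
    obtain ⟨U, -, hU⟩ := Submodule.mem_span_finset.mp hpk
    have hb' : b = ∑ g ∈ G, algebraMap P B (U g) • (fun j => algebraMap P B (g j)) := by
      funext j
      rw [← hp j, ← hU]
      simp [Finset.sum_apply, Algebra.smul_def]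
    rw [hb']
    apply Submodule.sum_mem
    intro g hg
    exact Submodule.smul_mem _ _ (Submodule.subset_span (Finset.mem_image_of_mem _ hg))

variable {R₀ : Type u} [CommRing R₀] [IsLocalRing R₀]

/-- **Raynaud–Gruson over a local ring with nil maximal ideal**: a finite module over a finite
type algebra which is flat over the base is finitely presented. -/
theorem finitePresentation_of_flat_of_finiteType (hnil : ∀ x ∈ maximalIdeal R₀, IsNilpotent x)
    (B : Type*) [CommRing B] [Algebra R₀ B] [Algebra.FiniteType R₀ B]
    (M : Type*) [AddCommGroup M] [Module B M] [Module R₀ M] [IsScalarTower R₀ B M]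
    [Module.Finite B M] [Module.Flat R₀ M] : Module.FinitePresentation B M := by
  obtain ⟨n, φ, hφ⟩ := Algebra.FiniteType.iff_quotient_mvPolynomial''.mp
    (inferInstance : Algebra.FiniteType R₀ B)
  letI : Algebra (MvPolynomial (Fin n) R₀) B := φ.toRingHom.toAlgebra
  letI : Module (MvPolynomial (Fin n) R₀) M := Module.compHom M φ.toRingHom
  haveI : IsScalarTower (MvPolynomial (Fin n) R₀) B M := ⟨fun p b x => by
    show (φ p * b) • x = φ p • (b • x)
    rw [mul_smul]⟩
  haveI : IsScalarTower R₀ (MvPolynomial (Fin n) R₀) M := ⟨fun r p x => by
    show φ (r • p) • x = r • (φ p • x)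
    rw [map_smul, smul_assoc]⟩
  have hsurj : Function.Surjective (algebraMap (MvPolynomial (Fin n) R₀) B) := hφ
  haveI : Module.Finite (MvPolynomial (Fin n) R₀) B :=
    Module.Finite.of_surjective (Algebra.linearMap (MvPolynomial (Fin n) R₀) B) hsurj
  haveI : Module.Finite (MvPolynomial (Fin n) R₀) M := Module.Finite.trans B M
  haveI : Module.FinitePresentation (MvPolynomial (Fin n) R₀) M :=
    finitePresentation_of_flat hnil M
  exact finitePresentation_of_surjective_of_restrictScalars hsurj M

end Groth.Agent.Lib.Helper95.RGNil
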