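import Mathlib
import Groth.Agent.Lib.Helper95.RGNilD

namespace Groth.Agent.Lib.Helper95.RGNil

open IsLocalRing

universe u

section adic
variable {A : Type*} [CommRing A] (J : Ideal A)
  {P Q : Type*} [AddCommGroup P] [Module A P] [AddCommGroup Q] [Module A Q]

theorem map_mem_smul_top (f : P →ₗ[A] Q) {x : P} (hx : x ∈ J • (⊤ : Submodule A P)) :
    f x ∈ J • (⊤ : Submodule A Q) := by
  have : (J • (⊤ : Submodule A P)).map f ≤ J • ⊤ := by
    rw [Submodule.map_smul'']
    exact Submodule.smul_mono le_rfl le_top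
  exact this ⟨x, hx, rfl⟩

theorem isHausdorff_of_injective (f : P →ₗ[A] Q) (hf : Function.Injective f) [IsHausdorff J Q] :
    IsHausdorff J P := by
  refine ⟨fun x hx => hf ?_⟩
  rw [map_zero]
  refine IsHausdorff.haus' (I := J) (f x) (fun n => ?_)
  rw [SModEq.zero]
  have := hx n
  rw [SModEq.zero] at this
  exact map_mem_smul_top (J ^ n) f this

theorem isHausdorff_pi (ι : Type*) (M : Type*) [AddCommGroup M] [Module A M] [IsHausdorff J M] :
    IsHausdorff J (ι → M) := by
  refine ⟨fun x hx => ?_⟩
  funext i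
  refine IsHausdorff.haus' (I := J) (x i) (fun n => ?_)
  rw [SModEq.zero]
  have := hx n
  rw [SModEq.zero] at this
  exact map_mem_smul_top (J ^ n) (LinearMap.proj (R := A) (φ := fun _ : ι => M) i) this

theorem mem_smul_top_pi {ι : Type*} [Finite ι] {M : Type*} [AddCommGroup M] [Module A M]
    (x : ι → M) (hx : ∀ i, x i ∈ J • (⊤ : Submodule A M)) :
    x ∈ J • (⊤ : Submodule A (ι → M)) := by
  classical
  cases nonempty_fintype ι
  rw [← Finset.univ_sum_single x]
  refine Submodule.sum_mem _ (fun i _ => ?_)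
  exact map_mem_smul_top J (LinearMap.single A (fun _ : ι => M) i) (hx i)

theorem isPrecomplete_pi (ι : Type*) [Finite ι] (M : Type*) [AddCommGroup M] [Module A M]
    [IsPrecomplete J M] : IsPrecomplete J (ι → M) := by
  refine ⟨fun f hf => ?_⟩
  have h1 : ∀ i : ι, ∃ L : M, ∀ n, f n i ≡ L [SMOD (J ^ n • ⊤ : Submodule A M)] := by
    intro i
    refine IsPrecomplete.prec' (I := J) (fun n => f n i) ?_
    intro m n hmn
    have := hf hmn
    rw [SModEq.sub_mem] at this ⊢
    exact map_mem_smul_top (J ^ m) (LinearMap.proj (R := A) (φ := fun _ : ι => M) i) this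
  choose L hL using h1
  refine ⟨L, fun n => ?_⟩
  rw [SModEq.sub_mem]
  refine mem_smul_top_pi (J ^ n) _ (fun i => ?_)
  have := hL i n
  rw [SModEq.sub_mem] at this
  exact this

/-- **Complete Nakayama for submodules**: if `A` is `J`-adically precomplete, `F` is `J`-adically
separated and `N ≤ N' ⊔ J • N` with `N' ≤ N` finitely generated, then `N = N'`. -/
theorem eq_of_le_sup_smul [IsPrecomplete J A] {F : Type*} [AddCommGroup F] [Module A F]
    [IsHausdorff J F] (N N' : Submodule A F) (hN' : N'.FG) (hle : N' ≤ N)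
    (h : N ≤ N' ⊔ J • N) : N = N' := by
  classical
  obtain ⟨r, g, hg⟩ := Submodule.fg_iff_exists_fin_generating_family.mp hN'
  have hgN : ∀ i, g i ∈ N := fun i => hle (hg ▸ Submodule.subset_span ⟨i, rfl⟩)
  let f : (Fin r → A) →ₗ[A] N :=
    (Fintype.linearCombination A g).codRestrict N (fun a => by
      rw [Fintype.linearCombination_apply]
      exact Submodule.sum_mem _ (fun i _ => Submodule.smul_mem _ _ (hgN i)))
  haveI : IsPrecomplete J (Fin r → A) := isPrecomplete_pi J (Fin r) A
  haveI : IsHausdorff J N := isHausdorff_of_injective J N.subtype Subtype.val_injective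
  have hsurj : Function.Surjective ((J • (⊤ : Submodule A N)).mkQ ∘ₗ f) := by
    intro y
    obtain ⟨y, rfl⟩ := Submodule.Quotient.mk_surjective _ y
    obtain ⟨n', hn', z, hz, hyz⟩ := Submodule.mem_sup.mp (h y.2)
    rw [← hg] at hn'
    obtain ⟨a, ha⟩ := (Submodule.mem_span_range_iff_exists_fun A).mp hn'
    refine ⟨a, ?_⟩
    rw [LinearMap.comp_apply, Submodule.mkQ_apply]
    rw [Submodule.Quotient.eq]
    -- f a - y = -z in N
    have hzN : z ∈ N := Submodule.smul_le_right hz
    have hfa : f a - y = -⟨z, hzN⟩ := by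
      apply Subtype.ext
      simp only [f, LinearMap.codRestrict_apply, Fintype.linearCombination_apply,
        Submodule.coe_sub, Submodule.coe_neg]
      rw [ha, ← hyz]; abel
    rw [hfa]
    apply neg_mem
    -- ⟨z, _⟩ ∈ J • ⊤
    have : (J • (⊤ : Submodule A N)).map N.subtype = J • N := by
      rw [Submodule.map_smul'', Submodule.map_subtype_top]
    have hz' : z ∈ (J • (⊤ : Submodule A N)).map N.subtype := by rw [this]; exact hz
    obtain ⟨w, hw, hwz⟩ := hz'
    have : w = ⟨z, hzN⟩ := Subtype.ext hwz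
    rwa [← this]
  have hf := surjective_of_mkQ_comp_surjective (I := J) hsurj
  apply le_antisymm _ hle
  intro y hy
  obtain ⟨a, ha⟩ := hf ⟨y, hy⟩
  have : y = Fintype.linearCombination A g a := by
    have := congrArg Subtype.val ha
    simpa [f] using this.symm
  rw [this, ← hg, Fintype.linearCombination_apply]
  exact Submodule.sum_mem _ (fun i _ => Submodule.smul_mem _ _ (Submodule.subset_span ⟨i, rfl⟩))

end adic

end Groth.Agent.Lib.Helper95.RGNil
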