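import Mathlib
import Groth.Agent.Lib.Helper95.RGNilE

namespace Groth.Agent.Lib.Helper95.RGNil

open IsLocalRing TensorProduct

universe u

/-- reduction of a flat module modulo an ideal is flat over the quotient ring, for any compatible
module structure. -/
theorem flat_quotient_of_flat {R S M : Type*} [CommRing R] [CommRing S] [Algebra R S] (I : Ideal R)
    [AddCommGroup M] [Module S M] [Module R M] [IsScalarTower R S M] [Module.Flat R M]
    [Module (R ⧸ I) (M ⧸ (I.map (algebraMap R S) • ⊤ : Submodule S M))]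
    [IsScalarTower R (R ⧸ I) (M ⧸ (I.map (algebraMap R S) • ⊤ : Submodule S M))] :
    Module.Flat (R ⧸ I) (M ⧸ (I.map (algebraMap R S) • ⊤ : Submodule S M)) := by
  have hrs : (I.map (algebraMap R S) • (⊤ : Submodule S M)).restrictScalars R =
      (I • ⊤ : Submodule R M) := by
    rw [Ideal.smul_restrictScalars, Submodule.restrictScalars_top]
  let e1 : (M ⧸ (I.map (algebraMap R S) • ⊤ : Submodule S M)) ≃ₗ[R]
      (M ⧸ (I • ⊤ : Submodule R M)) :=
    (Submodule.Quotient.restrictScalarsEquiv R _).symm ≪≫ₗ Submodule.quotEquivOfEq _ _ hrs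
  let e2 : (M ⧸ (I.map (algebraMap R S) • ⊤ : Submodule S M)) ≃ₗ[R] ((R ⧸ I) ⊗[R] M) :=
    e1 ≪≫ₗ (TensorProduct.quotTensorEquivQuotSMul M I).symm
  let e3 : (M ⧸ (I.map (algebraMap R S) • ⊤ : Submodule S M)) ≃ₗ[R ⧸ I] ((R ⧸ I) ⊗[R] M) :=
    LinearEquiv.extendScalarsOfSurjective Ideal.Quotient.mk_surjective e2
  exact Module.Flat.of_linearEquiv e3

/-- **Engine**: finite presentation from flatness, via reduction modulo `t` to a base ring with nil
maximal ideal, and `t`-adic completeness. -/
theorem finitePresentation_of_flat_of_complete {R : Type u} {S M : Type*} [CommRing R] [CommRing S]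
    [Algebra R S] (t : R) [IsLocalRing (R ⧸ Ideal.span {t})]
    (hnil : ∀ x ∈ maximalIdeal (R ⧸ Ideal.span {t}), IsNilpotent x)
    [IsPrecomplete (Ideal.span {algebraMap R S t}) S]
    [IsHausdorff (Ideal.span {algebraMap R S t}) S]
    [hft : Algebra.FiniteType (R ⧸ Ideal.span {t}) (S ⧸ (Ideal.span {t}).map (algebraMap R S))]
    [AddCommGroup M] [Module S M] [Module R M] [IsScalarTower R S M] [Module.Finite S M]
    [Module.Flat R M] (htf : ∀ x : M, t • x = 0 → x = 0) : Module.FinitePresentation S M := by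
  classical
  set I : Ideal R := Ideal.span {t} with hI
  set J : Ideal S := I.map (algebraMap R S) with hJ
  have hJspan : J = Ideal.span {algebraMap R S t} := by
    rw [hJ, hI, Ideal.map_span, Set.image_singleton]
  set t' : S := algebraMap R S t with ht'
  letI : Module (R ⧸ I) (M ⧸ (J • ⊤ : Submodule S M)) :=
    Module.compHom _ (algebraMap (R ⧸ I) (S ⧸ J))
  haveI : IsScalarTower (R ⧸ I) (S ⧸ J) (M ⧸ (J • ⊤ : Submodule S M)) := ⟨fun a b x => by
    show (a • b) • x = algebraMap (R ⧸ I) (S ⧸ J) a • (b • x)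
    rw [Algebra.smul_def, mul_smul]⟩
  haveI : IsScalarTower R (R ⧸ I) (M ⧸ (J • ⊤ : Submodule S M)) := ⟨fun r a x => by
    obtain ⟨c, rfl⟩ := Ideal.Quotient.mk_surjective a
    obtain ⟨m, rfl⟩ := Submodule.Quotient.mk_surjective (J • ⊤ : Submodule S M) x
    show Submodule.Quotient.mk (p := (J • ⊤ : Submodule S M)) ((algebraMap R S (r • c)) • m) =
      Submodule.Quotient.mk (p := (J • ⊤ : Submodule S M)) (r • ((algebraMap R S c) • m))
    congr 1
    rw [smul_eq_mul, map_mul, mul_smul, algebraMap_smul]⟩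
  haveI : Module.Flat (R ⧸ I) (M ⧸ (J • ⊤ : Submodule S M)) := flat_quotient_of_flat I
  haveI : Module.Finite (S ⧸ J) (M ⧸ (J • ⊤ : Submodule S M)) :=
    Module.Finite.of_restrictScalars_finite S (S ⧸ J) _
  have hfp : Module.FinitePresentation (S ⧸ J) (M ⧸ (J • ⊤ : Submodule S M)) :=
    finitePresentation_of_flat_of_finiteType hnil (S ⧸ J) _
  haveI : Module.FinitePresentation S (S ⧸ J) := by
    refine Module.finitePresentation_of_surjective (Submodule.mkQ J) (Submodule.mkQ_surjective J) ?_
    rw [Submodule.ker_mkQ, hJspan]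
    exact ⟨{algebraMap R S t}, by rw [Finset.coe_singleton]⟩
  haveI hfpS : Module.FinitePresentation S (M ⧸ (J • ⊤ : Submodule S M)) :=
    Module.FinitePresentation.trans S (M ⧸ (J • ⊤ : Submodule S M)) (S ⧸ J)
  obtain ⟨s, w, hw⟩ := Module.Finite.exists_fin (R := S) (M := M)
  set lc := Fintype.linearCombination S w with hlc
  have hlcsurj : Function.Surjective lc := by
    rw [← LinearMap.range_eq_top, hlc, Fintype.range_linearCombination, hw]
  set q : (Fin s → S) →ₗ[S] (M ⧸ (J • ⊤ : Submodule S M)) :=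
    (J • ⊤ : Submodule S M).mkQ ∘ₗ lc with hq
  have hqsurj : Function.Surjective q :=
    (Submodule.mkQ_surjective _).comp hlcsurj
  obtain ⟨r, h, hh⟩ := Submodule.fg_iff_exists_fin_generating_family.mp
    (Module.FinitePresentation.fg_ker q hqsurj)
  -- J • ⊤ = t' • ⊤
  have hJM : ∀ m : M, m ∈ (J • ⊤ : Submodule S M) → ∃ m' : M, m = t' • m' := by
    intro m hm
    rw [hJspan, Submodule.ideal_span_singleton_smul] at hm
    obtain ⟨m', -, rfl⟩ := hm
    exact ⟨m', rfl⟩
  have hy : ∀ i, ∃ y : Fin s → S, lc (h i) = t' • lc y := by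
    intro i
    have hi : h i ∈ LinearMap.ker q := hh ▸ Submodule.subset_span ⟨i, rfl⟩
    rw [LinearMap.mem_ker, hq, LinearMap.comp_apply, Submodule.mkQ_apply,
      Submodule.Quotient.mk_eq_zero] at hi
    obtain ⟨m', hm'⟩ := hJM _ hi
    obtain ⟨y, rfl⟩ := hlcsurj m'
    exact ⟨y, hm'⟩
  choose y hy using hy
  set N := LinearMap.ker lc with hN
  set nn : Fin r → (Fin s → S) := fun i => h i - t' • y i with hnn
  have hnnN : ∀ i, nn i ∈ N := by
    intro i
    rw [hN, LinearMap.mem_ker, hnn, map_sub, map_smul, hy i, sub_self]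
  set N' := Submodule.span S (Set.range nn) with hN'
  have hN'N : N' ≤ N := by
    rw [hN', Submodule.span_le]
    rintro _ ⟨i, rfl⟩
    exact hnnN i
  have httf : ∀ x : M, t' • x = 0 → x = 0 := by
    intro x hx
    apply htf
    rw [← algebraMap_smul S t x]
    exact hx
  have hle : N ≤ N' ⊔ J • N := by
    intro x hx
    have hxq : x ∈ LinearMap.ker q := by
      rw [LinearMap.mem_ker, hq, LinearMap.comp_apply, LinearMap.mem_ker.mp hx, map_zero]
    rw [← hh] at hxq
    obtain ⟨u, hu⟩ := (Submodule.mem_span_range_iff_exists_fun S).mp hxq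
    set z : Fin s → S := ∑ i, u i • y i with hz
    have hxz : x = ∑ i, u i • nn i + t' • z := by
      rw [← hu, hz, Finset.smul_sum, ← Finset.sum_add_distrib]
      apply Finset.sum_congr rfl
      intro i _
      rw [hnn, smul_sub, smul_comm (u i) t' (y i)]
      abel
    have hzN : z ∈ N := by
      rw [hN, LinearMap.mem_ker]
      apply httf
      rw [← map_smul]
      have : t' • z = x - ∑ i, u i • nn i := by rw [hxz]; abel
      rw [this, map_sub, LinearMap.mem_ker.mp hx, map_sum, zero_sub, neg_eq_zero]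
      apply Finset.sum_eq_zero
      intro i _
      rw [map_smul, LinearMap.mem_ker.mp (hnnN i), smul_zero]
    rw [hxz]
    apply Submodule.add_mem_sup
    · exact Submodule.sum_mem _ (fun i _ => Submodule.smul_mem _ _ (Submodule.subset_span ⟨i, rfl⟩))
    · rw [hJspan]
      exact Submodule.smul_mem_smul (Ideal.subset_span rfl) hzN
  haveI : IsPrecomplete J S := by rw [hJspan]; infer_instance
  haveI : IsHausdorff J S := by rw [hJspan]; infer_instance
  haveI : IsHausdorff J (Fin s → S) := isHausdorff_pi J (Fin s) S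
  have hNeq : N = N' := eq_of_le_sup_smul J N N' ⟨Finset.univ.image nn, by simp [hN']⟩ hN'N hle
  refine Module.finitePresentation_of_free_of_surjective lc hlcsurj ?_
  rw [← hN, hNeq]
  exact ⟨Finset.univ.image nn, by simp [hN']⟩

end Groth.Agent.Lib.Helper95.RGNil
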