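import Mathlib
import Groth.Prelude.Def_W4bk4boschfrg79
import Groth.Agent.Lib.Helper95.RGNilF
import Groth.Agent.Lib.Helper25.CompleteNoetherian

namespace Groth.Agent.Lib.Helper95.Bosch

open AdicRing MvPolynomial

universe u

variable (R : Type u) [CommRing R] (I : Ideal R) (n : ℕ)

instance : IsScalarTower R (MvPolynomial (Fin n) R) (RPow R I n) :=
  IsScalarTower.of_algebraMap_eq (fun _ => rfl)

theorem map_algebraMap_rPow :
    I.map (algebraMap R (RPow R I n)) =
      (I.map (C : R →+* MvPolynomial (Fin n) R)).map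
        (algebraMap (MvPolynomial (Fin n) R) (RPow R I n)) := by
  rw [Ideal.map_map]
  rfl

theorem isAdicComplete_rPow (hI : I.FG) :
    IsAdicComplete (I.map (algebraMap R (RPow R I n))) (RPow R I n) := by
  rw [map_algebraMap_rPow, IsAdicComplete.map_algebraMap_iff]
  exact AdicCompletion.isAdicComplete (hI.map _)

theorem exists_poly_sub_mem (hI : I.FG) (x : RPow R I n) :
    ∃ p : MvPolynomial (Fin n) R,
      x - algebraMap (MvPolynomial (Fin n) R) (RPow R I n) p ∈
        I.map (algebraMap R (RPow R I n)) := by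
  set K := I.map (C : R →+* MvPolynomial (Fin n) R) with hK
  obtain ⟨p, hp⟩ := Ideal.Quotient.mk_surjective (AdicCompletion.evalOneₐ K x)
  refine ⟨p, ?_⟩
  rw [map_algebraMap_rPow, ← AdicCompletion.ker_evalOneₐ_eq_map K (hI.map _)]
  rw [RingHom.mem_ker]
  show AdicCompletion.evalOneₐ K (x - _) = 0
  rw [map_sub, sub_eq_zero, ← hp]
  rfl

theorem finiteType_quotient_rPow (hI : I.FG) :
    Algebra.FiniteType (R ⧸ I) (RPow R I n ⧸ I.map (algebraMap R (RPow R I n))) := by
  haveI : Algebra.FiniteType R (RPow R I n ⧸ I.map (algebraMap R (RPow R I n))) := by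
    let φ : MvPolynomial (Fin n) R →ₐ[R] (RPow R I n ⧸ I.map (algebraMap R (RPow R I n))) :=
      (Ideal.Quotient.mkₐ R _).comp (IsScalarTower.toAlgHom R (MvPolynomial (Fin n) R) (RPow R I n))
    refine Algebra.FiniteType.of_surjective φ ?_
    intro y
    obtain ⟨x, rfl⟩ := Ideal.Quotient.mk_surjective y
    obtain ⟨p, hp⟩ := exists_poly_sub_mem R I n hI x
    refine ⟨p, ?_⟩
    show Ideal.Quotient.mk _ (algebraMap (MvPolynomial (Fin n) R) (RPow R I n) p) = _
    exact (Ideal.Quotient.eq.mpr hp).symm
  exact Algebra.FiniteType.of_restrictScalars_finiteType R (R ⧸ I) _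

theorem isNoetherianRing_rPow [IsNoetherianRing R] : IsNoetherianRing (RPow R I n) := by
  have hI : I.FG := IsNoetherian.noetherian I
  haveI := isAdicComplete_rPow R I n hI
  haveI : Algebra.FiniteType (R ⧸ I) (RPow R I n ⧸ I.map (algebraMap R (RPow R I n))) :=
    finiteType_quotient_rPow R I n hI
  haveI : IsNoetherianRing (RPow R I n ⧸ I.map (algebraMap R (RPow R I n))) :=
    Algebra.FiniteType.isNoetherianRing (R ⧸ I) _
  exact Groth.Agent.Lib.Helper25.CompleteNoetherian.isNoetherianRing_of_isAdicComplete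
    (I.map (algebraMap R (RPow R I n))) (hI.map _)

/-! ### Class (V) -/

section classV

variable {R} [IsDomain R] [PreValuationRing R] (t : R)

theorem not_isUnit_of_isHausdorff [IsHausdorff (Ideal.span {t}) R] : ¬ IsUnit t := by
  intro hu
  have h1 : (1 : R) = 0 := by
    refine IsHausdorff.haus' (I := Ideal.span {t}) (1 : R) fun k => ?_
    rw [SModEq.zero, smul_eq_mul, Ideal.mul_top, Ideal.span_singleton_pow,
      Ideal.mem_span_singleton]
    exact (hu.pow k).dvd
  exact one_ne_zero h1

theorem exists_dvd_pow_of_ne_zero [IsHausdorff (Ideal.span {t}) R] {a : R} (ha : a ≠ 0) :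
    ∃ k : ℕ, a ∣ t ^ k := by
  haveI : ValuationRing R := { }
  by_contra hcon
  push Not at hcon
  apply ha
  refine IsHausdorff.haus' (I := Ideal.span {t}) a fun k => ?_
  rw [SModEq.zero, smul_eq_mul, Ideal.mul_top, Ideal.span_singleton_pow,
    Ideal.mem_span_singleton]
  rcases ValuationRing.dvd_total a (t ^ k) with h | h
  · exact absurd h (hcon k)
  · exact h

theorem exists_dvd_pow_of_not_isUnit [Ring.KrullDimLE 1 R] (ht : t ≠ 0) {a : R}
    (ha : ¬ IsUnit a) : ∃ e : ℕ, t ∣ a ^ e := by
  haveI : ValuationRing R := { }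
  have hrad : a ∈ (Ideal.span {t}).radical := by
    rw [Ideal.radical_eq_sInf, Ideal.mem_sInf]
    rintro P ⟨htP, hP⟩
    have hPne : P ≠ ⊥ := by
      intro h
      rw [h] at htP
      exact ht ((Ideal.span_singleton_eq_bot).mp (le_bot_iff.mp htP))
    haveI := hP
    have hPmax : P.IsMaximal := hP.isMaximal_of_ne_bot hPne
    have : P = IsLocalRing.maximalIdeal R := IsLocalRing.eq_maximalIdeal hPmax
    rw [this]
    exact (IsLocalRing.mem_maximalIdeal a).mpr ha
  obtain ⟨e, he⟩ := hrad
  exact ⟨e, Ideal.mem_span_singleton.mp he⟩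

theorem isLocalRing_quotient_span [IsHausdorff (Ideal.span {t}) R] :
    IsLocalRing (R ⧸ Ideal.span {t}) := by
  haveI : ValuationRing R := { }
  haveI : Nontrivial (R ⧸ Ideal.span {t}) := by
    rw [Ideal.Quotient.nontrivial_iff]
    intro h
    exact not_isUnit_of_isHausdorff t (Ideal.span_singleton_eq_top.mp h)
  exact IsLocalRing.of_surjective' (Ideal.Quotient.mk (Ideal.span {t}))
    Ideal.Quotient.mk_surjective

theorem isNilpotent_of_mem_maximalIdeal_quotient [Ring.KrullDimLE 1 R] (ht : t ≠ 0)
    [IsLocalRing (R ⧸ Ideal.span {t})] :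
    ∀ x ∈ IsLocalRing.maximalIdeal (R ⧸ Ideal.span {t}), IsNilpotent x := by
  intro x hx
  obtain ⟨a, rfl⟩ := Ideal.Quotient.mk_surjective x
  have ha : ¬ IsUnit a := by
    intro hu
    exact (IsLocalRing.mem_maximalIdeal _).mp hx (hu.map (Ideal.Quotient.mk (Ideal.span {t})))
  obtain ⟨e, he⟩ := exists_dvd_pow_of_not_isUnit t ht ha
  refine ⟨e, ?_⟩
  rw [← map_pow, Ideal.Quotient.eq_zero_iff_mem, Ideal.mem_span_singleton]
  exact he

/-- over a class (V) base, no `t`-power torsion implies flat. -/
theorem flat_of_noPowTorsion [IsHausdorff (Ideal.span {t}) R] {M : Type*} [AddCommGroup M]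
    [Module R M] (h : AdicRing.NoPowTorsion (Ideal.span {t}) M) : Module.Flat R M := by
  haveI : ValuationRing R := { }
  rw [Module.Flat.flat_iff_torsion_eq_bot_of_isBezout, Submodule.eq_bot_iff]
  intro x hx
  rw [Submodule.mem_torsion_iff] at hx
  obtain ⟨⟨a, ha⟩, hax⟩ := hx
  have ha0 : a ≠ 0 := nonZeroDivisors.ne_zero ha
  obtain ⟨k, b, hb⟩ := exists_dvd_pow_of_ne_zero t ha0
  apply h x k
  intro c hc
  rw [Ideal.span_singleton_pow, Ideal.mem_span_singleton] at hc
  obtain ⟨d, rfl⟩ := hc
  have : a • x = 0 := hax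
  rw [hb, show a * b * d = (b * d) * a by ring, mul_smul, this, smul_zero]

/-- flat modules over a domain have no `t`-torsion. -/
theorem smul_eq_zero_of_flat (ht : t ≠ 0) {M : Type*} [AddCommGroup M] [Module R M]
    [Module.Flat R M] (x : M) (hx : t • x = 0) : x = 0 := by
  haveI : Module.IsTorsionFree R M := inferInstance
  exact (smul_eq_zero_iff_right ht).mp hx

end classV

section main

variable {R} {I}

open Groth.Agent.Lib.Helper95.RGNil

theorem finitePresentation_rPow_of_flat (hR : AdicRing.IsBase R I) (n : ℕ)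
    (M : Type*) [AddCommGroup M] [Module (RPow R I n) M] [Module R M]
    [IsScalarTower R (RPow R I n) M] [Module.Finite (RPow R I n) M] [Module.Flat R M] :
    Module.FinitePresentation (RPow R I n) M := by
  obtain ⟨hcomp, hN | hV⟩ := hR
  · haveI := hN.1
    haveI := isNoetherianRing_rPow R I n
    exact Module.finitePresentation_of_finite (RPow R I n) M
  · obtain ⟨hdom, hval, hdim, t, ht, rfl⟩ := hV
    haveI : IsHausdorff (Ideal.span {t}) R := inferInstance
    haveI : IsLocalRing (R ⧸ Ideal.span {t}) := isLocalRing_quotient_span t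
    have hnil := isNilpotent_of_mem_maximalIdeal_quotient t ht
    have hc := isAdicComplete_rPow R (Ideal.span {t}) n ⟨{t}, by rw [Finset.coe_singleton]⟩
    have hmap : (Ideal.span {t}).map (algebraMap R (RPow R (Ideal.span {t}) n)) =
        Ideal.span {algebraMap R (RPow R (Ideal.span {t}) n) t} := by
      refine (Ideal.map_span _ _).trans ?_
      rw [Set.image_singleton]
    rw [hmap] at hc
    haveI : IsPrecomplete (Ideal.span {algebraMap R (RPow R (Ideal.span {t}) n) t})
      (RPow R (Ideal.span {t}) n) := hc.toIsPrecomplete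
    haveI : IsHausdorff (Ideal.span {algebraMap R (RPow R (Ideal.span {t}) n) t})
      (RPow R (Ideal.span {t}) n) := hc.toIsHausdorff
    haveI := finiteType_quotient_rPow R (Ideal.span {t}) n ⟨{t}, by rw [Finset.coe_singleton]⟩
    exact finitePresentation_of_flat_of_complete (R := R) (S := RPow R (Ideal.span {t}) n) t hnil
      (smul_eq_zero_of_flat t ht)

/-- Bosch FRG 7.3/5 (S11524). -/
theorem finitePresentation_of_topFiniteType (hR : AdicRing.IsBase R I)
    (A : Type*) [CommRing A] [Algebra R A] (hA : AdicRing.TopFiniteType R I A)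
    (M : Type*) [AddCommGroup M] [Module A M] [Module R M] [IsScalarTower R A M]
    [Module.Finite A M] [Module.Flat R M] : Module.FinitePresentation A M := by
  obtain ⟨n, φ, hφ⟩ := hA
  letI : Algebra (RPow R I n) A := φ.toRingHom.toAlgebra
  letI : Module (RPow R I n) M := Module.compHom M φ.toRingHom
  haveI : IsScalarTower (RPow R I n) A M := ⟨fun p b x => by
    show (φ p * b) • x = φ p • (b • x)
    rw [mul_smul]⟩
  haveI : IsScalarTower R (RPow R I n) M := ⟨fun r p x => by
    show φ (r • p) • x = r • (φ p • x)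
    rw [map_smul, smul_assoc]⟩
  have hsurj : Function.Surjective (algebraMap (RPow R I n) A) := hφ
  haveI : Module.Finite (RPow R I n) A :=
    Module.Finite.of_surjective (Algebra.linearMap (RPow R I n) A) hsurj
  haveI : Module.Finite (RPow R I n) M := Module.Finite.trans A M
  haveI : Module.FinitePresentation (RPow R I n) M := finitePresentation_rPow_of_flat hR n M
  exact finitePresentation_of_surjective_of_restrictScalars hsurj M

end main

end Groth.Agent.Lib.Helper95.Bosch

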