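import Mathlib
import Groth.Agent.Lib.Helper95.BoschA

namespace Groth.Agent.Lib.Helper95.Bosch

open AdicRing MvPolynomial

universe u

variable {R : Type u} [CommRing R] {I : Ideal R}

theorem isNoetherianRing_of_topFiniteType [IsNoetherianRing R]
    (A : Type*) [CommRing A] [Algebra R A] (hA : AdicRing.TopFiniteType R I A) :
    IsNoetherianRing A := by
  obtain ⟨n, φ, hφ⟩ := hA
  haveI := isNoetherianRing_rPow R I n
  exact isNoetherianRing_of_surjective _ _ φ.toRingHom hφ

/-- Bosch FRG 7.3/7 (i) (S11527). -/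
theorem fg_of_saturated (hR : AdicRing.IsBase R I)
    (A : Type*) [CommRing A] [Algebra R A] (hA : AdicRing.TopFiniteType R I A)
    (M : Type*) [AddCommGroup M] [Module A M] [Module R M] [IsScalarTower R A M]
    [Module.Finite A M] (N : Submodule A M)
    (hsat : ∀ (x : M) (n : ℕ), (∀ a ∈ I ^ n, a • x ∈ N) → x ∈ N) : N.FG := by
  have hR' := hR
  obtain ⟨hcomp, hN | hV⟩ := hR
  · haveI := hN.1
    haveI := isNoetherianRing_of_topFiniteType A hA
    haveI : IsNoetherian A M := isNoetherian_of_isNoetherianRing_of_finite A M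
    exact IsNoetherian.noetherian N
  · obtain ⟨hdom, hval, hdim, t, ht, rfl⟩ := hV
    haveI : IsHausdorff (Ideal.span {t}) R := inferInstance
    have hnpt : AdicRing.NoPowTorsion (Ideal.span {t}) (M ⧸ N) := by
      intro x n hx
      obtain ⟨x, rfl⟩ := Submodule.Quotient.mk_surjective N x
      rw [Submodule.Quotient.mk_eq_zero]
      apply hsat x n
      intro a ha
      have := hx a ha
      rwa [← Submodule.Quotient.mk_smul, Submodule.Quotient.mk_eq_zero] at this
    haveI : Module.Flat R (M ⧸ N) := flat_of_noPowTorsion t hnpt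
    haveI : Module.FinitePresentation A (M ⧸ N) :=
      finitePresentation_of_topFiniteType hR' A hA (M ⧸ N)
    have := Module.FinitePresentation.fg_ker N.mkQ (Submodule.mkQ_surjective N)
    rwa [Submodule.ker_mkQ] at this

/-- Bosch FRG 7.3/6 (S11525). -/
theorem topFinitePresentation_of_noPowTorsion (hR : AdicRing.IsBase R I)
    (A : Type*) [CommRing A] [Algebra R A] (hA : AdicRing.TopFiniteType R I A)
    (hT : AdicRing.NoPowTorsion I A) : AdicRing.TopFinitePresentation R I A := by
  obtain ⟨n, φ, hφ⟩ := hA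
  refine ⟨n, φ, hφ, ?_⟩
  refine fg_of_saturated hR (RPow R I n) ⟨n, AlgHom.id R _, Function.surjective_id⟩
    (RPow R I n) (RingHom.ker φ.toRingHom) ?_
  intro x k hx
  rw [RingHom.mem_ker]
  apply hT (φ x) k
  intro a ha
  have := hx a ha
  rw [RingHom.mem_ker] at this
  show a • φ x = 0
  rw [← map_smul]
  exact this

end Groth.Agent.Lib.Helper95.Bosch
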