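import Mathlib
import Groth.Agent.Lib.Helper95.BoschB

namespace Groth.Agent.Lib.Helper95.Bosch

open AdicRing MvPolynomial

universe u

variable {R : Type u} [CommRing R] {I : Ideal R}

/-- the `t`-saturation of a submodule -/
def tSat {A : Type*} [CommRing A] [Algebra R A] {M : Type*} [AddCommGroup M] [Module A M]
    [Module R M] [IsScalarTower R A M] (t : R) (N : Submodule A M) : Submodule A M where
  carrier := {x | ∃ k : ℕ, t ^ k • x ∈ N}
  add_mem' := by
    rintro x y ⟨k, hk⟩ ⟨l, hl⟩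
    refine ⟨k + l, ?_⟩
    rw [smul_add]
    apply N.add_mem
    · rw [add_comm k l, pow_add, mul_smul, ← algebraMap_smul A (t ^ l)]
      exact N.smul_mem _ hk
    · rw [pow_add, mul_smul, ← algebraMap_smul A (t ^ k)]
      exact N.smul_mem _ hl
  zero_mem' := ⟨0, by simp⟩
  smul_mem' := by
    rintro a x ⟨k, hk⟩
    refine ⟨k, ?_⟩
    rw [smul_comm]
    exact N.smul_mem _ hk

section
variable {A : Type*} [CommRing A] [Algebra R A] {M : Type*} [AddCommGroup M] [Module A M]
    [Module R M] [IsScalarTower R A M] (t : R) (N : Submodule A M)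

theorem mem_tSat {x : M} : x ∈ tSat t N ↔ ∃ k : ℕ, t ^ k • x ∈ N := Iff.rfl

theorem le_tSat : N ≤ tSat t N := fun x hx => ⟨0, by simpa using hx⟩

theorem tSat_saturated (x : M) (n : ℕ) (h : ∀ a ∈ (Ideal.span {t}) ^ n, a • x ∈ tSat t N) :
    x ∈ tSat t N := by
  obtain ⟨k, hk⟩ := h (t ^ n) (Ideal.pow_mem_pow (Ideal.mem_span_singleton_self t) n)
  exact ⟨k + n, by rwa [pow_add, mul_smul]⟩

theorem exists_pow_smul_tSat_le (h : (tSat t N).FG) :
    ∃ n₀ : ℕ, ∀ x ∈ tSat t N, t ^ n₀ • x ∈ N := by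
  classical
  obtain ⟨r, g, hg⟩ := Submodule.fg_iff_exists_fin_generating_family.mp h
  have hgk : ∀ i, ∃ k : ℕ, t ^ k • g i ∈ N := fun i =>
    (mem_tSat t N).mp (hg ▸ Submodule.subset_span ⟨i, rfl⟩)
  choose k hk using hgk
  refine ⟨Finset.univ.sup k, ?_⟩
  set n₀ := Finset.univ.sup k
  let μ : M →ₗ[A] M := algebraMap R A (t ^ n₀) • LinearMap.id
  have hμ : ∀ x, μ x = t ^ n₀ • x := fun x => by
    simp [μ, algebraMap_smul]
  have : tSat t N ≤ N.comap μ := by
    rw [← hg, Submodule.span_le]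
    rintro _ ⟨i, rfl⟩
    rw [SetLike.mem_coe, Submodule.mem_comap, hμ]
    have hle : k i ≤ n₀ := Finset.le_sup (Finset.mem_univ i)
    obtain ⟨d, hd⟩ := Nat.exists_eq_add_of_le hle
    rw [hd, add_comm, pow_add, mul_smul, ← algebraMap_smul A (t ^ d)]
    exact N.smul_mem _ (hk i)
  intro x hx
  have := this hx
  rwa [Submodule.mem_comap, hμ] at this

end

/-- Bosch FRG 7.3/7 (ii), uniform version (S11528). -/
theorem pow_smul_inf_le (hR : AdicRing.IsBase R I)
    (A : Type*) [CommRing A] [Algebra R A] (hA : AdicRing.TopFiniteType R I A)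
    (M : Type*) [AddCommGroup M] [Module A M] [Module R M] [IsScalarTower R A M]
    [Module.Finite A M] (N : Submodule A M) :
    ∃ n₀ : ℕ, ∀ m : ℕ,
      (I ^ (m + n₀) • (⊤ : Submodule R M)) ⊓ N.restrictScalars R ≤
        I ^ m • N.restrictScalars R := by
  have hR' := hR
  obtain ⟨hcomp, hN | hV⟩ := hR
  · haveI := hN.1
    haveI := isNoetherianRing_of_topFiniteType A hA
    obtain ⟨k, hk⟩ := Ideal.exists_pow_inf_eq_pow_smul (I.map (algebraMap R A)) N
    refine ⟨k, fun m => ?_⟩
    have h1 := hk (m + k) (Nat.le_add_left k m)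
    rw [Nat.add_sub_cancel] at h1
    have e1 : (I ^ (m + k) • (⊤ : Submodule R M)) =
        ((I.map (algebraMap R A)) ^ (m + k) • (⊤ : Submodule A M)).restrictScalars R := by
      rw [← Ideal.map_pow, Ideal.smul_restrictScalars, Submodule.restrictScalars_top]
    have e2 : I ^ m • N.restrictScalars R =
        ((I.map (algebraMap R A)) ^ m • N).restrictScalars R := by
      rw [← Ideal.map_pow, Ideal.smul_restrictScalars]
    have h2 : (I.map (algebraMap R A)) ^ m •
        ((I.map (algebraMap R A)) ^ k • (⊤ : Submodule A M) ⊓ N) ≤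
        (I.map (algebraMap R A)) ^ m • N := Submodule.smul_mono le_rfl inf_le_right
    rw [e1, e2]
    intro x hx
    rw [Submodule.mem_inf, Submodule.restrictScalars_mem, Submodule.restrictScalars_mem] at hx
    rw [Submodule.restrictScalars_mem]
    have hx' : x ∈ (I.map (algebraMap R A)) ^ (m + k) • (⊤ : Submodule A M) ⊓ N :=
      Submodule.mem_inf.mpr hx
    rw [h1] at hx'
    exact h2 hx'
  · obtain ⟨hdom, hval, hdim, t, ht, rfl⟩ := hV
    have hfg : (tSat t N).FG :=
      fg_of_saturated hR' A hA M (tSat t N) (tSat_saturated t N)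
    obtain ⟨n₀, hn₀⟩ := exists_pow_smul_tSat_le t N hfg
    refine ⟨n₀, fun m x hx => ?_⟩
    obtain ⟨hx1, hx2⟩ := hx
    rw [Ideal.span_singleton_pow, Submodule.ideal_span_singleton_smul] at hx1
    obtain ⟨y, -, rfl⟩ := hx1
    have hx2' : t ^ (m + n₀) • y ∈ N := hx2
    have hy : y ∈ tSat t N := ⟨m + n₀, hx2'⟩
    have := hn₀ y hy
    show t ^ (m + n₀) • y ∈ _
    rw [pow_add, mul_smul]
    exact Submodule.smul_mem_smul (Ideal.pow_mem_pow (Ideal.mem_span_singleton_self t) m) this

end Groth.Agent.Lib.Helper95.Bosch
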