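import Mathlib
import Groth.Agent.Lib.Helper95.BoschC

namespace Groth.Agent.Lib.Helper95.Bosch

open AdicRing MvPolynomial Groth.Agent.Lib.Helper95.RGNil

universe u

open AdicCompletion TensorProduct in
theorem isAdicComplete_of_finite_of_noetherian (A : Type u) [CommRing A] [IsNoetherianRing A]
    (J : Ideal A) [IsAdicComplete J A] (M : Type u) [AddCommGroup M] [Module A M]
    [Module.Finite A M] : IsAdicComplete J M := by
  rw [← AdicCompletion.of_bijective_iff]
  have h1 := AdicCompletion.ofTensorProduct_bijective_of_finite_of_isNoetherian J M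
  have h2 := AdicCompletion.of_bijective J A
  let e : A ≃ₗ[A] AdicCompletion J A := LinearEquiv.ofBijective (of J A) h2
  let e2 : M ≃ₗ[A] AdicCompletion J A ⊗[A] M :=
    (TensorProduct.lid A M).symm ≪≫ₗ (LinearEquiv.rTensor M e)
  have : (of J M : M → AdicCompletion J M) = (ofTensorProduct J M) ∘ e2 := by
    ext m
    simp [e2, e]
    exact (one_smul _ _).symm
  rw [this]
  exact h1.comp e2.bijective

theorem isPrecomplete_of_surjective {A : Type*} [CommRing A] (J : Ideal A)
    {P Q : Type*} [AddCommGroup P] [Module A P] [AddCommGroup Q] [Module A Q]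
    (f : P →ₗ[A] Q) (hf : Function.Surjective f) [IsPrecomplete J P] : IsPrecomplete J Q := by
  rw [← AdicCompletion.of_surjective_iff]
  have h1 : Function.Surjective (AdicCompletion.map J f) := AdicCompletion.map_surjective J hf
  have h2 : Function.Surjective (AdicCompletion.of J P) := AdicCompletion.of_surjective J P
  intro y
  obtain ⟨x, rfl⟩ := h1 y
  obtain ⟨p, rfl⟩ := h2 x
  exact ⟨f p, (AdicCompletion.map_of J f p).symm⟩

variable {R : Type u} [CommRing R] {I : Ideal R}

theorem tSat_idem {A : Type*} [CommRing A] [Algebra R A] {M : Type*} [AddCommGroup M]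
    [Module A M] [Module R M] [IsScalarTower R A M] (t : R) (N : Submodule A M) {u : M} {j : ℕ}
    (h : t ^ j • u ∈ tSat t N) : u ∈ tSat t N := by
  obtain ⟨l, hl⟩ := h
  exact ⟨l + j, by rwa [pow_add, mul_smul]⟩

/-- the key closedness statement in class (V): the saturation of a submodule of a finite free
module over a complete top. f.t. algebra is `t`-adically closed. -/
theorem mem_tSat_of_forall_approx {t : R} (hR : AdicRing.IsBase R (Ideal.span {t}))
    (S : Type u) [CommRing S] [Algebra R S] (hS : AdicRing.TopFiniteType R (Ideal.span {t}) S)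
    (hc : IsAdicComplete ((Ideal.span {t}).map (algebraMap R S)) S)
    (s : ℕ) (K : Submodule S (Fin s → S)) (x : Fin s → S)
    (hx : ∀ m : ℕ, ∃ k ∈ tSat t K, ∃ a : Fin s → S, x = k + t ^ m • a) :
    x ∈ tSat t K := by
  classical
  set JS : Ideal S := (Ideal.span {t}).map (algebraMap R S) with hJS
  have htJ : algebraMap R S t ∈ JS := Ideal.mem_map_of_mem _ (Ideal.mem_span_singleton_self t)
  haveI : IsPrecomplete JS S := hc.toIsPrecomplete
  haveI : IsHausdorff JS S := hc.toIsHausdorff
  haveI : IsHausdorff JS (Fin s → S) := isHausdorff_pi JS (Fin s) S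
  set Ksat := tSat t K with hKsat
  set N := tSat t (Ksat ⊔ Submodule.span S {x}) with hN
  have hfg : Ksat.FG :=
    fg_of_saturated hR S hS (Fin s → S) Ksat (tSat_saturated t K)
  have hle : Ksat ≤ N := le_sup_left.trans (le_tSat t _)
  have key : N ≤ Ksat ⊔ JS • N := by
    intro y hy
    obtain ⟨j, hj⟩ := hy
    obtain ⟨k, hk, z, hz, hkz⟩ := Submodule.mem_sup.mp hj
    obtain ⟨c, rfl⟩ := Submodule.mem_span_singleton.mp hz
    obtain ⟨k', hk', a, hxa⟩ := hx (j + 1)
    set w : Fin s → S := c • a with hw
    have h1 : t ^ (j + 1) • w = c • x - c • k' := by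
      rw [hw, smul_comm, ← smul_sub]
      congr 1
      rw [hxa]; abel
    have hwN : w ∈ N := by
      refine ⟨j + 1, ?_⟩
      rw [h1]
      exact sub_mem (Submodule.mem_sup_right (Submodule.smul_mem _ _ (Submodule.mem_span_singleton_self x)))
        (Submodule.mem_sup_left (Submodule.smul_mem _ _ hk'))
    have h2 : t ^ j • (y - t • w) = k + c • k' := by
      rw [smul_sub, ← hkz, ← mul_smul, ← pow_succ, h1]
      abel
    have h3 : y - t • w ∈ Ksat := by
      apply tSat_idem t K (j := j)
      rw [h2]
      exact add_mem hk (Submodule.smul_mem _ _ hk')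
    have h4 : y = (y - t • w) + t • w := by abel
    rw [h4]
    apply Submodule.add_mem_sup h3
    rw [← algebraMap_smul S t w]
    exact Submodule.smul_mem_smul htJ hwN
  have hNeq : N = Ksat := eq_of_le_sup_smul JS N Ksat hfg hle key
  have hxN : x ∈ N := le_tSat t _ (Submodule.mem_sup_right (Submodule.mem_span_singleton_self x))
  rw [hNeq] at hxN
  exact hxN

theorem span_singleton_map_pow_smul_top {t : R} (S : Type*) [CommRing S] [Algebra R S]
    (M : Type*) [AddCommGroup M] [Module S M] [Module R M] [IsScalarTower R S M] (m : ℕ) {y : M}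
    (hy : y ∈ ((Ideal.span {t}).map (algebraMap R S)) ^ m • (⊤ : Submodule S M)) :
    ∃ y' : M, y = t ^ m • y' := by
  rw [Ideal.map_span, Set.image_singleton, Ideal.span_singleton_pow,
    Submodule.ideal_span_singleton_smul] at hy
  obtain ⟨y', -, rfl⟩ := hy
  refine ⟨y', ?_⟩
  show (algebraMap R S t) ^ m • y' = t ^ m • y'
  rw [← map_pow, algebraMap_smul]

/-- finite modules over `R⟨ζ⟩` are adically complete (class (V) part) -/
theorem isAdicComplete_of_finite_classV {t : R} (hR : AdicRing.IsBase R (Ideal.span {t}))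
    (S : Type u) [CommRing S] [Algebra R S] (hS : AdicRing.TopFiniteType R (Ideal.span {t}) S)
    (hc : IsAdicComplete ((Ideal.span {t}).map (algebraMap R S)) S)
    (M : Type u) [AddCommGroup M] [Module S M] [Module R M] [IsScalarTower R S M]
    [Module.Finite S M] : IsAdicComplete ((Ideal.span {t}).map (algebraMap R S)) M := by
  classical
  set JS : Ideal S := (Ideal.span {t}).map (algebraMap R S) with hJS
  obtain ⟨s, π, hπ⟩ := Module.Finite.exists_fin' S M
  haveI : IsPrecomplete JS S := hc.toIsPrecomplete
  haveI : IsPrecomplete JS (Fin s → S) := isPrecomplete_pi JS (Fin s) S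
  haveI : IsPrecomplete JS M := isPrecomplete_of_surjective JS π hπ
  haveI : IsHausdorff JS M := by
    refine ⟨fun y hy => ?_⟩
    obtain ⟨x, rfl⟩ := hπ y
    set K := LinearMap.ker π with hK
    have happrox : ∀ m : ℕ, ∃ k ∈ K, ∃ a : Fin s → S, x = k + t ^ m • a := by
      intro m
      have h1 := hy m
      rw [SModEq.zero] at h1
      obtain ⟨y', hy'⟩ := span_singleton_map_pow_smul_top (R := R) S M m h1
      obtain ⟨a, rfl⟩ := hπ y'
      refine ⟨x - t ^ m • a, ?_, a, by abel⟩
      rw [hK, LinearMap.mem_ker, map_sub, hy', ← algebraMap_smul S (t ^ m) a, map_smul,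
        algebraMap_smul, sub_self]
    have hxsat : x ∈ tSat t K := by
      apply mem_tSat_of_forall_approx hR S hS hc s K x
      intro m
      obtain ⟨k, hk, a, ha⟩ := happrox m
      exact ⟨k, le_tSat t K hk, a, ha⟩
    have hfg : (tSat t K).FG :=
      fg_of_saturated hR S hS (Fin s → S) (tSat t K) (tSat_saturated t K)
    obtain ⟨n₀, hn₀⟩ := exists_pow_smul_tSat_le t K hfg
    obtain ⟨k, hk, a, ha⟩ := happrox n₀
    have h2 : t ^ n₀ • a ∈ tSat t K := by
      have : t ^ n₀ • a = x - k := by rw [ha]; abel
      rw [this]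
      exact sub_mem hxsat (le_tSat t K hk)
    have h3 : a ∈ tSat t K := tSat_idem t K h2
    have h4 : t ^ n₀ • a ∈ K := hn₀ a h3
    have h5 : x ∈ K := by
      rw [ha]
      exact add_mem hk h4
    exact h5
  exact { }

/-- Bosch FRG 7.3/8 (i) (S11529). -/
theorem isAdicComplete_of_finite_topFiniteType (hR : AdicRing.IsBase R I)
    (A : Type u) [CommRing A] [Algebra R A] (hA : AdicRing.TopFiniteType R I A)
    (M : Type u) [AddCommGroup M] [Module A M] [Module R M] [IsScalarTower R A M]
    [Module.Finite A M] : IsAdicComplete I M := by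
  have hR' := hR
  have hA' := hA
  obtain ⟨n, φ, hφ⟩ := hA
  letI : Algebra (RPow R I n) A := φ.toRingHom.toAlgebra
  letI : Module (RPow R I n) M := Module.compHom M φ.toRingHom
  haveI : IsScalarTower (RPow R I n) A M := ⟨fun p b x => by
    show (φ p * b) • x = φ p • (b • x)
    rw [mul_smul]⟩
  haveI : IsScalarTower R (RPow R I n) M := ⟨fun r p x => by
    show φ (r • p) • x = r • (φ p • x)
    rw [map_smul, smul_assoc]⟩
  have hsurj : Function.Surjective (algebraMap (RPow R I n) A) := hφ
  haveI : Module.Finite (RPow R I n) A :=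
    Module.Finite.of_surjective (Algebra.linearMap (RPow R I n) A) hsurj
  haveI : Module.Finite (RPow R I n) M := Module.Finite.trans A M
  rw [← IsAdicComplete.map_algebraMap_iff (S := RPow R I n)]
  obtain ⟨hcomp, hN | hV⟩ := hR
  · haveI := hN.1
    haveI := isNoetherianRing_rPow R I n
    haveI : IsAdicComplete (I.map (algebraMap R (RPow R I n))) (RPow R I n) :=
      isAdicComplete_rPow R I n (IsNoetherian.noetherian I)
    exact isAdicComplete_of_finite_of_noetherian (RPow R I n) _ M
  · obtain ⟨hdom, hval, hdim, t, ht, rfl⟩ := hV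
    exact isAdicComplete_of_finite_classV hR' (RPow R (Ideal.span {t}) n)
      ⟨n, AlgHom.id R _, Function.surjective_id⟩
      (isAdicComplete_rPow R (Ideal.span {t}) n ⟨{t}, by rw [Finset.coe_singleton]⟩) M

end Groth.Agent.Lib.Helper95.Bosch
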