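import Mathlib
import Groth.Agent.Lib.Helper95.BoschD

namespace Groth.Agent.Lib.Helper95.Bosch

open AdicRing MvPolynomial Groth.Agent.Lib.Helper95.RGNil

universe u

/-- if `c` is a non-zero-divisor of `P` then it is a non-zero-divisor on the `c`-adic completion -/
theorem adicCompletion_smul_eq_zero {P : Type*} [CommRing P] (c : P) (hc : c ∈ nonZeroDivisors P)
    (J : Ideal P) (hJ : J = Ideal.span {c})
    (x : AdicCompletion J P) (hx : c • x = 0) : x = 0 := by
  subst hJ
  apply AdicCompletion.ext
  intro m
  rw [AdicCompletion.val_zero_apply]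
  have h1 := AdicCompletion.transitionMap_comp_eval_apply (Ideal.span {c}) P (Nat.le_succ m) x
  rw [← h1]
  obtain ⟨p, hp⟩ := Submodule.Quotient.mk_surjective _ (x.val (m + 1))
  have h2 : (c • x).val (m + 1) = 0 := by rw [hx]; rfl
  rw [AdicCompletion.val_smul_apply, ← hp, ← Submodule.Quotient.mk_smul,
    Submodule.Quotient.mk_eq_zero, Ideal.span_singleton_pow,
    Submodule.ideal_span_singleton_smul] at h2
  obtain ⟨q, -, hq⟩ := h2
  have h3 : p = c ^ m * q := by
    apply mul_cancel_left_mem_nonZeroDivisors hc |>.mp
    have hq' : c ^ (m + 1) * q = c * p := hq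
    rw [← hq', pow_succ]
    ring
  rw [← hp]
  show AdicCompletion.transitionMap (Ideal.span {c}) P (Nat.le_succ m) (Submodule.Quotient.mk p) = 0
  rw [AdicCompletion.transitionMap, Submodule.factorPow, ← Submodule.mkQ_apply,
    Submodule.factor_mk, Submodule.mkQ_apply,
    Submodule.Quotient.mk_eq_zero, Ideal.span_singleton_pow, Submodule.ideal_span_singleton_smul]
  exact ⟨q, trivial, h3.symm⟩

variable {R : Type u} [CommRing R]

/-- in class (V) the ring `R⟨ζ⟩` has no `t`-torsion -/
theorem smul_eq_zero_rPow [IsDomain R] {t : R} (ht : t ≠ 0) (n : ℕ)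
    (x : RPow R (Ideal.span {t}) n) (hx : t • x = 0) : x = 0 := by
  have hc : (C t : MvPolynomial (Fin n) R) ∈ nonZeroDivisors (MvPolynomial (Fin n) R) := by
    apply mem_nonZeroDivisors_of_ne_zero
    rwa [Ne, MvPolynomial.C_eq_zero]
  refine adicCompletion_smul_eq_zero (C t) hc _ ?_ x ?_
  · rw [Ideal.map_span, Set.image_singleton]
  · rw [← hx, ← algebraMap_smul (MvPolynomial (Fin n) R) t x, MvPolynomial.algebraMap_eq]

theorem noPowTorsion_rPow [IsDomain R] {t : R} (ht : t ≠ 0) (n : ℕ) :
    AdicRing.NoPowTorsion (Ideal.span {t}) (RPow R (Ideal.span {t}) n) := by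
  intro x k hx
  have h1 : t ^ k • x = 0 := hx _ (Ideal.pow_mem_pow (Ideal.mem_span_singleton_self t) k)
  clear hx
  induction k with
  | zero => simpa using h1
  | succ k ih =>
    apply ih
    apply smul_eq_zero_rPow ht n
    rw [← mul_smul, ← pow_succ']
    exact h1

variable {I : Ideal R}

/-- Bosch FRG 7.3/6 coherence (S11526). -/
theorem fg_ideal_finitePresentation (hR : AdicRing.IsBase R I)
    (A : Type u) [CommRing A] [Algebra R A] (hA : AdicRing.TopFinitePresentation R I A)
    (J : Ideal A) (hJ : J.FG) : Module.FinitePresentation A J := by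
  have hR' := hR
  obtain ⟨n, φ, hφ, hker⟩ := hA
  obtain ⟨hcomp, hN | hV⟩ := hR
  · haveI := hN.1
    haveI := isNoetherianRing_of_topFiniteType A ⟨n, φ, hφ⟩
    haveI : Module.Finite A J := Module.Finite.of_fg hJ
    exact Module.finitePresentation_of_finite A J
  · obtain ⟨hdom, hval, hdim, t, ht, rfl⟩ := hV
    haveI : IsHausdorff (Ideal.span {t}) R := inferInstance
    letI : Algebra (RPow R (Ideal.span {t}) n) A := φ.toRingHom.toAlgebra
    haveI : IsScalarTower R (RPow R (Ideal.span {t}) n) A :=
      IsScalarTower.of_algebraMap_eq (fun r => (φ.commutes r).symm)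
    have hsurj : Function.Surjective (algebraMap (RPow R (Ideal.span {t}) n) A) := hφ
    have hker' : (RingHom.ker (algebraMap (RPow R (Ideal.span {t}) n) A)).FG := hker
    set Jt : Ideal (RPow R (Ideal.span {t}) n) :=
      J.comap (algebraMap (RPow R (Ideal.span {t}) n) A) with hJt
    have hkerle : RingHom.ker (algebraMap (RPow R (Ideal.span {t}) n) A) ≤ Jt := by
      intro x hx
      rw [hJt, Ideal.mem_comap, RingHom.mem_ker.mp hx]
      exact J.zero_mem
    have hJtfg : Jt.FG := by
      apply Ideal.fg_of_fg_map_of_fg_inf_ker_of_surjective (f := algebraMap _ A) _ _ hsurj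
      · rw [hJt, Ideal.map_comap_of_surjective _ hsurj]
        exact hJ
      · rw [inf_eq_right.mpr hkerle]
        exact hker'
    haveI : Module.Finite (RPow R (Ideal.span {t}) n) Jt := Module.Finite.of_fg hJtfg
    have hnpt : AdicRing.NoPowTorsion (Ideal.span {t}) Jt := by
      intro x k hx
      apply Subtype.ext
      apply noPowTorsion_rPow ht n x.1 k
      intro a ha
      have := hx a ha
      exact congrArg Subtype.val this
    haveI : Module.Flat R Jt := flat_of_noPowTorsion t hnpt
    haveI : Module.FinitePresentation (RPow R (Ideal.span {t}) n) Jt :=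
      finitePresentation_rPow_of_flat hR' n Jt
    let l : Jt →ₗ[RPow R (Ideal.span {t}) n] J :=
      { toFun := fun x => ⟨algebraMap _ A x.1, x.2⟩
        map_add' := fun x y => Subtype.ext (map_add _ _ _)
        map_smul' := fun c x => Subtype.ext (by
          show algebraMap _ A (c * x.1) = c • algebraMap _ A x.1
          rw [map_mul, Algebra.smul_def]) }
    have hl : Function.Surjective l := by
      rintro ⟨y, hy⟩
      obtain ⟨x, rfl⟩ := hsurj y
      exact ⟨⟨x, hy⟩, rfl⟩
    have hkl : (LinearMap.ker l).FG := by
      apply Submodule.fg_of_fg_map_injective Jt.subtype (Submodule.injective_subtype _)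
      have : (LinearMap.ker l).map Jt.subtype =
          RingHom.ker (algebraMap (RPow R (Ideal.span {t}) n) A) := by
        ext x
        constructor
        · rintro ⟨y, hy, rfl⟩
          rw [SetLike.mem_coe, LinearMap.mem_ker] at hy
          rw [RingHom.mem_ker]
          exact congrArg Subtype.val hy
        · intro hx
          refine ⟨⟨x, hkerle hx⟩, ?_, rfl⟩
          rw [SetLike.mem_coe, LinearMap.mem_ker]
          exact Subtype.ext (RingHom.mem_ker.mp hx)
      rw [this]
      exact hker'
    haveI : Module.FinitePresentation (RPow R (Ideal.span {t}) n) J :=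
      Module.finitePresentation_of_surjective l hl hkl
    exact finitePresentation_of_surjective_of_restrictScalars hsurj J

end Groth.Agent.Lib.Helper95.Bosch
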