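import Mathlib
import Groth.Agent.Lib.Helper95.BoschE
import Groth.Agent.S2293

namespace Groth.Agent.Lib.Helper95.Bosch

open AdicRing MvPolynomial Groth.Agent.Lib.Helper95.RGNil

universe u

section trunc

variable (R : Type u) [CommRing R] (I : Ideal R) (n : ℕ)

theorem mem_map_pow_rPow_iff (hI : I.FG) (k : ℕ) (x : RPow R I n) :
    x ∈ (I ^ k).map (algebraMap R (RPow R I n)) ↔ x.val k = 0 := by
  set K := I.map (C : R →+* MvPolynomial (Fin n) R) with hK
  have h1 : (I ^ k).map (algebraMap R (RPow R I n)) =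
      (K ^ k).map (algebraMap (MvPolynomial (Fin n) R) (RPow R I n)) := by
    rw [hK, ← Ideal.map_pow, Ideal.map_map]
    rfl
  have h2 := AdicCompletion.pow_smul_top_eq_ker_eval (I := K) (M := MvPolynomial (Fin n) R)
    (n := k) (hI.map _)
  have h3 : x ∈ (K ^ k).map (algebraMap (MvPolynomial (Fin n) R) (RPow R I n)) ↔
      x ∈ (K ^ k • ⊤ : Submodule (MvPolynomial (Fin n) R) (RPow R I n)) := by
    rw [Ideal.smul_top_eq_map]
    rfl
  rw [h1, h3, h2, LinearMap.mem_ker, AdicCompletion.eval_apply]

theorem exists_poly_sub_mem_pow (hI : I.FG) (k : ℕ) (x : RPow R I n) :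
    ∃ p : MvPolynomial (Fin n) R,
      x - algebraMap (MvPolynomial (Fin n) R) (RPow R I n) p ∈
        (I ^ k).map (algebraMap R (RPow R I n)) := by
  obtain ⟨p, hp⟩ := Submodule.Quotient.mk_surjective _ (x.val k)
  refine ⟨p, ?_⟩
  rw [mem_map_pow_rPow_iff R I n hI, AdicCompletion.val_sub_apply, ← hp, sub_eq_zero]
  rfl

theorem algebraMap_mem_map_pow_rPow_iff (hI : I.FG) (k : ℕ) (p : MvPolynomial (Fin n) R) :
    algebraMap (MvPolynomial (Fin n) R) (RPow R I n) p ∈ (I ^ k).map (algebraMap R (RPow R I n)) ↔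
      p ∈ (I ^ k).map (C : R →+* MvPolynomial (Fin n) R) := by
  rw [mem_map_pow_rPow_iff R I n hI]
  show Submodule.Quotient.mk p = 0 ↔ _
  rw [Submodule.Quotient.mk_eq_zero, Ideal.map_pow, smul_eq_mul, Ideal.mul_top]

theorem map_map_pow_rPow {A : Type*} [CommRing A] [Algebra R A] (φ : RPow R I n →ₐ[R] A) (k : ℕ) :
    ((I ^ k).map (algebraMap R (RPow R I n))).map φ.toRingHom = (I ^ k).map (algebraMap R A) := by
  rw [Ideal.map_map]
  congr 1
  exact φ.comp_algebraMap

/-- the truncations of a topologically finitely presented algebra are finitely presented. -/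
theorem finitePresentation_trunc (hI : I.FG) (A : Type u) [CommRing A] [Algebra R A]
    (φ : RPow R I n →ₐ[R] A) (hφ : Function.Surjective φ) (hker : (RingHom.ker φ.toRingHom).FG)
    (k : ℕ) : Algebra.FinitePresentation R (A ⧸ (I ^ k).map (algebraMap R A)) := by
  classical
  set Ik : Ideal A := (I ^ k).map (algebraMap R A) with hIk
  set IS : Ideal (RPow R I n) := (I ^ k).map (algebraMap R (RPow R I n)) with hIS
  have hmap : IS.map φ.toRingHom = Ik := map_map_pow_rPow R I n φ k
  let ι : MvPolynomial (Fin n) R →ₐ[R] RPow R I n :=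
    IsScalarTower.toAlgHom R (MvPolynomial (Fin n) R) (RPow R I n)
  let ψ : MvPolynomial (Fin n) R →ₐ[R] A ⧸ Ik := (Ideal.Quotient.mkₐ R Ik).comp (φ.comp ι)
  have hψ : ∀ p, ψ p = Ideal.Quotient.mk Ik (φ (algebraMap _ (RPow R I n) p)) := fun p => rfl
  have hφIS : ∀ x ∈ IS, φ x ∈ Ik := by
    intro x hx
    rw [← hmap]
    exact Ideal.mem_map_of_mem φ.toRingHom hx
  have hψsurj : Function.Surjective ψ := by
    intro y
    obtain ⟨a, rfl⟩ := Ideal.Quotient.mk_surjective y
    obtain ⟨x, rfl⟩ := hφ a
    obtain ⟨p, hp⟩ := exists_poly_sub_mem_pow R I n hI k x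
    refine ⟨p, ?_⟩
    rw [hψ]
    symm
    rw [Ideal.Quotient.eq, ← map_sub]
    exact hφIS _ hp
  obtain ⟨r, g, hg⟩ := Submodule.fg_iff_exists_fin_generating_family.mp hker
  have hgker : ∀ i, φ (g i) = 0 := by
    intro i
    have : g i ∈ RingHom.ker φ.toRingHom := by
      rw [← hg]
      exact Submodule.subset_span ⟨i, rfl⟩
    exact this
  choose p hp using fun i => exists_poly_sub_mem_pow R I n hI k (g i)
  have hkerψ : RingHom.ker ψ.toRingHom =
      (I ^ k).map (C : R →+* MvPolynomial (Fin n) R) ⊔ Ideal.span (Set.range p) := by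
    apply le_antisymm
    · intro q hq
      rw [RingHom.mem_ker] at hq
      have hq' : φ (algebraMap _ (RPow R I n) q) ∈ Ik := by
        have : ψ q = 0 := hq
        rwa [hψ, Ideal.Quotient.eq_zero_iff_mem] at this
      rw [← hmap] at hq'
      obtain ⟨w, hw, hwq⟩ := (Ideal.mem_map_iff_of_surjective φ.toRingHom hφ).mp hq'
      have h1 : algebraMap _ (RPow R I n) q - w ∈ RingHom.ker φ.toRingHom := by
        rw [RingHom.mem_ker, map_sub, sub_eq_zero]
        exact hwq.symm
      rw [← hg] at h1
      obtain ⟨c, hc⟩ := (Submodule.mem_span_range_iff_exists_fun _).mp h1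
      choose d hd using fun i => exists_poly_sub_mem_pow R I n hI k (c i)
      have h2 : q - ∑ i, d i * p i ∈ (I ^ k).map (C : R →+* MvPolynomial (Fin n) R) := by
        rw [← algebraMap_mem_map_pow_rPow_iff R I n hI k, ← hIS]
        have e : algebraMap _ (RPow R I n) (q - ∑ i, d i * p i) =
            w + ∑ i, ((c i - algebraMap _ (RPow R I n) (d i)) * g i +
              algebraMap _ (RPow R I n) (d i) * (g i - algebraMap _ (RPow R I n) (p i))) := by
          have e1 : algebraMap _ (RPow R I n) q = w + ∑ i, c i • g i := by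
            rw [hc]; ring
          rw [map_sub, e1, map_sum]
          simp only [map_mul, smul_eq_mul]
          rw [add_sub_assoc, ← Finset.sum_sub_distrib]
          congr 1
          apply Finset.sum_congr rfl
          intro i _
          ring
        rw [e]
        refine IS.add_mem hw (IS.sum_mem (fun i _ => IS.add_mem ?_ ?_))
        · exact IS.mul_mem_right _ (hd i)
        · exact IS.mul_mem_left _ (hp i)
      have h3 : q = (q - ∑ i, d i * p i) + ∑ i, d i * p i := by ring
      rw [h3]
      refine Submodule.add_mem_sup h2 (Ideal.sum_mem _ (fun i _ => ?_))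
      exact Ideal.mul_mem_left _ _ (Ideal.subset_span ⟨i, rfl⟩)
    · rw [sup_le_iff]
      constructor
      · rw [Ideal.map_le_iff_le_comap]
        intro a ha
        rw [Ideal.mem_comap, RingHom.mem_ker]
        show ψ (C a) = 0
        rw [← MvPolynomial.algebraMap_eq, ψ.commutes, IsScalarTower.algebraMap_apply R A (A ⧸ Ik),
          Ideal.Quotient.algebraMap_eq, Ideal.Quotient.eq_zero_iff_mem]
        exact Ideal.mem_map_of_mem _ ha
      · rw [Ideal.span_le]
        rintro _ ⟨i, rfl⟩
        rw [SetLike.mem_coe, RingHom.mem_ker]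
        show ψ (p i) = 0
        rw [hψ, Ideal.Quotient.eq_zero_iff_mem]
        have : φ (algebraMap _ (RPow R I n) (p i)) =
            - φ (g i - algebraMap _ (RPow R I n) (p i)) := by
          rw [map_sub, hgker i]; ring
        rw [this]
        exact Ik.neg_mem (hφIS _ (hp i))
  refine Algebra.FinitePresentation.of_surjective hψsurj ?_
  rw [hkerψ]
  exact Submodule.FG.sup ((hI.pow (n := k)).map _) (Submodule.fg_span (Set.finite_range p))

end trunc

section conv

variable {R : Type u} [CommRing R] (I : Ideal R) (A : Type u) [CommRing A] [Algebra R A]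

theorem quotientMap_finitePresentation_of (K : Ideal R)
    (h : Algebra.FinitePresentation R (A ⧸ K.map (algebraMap R A))) :
    (Ideal.quotientMap (K.map (algebraMap R A)) (algebraMap R A)
      Ideal.le_comap_map).FinitePresentation := by
  apply RingHom.FinitePresentation.of_comp_finiteType (Ideal.Quotient.mk K)
  · have : (Ideal.quotientMap (K.map (algebraMap R A)) (algebraMap R A) Ideal.le_comap_map).comp
        (Ideal.Quotient.mk K) = algebraMap R (A ⧸ K.map (algebraMap R A)) := by
      ext r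
      rfl
    rw [this, RingHom.finitePresentation_algebraMap]
    exact h
  · exact RingHom.FiniteType.of_surjective _ Ideal.Quotient.mk_surjective

theorem finitePresentation_of_quotientMap (K : Ideal R) (hK : K.FG)
    (h : (Ideal.quotientMap (K.map (algebraMap R A)) (algebraMap R A)
      Ideal.le_comap_map).FinitePresentation) :
    Algebra.FinitePresentation R (A ⧸ K.map (algebraMap R A)) := by
  have h1 : (Ideal.Quotient.mk K).FinitePresentation :=
    RingHom.FinitePresentation.of_surjective _ Ideal.Quotient.mk_surjective (by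
      rw [Ideal.mk_ker]; exact hK)
  have h2 := h.comp h1
  have : (Ideal.quotientMap (K.map (algebraMap R A)) (algebraMap R A) Ideal.le_comap_map).comp
      (Ideal.Quotient.mk K) = algebraMap R (A ⧸ K.map (algebraMap R A)) := by
    ext r
    rfl
  rw [this, RingHom.finitePresentation_algebraMap] at h2
  exact h2

end conv

theorem exists_fg_le_sup_ker {S T : Type*} [CommRing S] [CommRing T] (f : S →+* T)
    (hf : Function.Surjective f) (𝔞 : Ideal S) (h : (𝔞.map f).FG) :
    ∃ 𝔞' : Ideal S, 𝔞'.FG ∧ 𝔞' ≤ 𝔞 ∧ 𝔞 ≤ 𝔞' ⊔ RingHom.ker f := by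
  classical
  obtain ⟨r, g, hg⟩ := Submodule.fg_iff_exists_fin_generating_family.mp h
  have hgm : ∀ i, g i ∈ 𝔞.map f := fun i => by
    rw [← hg]; exact Submodule.subset_span ⟨i, rfl⟩
  choose a ha hag using fun i => (Ideal.mem_map_iff_of_surjective f hf).mp (hgm i)
  refine ⟨Ideal.span (Set.range a), Submodule.fg_span (Set.finite_range a), ?_, ?_⟩
  · rw [Ideal.span_le]
    rintro _ ⟨i, rfl⟩
    exact ha i
  · intro x hx
    have h1 : f x ∈ (Ideal.span (Set.range a)).map f := by
      rw [Ideal.map_span, ← Set.range_comp]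
      have : (f ∘ a) = g := funext hag
      rw [this]
      show f x ∈ Submodule.span T (Set.range g)
      rw [hg]
      exact Ideal.mem_map_of_mem f hx
    obtain ⟨a', ha', hax⟩ := (Ideal.mem_map_iff_of_surjective f hf).mp h1
    have h2 : x = a' + (x - a') := by ring
    rw [h2]
    refine Submodule.add_mem_sup ha' ?_
    rw [RingHom.mem_ker, map_sub, hax, sub_self]

section main

variable {R : Type u} [CommRing R] {I : Ideal R}

theorem fg_of_isBase (hR : AdicRing.IsBase R I) : I.FG := by
  obtain ⟨hcomp, hN | hV⟩ := hR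
  · haveI := hN.1
    exact IsNoetherian.noetherian I
  · obtain ⟨hdom, hval, hdim, t, ht, rfl⟩ := hV
    exact ⟨{t}, by rw [Finset.coe_singleton]⟩

theorem ker_fg_of_trunc_classV {t : R} (hR : AdicRing.IsBase R (Ideal.span {t}))
    (A : Type u) [CommRing A] [Algebra R A] (n : ℕ)
    (φ : RPow R (Ideal.span {t}) n →ₐ[R] A) (hφ : Function.Surjective φ)
    (h : ∀ k : ℕ, Algebra.FinitePresentation R
      (A ⧸ ((Ideal.span {t}) ^ (k + 1)).map (algebraMap R A))) :
    (RingHom.ker φ.toRingHom).FG := by
  classical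
  have hI : (Ideal.span {t} : Ideal R).FG := fg_of_isBase hR
  obtain ⟨n₀, hn₀⟩ := pow_smul_inf_le hR (RPow R (Ideal.span {t}) n)
    ⟨n, AlgHom.id R _, Function.surjective_id⟩ (RPow R (Ideal.span {t}) n)
    (RingHom.ker φ.toRingHom)
  have h1 := hn₀ 1
  set 𝔞 := RingHom.ker φ.toRingHom with h𝔞
  set IS : Ideal (RPow R (Ideal.span {t}) n) :=
    ((Ideal.span {t}) ^ (n₀ + 1)).map (algebraMap R (RPow R (Ideal.span {t}) n)) with hIS
  set IA : Ideal A := ((Ideal.span {t}) ^ (n₀ + 1)).map (algebraMap R A) with hIA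
  set JS : Ideal (RPow R (Ideal.span {t}) n) :=
    (Ideal.span {t}).map (algebraMap R (RPow R (Ideal.span {t}) n)) with hJS
  have hmap : IS.map φ.toRingHom = IA := map_map_pow_rPow R (Ideal.span {t}) n φ (n₀ + 1)
  haveI fpS : Algebra.FinitePresentation R (RPow R (Ideal.span {t}) n ⧸ IS) :=
    finitePresentation_trunc R (Ideal.span {t}) n hI (RPow R (Ideal.span {t}) n)
      (AlgHom.id R _) Function.surjective_id (by
        have : RingHom.ker (AlgHom.id R (RPow R (Ideal.span {t}) n)).toRingHom = ⊥ := by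
          ext x
          rw [RingHom.mem_ker]
          rfl
        rw [this]
        exact Submodule.fg_bot) (n₀ + 1)
  haveI fpA : Algebra.FinitePresentation R (A ⧸ IA) := h n₀
  have hle : IS ≤ IA.comap φ := by
    rw [← Ideal.map_le_iff_le_comap]
    exact hmap.le
  let φb : (RPow R (Ideal.span {t}) n ⧸ IS) →ₐ[R] (A ⧸ IA) := Ideal.quotientMapₐ IA φ hle
  have hφb : ∀ x, φb (Ideal.Quotient.mk IS x) = Ideal.Quotient.mk IA (φ x) := fun x => rfl
  have hsurj : Function.Surjective φb := by
    intro y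
    obtain ⟨a, rfl⟩ := Ideal.Quotient.mk_surjective y
    obtain ⟨x, rfl⟩ := hφ a
    exact ⟨Ideal.Quotient.mk IS x, hφb x⟩
  have hk := Algebra.FinitePresentation.ker_fG_of_surjective φb hsurj
  have hker_eq : RingHom.ker φb.toRingHom = 𝔞.map (Ideal.Quotient.mk IS) := by
    apply le_antisymm
    · intro y hy
      obtain ⟨x, rfl⟩ := Ideal.Quotient.mk_surjective y
      have hy' : φb (Ideal.Quotient.mk IS x) = 0 := hy
      rw [hφb, Ideal.Quotient.eq_zero_iff_mem, ← hmap] at hy'
      obtain ⟨w, hw, hwx⟩ := (Ideal.mem_map_iff_of_surjective φ.toRingHom hφ).mp hy'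
      have h2 : x - w ∈ 𝔞 := by
        rw [h𝔞, RingHom.mem_ker, map_sub, sub_eq_zero]
        exact hwx.symm
      have h3 : Ideal.Quotient.mk IS x = Ideal.Quotient.mk IS (x - w) := by
        rw [Ideal.Quotient.eq]
        simpa using hw
      rw [h3]
      exact Ideal.mem_map_of_mem _ h2
    · rw [Ideal.map_le_iff_le_comap]
      intro a ha
      rw [Ideal.mem_comap, RingHom.mem_ker]
      show φb (Ideal.Quotient.mk IS a) = 0
      rw [hφb]
      have : φ a = 0 := ha
      rw [this, map_zero]
  rw [hker_eq] at hk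
  obtain ⟨𝔞', hfg, hle', hsup⟩ :=
    exists_fg_le_sup_ker (Ideal.Quotient.mk IS) Ideal.Quotient.mk_surjective 𝔞 hk
  rw [Ideal.mk_ker] at hsup
  have hc := isAdicComplete_rPow R (Ideal.span {t}) n hI
  haveI : IsPrecomplete JS (RPow R (Ideal.span {t}) n) := hc.toIsPrecomplete
  haveI : IsHausdorff JS (RPow R (Ideal.span {t}) n) := hc.toIsHausdorff
  have key : 𝔞 ≤ 𝔞' ⊔ JS • 𝔞 := by
    intro x hx
    obtain ⟨a', ha', w, hw, rfl⟩ := Submodule.mem_sup.mp (hsup hx)
    refine Submodule.add_mem_sup ha' ?_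
    have hw𝔞 : w ∈ 𝔞 := by
      have : w = (a' + w) - a' := by ring
      rw [this]
      exact 𝔞.sub_mem hx (hle' ha')
    have hw1 : w ∈ ((Ideal.span {t}) ^ (1 + n₀) •
        (⊤ : Submodule R (RPow R (Ideal.span {t}) n))) ⊓ 𝔞.restrictScalars R := by
      refine ⟨?_, hw𝔞⟩
      rw [Ideal.smul_top_eq_map, add_comm 1 n₀]
      exact hw
    have hw2 := h1 hw1
    rw [pow_one, ← Ideal.smul_restrictScalars] at hw2
    exact hw2
  have := eq_of_le_sup_smul JS 𝔞 𝔞' hfg hle' key
  rw [this]
  exact hfg

/-- Bosch FRG 7.3/9 (S11530). -/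
theorem topFinitePresentation_iff_trunc (hR : AdicRing.IsBase R I)
    (A : Type u) [CommRing A] [Algebra R A] [IsAdicComplete (I.map (algebraMap R A)) A] :
    AdicRing.TopFinitePresentation R I A ↔
      ∀ n : ℕ, (Ideal.quotientMap ((I ^ (n + 1)).map (algebraMap R A)) (algebraMap R A)
        Ideal.le_comap_map).FinitePresentation := by
  have hI : I.FG := fg_of_isBase hR
  constructor
  · rintro ⟨n, φ, hφ, hker⟩ k
    apply quotientMap_finitePresentation_of A (I ^ (k + 1))
    exact finitePresentation_trunc R I n hI A φ hφ hker (k + 1)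
  · intro h
    have hfp : ∀ k : ℕ, Algebra.FinitePresentation R (A ⧸ (I ^ (k + 1)).map (algebraMap R A)) :=
      fun k => finitePresentation_of_quotientMap A (I ^ (k + 1)) hI.pow (h k)
    have hft : (Ideal.quotientMap (I.map (algebraMap R A)) (algebraMap R A)
        Ideal.le_comap_map).FiniteType := by
      have h0 := hfp 0
      have e : I ^ (0 + 1) = I := by rw [zero_add, pow_one]
      rw [e] at h0
      exact RingHom.FiniteType.of_finitePresentation
        (quotientMap_finitePresentation_of A I h0)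
    obtain ⟨r, φ, hφ⟩ := Groth.Agent.S2293.result R I hI A hft
    refine ⟨r, φ, hφ, ?_⟩
    have hR' := hR
    obtain ⟨hcomp, hN | hV⟩ := hR
    · haveI := hN.1
      haveI := isNoetherianRing_rPow R I r
      exact IsNoetherian.noetherian _
    · obtain ⟨hdom, hval, hdim, t, ht, rfl⟩ := hV
      exact ker_fg_of_trunc_classV hR' A r φ hφ hfp

end main

end Groth.Agent.Lib.Helper95.Bosch
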