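import Mathlib
import Groth.Agent.Lib.Helper95.BoschF
import Groth.Agent.H76.LocalCritPow

namespace Groth.Agent.Lib.Helper95.Bosch

open AdicRing MvPolynomial Groth.Agent.Lib.Helper95.RGNil TensorProduct
open Groth.Agent.H76 Groth.Agent.H76.LocalCritPow

universe u

section crit

variable {R S : Type u} [CommRing R] [CommRing S] [Algebra R S]

/-- Core form of the infinitesimal local criterion without Noetherian hypotheses: it suffices to
have Artin–Rees for finitely generated ideals of `R` and separatedness of `M ⊗ 𝔞`. -/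
theorem flat_of_tinj_general (I : Ideal R)
    (M : Type u) [AddCommGroup M] [Module R M] [Module S M] [IsScalarTower R S M]
    (hAR : ∀ 𝔞 : Ideal R, 𝔞.FG → ∃ k : ℕ, ∀ n : ℕ, I ^ (n + k) ⊓ 𝔞 ≤ I ^ n • 𝔞)
    (hH : ∀ 𝔞 : Ideal R, 𝔞.FG →
      (⨅ i : ℕ, (I.map (algebraMap R S)) ^ i • ⊤ : Submodule S (M ⊗[R] 𝔞)) = ⊥)
    (h : ∀ n : ℕ, ∀ (X Y : Type u) [AddCommGroup X] [Module R X] [AddCommGroup Y] [Module R Y]
      (u : X →ₗ[R] Y), Function.Injective u → (∀ i ∈ I ^ (n + 1), ∀ y : Y, i • y = 0) →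
      Function.Injective (u.rTensor M)) :
    Module.Flat R M := by
  rw [Module.Flat.iff_lTensor_injective]
  intro 𝔞 h𝔞
  have hkrull := hH 𝔞 h𝔞
  rw [injective_iff_map_eq_zero]
  intro z hz
  obtain ⟨k, hk⟩ := hAR 𝔞 h𝔞
  have hmem : ∀ n : ℕ, z ∈ (I.map (algebraMap R S)) ^ n • (⊤ : Submodule S (M ⊗[R] 𝔞)) := by
    intro n
    set m := n + k with hm
    let 𝔟' : Submodule R 𝔞 := Submodule.comap 𝔞.subtype (I ^ (m + 1))
    let u : (𝔞 ⧸ 𝔟') →ₗ[R] (R ⧸ I ^ (m + 1)) :=
      Submodule.mapQ 𝔟' (I ^ (m + 1)) 𝔞.subtype le_rfl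
    have hu : Function.Injective u := by
      rw [injective_iff_map_eq_zero]
      intro x hx
      obtain ⟨a, rfl⟩ := 𝔟'.mkQ_surjective x
      rw [Submodule.mkQ_apply, Submodule.mapQ_apply, Submodule.Quotient.mk_eq_zero] at hx
      exact (Submodule.Quotient.mk_eq_zero _).mpr hx
    have hinj : Function.Injective (u.rTensor M) :=
      h m _ _ u hu (by
        intro i hi y
        obtain ⟨r, rfl⟩ := Ideal.Quotient.mk_surjective y
        have : i • (Ideal.Quotient.mk (I ^ (m + 1)) r) = Ideal.Quotient.mk (I ^ (m + 1)) (i * r) := rfl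
        rw [this, Ideal.Quotient.eq_zero_iff_mem]
        exact Ideal.mul_mem_right _ _ hi)
    set z' := TensorProduct.comm R M 𝔞 z with hz'
    have h0 : (𝔞.subtype.rTensor M) z' = 0 := by
      rw [hz', LinearMap.rTensor_comm, hz, map_zero]
    have h1 : (u.rTensor M) ((𝔟'.mkQ.rTensor M) z') = 0 := by
      rw [← LinearMap.comp_apply, ← LinearMap.rTensor_comp]
      have : u ∘ₗ 𝔟'.mkQ = (Submodule.mkQ (I ^ (m + 1))) ∘ₗ 𝔞.subtype := by
        ext a; rfl
      rw [this, LinearMap.rTensor_comp, LinearMap.comp_apply, h0, map_zero]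
    have h2 : (𝔟'.mkQ.rTensor M) z' = 0 := (injective_iff_map_eq_zero _).mp hinj _ h1
    have hex : Function.Exact (𝔟'.subtype.rTensor M) (𝔟'.mkQ.rTensor M) :=
      rTensor_exact M (LinearMap.exact_subtype_mkQ 𝔟') 𝔟'.mkQ_surjective
    obtain ⟨w, hw⟩ := (hex z').mp h2
    have hz_eq : z = (TensorProduct.comm R M 𝔞).symm ((𝔟'.subtype.rTensor M) w) := by
      rw [hw, hz', LinearEquiv.symm_apply_apply]
    rw [hz_eq]
    have claim : ∀ w : 𝔟' ⊗[R] M, (TensorProduct.comm R M 𝔞).symm ((𝔟'.subtype.rTensor M) w) ∈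
        (I.map (algebraMap R S)) ^ n • (⊤ : Submodule S (M ⊗[R] 𝔞)) := by
      intro w
      induction w with
      | zero => simp
      | tmul b x =>
        rw [LinearMap.rTensor_tmul, TensorProduct.comm_symm_tmul]
        have hb1 : ((b : 𝔞) : R) ∈ I ^ (m + 1) := b.2
        have hb2 : ((b : 𝔞) : R) ∈ I ^ (n + 1 + k) ⊓ 𝔞 := by
          refine ⟨?_, (b : 𝔞).2⟩
          have : n + 1 + k = m + 1 := by omega
          rw [this]
          exact hb1
        have hb3 : ((b : 𝔞) : R) ∈ I ^ n • 𝔞 := by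
          have hle : I ^ (n + 1) • 𝔞 ≤ I ^ n • 𝔞 :=
            Submodule.smul_mono (Ideal.pow_le_pow_right (Nat.le_succ n)) le_rfl
          exact hle (hk (n + 1) hb2)
        exact tmul_mem_smul_top I n 𝔞 M x _ hb3 (b : 𝔞).2
      | add w₁ w₂ h₁ h₂ =>
        rw [map_add, map_add]
        exact Submodule.add_mem _ h₁ h₂
    exact claim w
  have hz0 : z ∈ (⨅ i : ℕ, (I.map (algebraMap R S)) ^ i • ⊤ : Submodule S (M ⊗[R] 𝔞)) := by
    rw [Submodule.mem_iInf]
    exact hmem
  rw [hkrull] at hz0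
  exact (Submodule.mem_bot S).mp hz0

end crit

section main

variable {R : Type u} [CommRing R] {I : Ideal R}

/-- Artin–Rees for ideals of topologically finite type algebras, in ideal form. -/
theorem exists_pow_inf_le_pow_smul (hR : AdicRing.IsBase R I)
    (A : Type u) [CommRing A] [Algebra R A] (hA : AdicRing.TopFiniteType R I A) (𝔞 : Ideal A) :
    ∃ k : ℕ, ∀ n : ℕ, (I.map (algebraMap R A)) ^ (n + k) ⊓ 𝔞 ≤ (I.map (algebraMap R A)) ^ n • 𝔞 := by
  obtain ⟨n₀, hn₀⟩ := pow_smul_inf_le hR A hA A 𝔞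
  refine ⟨n₀, fun m x hx => ?_⟩
  obtain ⟨hx1, hx2⟩ := hx
  rw [SetLike.mem_coe, ← Ideal.map_pow] at hx1
  have h1 : x ∈ (I ^ (m + n₀) • (⊤ : Submodule R A)) ⊓ Submodule.restrictScalars R 𝔞 := by
    refine ⟨?_, hx2⟩
    rw [Ideal.smul_top_eq_map]
    exact hx1
  have h2 := hn₀ m h1
  rw [← Ideal.smul_restrictScalars, Ideal.map_pow] at h2
  exact h2

/-- finite modules over topologically finite type algebras are separated -/
theorem iInf_pow_smul_eq_bot (hR : AdicRing.IsBase R I)
    (B : Type u) [CommRing B] [Algebra R B] (hB : AdicRing.TopFiniteType R I B)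
    (N : Type u) [AddCommGroup N] [Module B N] [Module.Finite B N] :
    (⨅ i : ℕ, (I.map (algebraMap R B)) ^ i • ⊤ : Submodule B N) = ⊥ := by
  letI : Module R N := Module.compHom N (algebraMap R B)
  haveI : IsScalarTower R B N := ⟨fun r b x => by
    show (r • b) • x = (algebraMap R B r) • (b • x)
    rw [Algebra.smul_def, mul_smul]⟩
  have hc := isAdicComplete_of_finite_topFiniteType hR B hB N
  haveI : IsHausdorff I N := hc.toIsHausdorff
  haveI : IsHausdorff (I.map (algebraMap R B)) N := IsHausdorff.map_algebraMap_iff.mpr this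
  exact IsHausdorff.iInf_pow_smul inferInstance

/-- Bosch FRG 7.3/10, hard direction. -/
theorem flat_of_forall_flat_trunc (hR : AdicRing.IsBase R I)
    (A : Type u) [CommRing A] [Algebra R A] (hA : AdicRing.TopFiniteType R I A)
    (B : Type u) [CommRing B] [Algebra R B] [Algebra A B] [IsScalarTower R A B]
    (hB : AdicRing.TopFiniteType R I B)
    (M : Type u) [AddCommGroup M] [Module B M] [Module A M] [IsScalarTower A B M]
    [Module.Finite B M]
    (h : ∀ n : ℕ, Module.Flat (AdicRing.trunc A I n) ((AdicRing.trunc A I n) ⊗[A] M)) :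
    Module.Flat A M := by
  apply flat_of_tinj_general (R := A) (S := B) (I.map (algebraMap R A)) M
  · intro 𝔞 _
    exact exists_pow_inf_le_pow_smul hR A hA 𝔞
  · intro 𝔞 h𝔞
    haveI : Module.Finite A 𝔞 := Module.Finite.of_fg h𝔞
    haveI : Module.Finite B (M ⊗[A] 𝔞) := AdicFlat.finite_tensor M 𝔞
    have e : (I.map (algebraMap R A)).map (algebraMap A B) = I.map (algebraMap R B) := by
      rw [Ideal.map_map, ← IsScalarTower.algebraMap_eq]
    rw [e]
    exact iInf_pow_smul_eq_bot hR B hB (M ⊗[A] 𝔞)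
  · intro n X Y _ _ _ _ u hu hY
    haveI := h n
    refine NilFlat.tinj_of_killed ((I ^ (n + 1)).map (algebraMap R A)) M u hu ?_
    intro i hi y
    rw [Ideal.map_pow] at hi
    exact hY i hi y

/-- Bosch FRG 7.3/10 (S11531). -/
theorem flat_iff_forall_flat_trunc (hR : AdicRing.IsBase R I)
    (A : Type u) [CommRing A] [Algebra R A] (hA : AdicRing.TopFiniteType R I A)
    (B : Type u) [CommRing B] [Algebra R B] [Algebra A B] [IsScalarTower R A B]
    (hB : AdicRing.TopFiniteType R I B)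
    (M : Type u) [AddCommGroup M] [Module B M] [Module A M] [IsScalarTower A B M]
    [Module.Finite B M] :
    Module.Flat A M ↔
      ∀ n : ℕ, Module.Flat (AdicRing.trunc A I n) ((AdicRing.trunc A I n) ⊗[A] M) :=
  ⟨fun _ _ => inferInstance, flat_of_forall_flat_trunc hR A hA B hB M⟩

end main

end Groth.Agent.Lib.Helper95.Bosch
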