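import Mathlib
import Groth.Agent.Lib.Helper95.BoschG

namespace Groth.Agent.Lib.Helper95.Bosch

open AdicRing MvPolynomial Groth.Agent.Lib.Helper95.RGNil TensorProduct

universe u

section main

variable {R : Type u} [CommRing R] {I : Ideal R}

/-- topologically finite type algebras are complete. -/
theorem isAdicComplete_of_topFiniteType (hR : AdicRing.IsBase R I)
    (A : Type u) [CommRing A] [Algebra R A] (hA : AdicRing.TopFiniteType R I A) :
    IsAdicComplete (I.map (algebraMap R A)) A := by
  rw [IsAdicComplete.map_algebraMap_iff]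
  exact isAdicComplete_of_finite_topFiniteType hR A hA A

theorem map_le_of_isMaximal (hR : AdicRing.IsBase R I)
    (A : Type u) [CommRing A] [Algebra R A] (hA : AdicRing.TopFiniteType R I A)
    (𝔪 : Ideal A) [h𝔪 : 𝔪.IsMaximal] : I.map (algebraMap R A) ≤ 𝔪 := by
  haveI := isAdicComplete_of_topFiniteType hR A hA
  refine (IsAdicComplete.le_jacobson_bot (I.map (algebraMap R A))).trans ?_
  exact sInf_le ⟨bot_le, h𝔪⟩

/-- if `𝔪 M = M` then `(𝔪 A₀)(A₀ ⊗ M) = A₀ ⊗ M`. -/
theorem map_smul_top_tensor_eq_top {A : Type*} [CommRing A] (A₀ : Type*) [CommRing A₀]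
    [Algebra A A₀] (M : Type*) [AddCommGroup M] [Module A M] (𝔪 : Ideal A)
    (h : 𝔪 • (⊤ : Submodule A M) = ⊤) :
    (𝔪.map (algebraMap A A₀)) • (⊤ : Submodule A₀ (A₀ ⊗[A] M)) = ⊤ := by
  rw [eq_top_iff]
  intro x _
  clear * - h
  induction x with
  | zero => exact Submodule.zero_mem _
  | add x y hx hy => exact Submodule.add_mem _ hx hy
  | tmul a m =>
    have hm : m ∈ 𝔪 • (⊤ : Submodule A M) := by rw [h]; trivial
    refine Submodule.smul_induction_on hm ?_ ?_
    · intro c hc m' _
      have : a ⊗ₜ[A] (c • m') = (algebraMap A A₀ c) • (a ⊗ₜ[A] m' : A₀ ⊗[A] M) := by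
        rw [← TensorProduct.smul_tmul, TensorProduct.smul_tmul', Algebra.smul_def, smul_eq_mul]
      rw [this]
      exact Submodule.smul_mem_smul (Ideal.mem_map_of_mem _ hc) trivial
    · intro m₁ m₂ h₁ h₂
      rw [TensorProduct.tmul_add]
      exact Submodule.add_mem _ h₁ h₂

/-- Bosch FRG 7.3/10, faithfully flat version (S11532). -/
theorem faithfullyFlat_iff_forall_faithfullyFlat_trunc (hR : AdicRing.IsBase R I)
    (A : Type u) [CommRing A] [Algebra R A] (hA : AdicRing.TopFiniteType R I A)
    (B : Type u) [CommRing B] [Algebra R B] [Algebra A B] [IsScalarTower R A B]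
    (hB : AdicRing.TopFiniteType R I B)
    (M : Type u) [AddCommGroup M] [Module B M] [Module A M] [IsScalarTower A B M]
    [Module.Finite B M] :
    Module.FaithfullyFlat A M ↔
      ∀ n : ℕ, Module.FaithfullyFlat (AdicRing.trunc A I n) ((AdicRing.trunc A I n) ⊗[A] M) := by
  constructor
  · intro _ _
    infer_instance
  · intro h
    haveI : Module.Flat A M :=
      flat_of_forall_flat_trunc hR A hA B hB M (fun n => (h n).toFlat)
    refine ⟨fun 𝔪 h𝔪 htop => ?_⟩
    have hle : I.map (algebraMap R A) ≤ 𝔪 := map_le_of_isMaximal hR A hA 𝔪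
    have h0 := h 0
    have hker : RingHom.ker (algebraMap A (AdicRing.trunc A I 0)) ≤ 𝔪 := by
      rw [Ideal.Quotient.algebraMap_eq, Ideal.mk_ker, zero_add, pow_one]
      exact hle
    have hmax : (𝔪.map (algebraMap A (AdicRing.trunc A I 0))).IsMaximal :=
      Ideal.IsMaximal.map_of_surjective_of_ker_le Ideal.Quotient.mk_surjective hker
    exact h0.submodule_ne_top hmax (map_smul_top_tensor_eq_top _ M 𝔪 htop)

end main

end Groth.Agent.Lib.Helper95.Bosch
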