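import Mathlib
import Groth.Agent.Lib.Helper95.BoschH

namespace Groth.Agent.Lib.Helper95.Bosch

open AdicRing MvPolynomial Groth.Agent.Lib.Helper95.RGNil TensorProduct

universe u v

section completion

variable (R : Type u) [CommRing R] (I : Ideal R) (C : Type v) [CommRing C] [Algebra R C]

/-- the `I`-adic completion of an `R`-algebra `C` -/
abbrev Compl : Type v := AdicCompletion (I.map (algebraMap R C)) C

instance : IsScalarTower R C (Compl R I C) :=
  IsScalarTower.of_algebraMap_eq (fun _ => rfl)

theorem map_algebraMap_compl (K : Ideal R) :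
    K.map (algebraMap R (Compl R I C)) =
      (K.map (algebraMap R C)).map (algebraMap C (Compl R I C)) := by
  rw [Ideal.map_map]
  rfl

theorem isAdicComplete_compl (hI : I.FG) :
    IsAdicComplete (I.map (algebraMap R (Compl R I C))) (Compl R I C) := by
  rw [map_algebraMap_compl, IsAdicComplete.map_algebraMap_iff]
  exact AdicCompletion.isAdicComplete (hI.map _)

theorem mem_map_pow_compl_iff (hI : I.FG) (k : ℕ) (x : Compl R I C) :
    x ∈ (I ^ k).map (algebraMap R (Compl R I C)) ↔ x.val k = 0 := by
  set K := I.map (algebraMap R C) with hK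
  have h1 : (I ^ k).map (algebraMap R (Compl R I C)) =
      (K ^ k).map (algebraMap C (Compl R I C)) := by
    rw [hK, ← Ideal.map_pow, map_algebraMap_compl]
  have h2 := AdicCompletion.pow_smul_top_eq_ker_eval (I := K) (M := C) (n := k) (hI.map _)
  have h3 : x ∈ (K ^ k).map (algebraMap C (Compl R I C)) ↔
      x ∈ (K ^ k • ⊤ : Submodule C (Compl R I C)) := by
    rw [Ideal.smul_top_eq_map]
    rfl
  rw [h1, h3, h2, LinearMap.mem_ker, AdicCompletion.eval_apply]

theorem exists_sub_mem_map_pow_compl (hI : I.FG) (k : ℕ) (x : Compl R I C) :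
    ∃ c : C, x - algebraMap C (Compl R I C) c ∈ (I ^ k).map (algebraMap R (Compl R I C)) := by
  obtain ⟨c, hc⟩ := Submodule.Quotient.mk_surjective _ (x.val k)
  refine ⟨c, ?_⟩
  rw [mem_map_pow_compl_iff R I C hI, AdicCompletion.val_sub_apply, ← hc, sub_eq_zero]
  rfl

theorem algebraMap_mem_map_pow_compl_iff (hI : I.FG) (k : ℕ) (c : C) :
    algebraMap C (Compl R I C) c ∈ (I ^ k).map (algebraMap R (Compl R I C)) ↔
      c ∈ (I ^ k).map (algebraMap R C) := by
  rw [mem_map_pow_compl_iff R I C hI]
  show Submodule.Quotient.mk c = 0 ↔ _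
  rw [Submodule.Quotient.mk_eq_zero, Ideal.map_pow, smul_eq_mul, Ideal.mul_top]

/-- the truncations of `C` and of its completion agree -/
noncomputable def truncComplEquiv (hI : I.FG) (k : ℕ) :
    (C ⧸ (I ^ k).map (algebraMap R C)) ≃ₐ[R]
      (Compl R I C ⧸ (I ^ k).map (algebraMap R (Compl R I C))) :=
  AlgEquiv.ofBijective
    (Ideal.quotientMapₐ ((I ^ k).map (algebraMap R (Compl R I C)))
      (IsScalarTower.toAlgHom R C (Compl R I C)) (by
        rw [← Ideal.map_le_iff_le_comap, map_algebraMap_compl]
        exact le_rfl))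
    (by
      constructor
      · rw [injective_iff_map_eq_zero]
        intro y hy
        obtain ⟨c, rfl⟩ := Ideal.Quotient.mk_surjective y
        rw [Ideal.Quotient.eq_zero_iff_mem]
        have hy' : Ideal.Quotient.mk ((I ^ k).map (algebraMap R (Compl R I C)))
            (algebraMap C (Compl R I C) c) = 0 := hy
        rw [Ideal.Quotient.eq_zero_iff_mem, algebraMap_mem_map_pow_compl_iff R I C hI] at hy'
        exact hy'
      · intro y
        obtain ⟨x, rfl⟩ := Ideal.Quotient.mk_surjective y
        obtain ⟨c, hc⟩ := exists_sub_mem_map_pow_compl R I C hI k x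
        refine ⟨Ideal.Quotient.mk _ c, ?_⟩
        show Ideal.Quotient.mk ((I ^ k).map (algebraMap R (Compl R I C)))
            (algebraMap C (Compl R I C) c) = _
        exact (Ideal.Quotient.eq.mpr hc).symm)

theorem truncComplEquiv_mk (hI : I.FG) (k : ℕ) (c : C) :
    truncComplEquiv R I C hI k (Ideal.Quotient.mk _ c) =
      Ideal.Quotient.mk _ (algebraMap C (Compl R I C) c) := rfl

end completion

end Groth.Agent.Lib.Helper95.Bosch
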