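import Mathlib
import Groth.Agent.Lib.Helper95.BoschI

namespace Groth.Agent.Lib.Helper95.Bosch

open AdicRing MvPolynomial Groth.Agent.Lib.Helper95.RGNil TensorProduct

universe u v

section loc

variable (R : Type u) [CommRing R] (A : Type u) [CommRing A] [Algebra R A] (f : A)

example : IsScalarTower R A (Localization.Away f) := inferInstance

/-- change of presentation of the ideal of the truncation of a localization -/
noncomputable def locTruncEquiv (K₀ : Ideal R) :
    (Localization.Away f ⧸ K₀.map (algebraMap R (Localization.Away f))) ≃ₐ[A]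
      (Localization.Away f ⧸ (K₀.map (algebraMap R A)).map (algebraMap A (Localization.Away f))) :=
  Ideal.quotientEquivAlgOfEq A (by
    rw [Ideal.map_map, ← IsScalarTower.algebraMap_eq])

instance isLocalizationAway_trunc (K : Ideal A) :
    IsLocalization.Away (Ideal.Quotient.mk K f)
      (Localization.Away f ⧸ K.map (algebraMap A (Localization.Away f))) := by
  have : IsLocalization (Algebra.algebraMapSubmonoid (A ⧸ K) (Submonoid.powers f))
      (Localization.Away f ⧸ K.map (algebraMap A (Localization.Away f))) := inferInstance
  rw [Algebra.algebraMapSubmonoid_powers] at this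
  exact this

instance isScalarTower_loc_trunc (K : Ideal A) :
    IsScalarTower R (A ⧸ K)
      (Localization.Away f ⧸ K.map (algebraMap A (Localization.Away f))) :=
  IsScalarTower.of_algebraMap_eq (fun r => by
    rw [IsScalarTower.algebraMap_apply R (Localization.Away f)
      (Localization.Away f ⧸ K.map (algebraMap A (Localization.Away f))),
      IsScalarTower.algebraMap_apply R A (A ⧸ K),
      IsScalarTower.algebraMap_apply R A (Localization.Away f)]
    rfl)

theorem finiteType_loc_trunc (K₀ : Ideal R)
    (h : Algebra.FiniteType R (A ⧸ K₀.map (algebraMap R A))) :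
    Algebra.FiniteType R (Localization.Away f ⧸ K₀.map (algebraMap R (Localization.Away f))) := by
  haveI : Algebra.FinitePresentation (A ⧸ K₀.map (algebraMap R A))
      (Localization.Away f ⧸ (K₀.map (algebraMap R A)).map (algebraMap A (Localization.Away f))) :=
    IsLocalization.Away.finitePresentation (Ideal.Quotient.mk _ f)
  haveI : Algebra.FiniteType R
      (Localization.Away f ⧸ (K₀.map (algebraMap R A)).map (algebraMap A (Localization.Away f))) :=
    Algebra.FiniteType.trans (S := A ⧸ K₀.map (algebraMap R A)) h inferInstance
  exact Algebra.FiniteType.equiv inferInstance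
    ((locTruncEquiv R A f K₀).symm.restrictScalars R)

theorem finitePresentation_loc_trunc (K₀ : Ideal R)
    (h : Algebra.FinitePresentation R (A ⧸ K₀.map (algebraMap R A))) :
    Algebra.FinitePresentation R
      (Localization.Away f ⧸ K₀.map (algebraMap R (Localization.Away f))) := by
  haveI : Algebra.FinitePresentation (A ⧸ K₀.map (algebraMap R A))
      (Localization.Away f ⧸ (K₀.map (algebraMap R A)).map (algebraMap A (Localization.Away f))) :=
    IsLocalization.Away.finitePresentation (Ideal.Quotient.mk _ f)
  haveI : Algebra.FinitePresentation R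
      (Localization.Away f ⧸ (K₀.map (algebraMap R A)).map (algebraMap A (Localization.Away f))) :=
    Algebra.FinitePresentation.trans R (A ⧸ K₀.map (algebraMap R A)) _
  exact Algebra.FinitePresentation.equiv
    ((locTruncEquiv R A f K₀).symm.restrictScalars R)

end loc

section loc2

variable (R : Type u) [CommRing R] (A : Type u) [CommRing A] [Algebra R A]
  {r : ℕ} (f : Fin r → A) (hf : Ideal.span (Set.range f) = ⊤)

include hf in
theorem span_range_mk_eq_top (K : Ideal A) :
    Ideal.span (Set.range fun i => Ideal.Quotient.mk K (f i)) = ⊤ := by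
  have : (Set.range fun i => Ideal.Quotient.mk K (f i)) = (Ideal.Quotient.mk K) '' Set.range f := by
    rw [← Set.range_comp]
    rfl
  rw [this, ← Ideal.map_span, hf, Ideal.map_top]

include hf in
theorem finitePresentation_trunc_of_loc (K₀ : Ideal R)
    (h : ∀ i, Algebra.FinitePresentation R
      (Localization.Away (f i) ⧸ K₀.map (algebraMap R (Localization.Away (f i))))) :
    Algebra.FinitePresentation R (A ⧸ K₀.map (algebraMap R A)) := by
  rw [← RingHom.finitePresentation_algebraMap]
  refine RingHom.finitePresentation_ofLocalizationSpanTarget.ofIsLocalization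
    RingHom.finitePresentation_respectsIso _ _
    (span_range_mk_eq_top A f hf (K₀.map (algebraMap R A))) ?_
  rintro ⟨_, i, rfl⟩
  refine ⟨Localization.Away (f i) ⧸
    (K₀.map (algebraMap R A)).map (algebraMap A (Localization.Away (f i))), inferInstance,
    inferInstance, isLocalizationAway_trunc A (f i) _, ?_⟩
  rw [← IsScalarTower.algebraMap_eq, RingHom.finitePresentation_algebraMap]
  haveI := h i
  exact Algebra.FinitePresentation.equiv ((locTruncEquiv R A (f i) K₀).restrictScalars R)

include hf in
theorem finiteType_trunc_of_loc (K₀ : Ideal R)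
    (h : ∀ i, Algebra.FiniteType R
      (Localization.Away (f i) ⧸ K₀.map (algebraMap R (Localization.Away (f i))))) :
    Algebra.FiniteType R (A ⧸ K₀.map (algebraMap R A)) := by
  rw [← RingHom.finiteType_algebraMap]
  refine RingHom.finiteType_ofLocalizationSpanTarget.ofIsLocalization
    RingHom.finiteType_respectsIso _ _
    (span_range_mk_eq_top A f hf (K₀.map (algebraMap R A))) ?_
  rintro ⟨_, i, rfl⟩
  refine ⟨Localization.Away (f i) ⧸
    (K₀.map (algebraMap R A)).map (algebraMap A (Localization.Away (f i))), inferInstance,
    inferInstance, isLocalizationAway_trunc A (f i) _, ?_⟩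
  rw [← IsScalarTower.algebraMap_eq, RingHom.finiteType_algebraMap]
  exact Algebra.FiniteType.equiv (h i) ((locTruncEquiv R A (f i) K₀).restrictScalars R)

end loc2

section tft

variable {R : Type u} [CommRing R] {I : Ideal R}

theorem finiteType_trunc (hI : I.FG) (A : Type u) [CommRing A] [Algebra R A]
    (hA : AdicRing.TopFiniteType R I A) (k : ℕ) :
    Algebra.FiniteType R (A ⧸ (I ^ k).map (algebraMap R A)) := by
  obtain ⟨n, φ, hφ⟩ := hA
  set Ik : Ideal A := (I ^ k).map (algebraMap R A) with hIk
  set IS : Ideal (RPow R I n) := (I ^ k).map (algebraMap R (RPow R I n)) with hIS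
  have hmap : IS.map φ.toRingHom = Ik := map_map_pow_rPow R I n φ k
  let ι : MvPolynomial (Fin n) R →ₐ[R] RPow R I n :=
    IsScalarTower.toAlgHom R (MvPolynomial (Fin n) R) (RPow R I n)
  let ψ : MvPolynomial (Fin n) R →ₐ[R] A ⧸ Ik := (Ideal.Quotient.mkₐ R Ik).comp (φ.comp ι)
  have hψ : ∀ p, ψ p = Ideal.Quotient.mk Ik (φ (algebraMap _ (RPow R I n) p)) := fun p => rfl
  have hφIS : ∀ x ∈ IS, φ x ∈ Ik := by
    intro x hx
    rw [← hmap]
    exact Ideal.mem_map_of_mem φ.toRingHom hx
  have hψsurj : Function.Surjective ψ := by
    intro y
    obtain ⟨a, rfl⟩ := Ideal.Quotient.mk_surjective y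
    obtain ⟨x, rfl⟩ := hφ a
    obtain ⟨p, hp⟩ := exists_poly_sub_mem_pow R I n hI k x
    refine ⟨p, ?_⟩
    rw [hψ]
    symm
    rw [Ideal.Quotient.eq, ← map_sub]
    exact hφIS _ hp
  exact Algebra.FiniteType.of_surjective ψ hψsurj

theorem finiteType_quotient_of_topFiniteType (hI : I.FG) (A : Type u) [CommRing A] [Algebra R A]
    (hA : AdicRing.TopFiniteType R I A) :
    Algebra.FiniteType R (A ⧸ I.map (algebraMap R A)) := by
  have h := finiteType_trunc hI A hA 1
  rw [pow_one] at h
  exact h

theorem quotientMap_finiteType_of (A : Type u) [CommRing A] [Algebra R A] (K : Ideal R)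
    (h : Algebra.FiniteType R (A ⧸ K.map (algebraMap R A))) :
    (Ideal.quotientMap (K.map (algebraMap R A)) (algebraMap R A)
      Ideal.le_comap_map).FiniteType := by
  apply RingHom.FiniteType.of_comp_finiteType (f := Ideal.Quotient.mk K)
  have : (Ideal.quotientMap (K.map (algebraMap R A)) (algebraMap R A) Ideal.le_comap_map).comp
      (Ideal.Quotient.mk K) = algebraMap R (A ⧸ K.map (algebraMap R A)) := by
    ext r
    rfl
  rw [this, RingHom.finiteType_algebraMap]
  exact h

/-- a complete algebra with finite type reduction is topologically of finite type -/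
theorem topFiniteType_of_finiteType_quotient (hI : I.FG) (A : Type u) [CommRing A] [Algebra R A]
    [IsAdicComplete (I.map (algebraMap R A)) A]
    (h : Algebra.FiniteType R (A ⧸ I.map (algebraMap R A))) :
    AdicRing.TopFiniteType R I A :=
  Groth.Agent.S2293.result R I hI A (quotientMap_finiteType_of A I h)

theorem topFiniteType_compl (hI : I.FG) (C : Type u) [CommRing C] [Algebra R C]
    (h : Algebra.FiniteType R (C ⧸ I.map (algebraMap R C))) :
    AdicRing.TopFiniteType R I (Compl R I C) := by
  haveI := isAdicComplete_compl R I C hI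
  apply topFiniteType_of_finiteType_quotient hI
  have e := truncComplEquiv R I C hI 1
  rw [pow_one] at e
  exact Algebra.FiniteType.equiv h e

theorem finiteType_quotient_of_topFiniteType_compl (hI : I.FG) (C : Type u) [CommRing C]
    [Algebra R C] (h : AdicRing.TopFiniteType R I (Compl R I C)) :
    Algebra.FiniteType R (C ⧸ I.map (algebraMap R C)) := by
  have h1 := finiteType_quotient_of_topFiniteType hI _ h
  have e := truncComplEquiv R I C hI 1
  rw [pow_one] at e
  exact Algebra.FiniteType.equiv h1 e.symm

end tft

section cloc

variable {R : Type u} [CommRing R] {I : Ideal R}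

/-- Bosch FRG 7.3/11 (S11534); only needs `I` finitely generated. -/
theorem topFiniteType_iff_forall_cLoc (hI : I.FG)
    (A : Type u) [CommRing A] [Algebra R A] [IsAdicComplete (I.map (algebraMap R A)) A]
    (r : ℕ) (f : Fin r → A) (hf : Ideal.span (Set.range f) = ⊤) :
    AdicRing.TopFiniteType R I A ↔ ∀ i, AdicRing.TopFiniteType R I (AdicRing.CLoc I (f i)) := by
  constructor
  · intro hA i
    exact topFiniteType_compl hI (Localization.Away (f i))
      (finiteType_loc_trunc R A (f i) I (finiteType_quotient_of_topFiniteType hI A hA))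
  · intro h
    apply topFiniteType_of_finiteType_quotient hI A
    apply finiteType_trunc_of_loc R A f hf I
    intro i
    exact finiteType_quotient_of_topFiniteType_compl hI _ (h i)

/-- Bosch FRG 7.3/11 (S11535). -/
theorem topFinitePresentation_iff_forall_cLoc (hR : AdicRing.IsBase R I)
    (A : Type u) [CommRing A] [Algebra R A] [IsAdicComplete (I.map (algebraMap R A)) A]
    (r : ℕ) (f : Fin r → A) (hf : Ideal.span (Set.range f) = ⊤) :
    AdicRing.TopFinitePresentation R I A ↔
      ∀ i, AdicRing.TopFinitePresentation R I (AdicRing.CLoc I (f i)) := by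
  have hI : I.FG := fg_of_isBase hR
  constructor
  · intro hA i
    haveI := isAdicComplete_compl R I (Localization.Away (f i)) hI
    rw [topFinitePresentation_iff_trunc hR (AdicRing.CLoc I (f i))]
    intro n
    apply quotientMap_finitePresentation_of (AdicRing.CLoc I (f i)) (I ^ (n + 1))
    have h1 : Algebra.FinitePresentation R (A ⧸ (I ^ (n + 1)).map (algebraMap R A)) := by
      obtain ⟨m, φ, hφ, hker⟩ := hA
      exact finitePresentation_trunc R I m hI A φ hφ hker (n + 1)
    haveI h2 := finitePresentation_loc_trunc R A (f i) (I ^ (n + 1)) h1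
    exact Algebra.FinitePresentation.equiv
      (truncComplEquiv R I (Localization.Away (f i)) hI (n + 1))
  · intro h
    rw [topFinitePresentation_iff_trunc hR A]
    intro n
    apply quotientMap_finitePresentation_of A (I ^ (n + 1))
    apply finitePresentation_trunc_of_loc R A f hf (I ^ (n + 1))
    intro i
    haveI := isAdicComplete_compl R I (Localization.Away (f i)) hI
    have h1 := (topFinitePresentation_iff_trunc hR (AdicRing.CLoc I (f i))).mp (h i) n
    haveI h3 := finitePresentation_of_quotientMap (AdicRing.CLoc I (f i)) (I ^ (n + 1)) hI.pow h1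
    exact Algebra.FinitePresentation.equiv
      (truncComplEquiv R I (Localization.Away (f i)) hI (n + 1)).symm

end cloc

end Groth.Agent.Lib.Helper95.Bosch
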