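import Mathlib
import Groth.Agent.Lib.Helper95.BoschJ

namespace Groth.Agent.Lib.Helper95.Bosch

open AdicRing MvPolynomial Groth.Agent.Lib.Helper95.RGNil TensorProduct

universe u v

section bc

variable {A : Type*} [CommRing A] (K : Ideal A) {X Y : Type*} [AddCommGroup X] [Module A X]
  [AddCommGroup Y] [Module A Y]

/-- a linear map which is an isomorphism modulo `K` becomes an isomorphism after `A/K ⊗ -`. -/
theorem baseChange_bijective_of_mod (g : X →ₗ[A] Y)
    (ha : ∀ y : Y, ∃ x : X, y - g x ∈ K • (⊤ : Submodule A Y))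
    (hb : ∀ x : X, g x ∈ K • (⊤ : Submodule A Y) → x ∈ K • (⊤ : Submodule A X)) :
    Function.Bijective (g.baseChange (A ⧸ K)) := by
  have hle : K • (⊤ : Submodule A X) ≤ (K • (⊤ : Submodule A Y)).comap g := by
    rw [← Submodule.map_le_iff_le_comap, Submodule.map_smul'']
    exact Submodule.smul_mono le_rfl le_top
  let gb : (X ⧸ K • (⊤ : Submodule A X)) →ₗ[A] (Y ⧸ K • (⊤ : Submodule A Y)) :=
    Submodule.mapQ _ _ g hle
  have hgb : Function.Bijective gb := by
    constructor
    · rw [injective_iff_map_eq_zero]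
      intro z hz
      obtain ⟨x, rfl⟩ := Submodule.Quotient.mk_surjective _ z
      rw [Submodule.mapQ_apply, Submodule.Quotient.mk_eq_zero] at hz
      rw [Submodule.Quotient.mk_eq_zero]
      exact hb x hz
    · intro z
      obtain ⟨y, rfl⟩ := Submodule.Quotient.mk_surjective _ z
      obtain ⟨x, hx⟩ := ha y
      refine ⟨Submodule.Quotient.mk x, ?_⟩
      rw [Submodule.mapQ_apply]
      exact ((Submodule.Quotient.eq _).mpr hx).symm
  have hsq : ∀ z : (A ⧸ K) ⊗[A] X, quotTensorEquivQuotSMul Y K (g.baseChange (A ⧸ K) z) =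
      gb (quotTensorEquivQuotSMul X K z) := by
    intro z
    induction z with
    | zero => simp
    | add z w hz hw => simp only [map_add, hz, hw]
    | tmul a x =>
      obtain ⟨r, rfl⟩ := Ideal.Quotient.mk_surjective a
      rw [LinearMap.baseChange_tmul, quotTensorEquivQuotSMul_mk_tmul,
        quotTensorEquivQuotSMul_mk_tmul, Submodule.mapQ_apply, map_smul]
  have heq : (g.baseChange (A ⧸ K) : (A ⧸ K) ⊗[A] X → (A ⧸ K) ⊗[A] Y) =
      (quotTensorEquivQuotSMul Y K).symm ∘ gb ∘ (quotTensorEquivQuotSMul X K) := by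
    funext z
    simp only [Function.comp_apply]
    rw [← hsq, LinearEquiv.symm_apply_apply]
  rw [heq]
  exact (quotTensorEquivQuotSMul Y K).symm.bijective.comp
    (hgb.comp (quotTensorEquivQuotSMul X K).bijective)

end bc

section flatcompl

variable {R : Type u} [CommRing R] {I : Ideal R} (A : Type u) [CommRing A] [Algebra R A]
  (C : Type u) [CommRing C] [Algebra R C] [Algebra A C] [IsScalarTower R A C]

instance : IsScalarTower A C (Compl R I C) :=
  IsScalarTower.of_algebraMap_eq (fun _ => rfl)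

instance : IsScalarTower R A (Compl R I C) :=
  IsScalarTower.of_algebraMap_eq (fun r => by
    rw [IsScalarTower.algebraMap_apply R C (Compl R I C),
      IsScalarTower.algebraMap_apply A C (Compl R I C), ← IsScalarTower.algebraMap_apply R A C])

theorem smul_top_eq_map_pow (k : ℕ) (Y : Type*) [CommRing Y] [Algebra R Y] [Algebra A Y]
    [IsScalarTower R A Y] (y : Y) :
    y ∈ ((I ^ k).map (algebraMap R A)) • (⊤ : Submodule A Y) ↔
      y ∈ (I ^ k).map (algebraMap R Y) := by
  rw [Ideal.smul_top_eq_map, Ideal.map_map, ← IsScalarTower.algebraMap_eq]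
  rfl

theorem baseChange_compl_bijective (hI : I.FG) (k : ℕ) :
    Function.Bijective (((IsScalarTower.toAlgHom A C (Compl R I C)).toLinearMap).baseChange
      (A ⧸ (I ^ k).map (algebraMap R A))) := by
  apply baseChange_bijective_of_mod
  · intro y
    obtain ⟨c, hc⟩ := exists_sub_mem_map_pow_compl R I C hI k y
    refine ⟨c, ?_⟩
    rw [smul_top_eq_map_pow]
    exact hc
  · intro c hc
    rw [smul_top_eq_map_pow] at hc ⊢
    exact (algebraMap_mem_map_pow_compl_iff R I C hI k c).mp hc

theorem flat_trunc_compl (hI : I.FG) [Module.Flat A C] (k : ℕ) :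
    Module.Flat (A ⧸ (I ^ k).map (algebraMap R A))
      ((A ⧸ (I ^ k).map (algebraMap R A)) ⊗[A] Compl R I C) :=
  Module.Flat.of_linearEquiv
    (LinearEquiv.ofBijective _ (baseChange_compl_bijective A C hI k)).symm

/-- the completion of a flat `A`-algebra is flat, provided it is topologically of finite type. -/
theorem flat_compl (hR : AdicRing.IsBase R I) (hA : AdicRing.TopFiniteType R I A)
    (hB : AdicRing.TopFiniteType R I (Compl R I C)) [Module.Flat A C] :
    Module.Flat A (Compl R I C) := by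
  have hI : I.FG := fg_of_isBase hR
  apply flat_of_forall_flat_trunc hR A hA (Compl R I C) hB (Compl R I C)
  intro n
  exact flat_trunc_compl A C hI (n + 1)

end flatcompl

section cloc

variable {R : Type u} [CommRing R] {I : Ideal R}

theorem flat_pi_fin {A : Type*} [CommRing A] {r : ℕ} (M : Fin r → Type*)
    [∀ i, AddCommGroup (M i)] [∀ i, Module A (M i)] [∀ i, Module.Flat A (M i)] :
    Module.Flat A (∀ i, M i) :=
  Module.Flat.of_linearEquiv (DirectSum.linearEquivFunOnFintype A (Fin r) M).symm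

theorem topFiniteType_cLoc (hI : I.FG) (A : Type u) [CommRing A] [Algebra R A]
    (hA : AdicRing.TopFiniteType R I A) (f : A) :
    AdicRing.TopFiniteType R I (AdicRing.CLoc I f) :=
  topFiniteType_compl hI (Localization.Away f)
    (finiteType_loc_trunc R A f I (finiteType_quotient_of_topFiniteType hI A hA))

theorem flat_cLoc (hR : AdicRing.IsBase R I) (A : Type u) [CommRing A] [Algebra R A]
    (hA : AdicRing.TopFiniteType R I A) (f : A) :
    Module.Flat A (AdicRing.CLoc I f) :=
  flat_compl A (Localization.Away f) hR hA (topFiniteType_cLoc (fg_of_isBase hR) A hA f)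

/-- if `𝔪 ⊇ I A` is a prime not containing `f` then `𝔪 A⟨f⁻¹⟩ ≠ A⟨f⁻¹⟩`. -/
theorem smul_top_cLoc_ne_top (A : Type u) [CommRing A] [Algebra R A] (f : A)
    (𝔪 : Ideal A) [𝔪.IsPrime] (hle : I.map (algebraMap R A) ≤ 𝔪) (hf : f ∉ 𝔪) :
    𝔪 • (⊤ : Submodule A (AdicRing.CLoc I f)) ≠ ⊤ := by
  intro htop
  set L := Localization.Away f with hL
  set J : Ideal L := I.map (algebraMap R L) with hJ
  set T : Ideal (L ⧸ J) := (𝔪.map (algebraMap A L)).map (Ideal.Quotient.mk J) with hT
  have h1 : (1 : AdicRing.CLoc I f) ∈ 𝔪 • (⊤ : Submodule A (AdicRing.CLoc I f)) := by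
    rw [htop]; trivial
  have key : ∀ b ∈ 𝔪 • (⊤ : Submodule A (AdicRing.CLoc I f)),
      AdicCompletion.evalOneₐ J b ∈ T := by
    intro b hb
    refine Submodule.smul_induction_on hb ?_ ?_
    · intro a ha b' _
      have : a • b' = algebraMap L (AdicRing.CLoc I f) (algebraMap A L a) * b' := by
        rw [← IsScalarTower.algebraMap_apply A L, Algebra.smul_def]
      rw [this, map_mul, AlgHom.commutes]
      refine T.mul_mem_right _ ?_
      rw [hT, Ideal.Quotient.algebraMap_eq]
      exact Ideal.mem_map_of_mem _ (Ideal.mem_map_of_mem _ ha)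
    · intro x y hx hy
      rw [map_add]
      exact T.add_mem hx hy
  have h2 := key 1 h1
  rw [map_one] at h2
  have h3 : T = ⊤ := (Ideal.eq_top_iff_one T).mpr h2
  have h4 : Ideal.comap (Ideal.Quotient.mk J) T = ⊤ := by rw [h3, Ideal.comap_top]
  rw [hT, Ideal.comap_map_of_surjective _ Ideal.Quotient.mk_surjective,
    ← RingHom.ker_eq_comap_bot, Ideal.mk_ker] at h4
  have h5 : J ≤ 𝔪.map (algebraMap A L) := by
    rw [hJ, IsScalarTower.algebraMap_eq R A L, ← Ideal.map_map]
    exact Ideal.map_mono hle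
  rw [sup_eq_left.mpr h5] at h4
  have h6 := (IsLocalization.map_algebraMap_ne_top_iff_disjoint (Submonoid.powers f) L 𝔪).mpr (by
    rw [Set.disjoint_left]
    rintro _ ⟨n, rfl⟩ hn
    exact hf (Ideal.IsPrime.mem_of_pow_mem inferInstance n hn))
  exact h6 h4

/-- Bosch FRG 7.3/11 (S11533). -/
theorem flat_cLoc_and_faithfullyFlat_pi_cLoc (hR : AdicRing.IsBase R I)
    (A : Type u) [CommRing A] [Algebra R A] (hA : AdicRing.TopFiniteType R I A)
    (r : ℕ) (f : Fin r → A) (hf : Ideal.span (Set.range f) = ⊤) :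
    (∀ i, Module.Flat A (AdicRing.CLoc I (f i))) ∧
      Module.FaithfullyFlat A (∀ i, AdicRing.CLoc I (f i)) := by
  have hflat : ∀ i, Module.Flat A (AdicRing.CLoc I (f i)) := fun i => flat_cLoc hR A hA (f i)
  refine ⟨hflat, ?_⟩
  haveI : Module.Flat A (∀ i, AdicRing.CLoc I (f i)) := flat_pi_fin _
  refine ⟨fun 𝔪 h𝔪 htop => ?_⟩
  have hle : I.map (algebraMap R A) ≤ 𝔪 := map_le_of_isMaximal hR A hA 𝔪
  have hex : ∃ i, f i ∉ 𝔪 := by
    by_contra hcon0
    have hcon : ∀ i, f i ∈ 𝔪 := fun i => by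
      by_contra h
      exact hcon0 ⟨i, h⟩
    have : Ideal.span (Set.range f) ≤ 𝔪 := by
      rw [Ideal.span_le]
      rintro _ ⟨i, rfl⟩
      exact hcon i
    rw [hf] at this
    exact h𝔪.ne_top (top_le_iff.mp this)
  obtain ⟨i, hi⟩ := hex
  haveI : 𝔪.IsPrime := h𝔪.isPrime
  apply smul_top_cLoc_ne_top (I := I) A (f i) 𝔪 hle hi
  rw [eq_top_iff]
  intro b _
  classical
  have hb : (Pi.single i b : ∀ i, AdicRing.CLoc I (f i)) ∈
      𝔪 • (⊤ : Submodule A (∀ i, AdicRing.CLoc I (f i))) := by rw [htop]; trivial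
  have := map_mem_smul_top 𝔪
    (LinearMap.proj (R := A) (φ := fun i => AdicRing.CLoc I (f i)) i) hb
  simpa using this

end cloc

end Groth.Agent.Lib.Helper95.Bosch
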