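import Mathlib
import Groth.Agent.Lib.Helper95.BoschK

namespace Groth.Agent.Lib.Helper95.Bosch

open AdicRing MvPolynomial Groth.Agent.Lib.Helper95.RGNil TensorProduct

universe u v

section adm

variable {R : Type u} [CommRing R] {I : Ideal R}

/-- flat base change preserves the absence of `I`-power torsion (for `I` finitely generated). -/
theorem noPowTorsion_of_flat (hI : I.FG) (A : Type*) [CommRing A] [Algebra R A]
    (B : Type*) [CommRing B] [Algebra R B] [Algebra A B] [IsScalarTower R A B] [Module.Flat A B]
    (h : AdicRing.NoPowTorsion I A) : AdicRing.NoPowTorsion I B := by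
  classical
  intro b n hb
  obtain ⟨s, g, hg⟩ := Submodule.fg_iff_exists_fin_generating_family.mp (hI.pow (n := n))
  have hgmem : ∀ j, g j ∈ I ^ n := fun j => by
    have : g j ∈ Submodule.span R (Set.range g) := Submodule.subset_span ⟨j, rfl⟩
    rwa [hg] at this
  let u : A →ₗ[A] (Fin s → A) := LinearMap.pi (fun j => (algebraMap R A (g j)) • LinearMap.id)
  have hu : ∀ y j, u y j = algebraMap R A (g j) * y := fun y j => rfl
  have huinj : Function.Injective u := by
    rw [injective_iff_map_eq_zero]
    intro y hy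
    apply h y n
    intro a ha
    rw [← hg] at ha
    refine Submodule.span_induction ?_ ?_ ?_ ?_ ha
    · rintro _ ⟨j, rfl⟩
      have := congrFun hy j
      rw [hu] at this
      rw [Algebra.smul_def]
      exact this
    · rw [zero_smul]
    · intro a₁ a₂ _ _ h₁ h₂
      rw [add_smul, h₁, h₂, add_zero]
    · intro c a₁ _ h₁
      rw [smul_eq_mul, mul_smul, h₁, smul_zero]
  have hinj : Function.Injective (u.lTensor B) :=
    Module.Flat.lTensor_preserves_injective_linearMap u huinj
  have hz : (u.lTensor B) (b ⊗ₜ[A] (1 : A)) = 0 := by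
    rw [LinearMap.lTensor_tmul]
    have h1 : u 1 = ∑ j, (algebraMap R A (g j)) • (Pi.single j (1 : A) : Fin s → A) := by
      funext j
      rw [hu, mul_one, Finset.sum_apply]
      simp [Pi.single_apply]
    rw [h1, TensorProduct.tmul_sum]
    apply Finset.sum_eq_zero
    intro j _
    rw [TensorProduct.tmul_smul, TensorProduct.smul_tmul']
    have : (algebraMap R A (g j)) • b = 0 := by
      rw [algebraMap_smul]
      exact hb (g j) (hgmem j)
    rw [this, TensorProduct.zero_tmul]
  have hz0 : b ⊗ₜ[A] (1 : A) = 0 := by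
    apply hinj
    rw [hz, map_zero]
  have := congrArg (TensorProduct.rid A B) hz0
  simpa using this

/-- Bosch FRG 7.3/11 (S11536). -/
theorem admissible_iff_forall_cLoc (hR : AdicRing.IsBase R I)
    (A : Type u) [CommRing A] [Algebra R A] [IsAdicComplete (I.map (algebraMap R A)) A]
    (r : ℕ) (f : Fin r → A) (hf : Ideal.span (Set.range f) = ⊤) :
    AdicRing.Admissible R I A ↔ ∀ i, AdicRing.Admissible R I (AdicRing.CLoc I (f i)) := by
  have hI : I.FG := fg_of_isBase hR
  constructor
  · rintro ⟨hfp, hnt⟩ i
    have hft : AdicRing.TopFiniteType R I A := by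
      obtain ⟨n, φ, hφ, -⟩ := hfp
      exact ⟨n, φ, hφ⟩
    refine ⟨(topFinitePresentation_iff_forall_cLoc hR A r f hf).mp hfp i, ?_⟩
    haveI : Module.Flat A (AdicRing.CLoc I (f i)) := flat_cLoc hR A hft (f i)
    exact noPowTorsion_of_flat hI A (AdicRing.CLoc I (f i)) hnt
  · intro h
    have hfp : AdicRing.TopFinitePresentation R I A :=
      (topFinitePresentation_iff_forall_cLoc hR A r f hf).mpr (fun i => (h i).1)
    have hft : AdicRing.TopFiniteType R I A := by
      obtain ⟨n, φ, hφ, -⟩ := hfp
      exact ⟨n, φ, hφ⟩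
    refine ⟨hfp, ?_⟩
    haveI := (flat_cLoc_and_faithfullyFlat_pi_cLoc hR A hft r f hf).2
    intro x n hx
    have h0 : ∀ i, algebraMap A (AdicRing.CLoc I (f i)) x = 0 := by
      intro i
      apply (h i).2 _ n
      intro a ha
      rw [← algebraMap_smul A a, Algebra.smul_def, ← map_mul, ← Algebra.smul_def a x, hx a ha,
        map_zero]
    have hsm : ∀ b : (∀ i, AdicRing.CLoc I (f i)), x • b = (0 : A) • b := by
      intro b
      funext i
      show x • b i = (0 : A) • b i
      rw [Algebra.smul_def, h0 i, zero_mul, zero_smul]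
    exact FaithfulSMul.eq_of_smul_eq_smul hsm

end adm

end Groth.Agent.Lib.Helper95.Bosch
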