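import Mathlib
import Groth.Agent.Lib.Helper95.BoschL

namespace Groth.Agent.Lib.Helper95.Bosch

open AdicRing MvPolynomial Groth.Agent.Lib.Helper95.RGNil TensorProduct

universe u v

section oftp

variable (R : Type u) [CommRing R] (I : Ideal R) (B : Type u) [CommRing B] [Algebra R B]
  (M : Type u) [AddCommGroup M] [Module B M]

/-- Step A: elements of `B̂ ⊗ M` are approximated by `1 ⊗ m`. -/
theorem exists_one_tmul_sub_mem (hI : I.FG) (k : ℕ) (z : Compl R I B ⊗[B] M) :
    ∃ m : M, z - (1 : Compl R I B) ⊗ₜ[B] m ∈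
      ((I ^ k).map (algebraMap R (Compl R I B))) •
        (⊤ : Submodule (Compl R I B) (Compl R I B ⊗[B] M)) := by
  induction z with
  | zero => exact ⟨0, by simp⟩
  | add z w hz hw =>
    obtain ⟨m₁, h₁⟩ := hz
    obtain ⟨m₂, h₂⟩ := hw
    refine ⟨m₁ + m₂, ?_⟩
    have : z + w - (1 : Compl R I B) ⊗ₜ[B] (m₁ + m₂) =
        (z - (1 : Compl R I B) ⊗ₜ[B] m₁) + (w - (1 : Compl R I B) ⊗ₜ[B] m₂) := by
      rw [TensorProduct.tmul_add]; abel
    rw [this]
    exact Submodule.add_mem _ h₁ h₂
  | tmul b m =>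
    obtain ⟨c, hc⟩ := exists_sub_mem_map_pow_compl R I B hI k b
    refine ⟨c • m, ?_⟩
    have : b ⊗ₜ[B] m - (1 : Compl R I B) ⊗ₜ[B] (c • m) =
        (b - algebraMap B (Compl R I B) c) • ((1 : Compl R I B) ⊗ₜ[B] m) := by
      rw [TensorProduct.smul_tmul', smul_eq_mul, mul_one, TensorProduct.sub_tmul,
        ← TensorProduct.smul_tmul, Algebra.smul_def, mul_one]
    rw [this]
    exact Submodule.smul_mem_smul hc trivial

/-- Step B: elements of `I^k M̂` have vanishing `k`-th component. -/
theorem val_eq_zero_of_mem_smul_top (hI : I.FG) (k : ℕ)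
    (y : AdicCompletion (I.map (algebraMap R B)) M)
    (hy : y ∈ ((I ^ k).map (algebraMap R (Compl R I B))) •
      (⊤ : Submodule (Compl R I B) (AdicCompletion (I.map (algebraMap R B)) M))) :
    y.val k = 0 := by
  refine Submodule.smul_induction_on hy ?_ ?_
  · intro c hc x _
    rw [AdicCompletion.smul_eval, (mem_map_pow_compl_iff R I B hI k c).mp hc, zero_smul]
  · intro x₁ x₂ h₁ h₂
    rw [AdicCompletion.val_add_apply, h₁, h₂, add_zero]

/-- Step D. -/
theorem one_tmul_mem_of_mem (k : ℕ) (m : M)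
    (hm : m ∈ ((I.map (algebraMap R B)) ^ k) • (⊤ : Submodule B M)) :
    (1 : Compl R I B) ⊗ₜ[B] m ∈ ((I ^ k).map (algebraMap R (Compl R I B))) •
        (⊤ : Submodule (Compl R I B) (Compl R I B ⊗[B] M)) := by
  refine Submodule.smul_induction_on hm ?_ ?_
  · intro a ha m' _
    have : (1 : Compl R I B) ⊗ₜ[B] (a • m') =
        (algebraMap B (Compl R I B) a) • ((1 : Compl R I B) ⊗ₜ[B] m') := by
      rw [TensorProduct.smul_tmul', smul_eq_mul, mul_one, ← TensorProduct.smul_tmul,
        Algebra.smul_def, mul_one]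
    rw [this]
    refine Submodule.smul_mem_smul ?_ trivial
    rw [map_algebraMap_compl, Ideal.map_pow]
    exact Ideal.mem_map_of_mem _ ha
  · intro m₁ m₂ h₁ h₂
    rw [TensorProduct.tmul_add]
    exact Submodule.add_mem _ h₁ h₂

/-- elements in the kernel of `ofTensorProduct` lie in all `I^k (B̂ ⊗ M)`. -/
theorem mem_smul_top_of_ofTensorProduct_eq_zero (hI : I.FG) (z : Compl R I B ⊗[B] M)
    (hz : AdicCompletion.ofTensorProduct (I.map (algebraMap R B)) M z = 0) (k : ℕ) :
    z ∈ ((I ^ k).map (algebraMap R (Compl R I B))) •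
        (⊤ : Submodule (Compl R I B) (Compl R I B ⊗[B] M)) := by
  obtain ⟨m, hm⟩ := exists_one_tmul_sub_mem R I B M hI k z
  have h1 := map_mem_smul_top ((I ^ k).map (algebraMap R (Compl R I B)))
    (AdicCompletion.ofTensorProduct (I.map (algebraMap R B)) M) hm
  have h2 := val_eq_zero_of_mem_smul_top R I B M hI k _ h1
  rw [map_sub, hz, zero_sub, AdicCompletion.val_neg_apply, neg_eq_zero,
    AdicCompletion.ofTensorProduct_tmul, one_smul, AdicCompletion.of_apply,
    Submodule.mkQ_apply, Submodule.Quotient.mk_eq_zero] at h2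
  have h3 := one_tmul_mem_of_mem R I B M k m h2
  have : z = (z - (1 : Compl R I B) ⊗ₜ[B] m) + (1 : Compl R I B) ⊗ₜ[B] m := by abel
  rw [this]
  exact Submodule.add_mem _ hm h3

end oftp

section ft

variable (R : Type u) [CommRing R] (A : Type u) [CommRing A] [Algebra R A]
  (B : Type u) [CommRing B] [Algebra R B] [Algebra A B] [IsScalarTower R A B]

instance isScalarTower_quotient_map (K : Ideal A) :
    IsScalarTower R (A ⧸ K) (B ⧸ K.map (algebraMap A B)) :=
  IsScalarTower.of_algebraMap_eq (fun r => by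
    rw [IsScalarTower.algebraMap_apply R B (B ⧸ K.map (algebraMap A B)),
      IsScalarTower.algebraMap_apply R A (A ⧸ K),
      IsScalarTower.algebraMap_apply R A B]
    rfl)

theorem finiteType_quotient_of_finiteType [Algebra.FiniteType A B] (K₀ : Ideal R)
    (h : Algebra.FiniteType R (A ⧸ K₀.map (algebraMap R A))) :
    Algebra.FiniteType R (B ⧸ K₀.map (algebraMap R B)) := by
  haveI : Algebra.FiniteType (A ⧸ K₀.map (algebraMap R A))
      (B ⧸ (K₀.map (algebraMap R A)).map (algebraMap A B)) :=
    Algebra.FiniteType.of_restrictScalars_finiteType A _ _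
  have h2 : Algebra.FiniteType R (B ⧸ (K₀.map (algebraMap R A)).map (algebraMap A B)) :=
    Algebra.FiniteType.trans (S := A ⧸ K₀.map (algebraMap R A)) h inferInstance
  refine Algebra.FiniteType.equiv h2 (Ideal.quotientEquivAlgOfEq R ?_)
  rw [Ideal.map_map, ← IsScalarTower.algebraMap_eq]

end ft

section main

variable {R : Type u} [CommRing R] {I : Ideal R}

/-- the completion of a finite type algebra over a top. f.t. algebra is top. f.t. -/
theorem topFiniteType_compl_of_finiteType (hI : I.FG)
    (A : Type u) [CommRing A] [Algebra R A] (hA : AdicRing.TopFiniteType R I A)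
    (B : Type u) [CommRing B] [Algebra R B] [Algebra A B] [IsScalarTower R A B]
    [Algebra.FiniteType A B] : AdicRing.TopFiniteType R I (Compl R I B) :=
  topFiniteType_compl hI B
    (finiteType_quotient_of_finiteType R A B I (finiteType_quotient_of_topFiniteType hI A hA))

/-- Bosch FRG 8.2/1 (S11537). -/
theorem ofTensorProduct_bijective_of_finiteType (hR : AdicRing.IsBase R I)
    (A : Type u) [CommRing A] [Algebra R A] (hA : AdicRing.TopFiniteType R I A)
    (B : Type u) [CommRing B] [Algebra R B] [Algebra A B] [IsScalarTower R A B]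
    [Algebra.FiniteType A B]
    (M : Type u) [AddCommGroup M] [Module B M] [Module.Finite B M] :
    Function.Bijective
      (AdicCompletion.ofTensorProduct (I.map (algebraMap R B)) M) := by
  have hI : I.FG := fg_of_isBase hR
  refine ⟨?_, AdicCompletion.ofTensorProduct_surjective_of_finite _ M⟩
  rw [injective_iff_map_eq_zero]
  intro z hz
  have hB := topFiniteType_compl_of_finiteType hI A hA B
  have hH := iInf_pow_smul_eq_bot hR (Compl R I B) hB (Compl R I B ⊗[B] M)
  have hz0 : z ∈ (⨅ i : ℕ, (I.map (algebraMap R (Compl R I B))) ^ i • ⊤ :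
      Submodule (Compl R I B) (Compl R I B ⊗[B] M)) := by
    rw [Submodule.mem_iInf]
    intro k
    rw [← Ideal.map_pow]
    exact mem_smul_top_of_ofTensorProduct_eq_zero R I B M hI z hz k
  rw [hH] at hz0
  exact (Submodule.mem_bot _).mp hz0

end main

end Groth.Agent.Lib.Helper95.Bosch
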