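import Mathlib
import Groth.Agent.Lib.Helper95.BoschM

namespace Groth.Agent.Lib.Helper95.Bosch

open AdicRing MvPolynomial Groth.Agent.Lib.Helper95.RGNil TensorProduct

universe u v

section adjoin

variable {R : Type u} [CommRing R] [IsDomain R] [ValuationRing R] [Ring.KrullDimLE 1 R]

theorem isBase_of_valuationRing (t : R) (ht : t ≠ 0) [IsAdicComplete (Ideal.span {t}) R] :
    AdicRing.IsBase R (Ideal.span {t}) :=
  ⟨inferInstance, Or.inr ⟨inferInstance, inferInstance, inferInstance, t, ht, rfl⟩⟩

/-- a finite algebra over a top. f.t. algebra is top. f.t. -/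
theorem topFiniteType_of_finite {I : Ideal R} (hR : AdicRing.IsBase R I)
    (A : Type u) [CommRing A] [Algebra R A] (hA : AdicRing.TopFiniteType R I A)
    (A' : Type u) [CommRing A'] [Algebra R A'] [Algebra A A'] [IsScalarTower R A A']
    [Module.Finite A A'] : AdicRing.TopFiniteType R I A' := by
  have hI : I.FG := fg_of_isBase hR
  haveI : IsAdicComplete (I.map (algebraMap R A')) A' := by
    rw [IsAdicComplete.map_algebraMap_iff]
    exact isAdicComplete_of_finite_topFiniteType hR A hA A'
  apply topFiniteType_of_finiteType_quotient hI A'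
  haveI : Algebra.FiniteType A A' := Module.Finite.finiteType A'
  exact finiteType_quotient_of_finiteType R A A' I (finiteType_quotient_of_topFiniteType hI A hA)

/-- Bosch FRG 8.? (S13352). -/
theorem admissible_adjoin_of_isIntegral (t : R) (ht : t ≠ 0) [IsAdicComplete (Ideal.span {t}) R]
    (A : Type u) [CommRing A] [Algebra R A] (hA : AdicRing.Admissible R (Ideal.span {t}) A)
    (n : ℕ) (f : Fin n → A ⊗[R] FractionRing R) (hf : ∀ i, IsIntegral A (f i)) :
    AdicRing.Admissible R (Ideal.span {t}) ↥(Algebra.adjoin A (Set.range f)) ∧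
      Module.Finite A ↥(Algebra.adjoin A (Set.range f)) := by
  have hR := isBase_of_valuationRing t ht
  have hft : AdicRing.TopFiniteType R (Ideal.span {t}) A := by
    obtain ⟨⟨m, φ, hφ, -⟩, -⟩ := hA
    exact ⟨m, φ, hφ⟩
  have hfin : Module.Finite A ↥(Algebra.adjoin A (Set.range f)) := by
    have := fg_adjoin_of_finite (R := A) (Set.finite_range f) (by
      rintro _ ⟨i, rfl⟩
      exact hf i)
    exact Module.Finite.of_fg this
  refine ⟨?_, hfin⟩
  have hft' : AdicRing.TopFiniteType R (Ideal.span {t}) ↥(Algebra.adjoin A (Set.range f)) :=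
    topFiniteType_of_finite hR A hft _
  have hnt : AdicRing.NoPowTorsion (Ideal.span {t}) ↥(Algebra.adjoin A (Set.range f)) := by
    intro x k hx
    have h1 : t ^ k • x = 0 := hx _ (Ideal.pow_mem_pow (Ideal.mem_span_singleton_self t) k)
    have h2 : t ^ k • (x : A ⊗[R] FractionRing R) = 0 := congrArg Subtype.val h1
    apply Subtype.ext
    show (x : A ⊗[R] FractionRing R) = 0
    have htk : algebraMap R (FractionRing R) (t ^ k) ≠ 0 := by
      rw [Ne, map_eq_zero_iff _ (IsFractionRing.injective R (FractionRing R))]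
      exact pow_ne_zero k ht
    have h3 : ((1 : A) ⊗ₜ[R] (algebraMap R (FractionRing R) (t ^ k))⁻¹) *
        (t ^ k • (x : A ⊗[R] FractionRing R)) = (x : A ⊗[R] FractionRing R) := by
      rw [mul_smul_comm, ← smul_mul_assoc, TensorProduct.smul_tmul', TensorProduct.smul_tmul,
        Algebra.smul_def (t ^ k), mul_inv_cancel₀ htk]
      exact one_mul _
    rw [← h3, h2, mul_zero]
  exact ⟨topFinitePresentation_of_noPowTorsion hR _ hft' hnt, hnt⟩

end adjoin

end Groth.Agent.Lib.Helper95.Bosch
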