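import Mathlib
import Groth.Agent.Lib.Helper95.BoschN

namespace Groth.Agent.Lib.Helper95.RGNil

open IsLocalRing TensorProduct

universe u

/-- First half of the engine, without completeness: the kernel of a presentation of an `R`-flat
module is finitely generated modulo `t`. -/
theorem exists_fg_le_ker_le_sup_smul {R : Type u} {S M F : Type*} [CommRing R] [CommRing S]
    [Algebra R S] (t : R) [IsLocalRing (R ⧸ Ideal.span {t})]
    (hnil : ∀ x ∈ maximalIdeal (R ⧸ Ideal.span {t}), IsNilpotent x)
    [hft : Algebra.FiniteType (R ⧸ Ideal.span {t}) (S ⧸ (Ideal.span {t}).map (algebraMap R S))]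
    [AddCommGroup M] [Module S M] [Module R M] [IsScalarTower R S M]
    [Module.Flat R M] (htf : ∀ x : M, t • x = 0 → x = 0)
    [AddCommGroup F] [Module S F] [Module.Finite S F]
    (lc : F →ₗ[S] M) (hlcsurj : Function.Surjective lc) :
    ∃ N' : Submodule S F, N'.FG ∧ N' ≤ LinearMap.ker lc ∧
      LinearMap.ker lc ≤ N' ⊔ (Ideal.span {algebraMap R S t}) • LinearMap.ker lc := by
  classical
  haveI : Module.Finite S M := Module.Finite.of_surjective lc hlcsurj
  set I : Ideal R := Ideal.span {t} with hI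
  set J : Ideal S := I.map (algebraMap R S) with hJ
  have hJspan : J = Ideal.span {algebraMap R S t} := by
    rw [hJ, hI, Ideal.map_span, Set.image_singleton]
  set t' : S := algebraMap R S t with ht'
  letI : Module (R ⧸ I) (M ⧸ (J • ⊤ : Submodule S M)) :=
    Module.compHom _ (algebraMap (R ⧸ I) (S ⧸ J))
  haveI : IsScalarTower (R ⧸ I) (S ⧸ J) (M ⧸ (J • ⊤ : Submodule S M)) := ⟨fun a b x => by
    show (a • b) • x = algebraMap (R ⧸ I) (S ⧸ J) a • (b • x)
    rw [Algebra.smul_def, mul_smul]⟩
  haveI : IsScalarTower R (R ⧸ I) (M ⧸ (J • ⊤ : Submodule S M)) := ⟨fun r a x => by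
    obtain ⟨c, rfl⟩ := Ideal.Quotient.mk_surjective a
    obtain ⟨m, rfl⟩ := Submodule.Quotient.mk_surjective (J • ⊤ : Submodule S M) x
    show Submodule.Quotient.mk (p := (J • ⊤ : Submodule S M)) ((algebraMap R S (r • c)) • m) =
      Submodule.Quotient.mk (p := (J • ⊤ : Submodule S M)) (r • ((algebraMap R S c) • m))
    congr 1
    rw [smul_eq_mul, map_mul, mul_smul, algebraMap_smul]⟩
  haveI : Module.Flat (R ⧸ I) (M ⧸ (J • ⊤ : Submodule S M)) := flat_quotient_of_flat I
  haveI : Module.Finite (S ⧸ J) (M ⧸ (J • ⊤ : Submodule S M)) :=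
    Module.Finite.of_restrictScalars_finite S (S ⧸ J) _
  have hfp : Module.FinitePresentation (S ⧸ J) (M ⧸ (J • ⊤ : Submodule S M)) :=
    finitePresentation_of_flat_of_finiteType hnil (S ⧸ J) _
  haveI : Module.FinitePresentation S (S ⧸ J) := by
    refine Module.finitePresentation_of_surjective (Submodule.mkQ J) (Submodule.mkQ_surjective J) ?_
    rw [Submodule.ker_mkQ, hJspan]
    exact ⟨{algebraMap R S t}, by rw [Finset.coe_singleton]⟩
  haveI hfpS : Module.FinitePresentation S (M ⧸ (J • ⊤ : Submodule S M)) :=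
    Module.FinitePresentation.trans S (M ⧸ (J • ⊤ : Submodule S M)) (S ⧸ J)
  set q : F →ₗ[S] (M ⧸ (J • ⊤ : Submodule S M)) :=
    (J • ⊤ : Submodule S M).mkQ ∘ₗ lc with hq
  have hqsurj : Function.Surjective q :=
    (Submodule.mkQ_surjective _).comp hlcsurj
  obtain ⟨r, h, hh⟩ := Submodule.fg_iff_exists_fin_generating_family.mp
    (Module.FinitePresentation.fg_ker q hqsurj)
  have hJM : ∀ m : M, m ∈ (J • ⊤ : Submodule S M) → ∃ m' : M, m = t' • m' := by
    intro m hm
    rw [hJspan, Submodule.ideal_span_singleton_smul] at hm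
    obtain ⟨m', -, rfl⟩ := hm
    exact ⟨m', rfl⟩
  have hy : ∀ i, ∃ y : F, lc (h i) = t' • lc y := by
    intro i
    have hi : h i ∈ LinearMap.ker q := hh ▸ Submodule.subset_span ⟨i, rfl⟩
    rw [LinearMap.mem_ker, hq, LinearMap.comp_apply, Submodule.mkQ_apply,
      Submodule.Quotient.mk_eq_zero] at hi
    obtain ⟨m', hm'⟩ := hJM _ hi
    obtain ⟨y, rfl⟩ := hlcsurj m'
    exact ⟨y, hm'⟩
  choose y hy using hy
  set N := LinearMap.ker lc with hN
  set nn : Fin r → F := fun i => h i - t' • y i with hnn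
  have hnnN : ∀ i, nn i ∈ N := by
    intro i
    rw [hN, LinearMap.mem_ker, hnn, map_sub, map_smul, hy i, sub_self]
  set N' := Submodule.span S (Set.range nn) with hN'
  have hN'N : N' ≤ N := by
    rw [hN', Submodule.span_le]
    rintro _ ⟨i, rfl⟩
    exact hnnN i
  have httf : ∀ x : M, t' • x = 0 → x = 0 := by
    intro x hx
    apply htf
    rw [← algebraMap_smul S t x]
    exact hx
  have hle : N ≤ N' ⊔ J • N := by
    intro x hx
    have hxq : x ∈ LinearMap.ker q := by
      rw [LinearMap.mem_ker, hq, LinearMap.comp_apply, LinearMap.mem_ker.mp hx, map_zero]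
    rw [← hh] at hxq
    obtain ⟨u, hu⟩ := (Submodule.mem_span_range_iff_exists_fun S).mp hxq
    set z : F := ∑ i, u i • y i with hz
    have hxz : x = ∑ i, u i • nn i + t' • z := by
      rw [← hu, hz, Finset.smul_sum, ← Finset.sum_add_distrib]
      apply Finset.sum_congr rfl
      intro i _
      rw [hnn, smul_sub, smul_comm (u i) t' (y i)]
      abel
    have hzN : z ∈ N := by
      rw [hN, LinearMap.mem_ker]
      apply httf
      rw [← map_smul]
      have : t' • z = x - ∑ i, u i • nn i := by rw [hxz]; abel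
      rw [this, map_sub, LinearMap.mem_ker.mp hx, map_sum, zero_sub, neg_eq_zero]
      apply Finset.sum_eq_zero
      intro i _
      rw [map_smul, LinearMap.mem_ker.mp (hnnN i), smul_zero]
    rw [hxz]
    apply Submodule.add_mem_sup
    · exact Submodule.sum_mem _ (fun i _ => Submodule.smul_mem _ _ (Submodule.subset_span ⟨i, rfl⟩))
    · rw [hJspan]
      exact Submodule.smul_mem_smul (Ideal.subset_span rfl) hzN
  refine ⟨N', ⟨Finset.univ.image nn, by simp [hN']⟩, hN'N, ?_⟩
  rw [← hJspan]
  exact hle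

end Groth.Agent.Lib.Helper95.RGNil
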