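import Mathlib
import Groth.Agent.Lib.Helper95.RGNilG

namespace Groth.Agent.Lib.Helper95.Bosch

open AdicRing MvPolynomial Groth.Agent.Lib.Helper95.RGNil TensorProduct

universe u v

section graded

variable {S : Type*} [CommRing S] {σ : Type*}

theorem isHausdorff_mvPolynomial (J : Ideal S) [IsHausdorff J S] :
    IsHausdorff J (MvPolynomial σ S) := by
  haveI : IsHausdorff J ((σ →₀ ℕ) → S) := isHausdorff_pi J (σ →₀ ℕ) S
  refine isHausdorff_of_injective J
    (LinearMap.pi (fun d => MvPolynomial.lcoeff S d) : MvPolynomial σ S →ₗ[S] ((σ →₀ ℕ) → S)) ?_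
  intro p q hpq
  ext d
  exact congrFun hpq d

theorem homogeneousComponent_mul_of_isHomogeneous (G n : MvPolynomial σ S) {e : ℕ}
    (hn : n.IsHomogeneous e) (d : ℕ) :
    homogeneousComponent d (G * n) =
      if e ≤ d then homogeneousComponent (d - e) G * n else 0 := by
  classical
  conv_lhs => rw [← sum_homogeneousComponent G, Finset.sum_mul, map_sum]
  have h1 : ∀ i, homogeneousComponent d (homogeneousComponent i G * n) =
      if d = i + e then homogeneousComponent i G * n else 0 := by
    intro i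
    exact homogeneousComponent_of_mem ((homogeneousComponent_isHomogeneous i G).mul hn)
  simp_rw [h1]
  split_ifs with hed
  · by_cases hr : d - e ∈ Finset.range (G.totalDegree + 1)
    · rw [Finset.sum_eq_single (d - e)]
      · rw [if_pos (by omega)]
      · intro i _ hi
        rw [if_neg (by omega)]
      · intro h; exact absurd hr h
    · rw [Finset.sum_eq_zero]
      · rw [Finset.mem_range, not_lt] at hr
        rw [homogeneousComponent_eq_zero _ _ (by omega), zero_mul]
      · intro i hi
        rw [Finset.mem_range] at hi hr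
        rw [if_neg (by omega)]
  · apply Finset.sum_eq_zero
    intro i _
    rw [if_neg (by omega)]

/-- graded complete Nakayama for homogeneous ideals of polynomial rings -/
theorem eq_span_of_homogeneous_of_le_sup_smul [Finite σ] (t' : S)
    [IsPrecomplete (Ideal.span {t'}) S] [IsHausdorff (Ideal.span {t'}) S]
    (N : Ideal (MvPolynomial σ S)) (hN : ∀ F ∈ N, ∀ d, homogeneousComponent d F ∈ N)
    {ι : Type*} [Finite ι] (h : ι → MvPolynomial σ S) (e : ι → ℕ)
    (hh : ∀ k, (h k).IsHomogeneous (e k)) (hhN : ∀ k, h k ∈ N)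
    (hle : N ≤ Ideal.span (Set.range h) ⊔ Ideal.span {(C t' : MvPolynomial σ S)} • N) :
    N = Ideal.span (Set.range h) := by
  classical
  cases nonempty_fintype ι
  apply le_antisymm _ (by rw [Ideal.span_le]; rintro _ ⟨k, rfl⟩; exact hhN k)
  set J : Ideal S := Ideal.span {t'} with hJ
  haveI : IsHausdorff J (MvPolynomial σ S) := isHausdorff_mvPolynomial J
  -- the degree d pieces
  have key : ∀ d : ℕ, ∀ F ∈ N, F.IsHomogeneous d → F ∈ Ideal.span (Set.range h) := by
    intro d
    set Nd : Submodule S (MvPolynomial σ S) :=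
      (N.restrictScalars S) ⊓ homogeneousSubmodule σ S d with hNd
    set Wd : Submodule S (MvPolynomial σ S) :=
      ⨆ k : {k : ι // e k ≤ d},
        (homogeneousSubmodule σ S (d - e k.1)).map (LinearMap.mulRight S (h k.1)) with hWd
    have hWfg : Wd.FG := by
      apply Submodule.fg_iSup
      intro k
      exact (homogeneousSubmodule_fg σ S _).map _
    have hWspan : Wd ≤ (Ideal.span (Set.range h)).restrictScalars S := by
      rw [hWd, iSup_le_iff]
      rintro ⟨k, hk⟩ _ ⟨G, -, rfl⟩
      show G * h k ∈ Ideal.span (Set.range h)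
      exact Ideal.mul_mem_left _ _ (Ideal.subset_span ⟨k, rfl⟩)
    have hWle : Wd ≤ Nd := by
      rw [hWd, iSup_le_iff]
      rintro ⟨k, hk⟩ _ ⟨G, hG, rfl⟩
      refine ⟨?_, ?_⟩
      · show G * h k ∈ N
        exact Ideal.mul_mem_left _ _ (hhN k)
      · show (G * h k).IsHomogeneous d
        have := IsHomogeneous.mul hG (hh k)
        rwa [Nat.sub_add_cancel hk] at this
    have hNle : Nd ≤ Wd ⊔ J • Nd := by
      rintro F ⟨hFN, hFd⟩
      obtain ⟨A, hA, B, hB, hAB⟩ := Submodule.mem_sup.mp (hle hFN)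
      rw [Submodule.ideal_span_singleton_smul] at hB
      obtain ⟨B', hB', hBeq⟩ := hB
      have hBeq' : (C t' : MvPolynomial σ S) * B' = B := hBeq
      subst hBeq'
      obtain ⟨G, hG⟩ := (Submodule.mem_span_range_iff_exists_fun _).mp hA
      have hF : F = homogeneousComponent d F := (homogeneousComponent_eq_self hFd).symm
      rw [hF, ← hAB, map_add]
      apply Submodule.add_mem_sup
      · rw [← hG, map_sum]
        refine Submodule.sum_mem _ (fun k _ => ?_)
        rw [smul_eq_mul, homogeneousComponent_mul_of_isHomogeneous _ _ (hh k)]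
        split_ifs with hk
        · refine Submodule.mem_iSup_of_mem ⟨k, hk⟩ ?_
          exact ⟨_, homogeneousComponent_mem _ _, rfl⟩
        · exact Submodule.zero_mem _
      · rw [homogeneousComponent_C_mul, ← smul_eq_C_mul]
        refine Submodule.smul_mem_smul (Ideal.subset_span rfl) ⟨?_, homogeneousComponent_mem _ _⟩
        exact hN B' hB' d
    have hEq : Nd = Wd := eq_of_le_sup_smul J Nd Wd hWfg hWle hNle
    intro F hFN hFd
    have : F ∈ Nd := ⟨hFN, hFd⟩
    rw [hEq] at this
    exact hWspan this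
  intro F hF
  rw [← sum_homogeneousComponent F]
  refine Ideal.sum_mem _ (fun d _ => ?_)
  exact key d _ (hN F hF d) (homogeneousComponent_isHomogeneous d F)

end graded

section homog

variable {S : Type*} [CommRing S] {σ : Type*}

/-- dehomogenization `X₀ ↦ 1` -/
noncomputable def dehom : MvPolynomial (Option σ) S →ₐ[S] MvPolynomial σ S :=
  aeval (fun o => Option.elim o 1 X)

/-- the Rees map `F ↦ ∑_d dehom(F_d) T^d` -/
noncomputable def rees : MvPolynomial (Option σ) S →ₐ[S] Polynomial (MvPolynomial σ S) :=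
  aeval (fun o => Polynomial.C (Option.elim o (1 : MvPolynomial σ S) X) * Polynomial.X)

theorem rees_monomial (β : Option σ →₀ ℕ) (c : S) :
    rees (monomial β c) =
      Polynomial.C (dehom (monomial β c) : MvPolynomial σ S) * Polynomial.X ^ β.degree := by
  rw [rees, dehom, aeval_monomial, aeval_monomial]
  simp only [mul_pow]
  rw [Finsupp.prod_mul, map_mul, mul_assoc]
  congr 1
  congr 1
  · rw [map_finsuppProd]
    simp only [map_pow]
  · rw [Finsupp.prod, Finset.prod_pow_eq_pow_sum, Finsupp.degree_apply]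

theorem rees_of_isHomogeneous {F : MvPolynomial (Option σ) S} {d : ℕ} (hF : F.IsHomogeneous d) :
    rees F = Polynomial.C (dehom F : MvPolynomial σ S) * Polynomial.X ^ d := by
  conv_lhs => rw [← F.support_sum_monomial_coeff]
  conv_rhs => rw [← F.support_sum_monomial_coeff]
  rw [map_sum, map_sum, map_sum, Finset.sum_mul]
  apply Finset.sum_congr rfl
  intro β hβ
  rw [rees_monomial]
  congr 2
  have := hF (mem_support_iff.mp hβ)
  have h2 : Finsupp.degree β = Finsupp.weight 1 β := by
    rw [Finsupp.degree_eq_weight_one]; rfl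
  rw [h2]
  exact this

theorem coeff_rees (F : MvPolynomial (Option σ) S) (d : ℕ) :
    (rees F).coeff d = dehom (homogeneousComponent d F) := by
  classical
  conv_lhs => rw [← sum_homogeneousComponent F, map_sum, Polynomial.finset_sum_coeff]
  have h1 : ∀ i, (rees (homogeneousComponent i F)).coeff d =
      if i = d then dehom (homogeneousComponent i F) else 0 := by
    intro i
    rw [rees_of_isHomogeneous (homogeneousComponent_isHomogeneous i F),
      Polynomial.coeff_C_mul, Polynomial.coeff_X_pow]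
    split_ifs with h1 h2 h2
    · rw [mul_one]
    · exact absurd h1.symm h2
    · exact absurd h2.symm h1
    · rw [mul_zero]
  simp_rw [h1]
  rw [Finset.sum_ite_eq']
  split_ifs with hd
  · rfl
  · rw [Finset.mem_range, not_lt] at hd
    rw [homogeneousComponent_eq_zero _ _ (by omega), map_zero]

/-- the homogenization of an ideal -/
noncomputable def homIdeal (𝔮 : Ideal (MvPolynomial σ S)) : Ideal (MvPolynomial (Option σ) S) :=
  Ideal.comap (rees : MvPolynomial (Option σ) S →ₐ[S] Polynomial (MvPolynomial σ S))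
    (Ideal.map Polynomial.C 𝔮)

theorem mem_homIdeal_iff (𝔮 : Ideal (MvPolynomial σ S)) (F : MvPolynomial (Option σ) S) :
    F ∈ homIdeal 𝔮 ↔ ∀ d, dehom (homogeneousComponent d F) ∈ 𝔮 := by
  rw [homIdeal, Ideal.mem_comap, Ideal.mem_map_C_iff]
  simp_rw [← coeff_rees]

theorem mem_homIdeal_of_isHomogeneous (𝔮 : Ideal (MvPolynomial σ S))
    {F : MvPolynomial (Option σ) S} {d : ℕ} (hF : F.IsHomogeneous d) :
    F ∈ homIdeal 𝔮 ↔ dehom F ∈ 𝔮 := by
  classical
  rw [mem_homIdeal_iff]
  constructor
  · intro h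
    have := h d
    rwa [homogeneousComponent_eq_self hF] at this
  · intro h e
    rw [homogeneousComponent_of_mem hF]
    split_ifs
    · exact h
    · rw [map_zero]; exact 𝔮.zero_mem

theorem homogeneousComponent_mem_homIdeal (𝔮 : Ideal (MvPolynomial σ S))
    {F : MvPolynomial (Option σ) S} (hF : F ∈ homIdeal 𝔮) (d : ℕ) :
    homogeneousComponent d F ∈ homIdeal 𝔮 := by
  rw [mem_homIdeal_of_isHomogeneous 𝔮 (homogeneousComponent_isHomogeneous d F)]
  exact (mem_homIdeal_iff 𝔮 F).mp hF d

theorem dehom_mem_of_mem_homIdeal (𝔮 : Ideal (MvPolynomial σ S))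
    {F : MvPolynomial (Option σ) S} (hF : F ∈ homIdeal 𝔮) : dehom F ∈ 𝔮 := by
  rw [← sum_homogeneousComponent F, map_sum]
  exact 𝔮.sum_mem (fun d _ => (mem_homIdeal_iff 𝔮 F).mp hF d)

/-- every polynomial is the dehomogenization of a homogeneous polynomial -/
theorem exists_isHomogeneous_dehom_eq (x : MvPolynomial σ S) :
    ∃ d₀ : ℕ, ∀ d, d₀ ≤ d → ∃ F : MvPolynomial (Option σ) S, F.IsHomogeneous d ∧ dehom F = x := by
  induction x using MvPolynomial.induction_on with
  | C a =>
    refine ⟨0, fun d _ => ⟨C a * X none ^ d, ?_, ?_⟩⟩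
    · have := (isHomogeneous_C (Option σ) a).mul (isHomogeneous_X_pow (R := S) (none : Option σ) d)
      rwa [zero_add] at this
    · simp [dehom]
  | add p q hp hq =>
    obtain ⟨d₁, h₁⟩ := hp
    obtain ⟨d₂, h₂⟩ := hq
    refine ⟨max d₁ d₂, fun d hd => ?_⟩
    obtain ⟨F₁, hF₁, e₁⟩ := h₁ d (le_trans (le_max_left _ _) hd)
    obtain ⟨F₂, hF₂, e₂⟩ := h₂ d (le_trans (le_max_right _ _) hd)
    exact ⟨F₁ + F₂, hF₁.add hF₂, by rw [map_add, e₁, e₂]⟩
  | mul_X p i hp =>
    obtain ⟨d₁, h₁⟩ := hp
    refine ⟨d₁ + 1, fun d hd => ?_⟩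
    obtain ⟨d', rfl⟩ : ∃ d', d = d' + 1 := ⟨d - 1, by omega⟩
    obtain ⟨F₁, hF₁, e₁⟩ := h₁ d' (by omega)
    refine ⟨F₁ * X (some i), hF₁.mul (isHomogeneous_X _ _), ?_⟩
    rw [map_mul, e₁]
    simp [dehom]

theorem map_dehom_homIdeal (𝔮 : Ideal (MvPolynomial σ S)) :
    (homIdeal 𝔮).map (dehom : MvPolynomial (Option σ) S →ₐ[S] MvPolynomial σ S) = 𝔮 := by
  apply le_antisymm
  · rw [Ideal.map_le_iff_le_comap]
    intro F hF
    exact dehom_mem_of_mem_homIdeal 𝔮 hF
  · intro x hx
    obtain ⟨d₀, h⟩ := exists_isHomogeneous_dehom_eq x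
    obtain ⟨F, hF, rfl⟩ := h d₀ le_rfl
    exact Ideal.mem_map_of_mem _ ((mem_homIdeal_of_isHomogeneous 𝔮 hF).mpr hx)

end homog

section core

variable {R : Type u} [CommRing R]

theorem noPowTorsion_of_smul_eq_zero (t : R) {M : Type*} [AddCommGroup M] [Module R M]
    (htf : ∀ x : M, t • x = 0 → x = 0) : AdicRing.NoPowTorsion (Ideal.span {t}) M := by
  intro x k hx
  have h1 : t ^ k • x = 0 := hx _ (Ideal.pow_mem_pow (Ideal.mem_span_singleton_self t) k)
  clear hx
  induction k with
  | zero => simpa using h1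
  | succ k ih =>
    apply ih
    apply htf
    rw [← mul_smul, ← pow_succ']
    exact h1

/-- **Raynaud–Gruson for polynomial rings over topologically finite type algebras** (cyclic
case): a `t`-saturated ideal of `S[X₁, …, X_m]` is finitely generated. -/
theorem fg_of_saturated_mvPolynomial {t : R} (hR : AdicRing.IsBase R (Ideal.span {t}))
    (S : Type u) [CommRing S] [Algebra R S] (hS : AdicRing.TopFiniteType R (Ideal.span {t}) S)
    {m : ℕ} (𝔮 : Ideal (MvPolynomial (Fin m) S))
    (hsat : ∀ x, (C (algebraMap R S t) : MvPolynomial (Fin m) S) * x ∈ 𝔮 → x ∈ 𝔮) : 𝔮.FG := by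
  classical
  have hR' := hR
  obtain ⟨hcomp, hN | hV⟩ := hR
  · haveI := hN.1
    haveI := isNoetherianRing_of_topFiniteType S hS
    exact IsNoetherian.noetherian 𝔮
  obtain ⟨hdom, hval, hdim, t₀, ht₀, hspan⟩ := hV
  have hI : (Ideal.span {t} : Ideal R).FG := ⟨{t}, by rw [Finset.coe_singleton]⟩
  have ht : t ≠ 0 := by
    rintro rfl
    apply ht₀
    have : t₀ ∈ Ideal.span {(0 : R)} := hspan ▸ Ideal.mem_span_singleton_self t₀
    rwa [Ideal.span_singleton_zero, Ideal.mem_bot] at this
  haveI : IsHausdorff (Ideal.span {t}) R := inferInstance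
  haveI : IsLocalRing (R ⧸ Ideal.span {t}) := isLocalRing_quotient_span t
  have hnil := isNilpotent_of_mem_maximalIdeal_quotient t ht
  set t' : S := algebraMap R S t with ht'
  have hc := isAdicComplete_of_topFiniteType hR' S hS
  have hmap : (Ideal.span {t}).map (algebraMap R S) = Ideal.span {t'} := by
    rw [Ideal.map_span, Set.image_singleton]
  rw [hmap] at hc
  haveI : IsPrecomplete (Ideal.span {t'}) S := hc.toIsPrecomplete
  haveI : IsHausdorff (Ideal.span {t'}) S := hc.toIsHausdorff
  set N : Ideal (MvPolynomial (Option (Fin m)) S) := homIdeal 𝔮 with hNdef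
  -- saturation of N
  have hNsat : ∀ F, (C t' : MvPolynomial (Option (Fin m)) S) * F ∈ N → F ∈ N := by
    intro F hF
    rw [hNdef, mem_homIdeal_iff] at hF ⊢
    intro d
    apply hsat
    have := hF d
    rwa [homogeneousComponent_C_mul, map_mul, dehom, aeval_C] at this
  -- the quotient is torsion free
  have htf : ∀ x : MvPolynomial (Option (Fin m)) S ⧸ N, t • x = 0 → x = 0 := by
    intro x hx
    obtain ⟨F, rfl⟩ := Ideal.Quotient.mk_surjective x
    rw [Ideal.Quotient.eq_zero_iff_mem]
    apply hNsat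
    rw [← Ideal.Quotient.eq_zero_iff_mem]
    have hx' : Ideal.Quotient.mk N (t • F) = 0 := hx
    rw [Algebra.smul_def, MvPolynomial.algebraMap_apply] at hx'
    exact hx'
  haveI : Module.Flat R (MvPolynomial (Option (Fin m)) S ⧸ N) :=
    flat_of_noPowTorsion t (noPowTorsion_of_smul_eq_zero t htf)
  haveI hft : Algebra.FiniteType (R ⧸ Ideal.span {t})
      (MvPolynomial (Option (Fin m)) S ⧸
        (Ideal.span {t}).map (algebraMap R (MvPolynomial (Option (Fin m)) S))) := by
    haveI : Algebra.FiniteType R (MvPolynomial (Option (Fin m)) S ⧸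
        (Ideal.span {t}).map (algebraMap R (MvPolynomial (Option (Fin m)) S))) :=
      finiteType_quotient_of_finiteType R S _ (Ideal.span {t})
        (finiteType_quotient_of_topFiniteType hI S hS)
    exact Algebra.FiniteType.of_restrictScalars_finiteType R _ _
  obtain ⟨N', hN'fg, hN'le, hle⟩ := exists_fg_le_ker_le_sup_smul (R := R)
    (S := MvPolynomial (Option (Fin m)) S) t hnil htf (Submodule.mkQ N)
    (Submodule.mkQ_surjective N)
  rw [Submodule.ker_mkQ] at hN'le hle
  obtain ⟨T, hT⟩ := hN'fg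
  -- homogeneous generators
  set T'' : Finset (MvPolynomial (Option (Fin m)) S × ℕ) :=
    T.biUnion (fun n => (Finset.range (n.totalDegree + 1)).image
      (fun d => (homogeneousComponent d n, d))) with hT''
  have hT''mem : ∀ p ∈ T'', p.1.IsHomogeneous p.2 ∧ p.1 ∈ N := by
    intro p hp
    rw [hT'', Finset.mem_biUnion] at hp
    obtain ⟨n, hn, hp⟩ := hp
    rw [Finset.mem_image] at hp
    obtain ⟨d, -, rfl⟩ := hp
    refine ⟨homogeneousComponent_isHomogeneous d n, ?_⟩
    apply homogeneousComponent_mem_homIdeal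
    apply hN'le
    rw [← hT]
    exact Submodule.subset_span hn
  have hN'span : N' ≤ Ideal.span (Set.range fun p : T'' => p.1.1) := by
    rw [← hT, Submodule.span_le]
    intro n hn
    rw [SetLike.mem_coe, ← sum_homogeneousComponent n]
    refine Ideal.sum_mem _ (fun d hd => ?_)
    apply Ideal.subset_span
    refine ⟨⟨(homogeneousComponent d n, d), ?_⟩, rfl⟩
    rw [hT'', Finset.mem_biUnion]
    exact ⟨n, hn, Finset.mem_image.mpr ⟨d, hd, rfl⟩⟩
  have hNeq : N = Ideal.span (Set.range fun p : T'' => p.1.1) := by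
    apply eq_span_of_homogeneous_of_le_sup_smul t' N
      (fun F hF d => homogeneousComponent_mem_homIdeal 𝔮 hF d)
      (fun p : T'' => p.1.1) (fun p : T'' => p.1.2)
      (fun p => (hT''mem p.1 p.2).1) (fun p => (hT''mem p.1 p.2).2)
    refine hle.trans (sup_le_sup hN'span ?_)
    rw [MvPolynomial.algebraMap_apply]
  have hNfg : N.FG := by
    rw [hNeq]
    exact Submodule.fg_span (Set.finite_range _)
  rw [← map_dehom_homIdeal 𝔮]
  exact hNfg.map _

end core

end Groth.Agent.Lib.Helper95.Bosch
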