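import Mathlib
import Groth.Agent.Lib.Helper95.BoschO

namespace Groth.Agent.Lib.Helper95.Bosch

open AdicRing MvPolynomial Groth.Agent.Lib.Helper95.RGNil TensorProduct
open Groth.Agent.H76

universe u v

section gabber

variable {R : Type u} [CommRing R]

/-- Artin–Rees for finite type algebras over topologically finite type algebras, class (V). -/
theorem exists_pow_inf_le_pow_smul_of_finiteType {t : R}
    (hR : AdicRing.IsBase R (Ideal.span {t}))
    (A : Type u) [CommRing A] [Algebra R A] (hA : AdicRing.TopFiniteType R (Ideal.span {t}) A)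
    (C : Type u) [CommRing C] [Algebra R C] [Algebra A C] [IsScalarTower R A C]
    [Algebra.FiniteType A C] (𝔠 : Ideal C) :
    ∃ k : ℕ, ∀ n : ℕ, ((Ideal.span {t}).map (algebraMap R C)) ^ (n + k) ⊓ 𝔠 ≤
      ((Ideal.span {t}).map (algebraMap R C)) ^ n • 𝔠 := by
  obtain ⟨n₀, φ, hφ⟩ := hA
  obtain ⟨m, g, hg⟩ := Algebra.FiniteType.iff_quotient_mvPolynomial''.mp
    (inferInstance : Algebra.FiniteType A C)
  let ψ : MvPolynomial (Fin m) (RPow R (Ideal.span {t}) n₀) →ₐ[R] C :=
    (g.restrictScalars R).comp (MvPolynomial.mapAlgHom φ)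
  have hψ : Function.Surjective ψ := hg.comp (MvPolynomial.map_surjective _ hφ)
  set 𝔭 : Ideal (MvPolynomial (Fin m) (RPow R (Ideal.span {t}) n₀)) := 𝔠.comap ψ with h𝔭
  have hfg : (tSat t 𝔭).FG := by
    apply fg_of_saturated_mvPolynomial hR (RPow R (Ideal.span {t}) n₀)
      ⟨n₀, AlgHom.id R _, Function.surjective_id⟩ (tSat t 𝔭)
    intro x hx
    apply tSat_idem t 𝔭 (j := 1)
    rw [pow_one, Algebra.smul_def, MvPolynomial.algebraMap_apply]
    exact hx
  obtain ⟨k, hk⟩ := exists_pow_smul_tSat_le t 𝔭 hfg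
  refine ⟨k, fun n x hx => ?_⟩
  obtain ⟨hx1, hx2⟩ := hx
  rw [SetLike.mem_coe, Ideal.map_span, Set.image_singleton, Ideal.span_singleton_pow,
    Ideal.mem_span_singleton'] at hx1
  obtain ⟨y, rfl⟩ := hx1
  obtain ⟨y', rfl⟩ := hψ y
  have h1 : t ^ (n + k) • y' ∈ 𝔭 := by
    rw [h𝔭, Ideal.mem_comap, map_smul, Algebra.smul_def, map_pow, mul_comm]
    exact hx2
  have h2 : y' ∈ tSat t 𝔭 := ⟨n + k, h1⟩
  have h3 : t ^ k • y' ∈ 𝔭 := hk y' h2
  have h4 : (algebraMap R C t) ^ k * ψ y' ∈ 𝔠 := by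
    rw [h𝔭, Ideal.mem_comap, map_smul, Algebra.smul_def, map_pow] at h3
    exact h3
  have h5 : ψ y' * (algebraMap R C) t ^ (n + k) =
      (algebraMap R C t) ^ n • ((algebraMap R C t) ^ k * ψ y') := by
    rw [smul_eq_mul, pow_add]; ring
  rw [h5]
  refine Submodule.smul_mem_smul ?_ h4
  exact Ideal.pow_mem_pow (Ideal.mem_map_of_mem _ (Ideal.mem_span_singleton_self t)) n

/-- **Gabber's lemma** (Bosch FRG 8.2/2, S11539). -/
theorem flat_compl_of_finiteType {I : Ideal R} (hR : AdicRing.IsBase R I)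
    (A : Type u) [CommRing A] [Algebra R A] (hA : AdicRing.TopFiniteType R I A)
    (C : Type u) [CommRing C] [Algebra R C] [Algebra A C] [IsScalarTower R A C]
    [Algebra.FiniteType A C] :
    Module.Flat C (AdicCompletion (I.map (algebraMap R C)) C) := by
  have hR' := hR
  have hI : I.FG := fg_of_isBase hR
  obtain ⟨hcomp, hN | hV⟩ := hR
  · haveI := hN.1
    haveI := isNoetherianRing_of_topFiniteType A hA
    haveI : IsNoetherianRing C := Algebra.FiniteType.isNoetherianRing A C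
    infer_instance
  obtain ⟨hdom, hval, hdim, t, ht, rfl⟩ := hV
  have hĈ : AdicRing.TopFiniteType R (Ideal.span {t}) (Compl R (Ideal.span {t}) C) :=
    topFiniteType_compl_of_finiteType hI A hA C
  show Module.Flat C (Compl R (Ideal.span {t}) C)
  apply flat_of_tinj_general (R := C) (S := Compl R (Ideal.span {t}) C)
    ((Ideal.span {t}).map (algebraMap R C)) (Compl R (Ideal.span {t}) C)
  · intro 𝔠 _
    exact exists_pow_inf_le_pow_smul_of_finiteType hR' A hA C 𝔠
  · intro 𝔠 h𝔠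
    haveI : Module.Finite C 𝔠 := Module.Finite.of_fg h𝔠
    haveI : Module.Finite (Compl R (Ideal.span {t}) C) (Compl R (Ideal.span {t}) C ⊗[C] 𝔠) :=
      AdicFlat.finite_tensor (Compl R (Ideal.span {t}) C) 𝔠
    rw [← map_algebraMap_compl]
    exact iInf_pow_smul_eq_bot hR' (Compl R (Ideal.span {t}) C) hĈ _
  · intro n X Y _ _ _ _ u hu hY
    haveI : Module.Flat (C ⧸ ((Ideal.span {t}) ^ (n + 1)).map (algebraMap R C))
        ((C ⧸ ((Ideal.span {t}) ^ (n + 1)).map (algebraMap R C)) ⊗[C]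
          Compl R (Ideal.span {t}) C) := flat_trunc_compl C C hI (n + 1)
    refine NilFlat.tinj_of_killed (((Ideal.span {t}) ^ (n + 1)).map (algebraMap R C))
      (Compl R (Ideal.span {t}) C) u hu ?_
    intro i hi y
    rw [Ideal.map_pow] at hi
    exact hY i hi y

end gabber

end Groth.Agent.Lib.Helper95.Bosch
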