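import Mathlib
import Groth.Agent.Lib.Helper95.BoschP

namespace Groth.Agent.Lib.Helper95.Bosch

open AdicRing MvPolynomial Groth.Agent.Lib.Helper95.RGNil TensorProduct

universe u v

section torsion

/-- the annihilator of finitely many elements commutes with flat base change -/
theorem mem_map_of_forall_mul_eq_zero {B : Type*} [CommRing B] (C' : Type*) [CommRing C']
    [Algebra B C'] [Module.Flat B C'] {s : ℕ} (g : Fin s → B) (T : Ideal B)
    (hT : ∀ y : B, (∀ l, g l * y = 0) → y ∈ T)
    (x : C') (hx : ∀ l, algebraMap B C' (g l) * x = 0) :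
    x ∈ T.map (algebraMap B C') := by
  classical
  let u : B →ₗ[B] (Fin s → B) := LinearMap.pi (fun l => g l • LinearMap.id)
  have hu : ∀ y l, u y l = g l * y := fun y l => rfl
  have hex : Function.Exact (LinearMap.ker u).subtype u := LinearMap.exact_subtype_ker_map u
  have hex' := Module.Flat.lTensor_exact C' hex
  have hz : (u.lTensor C') (x ⊗ₜ[B] (1 : B)) = 0 := by
    rw [LinearMap.lTensor_tmul]
    have h1 : u 1 = ∑ l, (g l) • (Pi.single l (1 : B) : Fin s → B) := by
      funext l
      rw [hu, mul_one, Finset.sum_apply]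
      simp [Pi.single_apply]
    rw [h1, TensorProduct.tmul_sum]
    apply Finset.sum_eq_zero
    intro l _
    rw [TensorProduct.tmul_smul, TensorProduct.smul_tmul']
    have : (g l) • x = 0 := by
      rw [Algebra.smul_def]
      exact hx l
    rw [this, TensorProduct.zero_tmul]
  obtain ⟨w, hw⟩ := (hex' _).mp hz
  have hx2 : x = TensorProduct.rid B C' (((LinearMap.ker u).subtype.lTensor C') w) := by
    rw [hw]
    simp
  rw [hx2]
  clear hx2 hw
  induction w with
  | zero => simp
  | add w₁ w₂ h₁ h₂ =>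
    rw [map_add, map_add]
    exact Ideal.add_mem _ h₁ h₂
  | tmul c y =>
    rw [LinearMap.lTensor_tmul, TensorProduct.rid_tmul, Submodule.subtype_apply,
      Algebra.smul_def]
    refine Ideal.mul_mem_right _ _ (Ideal.mem_map_of_mem _ (hT _ ?_))
    intro l
    have := congrFun (LinearMap.mem_ker.mp y.2) l
    rw [hu] at this
    exact this

end torsion

section chart

variable {A : Type u} [CommRing A] {ι : Type} (f : ι → A) (i : ι)

theorem algebraMap_chartAlg (a : A) :
    algebraMap A (chartAlg f i) a = Ideal.Quotient.mk _ (C a) := rfl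

theorem chart_rel (j : {j : ι // j ≠ i}) :
    algebraMap A (chartAlg f i) (f i) * Ideal.Quotient.mk _ (X j) =
      algebraMap A (chartAlg f i) (f j.1) := by
  rw [algebraMap_chartAlg, algebraMap_chartAlg, ← map_mul, Ideal.Quotient.eq]
  exact Ideal.subset_span ⟨j, rfl⟩

theorem exists_pow_mul_eq_algebraMap (p : MvPolynomial {j : ι // j ≠ i} A) :
    ∃ (D : ℕ) (q : A), (algebraMap A (chartAlg f i) (f i)) ^ D *
      (Ideal.Quotient.mk _ p : chartAlg f i) = algebraMap A (chartAlg f i) q := by
  induction p using MvPolynomial.induction_on with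
  | C a =>
    refine ⟨0, a, ?_⟩
    rw [pow_zero, one_mul, algebraMap_chartAlg]
  | add p₁ p₂ h₁ h₂ =>
    obtain ⟨D₁, q₁, e₁⟩ := h₁
    obtain ⟨D₂, q₂, e₂⟩ := h₂
    refine ⟨D₁ + D₂, f i ^ D₂ * q₁ + f i ^ D₁ * q₂, ?_⟩
    rw [map_add, mul_add, map_add, map_mul, map_mul, ← e₁, ← e₂, map_pow, map_pow, pow_add]
    ring
  | mul_X p j h =>
    obtain ⟨D, q, e⟩ := h
    refine ⟨D + 1, q * f j.1, ?_⟩
    rw [map_mul, map_mul, ← e, ← chart_rel f i j, pow_succ]
    ring

/-- the canonical map from the chart algebra to the localization -/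
noncomputable def chartToLoc : chartAlg f i →ₐ[A] Localization.Away (f i) :=
  Ideal.Quotient.liftₐ _
    (aeval (fun j : {j : ι // j ≠ i} => algebraMap A (Localization.Away (f i)) (f j.1) *
      IsLocalization.Away.invSelf (f i))) (by
    intro a ha
    rw [← RingHom.mem_ker] 
    revert a
    show Ideal.span _ ≤ RingHom.ker _
    rw [Ideal.span_le]
    rintro _ ⟨j, rfl⟩
    rw [SetLike.mem_coe, RingHom.mem_ker]
    show (aeval _) (C (f i) * X j - C (f j.1)) = 0
    rw [map_sub, map_mul, aeval_C, aeval_C, aeval_X, mul_comm (algebraMap A _ (f j.1)),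
      ← mul_assoc, IsLocalization.Away.mul_invSelf, one_mul, sub_self])

theorem exists_pow_mul_eq_zero_of_chartToLoc_eq_zero (y : chartAlg f i)
    (hy : chartToLoc f i y = 0) :
    ∃ N : ℕ, (algebraMap A (chartAlg f i) (f i)) ^ N * y = 0 := by
  obtain ⟨p, rfl⟩ := Ideal.Quotient.mk_surjective y
  obtain ⟨D, q, e⟩ := exists_pow_mul_eq_algebraMap f i p
  have h1 : algebraMap A (Localization.Away (f i)) q = 0 := by
    have := congrArg (chartToLoc f i) e
    rw [map_mul, hy, mul_zero, AlgHom.commutes] at this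
    exact this.symm
  obtain ⟨⟨_, M, rfl⟩, hM⟩ :=
    (IsLocalization.map_eq_zero_iff (Submonoid.powers (f i)) (Localization.Away (f i)) q).mp h1
  refine ⟨M + D, ?_⟩
  rw [pow_add, mul_assoc, e, ← map_pow, ← map_mul]
  have : f i ^ M * q = 0 := hM
  rw [this, map_zero]

end chart

section main

variable {R : Type u} [CommRing R] {I : Ideal R}

theorem map_pow_le_span_chart (A : Type u) [CommRing A] [Algebra R A]
    {ι : Type} (f : ι → A) (k : ℕ)
    (hopen : (I ^ k).map (algebraMap R A) ≤ Ideal.span (Set.range f)) (i : ι) :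
    (I ^ k).map (algebraMap R (chartAlg f i)) ≤
      Ideal.span {algebraMap A (chartAlg f i) (f i)} := by
  have h1 : (I ^ k).map (algebraMap R (chartAlg f i)) =
      ((I ^ k).map (algebraMap R A)).map (algebraMap A (chartAlg f i)) := by
    rw [Ideal.map_map, ← IsScalarTower.algebraMap_eq]
  rw [h1]
  refine (Ideal.map_mono hopen).trans ?_
  rw [Ideal.map_span, Ideal.span_le]
  rintro _ ⟨_, ⟨j, rfl⟩, rfl⟩
  rw [SetLike.mem_coe, Ideal.mem_span_singleton]
  by_cases hj : j = i
  · rw [hj]
  · exact ⟨_, (chart_rel f i ⟨j, hj⟩).symm⟩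

/-- Bosch FRG 8.2/? (S11540). -/
theorem powTorsion_iff_chartGenerator_torsion (hR : AdicRing.IsBase R I)
    (A : Type u) [CommRing A] [Algebra R A] (hA : AdicRing.Admissible R I A)
    (r : ℕ) (f : Fin (r + 1) → A) (k : ℕ)
    (hopen : (I ^ k).map (algebraMap R A) ≤ Ideal.span (Set.range f)) (i : Fin (r + 1))
    (x : AdicRing.chartCompl I f i) :
    (∃ n : ℕ, ∀ a ∈ I ^ n, a • x = 0) ↔
      ∃ n : ℕ, algebraMap A (AdicRing.chartCompl I f i) (f i) ^ n * x = 0 := by
  classical
  have hI : I.FG := fg_of_isBase hR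
  have hft : AdicRing.TopFiniteType R I A := by
    obtain ⟨⟨m, φ, hφ, -⟩, -⟩ := hA
    exact ⟨m, φ, hφ⟩
  have hAB : ∀ a : A, algebraMap A (AdicRing.chartCompl I f i) a =
      algebraMap (chartAlg f i) (AdicRing.chartCompl I f i) (algebraMap A (chartAlg f i) a) :=
    fun a => rfl
  have hRB : ∀ a : R, algebraMap R (AdicRing.chartCompl I f i) a =
      algebraMap (chartAlg f i) (AdicRing.chartCompl I f i) (algebraMap R (chartAlg f i) a) :=
    fun a => rfl
  constructor
  · rintro ⟨n, hn⟩
    haveI : Module.Flat (chartAlg f i) (AdicRing.chartCompl I f i) :=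
      flat_compl_of_finiteType hR A hft (chartAlg f i)
    obtain ⟨s, g, hg⟩ := Submodule.fg_iff_exists_fin_generating_family.mp (hI.pow (n := n))
    have hgmem : ∀ l, g l ∈ I ^ n := fun l => by
      have : g l ∈ Submodule.span R (Set.range g) := Submodule.subset_span ⟨l, rfl⟩
      rwa [hg] at this
    -- the localization has no torsion
    have hL : AdicRing.NoPowTorsion I (Localization.Away (f i)) :=
      noPowTorsion_of_flat hI A (Localization.Away (f i)) hA.2
    have hT : ∀ y : chartAlg f i, (∀ l, algebraMap R (chartAlg f i) (g l) * y = 0) →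
        y ∈ RingHom.ker (chartToLoc f i).toRingHom := by
      intro y hy
      rw [RingHom.mem_ker]
      apply hL _ n
      intro a ha
      rw [← hg] at ha
      refine Submodule.span_induction ?_ ?_ ?_ ?_ ha
      · rintro _ ⟨l, rfl⟩
        have := congrArg (chartToLoc f i) (hy l)
        rw [map_mul, map_zero, IsScalarTower.algebraMap_apply R A (chartAlg f i),
          AlgHom.commutes, ← IsScalarTower.algebraMap_apply, ← Algebra.smul_def] at this
        exact this
      · rw [zero_smul]
      · intro a₁ a₂ _ _ h₁ h₂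
        rw [add_smul, h₁, h₂, add_zero]
      · intro c a₁ _ h₁
        rw [smul_eq_mul, mul_smul, h₁, smul_zero]
    have hx : x ∈ (RingHom.ker (chartToLoc f i).toRingHom).map
        (algebraMap (chartAlg f i) (AdicRing.chartCompl I f i)) := by
      apply mem_map_of_forall_mul_eq_zero (AdicRing.chartCompl I f i)
        (fun l => algebraMap R (chartAlg f i) (g l)) _ hT x
      intro l
      rw [← hRB, ← Algebra.smul_def]
      exact hn _ (hgmem l)
    have hx' : x ∈ Ideal.span ((algebraMap (chartAlg f i) (AdicRing.chartCompl I f i)) ''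
        (RingHom.ker (chartToLoc f i).toRingHom : Set (chartAlg f i))) := hx
    refine Submodule.span_induction ?_ ?_ ?_ ?_ hx'
    · rintro _ ⟨y, hy, rfl⟩
      obtain ⟨N, hN⟩ := exists_pow_mul_eq_zero_of_chartToLoc_eq_zero f i y hy
      refine ⟨N, ?_⟩
      rw [hAB, ← map_pow, ← map_mul, hN, map_zero]
    · exact ⟨0, by simp⟩
    · rintro x₁ x₂ _ _ ⟨N₁, h₁⟩ ⟨N₂, h₂⟩
      refine ⟨N₁ + N₂, ?_⟩
      have e1 : algebraMap A (AdicRing.chartCompl I f i) (f i) ^ (N₁ + N₂) * x₁ =
          algebraMap A (AdicRing.chartCompl I f i) (f i) ^ N₂ *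
            (algebraMap A (AdicRing.chartCompl I f i) (f i) ^ N₁ * x₁) := by
        rw [pow_add]; ring
      have e2 : algebraMap A (AdicRing.chartCompl I f i) (f i) ^ (N₁ + N₂) * x₂ =
          algebraMap A (AdicRing.chartCompl I f i) (f i) ^ N₁ *
            (algebraMap A (AdicRing.chartCompl I f i) (f i) ^ N₂ * x₂) := by
        rw [pow_add]; ring
      rw [mul_add, e1, e2, h₁, h₂, mul_zero, mul_zero, add_zero]
    · rintro c x₁ _ ⟨N₁, h₁⟩
      refine ⟨N₁, ?_⟩
      rw [smul_eq_mul, mul_left_comm, h₁, mul_zero]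
  · rintro ⟨n, hn⟩
    refine ⟨k * n, fun a ha => ?_⟩
    have h1 : algebraMap R (chartAlg f i) a ∈
        Ideal.span {(algebraMap A (chartAlg f i) (f i)) ^ n} := by
      rw [← Ideal.span_singleton_pow]
      have h2 := Ideal.pow_right_mono (map_pow_le_span_chart (I := I) A f k hopen i) n
      apply h2
      rw [← Ideal.map_pow, ← pow_mul]
      exact Ideal.mem_map_of_mem _ ha
    obtain ⟨b, hb⟩ := Ideal.mem_span_singleton'.mp h1
    rw [Algebra.smul_def, hRB, ← hb, map_mul, map_pow, ← hAB, mul_assoc, hn, mul_zero]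

end main

end Groth.Agent.Lib.Helper95.Bosch
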