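import Mathlib
import Groth.Agent.Lib.Helper95.BoschQ

namespace Groth.Agent.Lib.Helper95.Bosch

open AdicRing MvPolynomial Groth.Agent.Lib.Helper95.RGNil TensorProduct IsLocalRing

universe u v

section rigpoint

variable {R : Type u} [CommRing R] [IsDomain R] [ValuationRing R] [Ring.KrullDimLE 1 R]
  (t : R) (ht : t ≠ 0) [IsAdicComplete (Ideal.span {t}) R]
  (B : Type u) [CommRing B] [Algebra R B] [IsDomain B] [IsLocalRing B]
  (hB : AdicRing.Admissible R (Ideal.span {t}) B) (hdim : ringKrullDim B = 1)

include ht hB in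
theorem rigPoint_topFiniteType : AdicRing.TopFiniteType R (Ideal.span {t}) B := by
  obtain ⟨⟨m, φ, hφ, -⟩, -⟩ := hB
  exact ⟨m, φ, hφ⟩

include ht hB in
theorem rigPoint_algebraMap_ne_zero : algebraMap R B t ≠ 0 := by
  intro h
  have h1 : (1 : B) = 0 := by
    apply hB.2 1 1
    intro a ha
    rw [pow_one, Ideal.mem_span_singleton] at ha
    obtain ⟨c, rfl⟩ := ha
    rw [Algebra.smul_def, map_mul, h, zero_mul, zero_mul]
  exact one_ne_zero h1

include ht hB in
theorem rigPoint_algebraMap_mem_maximalIdeal : algebraMap R B t ∈ maximalIdeal B := by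
  have hR := isBase_of_valuationRing t ht
  have hle := map_le_of_isMaximal hR B (rigPoint_topFiniteType t ht B hB) (maximalIdeal B)
  exact hle (Ideal.mem_map_of_mem _ (Ideal.mem_span_singleton_self t))

include ht hB hdim in
/-- every prime of `B` containing `t` is the maximal ideal -/
theorem rigPoint_prime_eq_maximalIdeal (q : Ideal B) [hq : q.IsPrime] (htq : algebraMap R B t ∈ q) :
    q = maximalIdeal B := by
  haveI : Ring.KrullDimLE 1 B := by
    rw [Ring.KrullDimLE, Order.krullDimLE_iff]
    exact hdim.le
  have hne : q ≠ ⊥ := by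
    rintro rfl
    exact rigPoint_algebraMap_ne_zero t ht B hB htq
  have hmax : q.IsMaximal := (Ring.krullDimLE_one_iff_of_noZeroDivisors.mp inferInstance) q hne hq
  exact IsLocalRing.eq_maximalIdeal hmax

include ht hB hdim in
/-- elements of the maximal ideal are nilpotent modulo `t` -/
theorem rigPoint_exists_pow_mem (y : B) (hy : y ∈ maximalIdeal B) :
    ∃ N : ℕ, y ^ N ∈ Ideal.span {algebraMap R B t} := by
  have h1 : IsNilpotent (Ideal.Quotient.mk (Ideal.span {algebraMap R B t}) y) := by
    rw [nilpotent_iff_mem_prime]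
    intro J hJ
    have hq : (J.comap (Ideal.Quotient.mk (Ideal.span {algebraMap R B t}))) = maximalIdeal B := by
      apply rigPoint_prime_eq_maximalIdeal t ht B hB hdim
      rw [Ideal.mem_comap]
      have : Ideal.Quotient.mk (Ideal.span {algebraMap R B t}) (algebraMap R B t) = 0 :=
        Ideal.Quotient.eq_zero_iff_mem.mpr (Ideal.mem_span_singleton_self _)
      rw [this]
      exact J.zero_mem
    have : y ∈ J.comap (Ideal.Quotient.mk (Ideal.span {algebraMap R B t})) := hq ▸ hy
    exact this
  obtain ⟨N, hN⟩ := h1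
  refine ⟨N, ?_⟩
  rwa [← map_pow, Ideal.Quotient.eq_zero_iff_mem] at hN

include ht hB in
theorem rigPoint_isLocalHom : IsLocalHom (algebraMap R B) := by
  haveI : IsHausdorff (Ideal.span {t}) R := inferInstance
  refine ⟨fun r hr => ?_⟩
  by_contra hnu
  obtain ⟨e, he⟩ := exists_dvd_pow_of_not_isUnit t ht hnu
  obtain ⟨c, hc⟩ := he
  have h1 : (algebraMap R B r) ^ e ∈ maximalIdeal B := by
    rw [← map_pow, hc, map_mul]
    exact Ideal.mul_mem_right _ _ (rigPoint_algebraMap_mem_maximalIdeal t ht B hB)
  exact (IsLocalRing.mem_maximalIdeal _).mp h1 (hr.pow e)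

include ht hB hdim in
/-- the reduction `B/tB` is integral over `R`. -/
theorem rigPoint_isIntegral_quotient (b : B) :
    IsIntegral R (Ideal.Quotient.mk (Ideal.span {algebraMap R B t}) b) := by
  have hR := isBase_of_valuationRing t ht
  have hI : (Ideal.span {t} : Ideal R).FG := fg_of_isBase hR
  have hft := rigPoint_topFiniteType t ht B hB
  haveI : IsLocalHom (algebraMap R B) := rigPoint_isLocalHom t ht B hB
  -- the residue field is of finite type over `R`
  have htB : Ideal.span {algebraMap R B t} = (Ideal.span {t}).map (algebraMap R B) := by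
    rw [Ideal.map_span, Set.image_singleton]
  haveI h1 : Algebra.FiniteType R (B ⧸ Ideal.span {algebraMap R B t}) := by
    rw [htB]
    exact finiteType_quotient_of_topFiniteType hI B hft
  haveI h2 : Algebra.FiniteType R (ResidueField B) := by
    refine Algebra.FiniteType.of_surjective
      (Ideal.Quotient.liftₐ (Ideal.span {algebraMap R B t})
        (IsScalarTower.toAlgHom R B (ResidueField B)) ?_) ?_
    · intro a ha
      rw [IsScalarTower.coe_toAlgHom', ResidueField.algebraMap_eq, residue_eq_zero_iff]
      rw [Ideal.mem_span_singleton] at ha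
      obtain ⟨c, rfl⟩ := ha
      exact Ideal.mul_mem_right _ _ (rigPoint_algebraMap_mem_maximalIdeal t ht B hB)
    · intro y
      obtain ⟨b, rfl⟩ := residue_surjective y
      exact ⟨Ideal.Quotient.mk _ b, rfl⟩
  haveI h3 : Algebra.FiniteType (ResidueField R) (ResidueField B) :=
    Algebra.FiniteType.of_restrictScalars_finiteType R _ _
  haveI h4 : Module.Finite (ResidueField R) (ResidueField B) :=
    finite_of_finite_type_of_isJacobsonRing _ _
  have h5 : IsIntegral (ResidueField R) (residue B b) := Algebra.IsIntegral.isIntegral _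
  obtain ⟨g, hgm, hg⟩ := h5
  obtain ⟨G', hG'⟩ := Polynomial.map_surjective (residue R) residue_surjective g
  obtain ⟨G, hGmap, -, hGm⟩ := Polynomial.lifts_and_degree_eq_and_monic
    ((Polynomial.mem_lifts g).mpr ⟨G', hG'⟩) hgm
  have h6 : Polynomial.aeval b G ∈ maximalIdeal B := by
    rw [← Ideal.Quotient.eq_zero_iff_mem]
    show residue B (Polynomial.aeval b G) = 0
    rw [Polynomial.aeval_def, Polynomial.hom_eval₂]
    have : (residue B).comp (algebraMap R B) =
        (algebraMap (ResidueField R) (ResidueField B)).comp (residue R) := rfl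
    rw [this, ← Polynomial.eval₂_map, hGmap]
    exact hg
  obtain ⟨N, hN⟩ := rigPoint_exists_pow_mem t ht B hB hdim _ h6
  refine ⟨G ^ N, hGm.pow N, ?_⟩
  rw [← Polynomial.aeval_def, ← Ideal.Quotient.mkₐ_eq_mk R, Polynomial.aeval_algHom_apply,
    Ideal.Quotient.mkₐ_eq_mk, map_pow, Ideal.Quotient.eq_zero_iff_mem]
  exact hN

include ht hB hdim in
/-- **A rig-point algebra is a finite `R`-module.** -/
theorem rigPoint_finite : Module.Finite R B := by
  have hR := isBase_of_valuationRing t ht
  have hI : (Ideal.span {t} : Ideal R).FG := fg_of_isBase hR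
  have hft := rigPoint_topFiniteType t ht B hB
  have htB : Ideal.span {algebraMap R B t} = (Ideal.span {t}).map (algebraMap R B) := by
    rw [Ideal.map_span, Set.image_singleton]
  haveI h1 : Algebra.FiniteType R (B ⧸ Ideal.span {algebraMap R B t}) := by
    rw [htB]
    exact finiteType_quotient_of_topFiniteType hI B hft
  haveI : Algebra.IsIntegral R (B ⧸ Ideal.span {algebraMap R B t}) := ⟨fun y => by
    obtain ⟨b, rfl⟩ := Ideal.Quotient.mk_surjective y
    exact rigPoint_isIntegral_quotient t ht B hB hdim b⟩
  haveI h2 : Module.Finite R (B ⧸ Ideal.span {algebraMap R B t}) := Algebra.IsIntegral.finite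
  obtain ⟨s, w, hw⟩ := Module.Finite.exists_fin (R := R) (M := B ⧸ Ideal.span {algebraMap R B t})
  choose b hb using fun j => Ideal.Quotient.mk_surjective (w j)
  have hc := isAdicComplete_of_finite_topFiniteType hR B hft B
  haveI : IsHausdorff (Ideal.span {t}) B := hc.toIsHausdorff
  haveI : IsPrecomplete (Ideal.span {t}) R := inferInstance
  have key : (⊤ : Submodule R B) ≤ Submodule.span R (Set.range b) ⊔
      (Ideal.span {t}) • (⊤ : Submodule R B) := by
    intro y _
    have hy : Ideal.Quotient.mk (Ideal.span {algebraMap R B t}) y ∈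
        Submodule.span R (Set.range w) := by rw [hw]; trivial
    obtain ⟨c, hc⟩ := (Submodule.mem_span_range_iff_exists_fun R).mp hy
    have h3 : y - ∑ j, c j • b j ∈ Ideal.span {algebraMap R B t} := by
      rw [← Ideal.Quotient.eq_zero_iff_mem, map_sub, ← hc, sub_eq_zero]
      rw [map_sum]
      apply Finset.sum_congr rfl
      intro j _
      rw [← hb j]
      rfl
    obtain ⟨z, hz⟩ := Ideal.mem_span_singleton'.mp h3
    have h4 : y = ∑ j, c j • b j + t • z := by
      rw [Algebra.smul_def, mul_comm, hz]; abel
    rw [h4]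
    apply Submodule.add_mem_sup
    · exact Submodule.sum_mem _ (fun j _ => Submodule.smul_mem _ _ (Submodule.subset_span ⟨j, rfl⟩))
    · exact Submodule.smul_mem_smul (Ideal.mem_span_singleton_self t) trivial
  have := eq_of_le_sup_smul (Ideal.span {t}) (⊤ : Submodule R B) (Submodule.span R (Set.range b))
    (Submodule.fg_span (Set.finite_range b)) le_top key
  exact ⟨this ▸ Submodule.fg_span (Set.finite_range b)⟩

end rigpoint

end Groth.Agent.Lib.Helper95.Bosch
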