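import Mathlib
import Groth.Agent.Lib.Helper95.BoschR

namespace Groth.Agent.Lib.Helper95.Bosch

open AdicRing MvPolynomial Groth.Agent.Lib.Helper95.RGNil TensorProduct IsLocalRing

universe u v

section rigpoint2

variable {R : Type u} [CommRing R] [IsDomain R] [ValuationRing R] [Ring.KrullDimLE 1 R]
  (t : R) (ht : t ≠ 0) [IsAdicComplete (Ideal.span {t}) R]

include ht in
theorem rigPoint_surjective_of_cLoc
    (A : Type u) [CommRing A] [Algebra R A] (f : A)
    (B : Type u) [CommRing B] [Algebra R B] [IsDomain B] [IsLocalRing B]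
    (hB : AdicRing.Admissible R (Ideal.span {t}) B) (hdim : ringKrullDim B = 1)
    (u : AdicRing.CLoc (Ideal.span {t}) f →ₐ[R] B) (hu : Function.Surjective u) :
    Function.Surjective
      (u.toRingHom.comp (algebraMap A (AdicRing.CLoc (Ideal.span {t}) f))) := by
  have hR := isBase_of_valuationRing t ht
  have hI : (Ideal.span {t} : Ideal R).FG := fg_of_isBase hR
  haveI hfin : Module.Finite R B := rigPoint_finite t ht B hB hdim
  haveI : Algebra.IsIntegral R B := Algebra.IsIntegral.of_finite R B
  -- the composite as an `R`-algebra hom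
  let g : A →ₐ[R] B := u.comp (IsScalarTower.toAlgHom R A (AdicRing.CLoc (Ideal.span {t}) f))
  have hg : ∀ a, g a = u (algebraMap A (AdicRing.CLoc (Ideal.span {t}) f) a) := fun a => rfl
  haveI : Algebra.IsIntegral g.range B := Algebra.IsIntegral.tower_top (R := R)
  haveI : IsLocalHom (algebraMap g.range B) := Algebra.IsIntegral.isLocalHom _ _
  -- `g f` is a unit in `B`
  have hfu : IsUnit (g f) := by
    rw [hg]
    apply IsUnit.map
    rw [IsScalarTower.algebraMap_apply A (Localization.Away f)]
    apply IsUnit.map
    exact IsLocalization.Away.algebraMap_isUnit f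
  -- hence in the image
  have hfu' : IsUnit (⟨g f, ⟨f, rfl⟩⟩ : g.range) := by
    apply isUnit_of_map_unit (algebraMap g.range B)
    exact hfu
  obtain ⟨⟨w, ⟨a', rfl⟩⟩, hw⟩ := hfu'.exists_left_inv
  have hw' : g a' * g f = 1 := congrArg Subtype.val hw
  -- density
  have key : (⊤ : Submodule R B) ≤ g.range.toSubmodule ⊔
      (Ideal.span {t}) • (⊤ : Submodule R B) := by
    intro y _
    obtain ⟨x, rfl⟩ := hu y
    obtain ⟨c, hc⟩ := exists_sub_mem_map_pow_compl R (Ideal.span {t}) (Localization.Away f) hI 1 x
    obtain ⟨a, s, rfl⟩ := IsLocalization.exists_mk'_eq (Submonoid.powers f) c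
    obtain ⟨n, hn⟩ := s.2
    have h1 : u (algebraMap (Localization.Away f) (AdicRing.CLoc (Ideal.span {t}) f)
        (IsLocalization.mk' (Localization.Away f) a s)) = g (a * a' ^ n) := by
      have h2 : (IsLocalization.mk' (Localization.Away f) a s) *
          algebraMap A (Localization.Away f) (s : A) = algebraMap A (Localization.Away f) a :=
        IsLocalization.mk'_spec _ _ _
      have h3 := congrArg (fun z => u (algebraMap (Localization.Away f)
        (AdicRing.CLoc (Ideal.span {t}) f) z)) h2
      simp only [map_mul, ← IsScalarTower.algebraMap_apply] at h3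
      rw [← hg, ← hg, ← hn] at h3
      rw [map_mul, ← h3, map_pow, map_pow, mul_assoc, ← mul_pow, mul_comm (g f), hw', one_pow,
        mul_one]
    have h4 : u x = g (a * a' ^ n) + u (x - algebraMap (Localization.Away f)
        (AdicRing.CLoc (Ideal.span {t}) f)
        (IsLocalization.mk' (Localization.Away f) a s)) := by
      rw [map_sub, h1]; ring
    rw [h4]
    apply Submodule.add_mem_sup
    · exact ⟨a * a' ^ n, rfl⟩
    · rw [Ideal.smul_top_eq_map]
      show _ ∈ (Ideal.span {t}).map (algebraMap R B)
      rw [pow_one] at hc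
      have := Ideal.mem_map_of_mem u.toRingHom hc
      rw [Ideal.map_map] at this
      have h5 : u.toRingHom.comp (algebraMap R (AdicRing.CLoc (Ideal.span {t}) f)) =
          algebraMap R B := u.comp_algebraMap
      rw [h5] at this
      exact this
  have hjac : (Ideal.span {t} : Ideal R) ≤ Ideal.jacobson ⊥ :=
    IsAdicComplete.le_jacobson_bot (Ideal.span {t})
  have htop := Submodule.le_of_le_smul_of_le_jacobson_bot (N := g.range.toSubmodule)
    (Module.finite_def.mp hfin) hjac key
  intro y
  obtain ⟨a, ha⟩ := htop (Submodule.mem_top : y ∈ ⊤)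
  exact ⟨a, ha⟩

end rigpoint2

end Groth.Agent.Lib.Helper95.Bosch
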