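import Mathlib
import Groth.Agent.Lib.Helper95.BoschS

namespace Groth.Agent.Lib.Helper95.Bosch

open AdicRing MvPolynomial Groth.Agent.Lib.Helper95.RGNil TensorProduct IsLocalRing

universe u v

section lift

/-- universal property of restricted power series: a family of elements of a complete algebra
defines a homomorphism out of `A⟨ζ⟩` extending the evaluation of polynomials. -/
theorem exists_lift_rPow {A : Type u} [CommRing A] (I : Ideal A) (B : Type u) [CommRing B]
    [Algebra A B] [IsAdicComplete (I.map (algebraMap A B)) B] (r : ℕ) (b : Fin r → B) :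
    ∃ φ : AdicCompletion (I.map (MvPolynomial.C : A →+* MvPolynomial (Fin r) A))
        (MvPolynomial (Fin r) A) →ₐ[A] B,
      ∀ p : MvPolynomial (Fin r) A, φ (algebraMap (MvPolynomial (Fin r) A)
        (AdicCompletion (I.map (MvPolynomial.C : A →+* MvPolynomial (Fin r) A))
          (MvPolynomial (Fin r) A)) p) = MvPolynomial.aeval b p := by
  classical
  set J := I.map (algebraMap A B) with hJ
  let ψ : MvPolynomial (Fin r) A →ₐ[A] B := MvPolynomial.aeval b
  set IP : Ideal (MvPolynomial (Fin r) A) := I.map (MvPolynomial.C) with hIP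
  have hIPJ : IP.map ψ.toRingHom = J := by
    rw [hIP, Ideal.map_map, hJ]
    congr 1
    ext a
    simp [ψ]
  have hcomap : ∀ n, IP ^ n ≤ (J ^ n).comap ψ := by
    intro n
    rw [← Ideal.map_le_iff_le_comap]
    change (IP ^ n).map ψ.toRingHom ≤ _
    rw [Ideal.map_pow, hIPJ]
  let g : (n : ℕ) → AdicCompletion IP (MvPolynomial (Fin r) A) →ₐ[A] B ⧸ J ^ n := fun n =>
    (Ideal.quotientMapₐ (J ^ n) ψ (hcomap n)).comp
      ((AdicCompletion.evalₐ IP n).restrictScalars A)
  have hg_mk : ∀ (n : ℕ) (c : AdicCompletion.AdicCauchySequence IP (MvPolynomial (Fin r) A)),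
      g n (AdicCompletion.mk IP _ c) = Ideal.Quotient.mk (J ^ n) (ψ (c.val n)) := by
    intro n c
    simp [g]
  have hg : ∀ {m n : ℕ} (hle : m ≤ n),
      (Ideal.Quotient.factorₐ A (Ideal.pow_le_pow_right hle)).comp (g n) = g m := by
    intro m n hle
    ext x
    obtain ⟨c, rfl⟩ := AdicCompletion.mk_surjective IP _ x
    rw [AlgHom.comp_apply, hg_mk, hg_mk]
    simp only [Ideal.Quotient.factorₐ_apply_mk]
    rw [Ideal.Quotient.eq, ← map_sub]
    apply hcomap m
    have := (c.property hle).symm
    rw [SModEq.sub_mem] at this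
    simpa using this
  let φ : AdicCompletion IP (MvPolynomial (Fin r) A) →ₐ[A] B := IsAdicComplete.liftAlgHom J g hg
  refine ⟨φ, ?_⟩
  intro p
  have hH : IsHausdorff J B := inferInstance
  rw [← sub_eq_zero]
  apply hH.haus'
  intro n
  rw [SModEq.zero, smul_eq_mul, Ideal.mul_top, ← Ideal.Quotient.eq_zero_iff_mem, map_sub,
    sub_eq_zero]
  have h1 : Ideal.Quotient.mk (J ^ n) (φ (algebraMap (MvPolynomial (Fin r) A)
      (AdicCompletion IP (MvPolynomial (Fin r) A)) p)) = g n (algebraMap (MvPolynomial (Fin r) A)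
      (AdicCompletion IP (MvPolynomial (Fin r) A)) p) := IsAdicComplete.mk_liftAlgHom J g hg n _
  rw [h1]
  simp [g, ψ]

end lift

section tower

variable {R : Type u} [CommRing R]

/-- a finite free `R`-algebra in which given monic polynomials acquire universal roots. -/
theorem exists_tower (n : ℕ) (G : Fin n → Polynomial R) (hG : ∀ i, (G i).Monic) :
    ∃ (T : Type u) (_ : CommRing T) (_ : Algebra R T), Module.Free R T ∧ Module.Finite R T ∧
      ∃ x : Fin n → T, ∀ (K : Type u) [CommRing K] [Algebra R K] (z : Fin n → K),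
        (∀ i, Polynomial.aeval (z i) (G i) = 0) → ∃ π : T →ₐ[R] K, ∀ i, π (x i) = z i := by
  induction n with
  | zero =>
    exact ⟨R, inferInstance, inferInstance, inferInstance, inferInstance, Fin.elim0,
      fun K _ _ z _ => ⟨Algebra.ofId R K, fun i => i.elim0⟩⟩
  | succ n ih =>
    obtain ⟨T, _, _, hfree, hfin, x, hx⟩ := ih (Fin.tail G) (fun i => hG i.succ)
    have hg : ((G 0).map (algebraMap R T)).Monic := (hG 0).map _
    haveI := hg.free_adjoinRoot
    haveI := hg.finite_adjoinRoot
    refine ⟨AdjoinRoot ((G 0).map (algebraMap R T)), inferInstance, inferInstance,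
      Module.Free.trans (S := T), Module.Finite.trans T _,
      Fin.cons (AdjoinRoot.root _) (fun i => AdjoinRoot.of _ (x i)), ?_⟩
    intro K _ _ z hz
    obtain ⟨π₀, hπ₀⟩ := hx K (Fin.tail z) (fun i => hz i.succ)
    have h0 : Polynomial.eval₂ (π₀ : T →+* K) (z 0) ((G 0).map (algebraMap R T)) = 0 := by
      rw [Polynomial.eval₂_map]
      have : (π₀ : T →+* K).comp (algebraMap R T) = algebraMap R K := π₀.comp_algebraMap
      rw [this]
      exact hz 0
    refine ⟨AdjoinRoot.liftAlgHom _ π₀ (z 0) h0, ?_⟩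
    intro i
    refine Fin.cases ?_ (fun j => ?_) i
    · rw [Fin.cons_zero, AdjoinRoot.liftAlgHom_root]
    · rw [Fin.cons_succ, AdjoinRoot.liftAlgHom_of, hπ₀]
      rfl

end tower

end Groth.Agent.Lib.Helper95.Bosch
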