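import Mathlib

open scoped TensorProduct

namespace Groth.Agent.Lib.Helper95.AzSign

section Idem

variable {B : Type*} [CommRing B] {P : Type*} [AddCommGroup P] [Module B P]

theorem rangeRestrict_comp_subtype (e : P →ₗ[B] P) (he : e ∘ₗ e = e) :
    e.rangeRestrict ∘ₗ (LinearMap.range e).subtype = LinearMap.id := by
  ext ⟨x, y, rfl⟩
  simp only [LinearMap.coe_comp, Function.comp_apply, Submodule.coe_subtype,
    LinearMap.codRestrict_apply, LinearMap.id_coe, id_eq, LinearMap.rangeRestrict]
  exact LinearMap.congr_fun he y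

theorem finite_range [Module.Finite B P] (e : P →ₗ[B] P) : Module.Finite B (LinearMap.range e) :=
  Module.Finite.range e

theorem projective_range [Module.Projective B P] (e : P →ₗ[B] P) (he : e ∘ₗ e = e) :
    Module.Projective B (LinearMap.range e) :=
  Module.Projective.of_split (LinearMap.range e).subtype e.rangeRestrict
    (rangeRestrict_comp_subtype e he)

theorem finrank_range_baseChange_idem [Module.Finite B P] [Module.Projective B P] (e : P →ₗ[B] P) (he : e ∘ₗ e = e)
    (K : Type*) [Field K] [Algebra B K] :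
    Module.finrank K (LinearMap.range (e.baseChange K)) =
      Module.rankAtStalk (R := B) (LinearMap.range e)
        (PrimeSpectrum.comap (algebraMap B K) ⊥) := by
  have := finite_range e
  have := projective_range e he
  set ι := (LinearMap.range e).subtype with hι
  set π := e.rangeRestrict with hπ
  have h1 : π ∘ₗ ι = LinearMap.id := rangeRestrict_comp_subtype e he
  have h2 : ι ∘ₗ π = e := by
    ext x; rfl
  have h1' : π.baseChange K ∘ₗ ι.baseChange K = LinearMap.id := by
    rw [← LinearMap.baseChange_comp, h1, LinearMap.baseChange_id]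
  have hinj : Function.Injective (ι.baseChange K) := by
    intro x y hxy
    have := congrArg (π.baseChange K) hxy
    rwa [← LinearMap.comp_apply, ← LinearMap.comp_apply, h1'] at this
  have hsurj : LinearMap.range (π.baseChange K) = ⊤ := by
    rw [LinearMap.range_eq_top]
    intro y
    exact ⟨ι.baseChange K y, by rw [← LinearMap.comp_apply, h1']; rfl⟩
  have hrange : LinearMap.range (e.baseChange K) = LinearMap.range (ι.baseChange K) := by
    have h2' : e.baseChange K = ι.baseChange K ∘ₗ π.baseChange K := by
      rw [← LinearMap.baseChange_comp, h2]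
    rw [h2', LinearMap.range_comp_of_range_eq_top _ hsurj]
  rw [hrange, LinearMap.finrank_range_of_inj hinj]
  have h3 := Module.rankAtStalk_baseChange (R := B) (M := LinearMap.range e) (S := K) ⊥
  rw [← h3, Module.rankAtStalk_eq_finrank_of_free]
  rfl

end Idem

section TK

variable {R : Type*} [CommRing R] {A : Type*} [AddCommGroup A] [Module R A]
  (t : A →+ A) (lam : R → R) (ht : ∀ r a, t (r • a) = lam r • t a)
  (K : Type*) [CommRing K] [Algebra R K] (hK : ∀ r, algebraMap R K (lam r) = algebraMap R K r)

include ht hK in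
theorem tmul_t_smul (c : K) (r : R) (a : A) :
    c ⊗ₜ[R] t (r • a) = r • (c ⊗ₜ[R] t a) := by
  rw [ht, ← TensorProduct.smul_tmul, TensorProduct.smul_tmul', Algebra.smul_def, hK,
    ← Algebra.smul_def]

/-- the `K`-linear extension `c ⊗ a ↦ c ⊗ t a`. -/
noncomputable def tK : K ⊗[R] A →ₗ[K] K ⊗[R] A :=
  TensorProduct.AlgebraTensorModule.lift
    { toFun := fun c =>
        { toFun := fun a => c ⊗ₜ[R] t a
          map_add' := fun a b => by rw [map_add, TensorProduct.tmul_add]
          map_smul' := fun r a => by
            rw [RingHom.id_apply]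
            exact tmul_t_smul t lam ht K hK c r a }
      map_add' := fun c d => by
        ext a
        exact TensorProduct.add_tmul c d (t a)
      map_smul' := fun c d => by
        ext a
        rw [RingHom.id_apply]
        change (c • d) ⊗ₜ[R] t a = c • (d ⊗ₜ[R] t a)
        rw [TensorProduct.smul_tmul'] }

@[simp] theorem tK_tmul (c : K) (a : A) :
    tK t lam ht K hK (c ⊗ₜ[R] a) = c ⊗ₜ[R] t a := rfl

theorem tK_tK (htt : ∀ a, t (t a) = a) (x : K ⊗[R] A) :
    tK t lam ht K hK (tK t lam ht K hK x) = x := by
  induction x using TensorProduct.induction_on with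
  | zero => simp
  | tmul c a => rw [tK_tmul, tK_tmul, htt]
  | add x y hx hy => rw [map_add, map_add, hx, hy]

/-- the symmetrizing projector `(1 + t)/2`. -/
noncomputable def eK (h₀ : R) : K ⊗[R] A →ₗ[K] K ⊗[R] A :=
  (algebraMap R K h₀) • (LinearMap.id + tK t lam ht K hK)

theorem eK_apply (h₀ : R) (x : K ⊗[R] A) :
    eK t lam ht K hK h₀ x = h₀ • (x + tK t lam ht K hK x) := by
  rw [eK, LinearMap.smul_apply, LinearMap.add_apply, LinearMap.id_apply, algebraMap_smul]

theorem eK_tmul (h₀ : R) (c : K) (a : A) :
    eK t lam ht K hK h₀ (c ⊗ₜ[R] a) = c ⊗ₜ[R] (h₀ • (a + t a)) := by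
  rw [eK_apply, tK_tmul, ← TensorProduct.tmul_add, TensorProduct.tmul_smul]

theorem eK_idem (htt : ∀ a, t (t a) = a) (h₀ : R) (h2 : 2 * h₀ = 1) :
    eK t lam ht K hK h₀ ∘ₗ eK t lam ht K hK h₀ = eK t lam ht K hK h₀ := by
  refine LinearMap.ext fun x => ?_
  simp only [LinearMap.coe_comp, Function.comp_apply, eK_apply, map_add,
    LinearMap.map_smul_of_tower, tK_tK t lam ht K hK htt]
  have : h₀ • (h₀ • (x + tK t lam ht K hK x) + h₀ • (tK t lam ht K hK x + x)) =
      (2 * h₀) • (h₀ • (x + tK t lam ht K hK x)) := by
    rw [two_mul, add_smul, add_comm (tK t lam ht K hK x) x, smul_add h₀ (h₀ • _)]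
  rw [this, h2, one_smul]

theorem span_sym_eq_range (htt : ∀ a, t (t a) = a) (h₀ : R) (h2 : 2 * h₀ = 1) :
    Submodule.span K (Set.range fun a : {a : A // t a = a} => (1 : K) ⊗ₜ[R] (a : A)) =
      LinearMap.range (eK t lam ht K hK h₀) := by
  apply le_antisymm
  · rw [Submodule.span_le]
    rintro _ ⟨⟨a, ha⟩, rfl⟩
    refine ⟨(1 : K) ⊗ₜ[R] a, ?_⟩
    rw [eK_tmul, ha]
    congr 1
    rw [← two_smul R a, smul_smul, mul_comm, h2, one_smul]
  · rintro _ ⟨x, rfl⟩
    induction x using TensorProduct.induction_on with
    | zero => rw [map_zero]; exact Submodule.zero_mem _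
    | add x y hx hy => rw [map_add]; exact Submodule.add_mem _ hx hy
    | tmul c a =>
      rw [eK_tmul, TensorProduct.tmul_smul, TensorProduct.smul_tmul']
      have h1 : (h₀ • c) ⊗ₜ[R] (a + t a) = (h₀ • c) • ((1 : K) ⊗ₜ[R] (a + t a)) := by
        rw [TensorProduct.smul_tmul', smul_eq_mul, mul_one]
      rw [h1]
      refine Submodule.smul_mem _ _ (Submodule.subset_span ⟨⟨a + t a, ?_⟩, rfl⟩)
      rw [map_add, htt, add_comm]

section BC

variable (K' : Type*) [CommRing K'] [Algebra R K'] [Algebra K K'] [IsScalarTower R K K']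
  (hK' : ∀ r, algebraMap R K' (lam r) = algebraMap R K' r)

theorem eK_comp_cancel (h₀ : R) :
    eK t lam ht K' hK' h₀ ∘ₗ
        (TensorProduct.AlgebraTensorModule.cancelBaseChange R K K' K' A).toLinearMap =
      (TensorProduct.AlgebraTensorModule.cancelBaseChange R K K' K' A).toLinearMap ∘ₗ
        (eK t lam ht K hK h₀).baseChange K' := by
  refine LinearMap.ext fun x => ?_
  induction x using TensorProduct.induction_on with
  | zero => simp
  | add x y hx hy => rw [map_add, map_add, hx, hy]
  | tmul c' y =>
    induction y using TensorProduct.induction_on with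
    | zero => simp
    | add x y hx hy => rw [TensorProduct.tmul_add, map_add, map_add, hx, hy]
    | tmul c a =>
      simp only [LinearMap.coe_comp, LinearEquiv.coe_coe, Function.comp_apply,
        TensorProduct.AlgebraTensorModule.cancelBaseChange_tmul, LinearMap.baseChange_tmul,
        eK_tmul]

theorem finrank_range_eK_eq (h₀ : R) :
    Module.finrank K' (LinearMap.range (eK t lam ht K' hK' h₀)) =
      Module.finrank K' (LinearMap.range ((eK t lam ht K hK h₀).baseChange K')) := by
  set σ := TensorProduct.AlgebraTensorModule.cancelBaseChange R K K' K' A with hσ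
  have h1 : LinearMap.range (eK t lam ht K' hK' h₀) =
      LinearMap.range (eK t lam ht K' hK' h₀ ∘ₗ σ.toLinearMap) := by
    rw [LinearMap.range_comp_of_range_eq_top _ (LinearEquiv.range σ)]
  rw [h1, eK_comp_cancel t lam ht K hK K' hK' h₀, LinearMap.range_comp]
  exact LinearEquiv.finrank_map_eq σ _

end BC

end TK

end Groth.Agent.Lib.Helper95.AzSign
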