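import Mathlib

namespace Groth.Agent.Lib.Helper95
open MvPolynomial

section pderivComm
variable {σ : Type*} {R : Type*} [CommRing R]

theorem pderiv_pderiv_comm (i j : σ) (f : MvPolynomial σ R) :
    pderiv i (pderiv j f) = pderiv j (pderiv i f) := by
  classical
  have h : ⁅(pderiv i : Derivation R (MvPolynomial σ R) (MvPolynomial σ R)),
      (pderiv j : Derivation R (MvPolynomial σ R) (MvPolynomial σ R))⁆ = 0 := by
    apply MvPolynomial.derivation_ext
    intro k
    rw [Derivation.commutator_apply]
    simp only [pderiv_X, Pi.single_apply, Derivation.coe_zero, Pi.zero_apply]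
    split_ifs <;> simp
  have := congrArg (fun D => D f) h
  simpa [Derivation.commutator_apply, sub_eq_zero] using this

end pderivComm

section cubic
set_option linter.unusedSectionVars false
variable {σ : Type*} [Fintype σ] [DecidableEq σ] {K : Type*} [Field K] [CharZero K]

/-- the coefficients of the symmetric trilinear form of a cubic -/
noncomputable def cubCoeff (f : MvPolynomial σ K) (i j k : σ) : K :=
  coeff 0 (pderiv i (pderiv j (pderiv k f)))

theorem cubCoeff_comm12 (f : MvPolynomial σ K) (i j k : σ) :
    cubCoeff f i j k = cubCoeff f j i k := by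
  unfold cubCoeff; rw [pderiv_pderiv_comm]

theorem cubCoeff_comm23 (f : MvPolynomial σ K) (i j k : σ) :
    cubCoeff f i j k = cubCoeff f i k j := by
  unfold cubCoeff; rw [pderiv_pderiv_comm j k]

variable {f : MvPolynomial σ K}

theorem pderiv3_eq (hf : f.IsHomogeneous 3) (i j k : σ) :
    pderiv i (pderiv j (pderiv k f)) = C (cubCoeff f i j k) := by
  have h : (pderiv i (pderiv j (pderiv k f))).IsHomogeneous 0 := hf.pderiv.pderiv.pderiv
  rw [← totalDegree_zero_iff_isHomogeneous, totalDegree_eq_zero_iff_eq_C] at h
  exact h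

theorem pderiv2_eq (hf : f.IsHomogeneous 3) (j k : σ) :
    pderiv j (pderiv k f) = ∑ i, X i * C (cubCoeff f i j k) := by
  have h : (pderiv j (pderiv k f)).IsHomogeneous 1 := hf.pderiv.pderiv
  have e := h.sum_X_mul_pderiv
  rw [one_smul] at e
  rw [← e]
  exact Finset.sum_congr rfl fun i _ => by rw [pderiv3_eq hf]

theorem two_smul_pderiv_eq (hf : f.IsHomogeneous 3) (k : σ) :
    2 • pderiv k f = ∑ j, X j * ∑ i, X i * C (cubCoeff f i j k) := by
  have h : (pderiv k f).IsHomogeneous 2 := hf.pderiv
  rw [← h.sum_X_mul_pderiv]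
  exact Finset.sum_congr rfl fun j _ => by rw [pderiv2_eq hf]

theorem six_smul_eq (hf : f.IsHomogeneous 3) :
    6 • f = ∑ k, X k * ∑ j, X j * ∑ i, X i * C (cubCoeff f i j k) := by
  have e := hf.sum_X_mul_pderiv
  have : (6 : ℕ) • f = 2 • (3 • f) := by rw [smul_smul]; norm_num
  rw [this, ← e, Finset.smul_sum]
  refine Finset.sum_congr rfl fun k _ => ?_
  rw [← two_smul_pderiv_eq hf, mul_smul_comm]

/-- the symmetric trilinear form of a cubic -/
noncomputable def phi (f : MvPolynomial σ K) (x y z : σ → K) : K :=
  (1 / 6 : K) * ∑ k, ∑ j, ∑ i, cubCoeff f i j k * x i * y j * z k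

theorem eval_eq_phi (hf : f.IsHomogeneous 3) (x : σ → K) : eval x f = phi f x x x := by
  have h := congrArg (eval x) (six_smul_eq hf)
  simp only [nsmul_eq_mul, map_mul, map_natCast, map_sum, eval_X, eval_C] at h
  unfold phi
  have h6 : (6 : K) ≠ 0 := by norm_num
  field_simp
  rw [mul_comm]
  convert h using 1
  · norm_num
  · refine Finset.sum_congr rfl fun k _ => ?_
    rw [Finset.mul_sum]
    refine Finset.sum_congr rfl fun j _ => ?_
    rw [Finset.mul_sum, Finset.mul_sum]
    refine Finset.sum_congr rfl fun i _ => ?_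
    ring

theorem eval_pderiv_eq_phi (hf : f.IsHomogeneous 3) (x : σ → K) (k : σ) :
    eval x (pderiv k f) = 3 * phi f x x (Pi.single k 1) := by
  have h := congrArg (eval x) (two_smul_pderiv_eq hf k)
  simp only [nsmul_eq_mul, map_mul, map_natCast, map_sum, eval_X, eval_C] at h
  unfold phi
  have : ∀ k' : σ, (∑ j, ∑ i, cubCoeff f i j k' * x i * x j * (Pi.single k (1 : K) : σ → K) k') =
      if k' = k then ∑ j, ∑ i, cubCoeff f i j k * x i * x j else 0 := by
    intro k'
    split_ifs with hk
    · subst hk; simp
    · simp [hk]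
  simp only [this, Finset.sum_ite_eq', Finset.mem_univ, if_true]
  have h2 : (2 : K) ≠ 0 := by norm_num
  have e : (2 : K) * eval x (pderiv k f) = ∑ j, ∑ i, cubCoeff f i j k * x i * x j := by
    rw [show ((2 : ℕ) : K) = 2 by norm_num] at h
    rw [h]
    refine Finset.sum_congr rfl fun j _ => ?_
    rw [Finset.mul_sum]
    refine Finset.sum_congr rfl fun i _ => ?_
    ring
  rw [← e]; ring

end cubic
section cubic2
set_option linter.unusedSectionVars false
variable {σ : Type*} [Fintype σ] [DecidableEq σ] {K : Type*} [Field K] [CharZero K]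
variable (f : MvPolynomial σ K)

theorem phi_comm12 (x y z : σ → K) : phi f x y z = phi f y x z := by
  unfold phi
  congr 1
  refine Finset.sum_congr rfl fun k _ => ?_
  rw [Finset.sum_comm]
  refine Finset.sum_congr rfl fun j _ => ?_
  refine Finset.sum_congr rfl fun i _ => ?_
  rw [cubCoeff_comm12]; ring

theorem phi_comm23 (x y z : σ → K) : phi f x y z = phi f x z y := by
  unfold phi
  congr 1
  rw [Finset.sum_comm]
  refine Finset.sum_congr rfl fun k _ => ?_
  refine Finset.sum_congr rfl fun j _ => ?_
  refine Finset.sum_congr rfl fun i _ => ?_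
  rw [cubCoeff_comm23]; ring

theorem phi_comm13 (x y z : σ → K) : phi f x y z = phi f z y x := by
  rw [phi_comm12, phi_comm23, phi_comm12]

theorem phi_add_left (x x' y z : σ → K) : phi f (x + x') y z = phi f x y z + phi f x' y z := by
  unfold phi
  rw [← mul_add]
  congr 1
  simp only [← Finset.sum_add_distrib]
  refine Finset.sum_congr rfl fun k _ => ?_
  refine Finset.sum_congr rfl fun j _ => ?_
  refine Finset.sum_congr rfl fun i _ => ?_
  simp only [Pi.add_apply]; ring

theorem phi_smul_left (a : K) (x y z : σ → K) : phi f (a • x) y z = a * phi f x y z := by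
  unfold phi
  rw [mul_left_comm]
  congr 1
  simp only [Finset.mul_sum]
  refine Finset.sum_congr rfl fun k _ => ?_
  refine Finset.sum_congr rfl fun j _ => ?_
  refine Finset.sum_congr rfl fun i _ => ?_
  simp only [Pi.smul_apply, smul_eq_mul]; ring

theorem phi_add_mid (x y y' z : σ → K) : phi f x (y + y') z = phi f x y z + phi f x y' z := by
  rw [phi_comm12, phi_add_left, phi_comm12 f y, phi_comm12 f y']

theorem phi_smul_mid (a : K) (x y z : σ → K) : phi f x (a • y) z = a * phi f x y z := by
  rw [phi_comm12, phi_smul_left, phi_comm12]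

theorem phi_add_right (x y z z' : σ → K) : phi f x y (z + z') = phi f x y z + phi f x y z' := by
  rw [phi_comm13, phi_add_left, phi_comm13 f z, phi_comm13 f z']

theorem phi_smul_right (a : K) (x y z : σ → K) : phi f x y (a • z) = a * phi f x y z := by
  rw [phi_comm13, phi_smul_left, phi_comm13]

theorem phi_neg_left (x y z : σ → K) : phi f (-x) y z = - phi f x y z := by
  have := phi_smul_left f (-1) x y z
  simpa using this

theorem phi_neg_mid (x y z : σ → K) : phi f x (-y) z = - phi f x y z := by
  have := phi_smul_mid f (-1) x y z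
  simpa using this

theorem phi_neg_right (x y z : σ → K) : phi f x y (-z) = - phi f x y z := by
  have := phi_smul_right f (-1) x y z
  simpa using this

theorem phi_sub_left (x x' y z : σ → K) : phi f (x - x') y z = phi f x y z - phi f x' y z := by
  rw [sub_eq_add_neg, phi_add_left, phi_neg_left, sub_eq_add_neg]

theorem phi_sub_mid (x y y' z : σ → K) : phi f x (y - y') z = phi f x y z - phi f x y' z := by
  rw [sub_eq_add_neg, phi_add_mid, phi_neg_mid, sub_eq_add_neg]

theorem phi_sub_right (x y z z' : σ → K) : phi f x y (z - z') = phi f x y z - phi f x y z' := by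
  rw [sub_eq_add_neg, phi_add_right, phi_neg_right, sub_eq_add_neg]

/-- linear form `x ↦ phi f a b x`. -/
noncomputable def phiL (a b : σ → K) : (σ → K) →ₗ[K] K where
  toFun x := phi f a b x
  map_add' x y := phi_add_right f a b x y
  map_smul' c x := by simp [phi_smul_right]

@[simp] theorem phiL_apply (a b x : σ → K) : phiL f a b x = phi f a b x := rfl

variable {f}

/-- expansion of the cubic along a line -/
theorem eval_add_smul (hf : f.IsHomogeneous 3) (x e : σ → K) (t : K) :
    eval (x + t • e) f = eval x f + t * (3 * phi f e x x) + t ^ 2 * (3 * phi f e e x)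
      + t ^ 3 * eval e f := by
  rw [eval_eq_phi hf, eval_eq_phi hf, eval_eq_phi hf]
  simp only [phi_add_left, phi_add_mid, phi_add_right, phi_smul_left, phi_smul_mid, phi_smul_right]
  have h1 : phi f x e x = phi f e x x := phi_comm12 ..
  have h2 : phi f x x e = phi f e x x := phi_comm13 ..
  have h3 : phi f x e e = phi f e e x := phi_comm13 ..
  have h4 : phi f e x e = phi f e e x := phi_comm23 ..
  simp only [h1, h2, h3, h4]
  ring

end cubic2

end Groth.Agent.Lib.Helper95
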