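import Mathlib
import Groth.Agent.Lib.Helper95.CubicForm

namespace Groth.Agent.Lib.Helper95
open MvPolynomial

section eckardt
variable {K : Type*} [Field K] [CharZero K]

/-- `e` lies on three distinct lines of the cubic surface `f = 0`. -/
def IsEckardt (f : MvPolynomial (Fin 4) K) (e : Fin 4 → K) : Prop :=
  ∃ U : Fin 3 → Submodule K (Fin 4 → K), Function.Injective U ∧
    ∀ i : Fin 3, Module.finrank K ↥(U i) = 2 ∧ e ∈ U i ∧ ∀ u ∈ U i, eval u f = 0

variable {f : MvPolynomial (Fin 4) K}

theorem IsEckardt.eval_eq_zero {e : Fin 4 → K} (hE : IsEckardt f e) : eval e f = 0 := by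
  obtain ⟨U, -, hU⟩ := hE
  exact (hU 0).2.2 e (hU 0).2.1

/-- a point on a line through `e` inside the cubic surface -/
theorem line_facts (hf : f.IsHomogeneous 3) {e u : Fin 4 → K} (U : Submodule K (Fin 4 → K))
    (he : e ∈ U) (hu : u ∈ U) (hU : ∀ v ∈ U, eval v f = 0) :
    phi f e u u = 0 ∧ phi f e e u = 0 := by
  have h1 := hU (u + (1 : K) • e) (U.add_mem hu (U.smul_mem _ he))
  have h2 := hU (u + (-1 : K) • e) (U.add_mem hu (U.smul_mem _ he))
  rw [eval_add_smul hf, hU u hu, hU e he] at h1 h2
  constructor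
  · linear_combination (1 / 6 : K) * h1 - (1 / 6 : K) * h2
  · linear_combination (1 / 6 : K) * h1 + (1 / 6 : K) * h2

theorem span_pair_eq_of_finrank_two {e u : Fin 4 → K} (U : Submodule K (Fin 4 → K))
    (hU : Module.finrank K U = 2) (he0 : e ≠ 0) (he : e ∈ U) (hu : u ∈ U)
    (hue : u ∉ Submodule.span K {e}) : Submodule.span K {e, u} = U := by
  have hli : LinearIndependent K ![e, u] := by
    rw [LinearIndependent.pair_iff' he0]
    intro a ha
    exact hue (Submodule.mem_span_singleton.mpr ⟨a, ha⟩)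
  have hfr := finrank_span_eq_card hli
  have hrange : Set.range ![e, u] = {e, u} := by
    ext x; simp [Fin.exists_fin_succ, eq_comm]; tauto
  rw [hrange, Fintype.card_fin] at hfr
  apply Submodule.eq_of_le_of_finrank_eq
  · rw [Submodule.span_le]
    intro x hx
    rcases hx with rfl | rfl
    · exact he
    · exact hu
  · rw [hfr, hU]

theorem eckardt_exists_mu (hf : f.IsHomogeneous 3) {e : Fin 4 → K} (he : e ≠ 0)
    (hsm : ∃ i, eval e (pderiv i f) ≠ 0) (hE : IsEckardt f e) :
    ∃ μ : (Fin 4 → K) →ₗ[K] K, μ e = 2 ∧ ∀ x, phi f e x x = phi f e e x * μ x := by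
  have hFe : eval e f = 0 := hE.eval_eq_zero
  have hFe' : phi f e e e = 0 := by rw [← eval_eq_phi hf]; exact hFe
  obtain ⟨U, hUinj, hU⟩ := hE
  -- ℓ
  set ℓ := phiL f e e with hℓ
  have hℓ0 : ℓ ≠ 0 := by
    obtain ⟨i, hi⟩ := hsm
    intro h0
    apply hi
    rw [eval_pderiv_eq_phi hf]
    have : ℓ (Pi.single i 1) = 0 := by rw [h0]; rfl
    rw [phiL_apply] at this
    rw [this, mul_zero]
  -- choose u_i
  have hex : ∀ i, ∃ u ∈ U i, u ∉ Submodule.span K {e} := by
    intro i
    by_contra hcon
    push Not at hcon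
    have hle : U i ≤ Submodule.span K {e} := hcon
    have := Submodule.finrank_mono hle
    rw [(hU i).1, finrank_span_singleton he] at this
    omega
  choose u huU hue using hex
  have hline : ∀ i, phi f e (u i) (u i) = 0 ∧ phi f e e (u i) = 0 := fun i =>
    line_facts hf (U i) (hU i).2.1 (huU i) (hU i).2.2
  have hUspan : ∀ i, Submodule.span K {e, u i} = U i := fun i =>
    span_pair_eq_of_finrank_two (U i) (hU i).1 he (hU i).2.1 (huU i) (hue i)
  have hnot : ∀ i j, i ≠ j → u j ∉ U i := by
    intro i j hij hmem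
    apply hij
    apply hUinj
    have : U j ≤ U i := by
      rw [← hUspan j, Submodule.span_le]
      intro x hx
      rcases hx with rfl | rfl
      · exact (hU i).2.1
      · exact hmem
    exact (Submodule.eq_of_le_of_finrank_eq this (by rw [(hU i).1, (hU j).1])).symm
  -- the tangent plane
  have hli2 : LinearIndependent K ![e, u 0] := by
    rw [LinearIndependent.pair_iff' he]
    intro a ha
    exact hue 0 (Submodule.mem_span_singleton.mpr ⟨a, ha⟩)
  have hli3 : LinearIndependent K ![u 1, e, u 0] := by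
    rw [show (![u 1, e, u 0] : Fin 3 → (Fin 4 → K)) = Fin.cons (u 1) ![e, u 0] from rfl,
      linearIndependent_finCons]
    refine ⟨hli2, ?_⟩
    have hrange : Set.range ![e, u 0] = {e, u 0} := by
      ext x; simp [Fin.exists_fin_succ, eq_comm]; tauto
    rw [hrange, hUspan 0]
    exact hnot 0 1 (by decide)
  have hfr3 := finrank_span_eq_card hli3
  have hrange3 : Set.range ![u 1, e, u 0] = {u 1, e, u 0} := by
    ext x; simp [Fin.exists_fin_succ, eq_comm]; tauto
  rw [hrange3, Fintype.card_fin] at hfr3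
  have hker : Submodule.span K {u 1, e, u 0} = LinearMap.ker ℓ := by
    apply Submodule.eq_of_le_of_finrank_le
    · rw [Submodule.span_le]
      intro x hx
      rw [SetLike.mem_coe, LinearMap.mem_ker, hℓ, phiL_apply]
      rcases hx with rfl | rfl | rfl
      · exact (hline 1).2
      · exact hFe'
      · exact (hline 0).2
    · rw [hfr3]
      have hne : LinearMap.ker ℓ ≠ ⊤ := by
        intro h
        apply hℓ0
        exact LinearMap.ker_eq_top.mp h
      have := Submodule.finrank_lt hne
      rw [Module.finrank_fintype_fun_eq_card, Fintype.card_fin] at this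
      omega
  -- expansion on the tangent plane
  have hexp : ∀ a b c : K, phi f e (a • u 1 + b • e + c • u 0) (a • u 1 + b • e + c • u 0) =
      2 * a * c * phi f e (u 1) (u 0) := by
    intro a b c
    simp only [phi_add_mid, phi_add_right, phi_smul_mid, phi_smul_right]
    have h1 : phi f e e (u 1) = 0 := (hline 1).2
    have h2 : phi f e e (u 0) = 0 := (hline 0).2
    have h3 : phi f e (u 1) e = 0 := by rw [phi_comm23]; exact h1
    have h4 : phi f e (u 0) e = 0 := by rw [phi_comm23]; exact h2
    have h5 : phi f e (u 0) (u 1) = phi f e (u 1) (u 0) := phi_comm23 ..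
    rw [(hline 1).1, (hline 0).1, h1, h2, h3, h4, h5, hFe']
    ring
  have hu2 : u 2 ∈ Submodule.span K {u 1, e, u 0} := by
    rw [hker, LinearMap.mem_ker, hℓ, phiL_apply]; exact (hline 2).2
  obtain ⟨a, b, c, habc⟩ := Submodule.mem_span_triple.mp hu2
  have ha : a ≠ 0 := by
    rintro rfl
    apply hnot 0 2 (by decide)
    rw [← hUspan 0, ← habc, zero_smul, zero_add]
    exact Submodule.mem_span_pair.mpr ⟨b, c, rfl⟩
  have hc : c ≠ 0 := by
    rintro rfl
    apply hnot 1 2 (by decide)
    rw [← hUspan 1, ← habc, zero_smul, add_zero]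
    exact Submodule.mem_span_pair.mpr ⟨b, a, by rw [add_comm]⟩
  have hB : phi f e (u 1) (u 0) = 0 := by
    have h := (hline 2).1
    rw [← habc, hexp] at h
    have : 2 * a * c ≠ 0 := mul_ne_zero (mul_ne_zero two_ne_zero ha) hc
    exact (mul_eq_zero.mp h).resolve_left this
  have hT : ∀ x, ℓ x = 0 → phi f e x x = 0 := by
    intro x hx
    have hx' : x ∈ Submodule.span K {u 1, e, u 0} := by rw [hker]; exact hx
    obtain ⟨a', b', c', rfl⟩ := Submodule.mem_span_triple.mp hx'
    rw [hexp, hB, mul_zero]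
  -- a vector w with ℓ w = 1
  obtain ⟨v, hv⟩ : ∃ v, ℓ v ≠ 0 := by
    by_contra hcon
    push Not at hcon
    exact hℓ0 (LinearMap.ext hcon)
  set w := (ℓ v)⁻¹ • v with hw
  have hℓw : ℓ w = 1 := by rw [hw, map_smul, smul_eq_mul, inv_mul_cancel₀ hv]
  have hℓw' : phi f e e w = 1 := hℓw
  refine ⟨(2 : K) • phiL f e w - (phi f e w w) • ℓ, ?_, ?_⟩
  · simp only [LinearMap.sub_apply, LinearMap.smul_apply, phiL_apply, smul_eq_mul, hℓ]
    rw [phi_comm23 f e w e, hℓw', hFe']; ring
  · intro x
    have hx' : ℓ (x - ℓ x • w) = 0 := by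
      rw [map_sub, map_smul, hℓw, smul_eq_mul, mul_one, sub_self]
    have h := hT _ hx'
    simp only [phi_sub_mid, phi_sub_right, phi_smul_mid, phi_smul_right] at h
    simp only [LinearMap.sub_apply, LinearMap.smul_apply, phiL_apply, smul_eq_mul, hℓ]
    have h6 : phi f e x w = phi f e w x := phi_comm23 ..
    rw [h6] at h
    rw [hℓ, phiL_apply] at h
    linear_combination h

end eckardt
end Groth.Agent.Lib.Helper95
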