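import Mathlib
import Groth.Agent.Lib.Helper95.CubicForm
import Groth.Agent.Lib.Helper95.CubicEckardt

namespace Groth.Agent.Lib.Helper95
open MvPolynomial

section invol
variable {K : Type*} [Field K] [CharZero K]
variable {f : MvPolynomial (Fin 4) K}

/-- polynomial-level invariance is function-level invariance -/
theorem aeval_linear_eq_iff (A : Matrix (Fin 4) (Fin 4) K) (c : K) :
    aeval (fun i : Fin 4 => ∑ j : Fin 4, C (A i j) * X j) f = C c * f ↔
      ∀ x : Fin 4 → K, eval (A.mulVec x) f = c * eval x f := by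
  have key : ∀ x : Fin 4 → K,
      eval x (aeval (fun i : Fin 4 => ∑ j : Fin 4, C (A i j) * X j) f) = eval (A.mulVec x) f := by
    intro x
    have h := comp_aeval_apply (R := K) (f := fun i : Fin 4 => ∑ j : Fin 4, C (A i j) * X j)
      (MvPolynomial.aeval x : MvPolynomial (Fin 4) K →ₐ[K] K) f
    simp only [aeval_eq_eval] at h
    rw [h]
    congr 2
    funext i
    simp [Matrix.mulVec, dotProduct]
  constructor
  · intro h x
    rw [← key, h, map_mul, eval_C]
  · intro h
    apply MvPolynomial.funext
    intro x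
    rw [key, h, map_mul, eval_C]

/-- the involution attached to `e` and `μ`. -/
noncomputable def involMat (e : Fin 4 → K) (μ : (Fin 4 → K) →ₗ[K] K) : Matrix (Fin 4) (Fin 4) K :=
  LinearMap.toMatrix' (LinearMap.id - μ.smulRight e)

theorem involMat_mulVec (e : Fin 4 → K) (μ : (Fin 4 → K) →ₗ[K] K) (x : Fin 4 → K) :
    (involMat e μ).mulVec x = x - μ x • e := by
  unfold involMat
  rw [LinearMap.toMatrix'_mulVec]
  simp

theorem matrix_eq_of_mulVec {A B : Matrix (Fin 4) (Fin 4) K}
    (h : ∀ x, A.mulVec x = B.mulVec x) : A = B :=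
  Matrix.mulVec_injective (funext h)

/-- the values of `f` on `x + t e` when `f e = 0`, in terms of `μ`. -/
theorem eval_add_smul_mu (hf : f.IsHomogeneous 3) {e : Fin 4 → K} (hFe : eval e f = 0)
    (μ : (Fin 4 → K) →ₗ[K] K) (hμ : ∀ x, phi f e x x = phi f e e x * μ x) (x : Fin 4 → K) (t : K) :
    eval (x + t • e) f = eval x f + 3 * phi f e e x * t * (μ x + t) := by
  rw [eval_add_smul hf, hFe, hμ]; ring

theorem involMat_spec (hf : f.IsHomogeneous 3) {e : Fin 4 → K} (he : e ≠ 0) (hFe : eval e f = 0)
    (μ : (Fin 4 → K) →ₗ[K] K) (hμe : μ e = 2) (hμ : ∀ x, phi f e x x = phi f e e x * μ x) :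
    involMat e μ * involMat e μ = 1 ∧
      Module.finrank K ↥(LinearMap.ker (Matrix.toLin' (involMat e μ) - LinearMap.id)) = 3 ∧
      (involMat e μ).mulVec e = -e ∧ ∀ x, eval ((involMat e μ).mulVec x) f = eval x f := by
  refine ⟨?_, ?_, ?_, ?_⟩
  · apply matrix_eq_of_mulVec
    intro x
    rw [← Matrix.mulVec_mulVec, involMat_mulVec, involMat_mulVec, Matrix.one_mulVec]
    simp only [map_sub, map_smul, hμe, smul_eq_mul]
    rw [sub_smul, mul_smul]
    ext i
    simp only [Pi.sub_apply, Pi.smul_apply, smul_eq_mul]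
    ring
  · have hμ0 : μ ≠ 0 := by
      intro h; rw [h] at hμe; simp at hμe
    have hker : LinearMap.ker (Matrix.toLin' (involMat e μ) - LinearMap.id) = LinearMap.ker μ := by
      ext x
      simp only [LinearMap.mem_ker, LinearMap.sub_apply, Matrix.toLin'_apply, involMat_mulVec,
        LinearMap.id_apply]
      constructor
      · intro h
        have : μ x • e = 0 := by
          have h2 : x - μ x • e - x = -(μ x • e) := by abel
          rw [h2] at h
          exact neg_eq_zero.mp h
        exact (smul_eq_zero.mp this).resolve_right he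
      · intro h; rw [h]; simp
    rw [hker]
    have := Module.Dual.finrank_ker_add_one_of_ne_zero hμ0
    rw [Module.finrank_fintype_fun_eq_card, Fintype.card_fin] at this
    omega
  · rw [involMat_mulVec, hμe]
    ext i; simp only [Pi.sub_apply, Pi.smul_apply, smul_eq_mul, Pi.neg_apply]; ring
  · intro x
    rw [involMat_mulVec, sub_eq_add_neg, ← neg_smul, eval_add_smul_mu hf hFe μ hμ]
    ring

theorem invol_unique (hf : f.IsHomogeneous 3) {e : Fin 4 → K} (he : e ≠ 0) (hFe : eval e f = 0)
    (hℓ : ∃ x, phi f e e x ≠ 0)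
    (μ : (Fin 4 → K) →ₗ[K] K) (hμe : μ e = 2) (hμ : ∀ x, phi f e x x = phi f e e x * μ x)
    (A : Matrix (Fin 4) (Fin 4) K)
    (h2 : Module.finrank K ↥(LinearMap.ker (Matrix.toLin' A - LinearMap.id)) = 3)
    (h3 : A.mulVec e = -e) (h4 : ∃ c : K, ∀ x, eval (A.mulVec x) f = c * eval x f) :
    A = involMat e μ := by
  obtain ⟨c, hc⟩ := h4
  set D : (Fin 4 → K) →ₗ[K] (Fin 4 → K) := Matrix.toLin' A - LinearMap.id with hD
  have hDe : D e = (-2 : K) • e := by
    simp only [hD, LinearMap.sub_apply, Matrix.toLin'_apply, h3, LinearMap.id_apply]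
    ext i; simp only [Pi.sub_apply, Pi.smul_apply, smul_eq_mul, Pi.neg_apply]; ring
  -- range D = span {e}
  have hrange : LinearMap.range D = Submodule.span K {e} := by
    symm
    apply Submodule.eq_of_le_of_finrank_eq
    · rw [Submodule.span_le, Set.singleton_subset_iff]
      refine ⟨(-2 : K)⁻¹ • e, ?_⟩
      rw [map_smul, hDe, smul_smul]
      norm_num
    · rw [finrank_span_singleton he]
      have := LinearMap.finrank_range_add_finrank_ker D
      rw [h2, Module.finrank_fintype_fun_eq_card, Fintype.card_fin] at this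
      omega
  have hs : ∀ x, ∃ s : K, A.mulVec x = x + s • e := by
    intro x
    have : D x ∈ Submodule.span K {e} := by rw [← hrange]; exact ⟨x, rfl⟩
    obtain ⟨s, hs⟩ := Submodule.mem_span_singleton.mp this
    refine ⟨s, ?_⟩
    have : D x = A.mulVec x - x := by simp [hD, Matrix.toLin'_apply]
    rw [this] at hs
    rw [hs]; abel
  -- the functional equation along the line
  have hline : ∀ (x : Fin 4 → K) (s : K), A.mulVec x = x + s • e → ∀ t : K,
      eval x f + 3 * phi f e e x * (s - t) * (μ x + (s - t)) =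
        c * (eval x f + 3 * phi f e e x * t * (μ x + t)) := by
    intro x s hxs t
    have h := hc (x + t • e)
    rw [Matrix.mulVec_add, Matrix.mulVec_smul, h3, hxs] at h
    have : x + s • e + t • -e = x + (s - t) • e := by
      rw [sub_smul, smul_neg]; abel
    rw [this, eval_add_smul_mu hf hFe μ hμ, eval_add_smul_mu hf hFe μ hμ] at h
    exact h
  -- c = 1
  have hc1 : c = 1 := by
    obtain ⟨x0, hx0⟩ := hℓ
    obtain ⟨s, hs0⟩ := hs x0
    have e0 := hline x0 s hs0 0
    have e1 := hline x0 s hs0 1
    have e2 := hline x0 s hs0 (-1)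
    have : (1 - c) * (6 * phi f e e x0) = 0 := by
      linear_combination e1 + e2 - 2 * e0
    rcases mul_eq_zero.mp this with h | h
    · linear_combination -h
    · exfalso; apply hx0
      have h6 : (6 : K) ≠ 0 := by norm_num
      exact (mul_eq_zero.mp h).resolve_left h6
  subst hc1
  -- s = - μ x when ℓ x ≠ 0
  have hgood : ∀ x, phi f e e x ≠ 0 → A.mulVec x = x - μ x • e := by
    intro x hx
    obtain ⟨s, hs0⟩ := hs x
    have e1 := hline x s hs0 1
    have e2 := hline x s hs0 (-1)
    have : (12 * phi f e e x) * (μ x + s) = 0 := by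
      linear_combination e2 - e1
    have hs' : μ x + s = 0 := by
      rcases mul_eq_zero.mp this with h | h
      · exfalso; apply hx
        have h12 : (12 : K) ≠ 0 := by norm_num
        exact (mul_eq_zero.mp h).resolve_left h12
      · exact h
    rw [hs0, show s = - μ x by linear_combination hs', neg_smul, sub_eq_add_neg]
  apply matrix_eq_of_mulVec
  intro x
  rw [involMat_mulVec]
  by_cases hx : phi f e e x = 0
  · obtain ⟨w, hw⟩ := hℓ
    have hxw : phi f e e (x + w) ≠ 0 := by rw [phi_add_right, hx, zero_add]; exact hw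
    have h1 := hgood (x + w) hxw
    have h2 := hgood w hw
    have : A.mulVec x = A.mulVec (x + w) - A.mulVec w := by
      rw [Matrix.mulVec_add]; abel
    rw [this, h1, h2, map_add, add_smul]; abel
  · exact hgood x hx

end invol
end Groth.Agent.Lib.Helper95
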