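import Mathlib
import Groth.Agent.Lib.Helper95.CubicInvol

namespace Groth.Agent.Lib.Helper95
open MvPolynomial

section pair
variable {K : Type*} [Field K] [CharZero K]
variable {f : MvPolynomial (Fin 4) K}

theorem IsEckardt.mulVec {e : Fin 4 → K} {A : Matrix (Fin 4) (Fin 4) K} (hA : A * A = 1)
    (hinv : ∀ x, eval (A.mulVec x) f = eval x f) (hE : IsEckardt f e) :
    IsEckardt f (A.mulVec e) := by
  obtain ⟨U, hinj, hU⟩ := hE
  have hAinj : Function.Injective (Matrix.toLin' A) := by
    intro x y h
    have := congrArg (Matrix.toLin' A) h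
    simpa [Matrix.toLin'_apply, Matrix.mulVec_mulVec, hA] using this
  refine ⟨fun i => (U i).map (Matrix.toLin' A), ?_, ?_⟩
  · intro i j h
    exact hinj (Submodule.map_injective_of_injective hAinj h)
  · intro i
    refine ⟨?_, ?_, ?_⟩
    · rw [← (hU i).1]
      exact (Submodule.equivMapOfInjective _ hAinj (U i)).finrank_eq.symm
    · exact ⟨e, (hU i).2.1, by rw [Matrix.toLin'_apply]⟩
    · rintro _ ⟨v, hv, rfl⟩
      rw [Matrix.toLin'_apply, hinv]
      exact (hU i).2.2 v hv

/-- values of the cubic on the line through two points of the surface -/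
theorem eval_pair (hf : f.IsHomogeneous 3) {e e' : Fin 4 → K} (hFe : eval e f = 0)
    (hFe' : eval e' f = 0) (a b : K) :
    eval (a • e + b • e') f = 3 * a * b * (a * phi f e e e' + b * phi f e e' e') := by
  have h1 : phi f e e e = 0 := by rw [← eval_eq_phi hf]; exact hFe
  have h2 : phi f e' e' e' = 0 := by rw [← eval_eq_phi hf]; exact hFe'
  rw [eval_eq_phi hf]
  simp only [phi_add_left, phi_add_mid, phi_add_right, phi_smul_left, phi_smul_mid, phi_smul_right]
  have c1 : phi f e e' e = phi f e e e' := phi_comm23 ..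
  have c2 : phi f e' e e = phi f e e e' := phi_comm13 ..
  have c3 : phi f e' e e' = phi f e e' e' := phi_comm12 ..
  have c4 : phi f e' e' e = phi f e e' e' := phi_comm13 ..
  rw [h1, h2, c1, c2, c3, c4]
  ring

theorem not_mem_span_symm {e e' : Fin 4 → K} (he : e ≠ 0) (he' : e' ∉ Submodule.span K {e}) :
    e ∉ Submodule.span K {e'} := by
  intro h
  obtain ⟨c, hc⟩ := Submodule.mem_span_singleton.mp h
  apply he'
  have hc0 : c ≠ 0 := by
    rintro rfl; rw [zero_smul] at hc; exact he hc.symm
  rw [Submodule.mem_span_singleton]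
  exact ⟨c⁻¹, by rw [← hc, smul_smul, inv_mul_cancel₀ hc0, one_smul]⟩

theorem pair_coeff_unique {e e' : Fin 4 → K} (he : e ≠ 0) (he' : e' ∉ Submodule.span K {e})
    {a b a' b' : K} (h : a • e + b • e' = a' • e + b' • e') : a = a' ∧ b = b' := by
  have hli : LinearIndependent K ![e, e'] := by
    rw [LinearIndependent.pair_iff' he]
    intro c hc
    exact he' (Submodule.mem_span_singleton.mpr ⟨c, hc⟩)
  rw [LinearIndependent.pair_iff] at hli
  have := hli (a - a') (b - b') (by rw [sub_smul, sub_smul]; linear_combination (exp := 1) h)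
  exact ⟨sub_eq_zero.mp this.1, sub_eq_zero.mp this.2⟩

/-- data attached to two Eckardt points -/
theorem two_eckardt (hf : f.IsHomogeneous 3) {e e' : Fin 4 → K} (hFe : eval e f = 0)
    (hFe' : eval e' f = 0)
    (μ μ' : (Fin 4 → K) →ₗ[K] K) (hμ : ∀ x, phi f e x x = phi f e e x * μ x)
    (hμ' : ∀ x, phi f e' x x = phi f e' e' x * μ' x) :
    phi f e e' e' = phi f e e e' * μ e' ∧ phi f e e e' = phi f e e' e' * μ' e := by
  constructor
  · exact hμ e'
  · have := hμ' e
    rw [phi_comm13 f e' e e, phi_comm13 f e' e' e] at this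
    exact this

/-- third zero on the line, nondegenerate case -/
theorem third_zero (hf : f.IsHomogeneous 3) {e e' : Fin 4 → K} (hFe : eval e f = 0)
    (hFe' : eval e' f = 0) (m : K) (hα : phi f e e e' ≠ 0) (hm : phi f e e' e' = phi f e e e' * m)
    (a b : K) (ha : a ≠ 0) (hb : b ≠ 0) (hz : eval (a • e + b • e') f = 0) :
    a • e + b • e' = b • (e' - m • e) := by
  rw [eval_pair hf hFe hFe', hm] at hz
  have h3 : (3 : K) * a * b ≠ 0 := mul_ne_zero (mul_ne_zero (by norm_num) ha) hb
  have h := (mul_eq_zero.mp hz).resolve_left h3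
  have h' : phi f e e e' * (a + b * m) = 0 := by linear_combination h
  have h'' : a = - b * m := by
    have := (mul_eq_zero.mp h').resolve_left hα
    linear_combination this
  rw [h'', smul_sub, smul_smul]
  ext i; simp only [Pi.add_apply, Pi.smul_apply, Pi.sub_apply, smul_eq_mul]; ring

/-- The line through two Eckardt points: the main dichotomy. -/
theorem eckardt_line (hf : f.IsHomogeneous 3)
    (hsm : ∀ v : Fin 4 → K, v ≠ 0 → eval v f = 0 → ∃ i : Fin 4, eval v (pderiv i f) ≠ 0)
    {e e' : Fin 4 → K} (he : e ≠ 0) (he' : e' ∉ Submodule.span K {e})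
    (hE : IsEckardt f e) (hE' : IsEckardt f e') :
    Xor (∀ u ∈ Submodule.span K {e, e'}, eval u f = 0)
      (∃ e'' : Fin 4 → K, e'' ∈ Submodule.span K {e, e'} ∧ e'' ∉ Submodule.span K {e} ∧
        e'' ∉ Submodule.span K {e'} ∧ IsEckardt f e'' ∧
        ∀ u ∈ Submodule.span K {e, e'}, eval u f = 0 →
          u ∈ Submodule.span K {e} ∨ u ∈ Submodule.span K {e'} ∨ u ∈ Submodule.span K {e''}) := by
  have he'0 : e' ≠ 0 := by
    rintro rfl; exact he' (Submodule.zero_mem _)
  have hee' : e ∉ Submodule.span K {e'} := not_mem_span_symm he he'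
  have hFe := hE.eval_eq_zero
  have hFe' := hE'.eval_eq_zero
  obtain ⟨μ, hμe, hμ⟩ := eckardt_exists_mu hf he (hsm e he hFe) hE
  obtain ⟨μ', hμe', hμ'⟩ := eckardt_exists_mu hf he'0 (hsm e' he'0 hFe') hE'
  obtain ⟨r1, r2⟩ := two_eckardt hf hFe hFe' μ μ' hμ hμ'
  by_cases hα : phi f e e e' = 0
  · -- the line lies on the surface
    have hβ : phi f e e' e' = 0 := by rw [r1, hα, zero_mul]
    have hall : ∀ u ∈ Submodule.span K {e, e'}, eval u f = 0 := by
      intro u hu
      obtain ⟨a, b, rfl⟩ := Submodule.mem_span_pair.mp hu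
      rw [eval_pair hf hFe hFe', hα, hβ]; ring
    left
    refine ⟨hall, ?_⟩
    rintro ⟨e'', hL, h1, h2, -, hz⟩
    obtain ⟨a, b, rfl⟩ := Submodule.mem_span_pair.mp hL
    have ha : a ≠ 0 := by
      rintro rfl
      apply h2
      rw [zero_smul, zero_add]
      exact Submodule.smul_mem _ _ (Submodule.mem_span_singleton_self _)
    have hb : b ≠ 0 := by
      rintro rfl
      apply h1
      rw [zero_smul, add_zero]
      exact Submodule.smul_mem _ _ (Submodule.mem_span_singleton_self _)
    have hu : a • e + (2 * b) • e' ∈ Submodule.span K {e, e'} :=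
      Submodule.mem_span_pair.mpr ⟨a, 2 * b, rfl⟩
    rcases hz _ hu (hall _ hu) with h | h | h
    · obtain ⟨c, hc⟩ := Submodule.mem_span_singleton.mp h
      have := pair_coeff_unique he he' (a := c) (b := 0) (a' := a) (b' := 2 * b)
        (by rw [zero_smul, add_zero]; exact hc)
      have h2b : 2 * b ≠ 0 := mul_ne_zero two_ne_zero hb
      exact h2b this.2.symm
    · obtain ⟨c, hc⟩ := Submodule.mem_span_singleton.mp h
      have := pair_coeff_unique he he' (a := 0) (b := c) (a' := a) (b' := 2 * b)
        (by rw [zero_smul, zero_add]; exact hc)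
      exact ha this.1.symm
    · obtain ⟨c, hc⟩ := Submodule.mem_span_singleton.mp h
      have := pair_coeff_unique he he' (a := c * a) (b := c * b) (a' := a) (b' := 2 * b)
        (by rw [← hc, smul_add, smul_smul, smul_smul])
      have hc1 : c = 1 := by
        have := this.1
        field_simp at this
        exact this
      rw [hc1] at this
      have := this.2
      apply hb
      linear_combination -this
  · -- nondegenerate case
    have hβ : phi f e e' e' ≠ 0 := by
      intro h; apply hα; rw [r2, h, zero_mul]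
    have hm : μ e' ≠ 0 := by
      intro h; apply hβ; rw [r1, h, mul_zero]
    right
    constructor
    swap
    · intro hall
      have h1 := hall (1 • e + 1 • e') (Submodule.mem_span_pair.mpr ⟨1, 1, rfl⟩)
      have h2 := hall (1 • e + 2 • e') (Submodule.mem_span_pair.mpr ⟨1, 2, rfl⟩)
      rw [eval_pair hf hFe hFe'] at h1 h2
      apply hβ
      linear_combination (1 / 6 : K) * h2 - (1 / 3 : K) * h1
    · obtain ⟨s1, s2, s3, s4⟩ := involMat_spec hf he hFe μ hμe hμ
      refine ⟨(involMat e μ).mulVec e', ?_, ?_, ?_, hE'.mulVec s1 s4, ?_⟩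
      · rw [involMat_mulVec]
        exact Submodule.mem_span_pair.mpr ⟨-μ e', 1, by rw [one_smul, neg_smul]; abel⟩
      · rw [involMat_mulVec]
        intro h
        apply he'
        have := Submodule.add_mem _ h (Submodule.smul_mem _ (μ e') (Submodule.mem_span_singleton_self e))
        simpa using this
      · rw [involMat_mulVec]
        intro h
        apply hee'
        have h2 : μ e' • e ∈ Submodule.span K {e'} := by
          have := Submodule.sub_mem _ (Submodule.mem_span_singleton_self e') h
          simpa using this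
        have := Submodule.smul_mem _ (μ e')⁻¹ h2
        rwa [smul_smul, inv_mul_cancel₀ hm, one_smul] at this
      · intro u hu hz
        obtain ⟨a, b, rfl⟩ := Submodule.mem_span_pair.mp hu
        by_cases ha : a = 0
        · right; left
          rw [ha, zero_smul, zero_add]
          exact Submodule.smul_mem _ _ (Submodule.mem_span_singleton_self _)
        by_cases hb : b = 0
        · left
          rw [hb, zero_smul, add_zero]
          exact Submodule.smul_mem _ _ (Submodule.mem_span_singleton_self _)
        right; right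
        rw [third_zero hf hFe hFe' (μ e') hα r1 a b ha hb hz, involMat_mulVec]
        exact Submodule.smul_mem _ _ (Submodule.mem_span_singleton_self _)

end pair
end Groth.Agent.Lib.Helper95
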