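import Mathlib
import Groth.Agent.Lib.Helper95.CubicPair

namespace Groth.Agent.Lib.Helper95
open MvPolynomial

section triple
variable {K : Type*} [Field K] [CharZero K]
variable {f : MvPolynomial (Fin 4) K}

theorem exists_phi_ne_zero (hf : f.IsHomogeneous 3) {e : Fin 4 → K}
    (hsm : ∃ i, eval e (pderiv i f) ≠ 0) : ∃ x, phi f e e x ≠ 0 := by
  obtain ⟨i, hi⟩ := hsm
  refine ⟨Pi.single i 1, ?_⟩
  rw [eval_pderiv_eq_phi hf] at hi
  intro h; apply hi; rw [h, mul_zero]

/-- An Eckardt involution is the canonical one. -/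
theorem eckardt_invol_eq (hf : f.IsHomogeneous 3)
    (hsm : ∀ v : Fin 4 → K, v ≠ 0 → eval v f = 0 → ∃ i : Fin 4, eval v (pderiv i f) ≠ 0)
    {e : Fin 4 → K} (he : e ≠ 0) (hE : IsEckardt f e) (A : Matrix (Fin 4) (Fin 4) K)
    (hA : A * A = 1 ∧ Module.finrank K ↥(LinearMap.ker (Matrix.toLin' A - LinearMap.id)) = 3 ∧
        A.mulVec e = -e ∧
        ∃ c : K, aeval (fun i : Fin 4 => ∑ j : Fin 4, C (A i j) * X j) f = C c * f) :
    ∃ μ : (Fin 4 → K) →ₗ[K] K, μ e = 2 ∧ (∀ x, phi f e x x = phi f e e x * μ x) ∧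
      A = involMat e μ := by
  have hFe := hE.eval_eq_zero
  obtain ⟨μ, hμe, hμ⟩ := eckardt_exists_mu hf he (hsm e he hFe) hE
  obtain ⟨-, h2, h3, c, hc⟩ := hA
  exact ⟨μ, hμe, hμ, invol_unique hf he hFe (exists_phi_ne_zero hf (hsm e he hFe)) μ hμe hμ A h2 h3
    ⟨c, (aeval_linear_eq_iff A c).mp hc⟩⟩

theorem finrank_ker_sub_id (M : Matrix (Fin 4) (Fin 4) K) (ν : (Fin 4 → K) →ₗ[K] K)
    (v : Fin 4 → K) (hv : v ≠ 0) (hν : ν ≠ 0) (hM : ∀ x, M.mulVec x = x - ν x • v) :
    Module.finrank K ↥(LinearMap.ker (Matrix.toLin' M - LinearMap.id)) = 3 := by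
  have hker : LinearMap.ker (Matrix.toLin' M - LinearMap.id) = LinearMap.ker ν := by
    ext x
    simp only [LinearMap.mem_ker, LinearMap.sub_apply, Matrix.toLin'_apply, hM,
      LinearMap.id_apply]
    constructor
    · intro h
      have : ν x • v = 0 := by
        have h2 : x - ν x • v - x = -(ν x • v) := by abel
        rw [h2] at h
        exact neg_eq_zero.mp h
      exact (smul_eq_zero.mp this).resolve_right hv
    · intro h; rw [h]; simp
  rw [hker]
  have := Module.Dual.finrank_ker_add_one_of_ne_zero hν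
  rw [Module.finrank_fintype_fun_eq_card, Fintype.card_fin] at this
  omega

/-- conjugating the involution of `e'` by the involution of `e` gives the involution of the
third point of the line. -/
theorem conj_invol_eq (hf : f.IsHomogeneous 3)
    (hsm : ∀ v : Fin 4 → K, v ≠ 0 → eval v f = 0 → ∃ i : Fin 4, eval v (pderiv i f) ≠ 0)
    {e e' e'' : Fin 4 → K} (he : e ≠ 0) (he'0 : e' ≠ 0) (he''0 : e'' ≠ 0)
    (hFe : eval e f = 0) (hFe' : eval e' f = 0) (hE'' : IsEckardt f e'')
    (μ μ' μ'' : (Fin 4 → K) →ₗ[K] K) (hμe : μ e = 2) (hμ : ∀ x, phi f e x x = phi f e e x * μ x)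
    (hμe' : μ' e' = 2) (hμ' : ∀ x, phi f e' x x = phi f e' e' x * μ' x)
    (hμe'' : μ'' e'' = 2) (hμ'' : ∀ x, phi f e'' x x = phi f e'' e'' x * μ'' x)
    (b : K) (hb : b ≠ 0) (h3 : e'' = b • (involMat e μ).mulVec e') :
    involMat e μ * involMat e' μ' * involMat e μ = involMat e'' μ'' := by
  obtain ⟨s1, s2, s3, s4⟩ := involMat_spec hf he hFe μ hμe hμ
  obtain ⟨t1, t2, t3, t4⟩ := involMat_spec hf he'0 hFe' μ' hμe' hμ'
  have hFe'' := hE''.eval_eq_zero
  have hA'x := involMat_mulVec e' μ'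
  generalize involMat e μ = A at *
  generalize involMat e' μ' = A' at *
  have hAA : ∀ x, A.mulVec (A.mulVec x) = x := by
    intro x; rw [Matrix.mulVec_mulVec, s1, Matrix.one_mulVec]
  have hMx : ∀ x, (A * A' * A).mulVec x = x - (μ' (A.mulVec x)) • A.mulVec e' := by
    intro x
    rw [← Matrix.mulVec_mulVec, ← Matrix.mulVec_mulVec]
    rw [hA'x, Matrix.mulVec_sub, Matrix.mulVec_smul, hAA]
  have hAe' : A.mulVec e' ≠ 0 := by
    intro h
    apply he'0
    have := hAA e'
    rw [h, Matrix.mulVec_zero] at this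
    exact this.symm
  apply invol_unique hf he''0 hFe'' (exists_phi_ne_zero hf (hsm e'' he''0 hFe'')) μ'' hμe'' hμ''
  · apply finrank_ker_sub_id (A * A' * A) (μ'.comp (Matrix.toLin' A)) (A.mulVec e') hAe'
    · intro h
      have := congrArg (fun g => g (A.mulVec e')) h
      simp only [LinearMap.comp_apply, Matrix.toLin'_apply, hAA, hμe', LinearMap.zero_apply] at this
      norm_num at this
    · intro x
      rw [hMx]; rfl
  · rw [h3, Matrix.mulVec_smul, hMx, hAA, hμe']
    rw [two_smul, sub_add_eq_sub_sub, sub_self, zero_sub, smul_neg]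
  · refine ⟨1, fun x => ?_⟩
    rw [← Matrix.mulVec_mulVec, ← Matrix.mulVec_mulVec, s4, t4, s4, one_mul]

theorem eckardt_triple (hf : f.IsHomogeneous 3)
    (hsm : ∀ v : Fin 4 → K, v ≠ 0 → eval v f = 0 → ∃ i : Fin 4, eval v (pderiv i f) ≠ 0)
    {e e' e'' : Fin 4 → K} (he : e ≠ 0) (he' : e' ∉ Submodule.span K {e})
    (he''1 : e'' ∉ Submodule.span K {e}) (he''2 : e'' ∉ Submodule.span K {e'})
    (he''L : e'' ∈ Submodule.span K {e, e'})
    (hE : IsEckardt f e) (hE' : IsEckardt f e') (hE'' : IsEckardt f e'')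
    (hL : ¬ ∀ u ∈ Submodule.span K {e, e'}, eval u f = 0)
    (A A' A'' : Matrix (Fin 4) (Fin 4) K)
    (hA : A * A = 1 ∧ Module.finrank K ↥(LinearMap.ker (Matrix.toLin' A - LinearMap.id)) = 3 ∧
        A.mulVec e = -e ∧
        ∃ c : K, aeval (fun i : Fin 4 => ∑ j : Fin 4, C (A i j) * X j) f = C c * f)
    (hA' : A' * A' = 1 ∧ Module.finrank K ↥(LinearMap.ker (Matrix.toLin' A' - LinearMap.id)) = 3 ∧
        A'.mulVec e' = -e' ∧
        ∃ c : K, aeval (fun i : Fin 4 => ∑ j : Fin 4, C (A' i j) * X j) f = C c * f)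
    (hA'' : A'' * A'' = 1 ∧
        Module.finrank K ↥(LinearMap.ker (Matrix.toLin' A'' - LinearMap.id)) = 3 ∧
        A''.mulVec e'' = -e'' ∧
        ∃ c : K, aeval (fun i : Fin 4 => ∑ j : Fin 4, C (A'' i j) * X j) f = C c * f) :
    (¬ ∃ c : K, A * A' = c • (1 : Matrix (Fin 4) (Fin 4) K)) ∧
      (∃ c : K, (A * A') ^ 3 = c • (1 : Matrix (Fin 4) (Fin 4) K)) ∧
      ∃ c : K, A'' = c • (A * A' * A) := by
  have he'0 : e' ≠ 0 := by
    rintro rfl; exact he' (Submodule.zero_mem _)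
  have he''0 : e'' ≠ 0 := by
    rintro rfl; exact he''1 (Submodule.zero_mem _)
  have hee' : e ∉ Submodule.span K {e'} := not_mem_span_symm he he'
  have hFe := hE.eval_eq_zero
  have hFe' := hE'.eval_eq_zero
  have hFe'' := hE''.eval_eq_zero
  obtain ⟨μ, hμe, hμ, rfl⟩ := eckardt_invol_eq hf hsm he hE A hA
  obtain ⟨μ', hμe', hμ', rfl⟩ := eckardt_invol_eq hf hsm he'0 hE' A' hA'
  obtain ⟨μ'', hμe'', hμ'', rfl⟩ := eckardt_invol_eq hf hsm he''0 hE'' A'' hA''
  obtain ⟨r1, r2⟩ := two_eckardt hf hFe hFe' μ μ' hμ hμ'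
  -- nondegeneracy
  have hα : phi f e e e' ≠ 0 := by
    intro hα
    apply hL
    have hβ : phi f e e' e' = 0 := by rw [r1, hα, zero_mul]
    intro u hu
    obtain ⟨a, b, rfl⟩ := Submodule.mem_span_pair.mp hu
    rw [eval_pair hf hFe hFe', hα, hβ]; ring
  have hβ : phi f e e' e' ≠ 0 := by
    intro h; apply hα; rw [r2, h, zero_mul]
  have hm : μ e' ≠ 0 := by
    intro h; apply hβ; rw [r1, h, mul_zero]
  -- e'' in coordinates
  obtain ⟨a, b, hab⟩ := Submodule.mem_span_pair.mp he''L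
  have ha : a ≠ 0 := by
    rintro rfl
    apply he''2
    rw [← hab, zero_smul, zero_add]
    exact Submodule.smul_mem _ _ (Submodule.mem_span_singleton_self _)
  have hb : b ≠ 0 := by
    rintro rfl
    apply he''1
    rw [← hab, zero_smul, add_zero]
    exact Submodule.smul_mem _ _ (Submodule.mem_span_singleton_self _)
  have hz : eval (a • e + b • e') f = 0 := by rw [hab]; exact hFe''
  have h3 : e'' = b • (involMat e μ).mulVec e' := by
    rw [← hab, third_zero hf hFe hFe' (μ e') hα r1 a b ha hb hz, involMat_mulVec]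
  have h3' : e'' = a • (involMat e' μ').mulVec e := by
    have hz' : eval (b • e' + a • e) f = 0 := by rw [add_comm]; exact hz
    have hα' : phi f e' e' e ≠ 0 := by rw [phi_comm13]; exact hβ
    have r1' : phi f e' e e = phi f e' e' e * μ' e := by
      rw [phi_comm13 f e' e e, phi_comm13 f e' e' e]; exact r2
    rw [← hab, add_comm, third_zero hf hFe' hFe (μ' e) hα' r1' b a hb ha hz', involMat_mulVec]
  have hM := conj_invol_eq hf hsm he he'0 he''0 hFe hFe' hE'' μ μ' μ'' hμe hμ hμe' hμ' hμe'' hμ''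
    b hb h3
  have hM' := conj_invol_eq hf hsm he'0 he he''0 hFe' hFe hE'' μ' μ μ'' hμe' hμ' hμe hμ hμe'' hμ''
    a ha h3'
  obtain ⟨s1, -, -, -⟩ := involMat_spec hf he hFe μ hμe hμ
  obtain ⟨t1, -, t3, -⟩ := involMat_spec hf he'0 hFe' μ' hμe' hμ'
  obtain ⟨w1, -, -, -⟩ := involMat_spec hf he''0 hFe'' μ'' hμe'' hμ''
  refine ⟨?_, ⟨1, ?_⟩, ⟨1, ?_⟩⟩
  · rintro ⟨c, hc⟩
    have hA' : involMat e' μ' = c • involMat e μ := by
      have := congrArg (fun M => involMat e μ * M) hc
      simp only [← Matrix.mul_assoc, s1, Matrix.one_mul, Matrix.mul_smul, Matrix.mul_one] at this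
      exact this
    have h := t3
    rw [hA', Matrix.smul_mulVec, involMat_mulVec, smul_sub, smul_smul] at h
    have := pair_coeff_unique he he' (a := -(c * μ e')) (b := c) (a' := 0) (b' := -1)
      (by rw [zero_smul, zero_add, neg_one_smul, ← h, neg_smul]; abel)
    have hc1 : c = -1 := this.2
    have := this.1
    rw [hc1] at this
    apply hm
    linear_combination this
  · have : (involMat e μ * involMat e' μ') ^ 3 =
        (involMat e μ * involMat e' μ' * involMat e μ) *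
          (involMat e' μ' * involMat e μ * involMat e' μ') := by
      simp only [pow_succ, pow_zero, Matrix.one_mul, Matrix.mul_assoc]
    rw [this, hM, hM', w1, one_smul]
  · rw [hM, one_smul]

end triple
end Groth.Agent.Lib.Helper95
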