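import Mathlib
import Groth.Agent.Lib.Helper95.CubicTriple

namespace Groth.Agent.Lib.Helper95
open MvPolynomial

/-- A set with no injective family of `n+1` members is finite of cardinality at most `n`. -/
theorem finite_ncard_le_of_no_inj {α : Type*} (P : Set α) (n : ℕ)
    (h : ¬∃ U : Fin (n + 1) → α, Function.Injective U ∧ ∀ i, U i ∈ P) :
    P.Finite ∧ P.ncard ≤ n := by
  classical
  have key : ∀ t : Finset α, (↑t : Set α) ⊆ P → t.card = n + 1 → False := by
    intro t hts htc
    apply h
    let e := (Finset.equivFinOfCardEq htc).symm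
    refine ⟨fun i => (e i).1, ?_, fun i => hts (e i).2⟩
    intro i j hij
    exact e.injective (Subtype.ext hij)
  have hfin : P.Finite := by
    by_contra hinf
    obtain ⟨t, hts, htc⟩ := (Set.not_finite.mp hinf).exists_subset_card_eq (n + 1)
    exact key t hts htc
  refine ⟨hfin, ?_⟩
  by_contra hgt
  push Not at hgt
  rw [Set.ncard_eq_toFinset_card P hfin] at hgt
  obtain ⟨t, hts, htc⟩ := Finset.exists_subset_card_eq hgt
  refine key t (fun x hx => ?_) htc
  have := hts hx
  simpa using this

section hyper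
variable {K : Type*} [Field K] [IsAlgClosed K] [CharZero K] {f : MvPolynomial (Fin 4) K}

/-- A cubic surface containing a plane is singular. -/
theorem hyperplane_singular (hf : f.IsHomogeneous 3) (ℓ : (Fin 4 → K) →ₗ[K] K) (hℓ : ℓ ≠ 0)
    (hT : ∀ u, ℓ u = 0 → eval u f = 0) :
    ∃ p : Fin 4 → K, p ≠ 0 ∧ eval p f = 0 ∧ ∀ i, eval p (pderiv i f) = 0 := by
  obtain ⟨w0, hw0⟩ : ∃ v, ℓ v ≠ 0 := by
    by_contra hcon
    push Not at hcon
    exact hℓ (LinearMap.ext hcon)
  set w := (ℓ w0)⁻¹ • w0 with hw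
  have hℓw : ℓ w = 1 := by rw [hw, map_smul, smul_eq_mul, inv_mul_cancel₀ hw0]
  have hfr : Module.finrank K (LinearMap.ker ℓ) = 3 := by
    have := Module.Dual.finrank_ker_add_one_of_ne_zero hℓ
    rw [Module.finrank_fintype_fun_eq_card, Fintype.card_fin] at this
    omega
  obtain ⟨x, hx0⟩ : ∃ x : LinearMap.ker ℓ, x ≠ 0 := by
    have : 0 < Module.finrank K (LinearMap.ker ℓ) := by omega
    exact Module.finrank_pos_iff_exists_ne_zero.mp this
  obtain ⟨y, hxy⟩ := exists_linearIndependent_pair_of_one_lt_finrank (R := K)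
    (show 1 < Module.finrank K (LinearMap.ker ℓ) by omega) hx0
  have hT' : ∀ v ∈ LinearMap.ker ℓ, eval v f = 0 := fun v hv => hT v hv
  -- the key reduction
  have key : ∀ p : LinearMap.ker ℓ, p ≠ 0 → phi f p.1 p.1 w = 0 →
      ∃ p : Fin 4 → K, p ≠ 0 ∧ eval p f = 0 ∧ ∀ i, eval p (pderiv i f) = 0 := by
    intro p hp0 hpw
    refine ⟨p.1, fun h => hp0 (Subtype.ext h), hT' _ p.2, fun i => ?_⟩
    rw [eval_pderiv_eq_phi hf]
    set δ : Fin 4 → K := Pi.single i 1
    have ht : δ - ℓ δ • w ∈ LinearMap.ker ℓ := by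
      rw [LinearMap.mem_ker, map_sub, map_smul, hℓw, smul_eq_mul, mul_one, sub_self]
    have h1 := (line_facts hf (LinearMap.ker ℓ) p.2 ht hT').2
    rw [phi_sub_right, phi_smul_right, hpw, mul_zero, sub_zero] at h1
    rw [h1, mul_zero]
  rw [LinearIndependent.pair_iff] at hxy
  by_cases ha : phi f y.1 y.1 w = 0
  · refine key y ?_ ha
    rintro rfl
    have := hxy (0 : K) (1 : K) (by simp)
    exact one_ne_zero this.2
  · obtain ⟨s, hs⟩ := exists_quadratic_eq_zero (b := 2 * phi f x.1 y.1 w) (c := phi f x.1 x.1 w) ha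
      (by
        obtain ⟨z, hz⟩ := IsAlgClosed.exists_pow_nat_eq
          (discrim (phi f y.1 y.1 w) (2 * phi f x.1 y.1 w) (phi f x.1 x.1 w)) (n := 2) (by norm_num)
        exact ⟨z, by rw [← hz]; ring⟩)
    refine key (x + s • y) ?_ ?_
    · intro h0
      have := hxy (1 : K) s (by rw [one_smul]; exact h0)
      exact one_ne_zero this.1
    · simp only [Submodule.coe_add, Submodule.coe_smul, phi_add_left, phi_add_mid, phi_smul_left,
        phi_smul_mid]
      rw [phi_comm12 f y.1 x.1 w]
      linear_combination hs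

end hyper

section four
variable {K : Type*} [Field K] [IsAlgClosed K] [CharZero K] {f : MvPolynomial (Fin 4) K}

/-- No four distinct lines of a smooth cubic surface pass through one point. -/
theorem no_four_lines (hf : f.IsHomogeneous 3)
    (hsm : ∀ v : Fin 4 → K, v ≠ 0 → eval v f = 0 → ∃ i : Fin 4, eval v (pderiv i f) ≠ 0)
    {e : Fin 4 → K} (he : e ≠ 0)
    (U : Fin 4 → Submodule K (Fin 4 → K)) (hUinj : Function.Injective U)
    (hU : ∀ i, e ∈ U i ∧ (Module.finrank K ↥(U i) = 2 ∧ ∀ u ∈ U i, eval u f = 0)) : False := by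
  have hFe : eval e f = 0 := (hU 0).2.2 e (hU 0).1
  have hFe' : phi f e e e = 0 := by rw [← eval_eq_phi hf]; exact hFe
  have hE : IsEckardt f e := by
    refine ⟨fun i => U i.castSucc, ?_, fun i => ⟨(hU _).2.1, (hU _).1, (hU _).2.2⟩⟩
    intro i j hij
    exact Fin.castSucc_injective _ (hUinj hij)
  obtain ⟨μ, -, hμ⟩ := eckardt_exists_mu hf he (hsm e he hFe) hE
  set ℓ := phiL f e e with hℓ
  have hℓ0 : ℓ ≠ 0 := by
    obtain ⟨x, hx⟩ := exists_phi_ne_zero hf (hsm e he hFe)
    intro h0
    apply hx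
    have : ℓ x = 0 := by rw [h0]; rfl
    exact this
  have hT : ∀ x, ℓ x = 0 → phi f e x x = 0 := by
    intro x hx
    rw [hμ x]
    rw [hℓ, phiL_apply] at hx
    rw [hx, zero_mul]
  -- choose u_i
  have hex : ∀ i, ∃ u ∈ U i, u ∉ Submodule.span K {e} := by
    intro i
    by_contra hcon
    push Not at hcon
    have hle : U i ≤ Submodule.span K {e} := hcon
    have := Submodule.finrank_mono hle
    rw [(hU i).2.1, finrank_span_singleton he] at this
    omega
  choose u huU hue using hex
  have hline : ∀ i, phi f e (u i) (u i) = 0 ∧ phi f e e (u i) = 0 := fun i =>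
    line_facts hf (U i) (hU i).1 (huU i) (hU i).2.2
  have hUspan : ∀ i, Submodule.span K {e, u i} = U i := fun i =>
    span_pair_eq_of_finrank_two (U i) (hU i).2.1 he (hU i).1 (huU i) (hue i)
  have hnot : ∀ i j, i ≠ j → u j ∉ U i := by
    intro i j hij hmem
    apply hij
    apply hUinj
    have : U j ≤ U i := by
      rw [← hUspan j, Submodule.span_le]
      intro x hx
      rcases hx with rfl | rfl
      · exact (hU i).1
      · exact hmem
    exact (Submodule.eq_of_le_of_finrank_eq this (by rw [(hU i).2.1, (hU j).2.1])).symm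
  have hli2 : LinearIndependent K ![e, u 0] := by
    rw [LinearIndependent.pair_iff' he]
    intro a ha
    exact hue 0 (Submodule.mem_span_singleton.mpr ⟨a, ha⟩)
  have hli3 : LinearIndependent K ![u 1, e, u 0] := by
    rw [show (![u 1, e, u 0] : Fin 3 → (Fin 4 → K)) = Fin.cons (u 1) ![e, u 0] from rfl,
      linearIndependent_finCons]
    refine ⟨hli2, ?_⟩
    have hrange : Set.range ![e, u 0] = {e, u 0} := by
      ext x; simp [Fin.exists_fin_succ, eq_comm]; tauto
    rw [hrange, hUspan 0]
    exact hnot 0 1 (by decide)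
  have hfr3 := finrank_span_eq_card hli3
  have hrange3 : Set.range ![u 1, e, u 0] = {u 1, e, u 0} := by
    ext x; simp [Fin.exists_fin_succ, eq_comm]; tauto
  rw [hrange3, Fintype.card_fin] at hfr3
  have hker : Submodule.span K {u 1, e, u 0} = LinearMap.ker ℓ := by
    apply Submodule.eq_of_le_of_finrank_le
    · rw [Submodule.span_le]
      intro x hx
      rw [SetLike.mem_coe, LinearMap.mem_ker, hℓ, phiL_apply]
      rcases hx with rfl | rfl | rfl
      · exact (hline 1).2
      · exact hFe'
      · exact (hline 0).2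
    · rw [hfr3]
      have hne : LinearMap.ker ℓ ≠ ⊤ := by
        intro h
        apply hℓ0
        exact LinearMap.ker_eq_top.mp h
      have := Submodule.finrank_lt hne
      rw [Module.finrank_fintype_fun_eq_card, Fintype.card_fin] at this
      omega
  -- expansion of F on the tangent plane
  set A := phi f (u 0) (u 1) (u 1) with hA
  set B := phi f (u 0) (u 0) (u 1) with hB
  have hexp : ∀ a b c : K, eval (a • u 1 + b • e + c • u 0) f = 3 * a * c * (a * A + c * B) := by
    intro a b c
    have hy : ℓ (a • u 1 + c • u 0) = 0 := by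
      rw [map_add, map_smul, map_smul, hℓ, phiL_apply, phiL_apply, (hline 1).2, (hline 0).2]
      simp
    have h1 : a • u 1 + b • e + c • u 0 = (a • u 1 + c • u 0) + b • e := by abel
    rw [h1, eval_add_smul hf, hT _ hy, hFe]
    have hy' : phi f e e (a • u 1 + c • u 0) = 0 := hy
    rw [hy', eval_add_smul hf]
    have h2 : eval (a • u 1) f = 0 := (hU 1).2.2 _ ((U 1).smul_mem _ (huU 1))
    have h3 : eval (u 0) f = 0 := (hU 0).2.2 _ (huU 0)
    rw [h2, h3]
    simp only [phi_smul_mid, phi_smul_right]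
    rw [← hA, ← hB]
    ring
  -- coordinates of the remaining two lines
  have hcoord : ∀ j : Fin 4, j ≠ 0 → j ≠ 1 → ∃ a b c : K, a ≠ 0 ∧ c ≠ 0 ∧
      a • u 1 + b • e + c • u 0 = u j := by
    intro j hj0 hj1
    have huj : u j ∈ Submodule.span K {u 1, e, u 0} := by
      rw [hker, LinearMap.mem_ker, hℓ, phiL_apply]; exact (hline j).2
    obtain ⟨a, b, c, habc⟩ := Submodule.mem_span_triple.mp huj
    refine ⟨a, b, c, ?_, ?_, habc⟩
    · rintro rfl
      apply hnot 0 j (Ne.symm hj0)
      rw [← hUspan 0, ← habc, zero_smul, zero_add]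
      exact Submodule.mem_span_pair.mpr ⟨b, c, rfl⟩
    · rintro rfl
      apply hnot 1 j (Ne.symm hj1)
      rw [← hUspan 1, ← habc, zero_smul, add_zero]
      exact Submodule.mem_span_pair.mpr ⟨b, a, by rw [add_comm]⟩
  obtain ⟨a2, b2, c2, ha2, hc2, h2⟩ := hcoord 2 (by decide) (by decide)
  obtain ⟨a3, b3, c3, ha3, hc3, h3⟩ := hcoord 3 (by decide) (by decide)
  have e2 : a2 * A + c2 * B = 0 := by
    have h := (hU 2).2.2 _ (huU 2)
    rw [← h2, hexp] at h
    have : 3 * a2 * c2 ≠ 0 := mul_ne_zero (mul_ne_zero (by norm_num) ha2) hc2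
    exact (mul_eq_zero.mp h).resolve_left this
  have e3 : a3 * A + c3 * B = 0 := by
    have h := (hU 3).2.2 _ (huU 3)
    rw [← h3, hexp] at h
    have : 3 * a3 * c3 ≠ 0 := mul_ne_zero (mul_ne_zero (by norm_num) ha3) hc3
    exact (mul_eq_zero.mp h).resolve_left this
  by_cases hAB : A = 0 ∧ B = 0
  · -- F vanishes on the whole tangent plane
    obtain ⟨hA0, hB0⟩ := hAB
    have hvan : ∀ x, ℓ x = 0 → eval x f = 0 := by
      intro x hx
      have hx' : x ∈ Submodule.span K {u 1, e, u 0} := by rw [hker]; exact hx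
      obtain ⟨a', b', c', rfl⟩ := Submodule.mem_span_triple.mp hx'
      rw [hexp, hA0, hB0]; ring
    obtain ⟨p, hp0, hFp, hdp⟩ := hyperplane_singular hf ℓ hℓ0 hvan
    obtain ⟨i, hi⟩ := hsm p hp0 hFp
    exact hi (hdp i)
  · -- the two extra lines coincide
    have hdet : a2 * c3 = a3 * c2 := by
      by_contra hne
      apply hAB
      have hd : a2 * c3 - a3 * c2 ≠ 0 := sub_ne_zero.mpr hne
      constructor
      · have : (a2 * c3 - a3 * c2) * A = 0 := by linear_combination c3 * e2 - c2 * e3
        exact (mul_eq_zero.mp this).resolve_left hd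
      · have : (a2 * c3 - a3 * c2) * B = 0 := by linear_combination a2 * e3 - a3 * e2
        exact (mul_eq_zero.mp this).resolve_left hd
    apply hnot 2 3 (by decide)
    rw [← hUspan 2, Submodule.mem_span_pair]
    refine ⟨b3 - a3 / a2 * b2, a3 / a2, ?_⟩
    rw [← h3, ← h2]
    have hc3' : c3 = a3 / a2 * c2 := by
      field_simp
      linear_combination hdet
    rw [hc3']
    simp only [smul_add, smul_smul, sub_smul]
    have : a3 / a2 * a2 = a3 := by field_simp
    rw [this]
    abel

end four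

end Groth.Agent.Lib.Helper95
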