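import Mathlib
import Groth.Agent.Lib.Helper95.CubicLines

namespace Groth.Agent.Lib.Helper95
open MvPolynomial

section lin
variable {σ : Type*} {K : Type*} [Field K]

/-- A homogeneous polynomial of degree one evaluates linearly. -/
theorem exists_linear_of_homogeneous_one {p : MvPolynomial σ K} (hp : p.IsHomogeneous 1) :
    ∃ η : (σ → K) →ₗ[K] K, ∀ y, η y = eval y p := by
  have hmem : p ∈ Submodule.span K (Set.range (X : σ → MvPolynomial σ K)) := by
    rw [← homogeneousSubmodule_one_eq_span_X]; exact hp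
  clear hp
  induction hmem using Submodule.span_induction with
  | mem x hx => obtain ⟨i, rfl⟩ := hx; exact ⟨LinearMap.proj i, fun y => by simp⟩
  | zero => exact ⟨0, fun y => by simp⟩
  | add x y _ _ hx hy =>
    obtain ⟨η₁, h₁⟩ := hx; obtain ⟨η₂, h₂⟩ := hy
    exact ⟨η₁ + η₂, fun y => by simp [h₁, h₂]⟩
  | smul c x _ hx =>
    obtain ⟨η, h⟩ := hx
    exact ⟨c • η, fun y => by simp [h, smul_eval]⟩

end lin

section sqfactor
variable {σ : Type*} {K : Type*} [Field K] [Infinite K]

/-- A square factor of a nonzero homogeneous cubic is (up to lower terms) a linear form. -/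
theorem square_factor_linear {g h : MvPolynomial σ K} (hg : g.IsHomogeneous 3) (hg0 : g ≠ 0)
    (hdvd : h * h ∣ g) (hu : ¬ IsUnit h) :
    ∃ η ν : (σ → K) →ₗ[K] K, η ≠ 0 ∧ ∀ y, eval y g = (η y) ^ 2 * ν y := by
  obtain ⟨m, hm⟩ := hdvd
  have hh0 : h ≠ 0 := by rintro rfl; apply hg0; rw [hm]; ring
  have hm0 : m ≠ 0 := by rintro rfl; apply hg0; rw [hm]; ring
  have htd : g.totalDegree = 3 := hg.totalDegree hg0
  rw [hm, totalDegree_mul_of_isDomain (mul_ne_zero hh0 hh0) hm0,
    totalDegree_mul_of_isDomain hh0 hh0] at htd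
  have hhd : h.totalDegree ≠ 0 := by
    intro h0
    rw [totalDegree_eq_zero_iff_eq_C] at h0
    apply hu
    rw [h0]
    have : coeff 0 h ≠ 0 := by
      intro hc; apply hh0; rw [h0, hc, map_zero]
    exact (isUnit_iff_ne_zero.mpr this).map C
  have hh1 : h.totalDegree = 1 := by omega
  have hm1 : m.totalDegree = 1 := by omega
  have eh := sum_homogeneousComponent h
  have em := sum_homogeneousComponent m
  rw [hh1, Finset.sum_range_succ, Finset.sum_range_one] at eh
  rw [hm1, Finset.sum_range_succ, Finset.sum_range_one] at em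
  set h0 := homogeneousComponent 0 h with hh0def
  set h1 := homogeneousComponent 1 h with hh1def
  set m0 := homogeneousComponent 0 m with hm0def
  set m1 := homogeneousComponent 1 m with hm1def
  have Hh0 : h0.IsHomogeneous 0 := homogeneousComponent_isHomogeneous 0 h
  have Hh1 : h1.IsHomogeneous 1 := homogeneousComponent_isHomogeneous 1 h
  have Hm0 : m0.IsHomogeneous 0 := homogeneousComponent_isHomogeneous 0 m
  have Hm1 : m1.IsHomogeneous 1 := homogeneousComponent_isHomogeneous 1 m
  have hP : (h1 * h1 * m1).IsHomogeneous 3 := (Hh1.mul Hh1).mul Hm1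
  have hR2 : (h1 * h1 * m0 + 2 * h0 * h1 * m1).IsHomogeneous 2 := by
    refine IsHomogeneous.add ((Hh1.mul Hh1).mul Hm0) ?_
    have := (((isHomogeneous_C σ (2 : K)).mul Hh0).mul Hh1).mul Hm1
    rw [show (C (2 : K) : MvPolynomial σ K) = 2 from map_ofNat C 2] at this
    simpa using this
  have hR1 : (2 * h0 * h1 * m0 + h0 * h0 * m1).IsHomogeneous 1 := by
    refine IsHomogeneous.add ?_ ((Hh0.mul Hh0).mul Hm1)
    have := (((isHomogeneous_C σ (2 : K)).mul Hh0).mul Hh1).mul Hm0
    rw [show (C (2 : K) : MvPolynomial σ K) = 2 from map_ofNat C 2] at this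
    simpa using this
  have hR0 : (h0 * h0 * m0).IsHomogeneous 0 := (Hh0.mul Hh0).mul Hm0
  have hexp : g = h1 * h1 * m1 + (h1 * h1 * m0 + 2 * h0 * h1 * m1)
      + (2 * h0 * h1 * m0 + h0 * h0 * m1) + h0 * h0 * m0 := by
    rw [hm]
    conv_lhs => rw [← eh, ← em]
    ring
  have hg3 : g = h1 * h1 * m1 := by
    have := congrArg (homogeneousComponent 3) hexp
    rw [homogeneousComponent_eq_self hg, map_add, map_add, map_add,
      homogeneousComponent_eq_self hP, homogeneousComponent_of_mem hR2,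
      homogeneousComponent_of_mem hR1, homogeneousComponent_of_mem hR0] at this
    simpa using this
  obtain ⟨η, hη⟩ := exists_linear_of_homogeneous_one Hh1
  obtain ⟨ν, hν⟩ := exists_linear_of_homogeneous_one Hm1
  refine ⟨η, ν, ?_, fun y => ?_⟩
  · intro h0'
    apply hg0
    have : h1 = 0 := by
      apply MvPolynomial.funext
      intro y
      rw [← hη, h0']; simp
    rw [hg3, this]; ring
  · rw [hg3, map_mul, map_mul, hη, hν]; ring

end sqfactor

section pair
variable {K : Type*} [Field K] [IsAlgClosed K] [CharZero K] {f : MvPolynomial (Fin 4) K}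

/-- A plane section of a cubic surface which is doubled along a line forces a singular point. -/
theorem singular_of_pair (hf : f.IsHomogeneous 3) (ℓ : (Fin 4 → K) →ₗ[K] K) (hℓ : ℓ ≠ 0)
    {x y : Fin 4 → K} (hxy : LinearIndependent K ![x, y])
    (hT : ∀ a b : K, eval (a • x + b • y) f = 0 ∧
      ∀ t, ℓ t = 0 → phi f (a • x + b • y) (a • x + b • y) t = 0) :
    ∃ p : Fin 4 → K, p ≠ 0 ∧ eval p f = 0 ∧ ∀ i, eval p (pderiv i f) = 0 := by
  obtain ⟨w0, hw0⟩ : ∃ v, ℓ v ≠ 0 := by
    by_contra hcon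
    push Not at hcon
    exact hℓ (LinearMap.ext hcon)
  set w := (ℓ w0)⁻¹ • w0 with hw
  have hℓw : ℓ w = 1 := by rw [hw, map_smul, smul_eq_mul, inv_mul_cancel₀ hw0]
  rw [LinearIndependent.pair_iff] at hxy
  have key : ∀ a b : K, ¬ (a = 0 ∧ b = 0) → phi f (a • x + b • y) (a • x + b • y) w = 0 →
      ∃ p : Fin 4 → K, p ≠ 0 ∧ eval p f = 0 ∧ ∀ i, eval p (pderiv i f) = 0 := by
    intro a b hab hpw
    refine ⟨a • x + b • y, fun h => hab (hxy a b h), (hT a b).1, fun i => ?_⟩
    rw [eval_pderiv_eq_phi hf]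
    set δ : Fin 4 → K := Pi.single i 1
    have ht : ℓ (δ - ℓ δ • w) = 0 := by
      rw [map_sub, map_smul, hℓw, smul_eq_mul, mul_one, sub_self]
    have h1 := (hT a b).2 _ ht
    rw [phi_sub_right, phi_smul_right, hpw, mul_zero, sub_zero] at h1
    rw [h1, mul_zero]
  by_cases ha : phi f y y w = 0
  · refine key 0 1 (by simp) ?_
    rw [zero_smul, zero_add, one_smul]; exact ha
  · obtain ⟨s, hs⟩ := exists_quadratic_eq_zero (b := 2 * phi f x y w) (c := phi f x x w) ha
      (by
        obtain ⟨z, hz⟩ := IsAlgClosed.exists_pow_nat_eq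
          (discrim (phi f y y w) (2 * phi f x y w) (phi f x x w)) (n := 2) (by norm_num)
        exact ⟨z, by rw [← hz]; ring⟩)
    refine key 1 s (by simp) ?_
    simp only [one_smul, phi_add_left, phi_add_mid, phi_smul_left, phi_smul_mid]
    rw [phi_comm12 f y x w]
    linear_combination hs

end pair

end Groth.Agent.Lib.Helper95
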