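import Mathlib
import Groth.Agent.Lib.Helper95.CubicPlane

namespace Groth.Agent.Lib.Helper95
open MvPolynomial Module

section binary
variable {K : Type*} [Field K] [IsAlgClosed K]

/-- A binary quadratic form over an algebraically closed field is a product of two linear forms. -/
theorem binary_quadratic_factor (A B C : K) :
    ∃ p₁ r₁ p₂ r₂ : K, ∀ t₁ t₂ : K,
      A * t₁ ^ 2 + B * t₁ * t₂ + C * t₂ ^ 2 = (p₁ * t₁ + r₁ * t₂) * (p₂ * t₁ + r₂ * t₂) := by
  by_cases hA : A = 0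
  · exact ⟨0, 1, B, C, fun t₁ t₂ => by rw [hA]; ring⟩
  · have hdeg : (Polynomial.C A * Polynomial.X ^ 2 + Polynomial.C B * Polynomial.X
        + Polynomial.C C).degree ≠ 0 := by
      rw [Polynomial.degree_quadratic hA]; norm_num
    obtain ⟨r, hr⟩ := IsAlgClosed.exists_root _ hdeg
    simp only [Polynomial.IsRoot.def, Polynomial.eval_add, Polynomial.eval_mul, Polynomial.eval_C,
      Polynomial.eval_pow, Polynomial.eval_X] at hr
    refine ⟨1, -r, A, B + A * r, fun t₁ t₂ => ?_⟩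
    linear_combination t₂ ^ 2 * hr

/-- A binary cubic form over an algebraically closed field is a product of three linear forms. -/
theorem binary_cubic_factor (A B C D : K) :
    ∃ p₁ r₁ p₂ r₂ p₃ r₃ : K, ∀ t₁ t₂ : K,
      A * t₁ ^ 3 + B * t₁ ^ 2 * t₂ + C * t₁ * t₂ ^ 2 + D * t₂ ^ 3 =
        (p₁ * t₁ + r₁ * t₂) * (p₂ * t₁ + r₂ * t₂) * (p₃ * t₁ + r₃ * t₂) := by
  by_cases hA : A = 0
  · obtain ⟨p₁, r₁, p₂, r₂, h⟩ := binary_quadratic_factor B C D
    exact ⟨0, 1, p₁, r₁, p₂, r₂, fun t₁ t₂ => by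
      have := h t₁ t₂
      rw [hA]
      linear_combination t₂ * this⟩
  · have hdeg : (Polynomial.C A * Polynomial.X ^ 3 + Polynomial.C B * Polynomial.X ^ 2
        + Polynomial.C C * Polynomial.X + Polynomial.C D).degree ≠ 0 := by
      rw [Polynomial.degree_cubic hA]; norm_num
    obtain ⟨r, hr⟩ := IsAlgClosed.exists_root _ hdeg
    simp only [Polynomial.IsRoot.def, Polynomial.eval_add, Polynomial.eval_mul, Polynomial.eval_C,
      Polynomial.eval_pow, Polynomial.eval_X] at hr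
    obtain ⟨p₁, r₁, p₂, r₂, h⟩ := binary_quadratic_factor A (B + A * r) (C + B * r + A * r ^ 2)
    refine ⟨1, -r, p₁, r₁, p₂, r₂, fun t₁ t₂ => ?_⟩
    have := h t₁ t₂
    linear_combination t₂ ^ 3 * hr + (t₁ - r * t₂) * this

end binary

section divis
variable {σ : Type*} [Fintype σ] [DecidableEq σ] {K : Type*} [Field K] [Infinite K]

/-- A polynomial vanishing on a hyperplane is divisible by its linear equation. -/
theorem mem_span_of_vanish_on_hyperplane (c : σ → K) (j : σ) (hj : c j ≠ 0)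
    (G : MvPolynomial σ K)
    (hG : ∀ x : σ → K, ∑ i, c i * x i = 0 → eval x G = 0) :
    G ∈ Ideal.span {∑ i, C (c i) * X i} := by
  set ℓ : MvPolynomial σ K := ∑ i, C (c i) * X i with hℓ
  let s : MvPolynomial σ K →ₐ[K] MvPolynomial σ K :=
    aeval (fun i => X i - C ((Pi.single j (c j)⁻¹ : σ → K) i) * ℓ)
  -- claim 1
  have h1 : ∀ p : MvPolynomial σ K, p - s p ∈ Ideal.span {ℓ} := by
    intro p
    induction p using MvPolynomial.induction_on with
    | C a => simp [s]
    | add p q hp hq =>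
      rw [map_add]
      have : p + q - (s p + s q) = (p - s p) + (q - s q) := by ring
      rw [this]; exact Ideal.add_mem _ hp hq
    | mul_X p i hp =>
      rw [map_mul]
      have hX : s (X i) = X i - C ((Pi.single j (c j)⁻¹ : σ → K) i) * ℓ := by simp [s]
      have : p * X i - s p * s (X i) = (p - s p) * X i + s p * (X i - s (X i)) := by ring
      rw [this]
      refine Ideal.add_mem _ (Ideal.mul_mem_right _ _ hp) (Ideal.mul_mem_left _ _ ?_)
      rw [hX, sub_sub_cancel]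
      exact Ideal.mul_mem_left _ _ (Ideal.subset_span rfl)
  -- claim 2
  have hevℓ : ∀ x : σ → K, eval x ℓ = ∑ i, c i * x i := by
    intro x; simp [hℓ]
  have h2 : ∀ x : σ → K, eval x (s G) = eval (fun i => x i - (Pi.single j (c j)⁻¹ : σ → K) i * eval x ℓ) G := by
    intro x
    have h := comp_aeval_apply (R := K)
      (f := fun i => X i - C ((Pi.single j (c j)⁻¹ : σ → K) i) * ℓ)
      (MvPolynomial.aeval x : MvPolynomial σ K →ₐ[K] K) G
    simp only [aeval_eq_eval] at h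
    rw [show s G = aeval (fun i => X i - C ((Pi.single j (c j)⁻¹ : σ → K) i) * ℓ) G from rfl, h]
    congr 2
    funext i
    simp
  have h3 : s G = 0 := by
    apply MvPolynomial.funext
    intro x
    rw [h2, map_zero]
    apply hG
    simp only [mul_sub, Finset.sum_sub_distrib, ← hevℓ x]
    have : ∑ i, c i * ((Pi.single j (c j)⁻¹ : σ → K) i * eval x ℓ) = eval x ℓ := by
      rw [Finset.sum_eq_single j]
      · simp [hj]
      · intro b _ hb; simp [hb]
      · simp
    rw [this, sub_self]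
  have := h1 G
  rwa [h3, sub_zero] at this

end divis

section basis
variable {K : Type*} [Field K]

theorem lin_sum (μ : (Fin 4 → K) →ₗ[K] K) (x : Fin 4 → K) :
    μ x = ∑ i, x i * μ (Pi.single i 1) := by
  conv_lhs => rw [← Finset.univ_sum_single x]
  rw [map_sum]
  refine Finset.sum_congr rfl fun i _ => ?_
  have : (Pi.single i (x i) : Fin 4 → K) = x i • Pi.single i 1 := by
    ext j; simp [Pi.single_apply]
  rw [this, map_smul, smul_eq_mul]

/-- A basis of `K⁴` adapted to a hyperplane `ker lam` and a vector `a` in it. -/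
theorem exists_adapted_basis (lam : (Fin 4 → K) →ₗ[K] K) (hlam : lam ≠ 0) {a : Fin 4 → K}
    (ha : a ≠ 0) (hla : lam a = 0) :
    ∃ b : Basis (Fin 4) K (Fin 4 → K), lam (b 0) = 1 ∧ lam (b 1) = 0 ∧ b 2 = a ∧ lam (b 3) = 0 := by
  obtain ⟨w0, hw0⟩ : ∃ v, lam v ≠ 0 := by
    by_contra hcon
    push Not at hcon
    exact hlam (LinearMap.ext hcon)
  set w := (lam w0)⁻¹ • w0 with hw
  have hlw : lam w = 1 := by rw [hw, map_smul, smul_eq_mul, inv_mul_cancel₀ hw0]
  have hfr : Module.finrank K (LinearMap.ker lam) = 3 := by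
    have := Module.Dual.finrank_ker_add_one_of_ne_zero hlam
    rw [Module.finrank_fintype_fun_eq_card, Fintype.card_fin] at this
    omega
  let a' : LinearMap.ker lam := ⟨a, hla⟩
  have ha' : a' ≠ 0 := fun h => ha (congrArg Subtype.val h)
  obtain ⟨y1, h1⟩ := exists_linearIndependent_pair_of_one_lt_finrank (R := K)
    (show 1 < Module.finrank K (LinearMap.ker lam) by omega) ha'
  obtain ⟨y2, h2⟩ := exists_linearIndependent_cons_of_lt_finrank h1
    (show 2 < Module.finrank K (LinearMap.ker lam) by omega)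
  have h3 := h2.map' (LinearMap.ker lam).subtype (Submodule.ker_subtype _)
  have e3 : (⇑(LinearMap.ker lam).subtype ∘ Fin.cons y2 ![a', y1]) = ![y2.1, a, y1.1] := by
    funext i; fin_cases i <;> rfl
  rw [e3] at h3
  have h4 : LinearIndependent K ![w, y2.1, a, y1.1] := by
    rw [show (![w, y2.1, a, y1.1] : Fin 4 → (Fin 4 → K)) = Fin.cons w ![y2.1, a, y1.1] from rfl,
      linearIndependent_finCons]
    refine ⟨h3, fun hmem => ?_⟩
    have hle : Submodule.span K (Set.range ![y2.1, a, y1.1]) ≤ LinearMap.ker lam := by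
      rw [Submodule.span_le]
      rintro x ⟨i, rfl⟩
      fin_cases i
      · exact y2.2
      · exact hla
      · exact y1.2
    have := hle hmem
    rw [LinearMap.mem_ker, hlw] at this
    exact one_ne_zero this
  let b := basisOfLinearIndependentOfCardEqFinrank h4
    (by rw [Module.finrank_fintype_fun_eq_card])
  have hb : ⇑b = ![w, y2.1, a, y1.1] := coe_basisOfLinearIndependentOfCardEqFinrank _ _
  refine ⟨b, ?_, ?_, ?_, ?_⟩
  · rw [hb]; exact hlw
  · rw [hb]; exact y2.2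
  · rw [hb]; rfl
  · rw [hb]; exact y1.2

end basis

section coords
variable {K : Type*} [Field K]

/-- Coordinates on a hyperplane `ker lam` of `K⁴` adapted to a vector `a` in it. -/
theorem exists_adapted_coords (lam : (Fin 4 → K) →ₗ[K] K) (hlam : lam ≠ 0) {a : Fin 4 → K}
    (ha : a ≠ 0) (hla : lam a = 0) :
    ∃ (y₁ y₂ : Fin 4 → K) (c₁ c₂ c₃ : (Fin 4 → K) →ₗ[K] K), lam y₁ = 0 ∧ lam y₂ = 0 ∧
      (∀ α β γ : K, c₃ (α • a + β • y₁ + γ • y₂) = β ∧ c₁ (α • a + β • y₁ + γ • y₂) = γ ∧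
        lam (α • a + β • y₁ + γ • y₂) = 0 ∧ c₂ (α • a + β • y₁ + γ • y₂) = α) ∧
      (∀ x, lam x = 0 → x = (c₃ x • y₁ + c₁ x • y₂) + c₂ x • a) := by
  obtain ⟨b, hb0, hb1, hb2, hb3⟩ := exists_adapted_basis lam hlam ha hla
  have hdec : ∀ x, x = b.coord 0 x • b 0 + b.coord 1 x • b 1 + b.coord 2 x • a
      + b.coord 3 x • b 3 := by
    intro x
    conv_lhs => rw [← b.sum_repr x, Fin.sum_univ_four]
    rw [hb2]; rfl
  have hcoord : ∀ i j, b.coord i (b j) = if j = i then 1 else 0 := by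
    intro i j
    simp [Basis.coord_apply, Finsupp.single_apply]
  have hc0 : ∀ x, lam x = b.coord 0 x := by
    intro x
    conv_lhs => rw [hdec x]
    simp [hb0, hb1, hla, hb3]
  refine ⟨b 3, b 1, b.coord 1, b.coord 2, b.coord 3, hb3, hb1, ?_, ?_⟩
  · intro α β γ
    refine ⟨?_, ?_, ?_, ?_⟩
    · rw [map_add, map_add, map_smul, map_smul, map_smul, ← hb2, hcoord, hcoord, hcoord]
      simp
    · rw [map_add, map_add, map_smul, map_smul, map_smul, ← hb2, hcoord, hcoord, hcoord]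
      simp
    · rw [map_add, map_add, map_smul, map_smul, map_smul, hla, hb3, hb1]
      simp
    · rw [map_add, map_add, map_smul, map_smul, map_smul, ← hb2, hcoord, hcoord, hcoord]
      simp
  · intro x hx
    have h0 : b.coord 0 x = 0 := by rw [← hc0]; exact hx
    conv_lhs => rw [hdec x, h0]
    rw [zero_smul, zero_add]; abel

/-- The line cut out in an adapted hyperplane by a nonzero linear form in the two transverse
coordinates. -/
theorem line_in_plane (lam c₁ c₂ c₃ : (Fin 4 → K) →ₗ[K] K) (a y₁ y₂ : Fin 4 → K)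
    (hcz : ∀ α β γ : K, c₃ (α • a + β • y₁ + γ • y₂) = β ∧ c₁ (α • a + β • y₁ + γ • y₂) = γ ∧
        lam (α • a + β • y₁ + γ • y₂) = 0 ∧ c₂ (α • a + β • y₁ + γ • y₂) = α)
    (hdecH : ∀ x, lam x = 0 → x = (c₃ x • y₁ + c₁ x • y₂) + c₂ x • a)
    (p r : K) (hpr : ¬(p = 0 ∧ r = 0)) :
    ∃ U : Submodule K (Fin 4 → K), finrank K U = 2 ∧ a ∈ U ∧ (∀ x ∈ U, lam x = 0) ∧
        ∀ x, (lam x = 0 ∧ p * c₃ x + r * c₁ x = 0) ↔ x ∈ U := by
  have hz : ∀ s t : K, s • a + t • (r • y₁ - p • y₂) = s • a + (t * r) • y₁ + (-(t * p)) • y₂ := by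
    intro s t; module
  refine ⟨Submodule.span K {a, r • y₁ - p • y₂}, ?_, Submodule.subset_span (by simp), ?_, ?_⟩
  · have hli : LinearIndependent K ![a, r • y₁ - p • y₂] := by
      rw [LinearIndependent.pair_iff]
      intro s t hst
      rw [hz] at hst
      obtain ⟨h3, h1, -, h2⟩ := hcz s (t * r) (-(t * p))
      rw [hst] at h3 h1 h2
      simp only [map_zero] at h3 h1 h2
      refine ⟨h2.symm, ?_⟩
      by_contra ht
      apply hpr
      constructor
      · have : t * p = 0 := by linear_combination h1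
        exact (mul_eq_zero.mp this).resolve_left ht
      · exact (mul_eq_zero.mp h3.symm).resolve_left ht
    have hfr := finrank_span_eq_card hli
    have hrange : Set.range ![a, r • y₁ - p • y₂] = {a, r • y₁ - p • y₂} := by
      ext x; simp [eq_comm]; tauto
    rw [hrange, Fintype.card_fin] at hfr
    exact hfr
  · intro x hx
    obtain ⟨s, t, rfl⟩ := Submodule.mem_span_pair.mp hx
    rw [hz]
    exact (hcz _ _ _).2.2.1
  · intro x
    constructor
    · rintro ⟨hx, hm⟩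
      rw [Submodule.mem_span_pair]
      have key : ∀ d₃ d₁ d₂ t : K, d₃ = t * r → d₁ = -(t * p) →
          d₂ • a + t • (r • y₁ - p • y₂) = d₃ • y₁ + d₁ • y₂ + d₂ • a := by
        intro d₃ d₁ d₂ t h3 h1; subst h3 h1; module
      by_cases hp : p = 0
      · have hr : r ≠ 0 := fun hr => hpr ⟨hp, hr⟩
        refine ⟨c₂ x, c₃ x / r, ?_⟩
        conv_rhs => rw [hdecH x hx]
        apply key
        · field_simp
        · rw [hp] at hm ⊢
          have : r * c₁ x = 0 := by linear_combination hm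
          rw [(mul_eq_zero.mp this).resolve_left hr]; ring
      · refine ⟨c₂ x, -(c₁ x) / p, ?_⟩
        conv_rhs => rw [hdecH x hx]
        apply key
        · field_simp
          linear_combination hm
        · field_simp
    · intro hx
      obtain ⟨s, t, rfl⟩ := Submodule.mem_span_pair.mp hx
      rw [hz]
      obtain ⟨h3, h1, h0, -⟩ := hcz s (t * r) (-(t * p))
      refine ⟨h0, ?_⟩
      rw [h3, h1]; ring

end coords

section tstruct
variable {K : Type*} [Field K] [IsAlgClosed K] [CharZero K] {f : MvPolynomial (Fin 4) K}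

theorem tangent_plane_structure (hf : f.IsHomogeneous 3) {a : Fin 4 → K} (ha : a ≠ 0)
    (hFa : eval a f = 0) (hlam : phiL f a a ≠ 0) :
    (∃ U₁ U₂ : Submodule K (Fin 4 → K), finrank K U₁ = 2 ∧ finrank K U₂ = 2 ∧ a ∈ U₁ ∧ a ∈ U₂ ∧
        (∀ x ∈ U₁, phi f a a x = 0) ∧ (∀ x ∈ U₂, phi f a a x = 0) ∧
        ∀ x, (phi f a a x = 0 ∧ phi f a x x = 0) ↔ (x ∈ U₁ ∨ x ∈ U₂)) ∨
    (∃ m₁ m₂ m₃ : (Fin 4 → K) →ₗ[K] K,
      ∀ x, phi f a a x = 0 → eval x f = m₁ x * m₂ x * m₃ x) := by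
  have hFa' : phi f a a a = 0 := by rw [← eval_eq_phi hf]; exact hFa
  obtain ⟨y₁, y₂, c₁, c₂, c₃, hy1, hy2, hcz, hdecH⟩ :=
    exists_adapted_coords (phiL f a a) hlam ha hFa'
  simp only [phiL_apply] at hy1 hy2 hcz hdecH
  -- the quadratic form on the tangent plane
  have hq : ∀ x, phi f a a x = 0 → phi f a x x =
      phi f a y₁ y₁ * (c₃ x) ^ 2 + 2 * phi f a y₁ y₂ * (c₃ x) * (c₁ x)
        + phi f a y₂ y₂ * (c₁ x) ^ 2 := by
    intro x hx
    conv_lhs => rw [hdecH x hx]
    simp only [phi_add_mid, phi_add_right, phi_smul_mid, phi_smul_right]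
    have e1 : phi f a y₁ a = 0 := by rw [phi_comm23]; exact hy1
    have e2 : phi f a y₂ a = 0 := by rw [phi_comm23]; exact hy2
    have e3 : phi f a y₂ y₁ = phi f a y₁ y₂ := phi_comm23 ..
    rw [e1, e2, e3, hy1, hy2, hFa']
    ring
  set A := phi f a y₁ y₁ with hA
  set B := 2 * phi f a y₁ y₂ with hB
  set C := phi f a y₂ y₂ with hC
  by_cases hABC : A = 0 ∧ B = 0 ∧ C = 0
  · -- F restricted to the tangent plane is a binary cubic
    right
    obtain ⟨hA0, hB0, hC0⟩ := hABC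
    have hq0 : ∀ x, phi f a a x = 0 → phi f a x x = 0 := by
      intro x hx
      rw [hq x hx, hA0, hB0, hC0]; ring
    obtain ⟨p₁, r₁, p₂, r₂, p₃, r₃, hfac⟩ := binary_cubic_factor (eval y₁ f)
      (3 * phi f y₂ y₁ y₁) (3 * phi f y₂ y₂ y₁) (eval y₂ f)
    refine ⟨p₁ • c₃ + r₁ • c₁, p₂ • c₃ + r₂ • c₁, p₃ • c₃ + r₃ • c₁, fun x hx => ?_⟩
    simp only [LinearMap.add_apply, LinearMap.smul_apply, smul_eq_mul]
    rw [← hfac]
    conv_lhs => rw [hdecH x hx]
    have hyH : phi f a a (c₃ x • y₁ + c₁ x • y₂) = 0 := by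
      rw [phi_add_right, phi_smul_right, phi_smul_right, hy1, hy2]; ring
    rw [eval_add_smul hf, hq0 _ hyH, hyH, hFa, eval_add_smul hf]
    have e1 : eval (c₃ x • y₁) f = (c₃ x) ^ 3 * eval y₁ f := by
      rw [eval_eq_phi hf, eval_eq_phi hf, phi_smul_left, phi_smul_mid, phi_smul_right]; ring
    rw [e1]
    simp only [phi_smul_mid, phi_smul_right]
    ring
  · left
    obtain ⟨p₁, r₁, p₂, r₂, hfac⟩ := binary_quadratic_factor A B C
    have hne : ∀ p r p' r' : K, (∀ t₁ t₂ : K, A * t₁ ^ 2 + B * t₁ * t₂ + C * t₂ ^ 2 =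
        (p * t₁ + r * t₂) * (p' * t₁ + r' * t₂)) → ¬(p = 0 ∧ r = 0) := by
      rintro p r p' r' h ⟨rfl, rfl⟩
      apply hABC
      have h10 := h 1 0
      have h01 := h 0 1
      have h11 := h 1 1
      simp only [one_pow, mul_one, mul_zero, add_zero, zero_mul, ne_eq, OfNat.ofNat_ne_zero,
        not_false_eq_true, zero_pow, zero_add] at h10 h01 h11
      refine ⟨h10, ?_, h01⟩
      linear_combination h11 - h10 - h01
    have hne1 := hne p₁ r₁ p₂ r₂ hfac
    have hne2 := hne p₂ r₂ p₁ r₁ (fun t₁ t₂ => by rw [hfac]; ring)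
    have hcz' : ∀ α β γ : K, c₃ (α • a + β • y₁ + γ • y₂) = β ∧ c₁ (α • a + β • y₁ + γ • y₂) = γ ∧
        phiL f a a (α • a + β • y₁ + γ • y₂) = 0 ∧ c₂ (α • a + β • y₁ + γ • y₂) = α := hcz
    obtain ⟨U₁, hU₁fr, haU₁, hU₁H, hU₁⟩ :=
      line_in_plane (phiL f a a) c₁ c₂ c₃ a y₁ y₂ hcz' hdecH p₁ r₁ hne1
    obtain ⟨U₂, hU₂fr, haU₂, hU₂H, hU₂⟩ :=
      line_in_plane (phiL f a a) c₁ c₂ c₃ a y₁ y₂ hcz' hdecH p₂ r₂ hne2
    simp only [phiL_apply] at hU₁H hU₁ hU₂H hU₂
    refine ⟨U₁, U₂, hU₁fr, hU₂fr, haU₁, haU₂, hU₁H, hU₂H, fun x => ?_⟩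
    constructor
    · rintro ⟨hx, hqx⟩
      rw [hq x hx, hfac] at hqx
      rcases mul_eq_zero.mp hqx with h | h
      · exact Or.inl ((hU₁ x).mp ⟨hx, h⟩)
      · exact Or.inr ((hU₂ x).mp ⟨hx, h⟩)
    · rintro (hx | hx)
      · obtain ⟨h0, hm⟩ := (hU₁ x).mpr hx
        refine ⟨h0, ?_⟩
        rw [hq x h0, hfac, hm, zero_mul]
      · obtain ⟨h0, hm⟩ := (hU₂ x).mpr hx
        refine ⟨h0, ?_⟩
        rw [hq x h0, hfac, hm, mul_zero]

end tstruct

end Groth.Agent.Lib.Helper95
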