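import Mathlib
import Groth.Agent.Lib.Helper2.FlatLocusOpen
import Groth.Agent.Lib.Helper14.FibreCritSchemeFT
import Groth.Agent.Lib.Helper12.LocQuot

/-!
# Flatness / smoothness of a proper family over a smooth algebra over a DVR, tested on the
`𝔪A`-adic completion (helper95; for S19381, S19382)

* `flat_of_flat_tensor_completion`: if `B ⊗_A Â` is flat over `Â` then `B` is flat over the DVR `V`.
* `flat_chart_of_flat_snd`: the scheme form on an affine chart.
* `exists_opens_range_subset`: a closed map to `Spec A` with an open set containing the preimage of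
  `V(J)`: the image of `Spec Â` lies in an open set over which every point is in the given set.
* `flat_snd_completion`, `smooth_snd_completion`: the forward directions.
-/

set_option autoImplicit false
set_option linter.style.haveILetI false
universe u
open TensorProduct CategoryTheory CategoryTheory.Limits AlgebraicGeometry

namespace Groth.Agent.Lib.Helper95.AdicFlatBC

section Ring

variable (V : Type u) [CommRing V] [IsDomain V] [IsDiscreteValuationRing V]
  (A : Type u) [CommRing A] [Algebra V A] [IsNoetherianRing A] [Module.Flat V A]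
  (B : Type u) [CommRing B] [Algebra A B] [Algebra V B] [IsScalarTower V A B]

/-- If `B ⊗_A Â` is flat over the `𝔪A`-adic completion `Â`, then `B` has no `ϖ`-torsion. -/
theorem eq_zero_of_smul_eq_zero
    (h : (Algebra.TensorProduct.includeRight :
      AdicCompletion ((IsLocalRing.maximalIdeal V).map (algebraMap V A)) A →ₐ[A]
        B ⊗[A] AdicCompletion ((IsLocalRing.maximalIdeal V).map (algebraMap V A)) A).toRingHom.Flat)
    (ϖ : V) (hϖ0 : ϖ ≠ 0)
    (hspan : IsLocalRing.maximalIdeal V = Ideal.span {ϖ}) (b : B) (hb : ϖ • b = 0) : b = 0 := by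
  set J : Ideal A := (IsLocalRing.maximalIdeal V).map (algebraMap V A) with hJ
  -- the composite `V → A → Â → B ⊗ Â` is flat
  let φ : V →+* B ⊗[A] AdicCompletion J A :=
    ((Algebra.TensorProduct.includeRight :
      AdicCompletion J A →ₐ[A] B ⊗[A] AdicCompletion J A).toRingHom.comp
        (algebraMap A (AdicCompletion J A))).comp (algebraMap V A)
  have hφ : φ.Flat := by
    refine RingHom.Flat.comp ?_ (RingHom.Flat.comp ?_ h)
    · exact (RingHom.flat_algebraMap_iff).mpr inferInstance
    · exact (RingHom.flat_algebraMap_iff).mpr inferInstance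
  have hφeq : φ = algebraMap V (B ⊗[A] AdicCompletion J A) := by
    ext v
    simp only [φ, RingHom.coe_comp, Function.comp_apply, AlgHom.toRingHom_eq_coe, RingHom.coe_coe,
      Algebra.TensorProduct.includeRight_apply, Algebra.TensorProduct.algebraMap_apply]
    rw [Algebra.algebraMap_eq_smul_one (algebraMap V A v), ← TensorProduct.smul_tmul,
      IsScalarTower.algebraMap_apply V A B, Algebra.algebraMap_eq_smul_one (algebraMap V A v)]
  rw [hφeq, RingHom.flat_algebraMap_iff] at hφ
  -- `b ⊗ 1` is killed by `ϖ`, hence zero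
  have h1 : (b ⊗ₜ[A] (1 : AdicCompletion J A)) = 0 := by
    have htors := Module.Flat.torsion_eq_bot (R := V) (M := B ⊗[A] AdicCompletion J A)
    have hmem : (b ⊗ₜ[A] (1 : AdicCompletion J A)) ∈
        Submodule.torsion V (B ⊗[A] AdicCompletion J A) := by
      rw [Submodule.mem_torsion_iff]
      refine ⟨⟨ϖ, mem_nonZeroDivisors_of_ne_zero hϖ0⟩, ?_⟩
      show ϖ • (b ⊗ₜ[A] (1 : AdicCompletion J A)) = 0
      rw [TensorProduct.smul_tmul', hb, TensorProduct.zero_tmul]
    rw [htors] at hmem
    exact (Submodule.mem_bot _).mp hmem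
  -- the `A`-submodule generated by `b`
  let N : Submodule A B := Submodule.span A {b}
  have hbN : b ∈ N := Submodule.subset_span rfl
  have hinj : Function.Injective (LinearMap.rTensor (AdicCompletion J A) N.subtype) :=
    Module.Flat.rTensor_preserves_injective_linearMap _ N.injective_subtype
  have h2 : ((⟨b, hbN⟩ : N) ⊗ₜ[A] (1 : AdicCompletion J A)) = 0 := by
    apply hinj
    rw [LinearMap.rTensor_tmul, map_zero]
    exact h1
  -- apply `id ⊗ ev`
  have h3 : ((⟨b, hbN⟩ : N) ⊗ₜ[A] (1 : A ⧸ J)) = 0 := by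
    have := congrArg (LinearMap.lTensor N (AdicCompletion.evalOneₐ J).toLinearMap) h2
    rw [LinearMap.lTensor_tmul, map_zero] at this
    simpa using this
  have h4 : (⟨b, hbN⟩ : N) ∈ J • (⊤ : Submodule A N) := by
    have := congrArg (TensorProduct.tensorQuotEquivQuotSMul N J) h3
    rw [map_zero, ← map_one (Ideal.Quotient.mk J), TensorProduct.tensorQuotEquivQuotSMul_tmul_mk,
      one_smul] at this
    exact (Submodule.Quotient.mk_eq_zero _).mp this
  -- but `J N = 0`
  have h5 : J • (⊤ : Submodule A N) = ⊥ := by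
    rw [eq_bot_iff]
    rw [Submodule.smul_le]
    intro a ha n _
    rw [Submodule.mem_bot]
    rw [hJ, hspan, Ideal.map_span, Set.image_singleton] at ha
    obtain ⟨c, rfl⟩ := Ideal.mem_span_singleton'.mp ha
    obtain ⟨n, hn⟩ := n
    apply Subtype.ext
    show (c * algebraMap V A ϖ) • n = 0
    obtain ⟨d, rfl⟩ := Submodule.mem_span_singleton.mp hn
    rw [smul_smul, mul_assoc, mul_comm _ d, ← mul_assoc, ← smul_smul, algebraMap_smul, hb, smul_zero]
  rw [h5, Submodule.mem_bot] at h4
  exact congrArg Subtype.val h4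

/-- If `B ⊗_A Â` is flat over the `𝔪A`-adic completion `Â`, then `B` is flat over `V`. -/
theorem flat_of_flat_tensor_completion
    (h : (Algebra.TensorProduct.includeRight :
      AdicCompletion ((IsLocalRing.maximalIdeal V).map (algebraMap V A)) A →ₐ[A]
        B ⊗[A] AdicCompletion ((IsLocalRing.maximalIdeal V).map (algebraMap V A)) A).toRingHom.Flat) :
    Module.Flat V B := by
  obtain ⟨ϖ, hirr⟩ := IsDiscreteValuationRing.exists_irreducible V
  have hspan : IsLocalRing.maximalIdeal V = Ideal.span {ϖ} := hirr.maximalIdeal_eq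
  have hϖ0 : ϖ ≠ 0 := hirr.ne_zero
  have key : ∀ (n : ℕ) (b : B), ϖ ^ n • b = 0 → b = 0 := by
    intro n
    induction n with
    | zero => intro b hb; simpa using hb
    | succ n ih =>
      intro b hb
      apply ih
      apply eq_zero_of_smul_eq_zero V A B h ϖ hϖ0 hspan
      rw [smul_smul, ← pow_succ']
      exact hb
  rw [IsDedekindDomain.flat_iff_torsion_eq_bot, eq_bot_iff]
  intro b hb
  rw [Submodule.mem_torsion_iff] at hb
  obtain ⟨⟨v, hv⟩, hvb⟩ := hb
  have hv0 : v ≠ 0 := nonZeroDivisors.ne_zero hv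
  obtain ⟨n, u, rfl⟩ := IsDiscreteValuationRing.eq_unit_mul_pow_irreducible hv0 hirr
  rw [Submodule.mem_bot]
  apply key n
  have : (↑u * ϖ ^ n) • b = 0 := hvb
  rw [mul_smul] at this
  have h2 := congrArg (fun z => (↑u⁻¹ : V) • z) this
  simpa [smul_smul] using h2

end Ring

section Scheme

open CategoryTheory CategoryTheory.Limits AlgebraicGeometry

/-- Base change along a composite: `pullback.snd h (e ≫ c)` is a base change of
`pullback.snd h c`. -/
theorem isPullback_snd_comp {X Y Y' Y'' : Scheme.{u}} (h : X ⟶ Y) (c : Y' ⟶ Y) (e : Y'' ⟶ Y') :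
    ∃ l : pullback h (e ≫ c) ⟶ pullback h c,
      IsPullback l (pullback.snd h (e ≫ c)) (pullback.snd h c) e :=
  ⟨_, IsPullback.of_right' (IsPullback.of_hasPullback h (e ≫ c)) (IsPullback.of_hasPullback h c)⟩

/-- Precomposition with an open immersion: `pullback.snd (j ≫ h) c` factors through
`pullback.snd h c` via an open immersion. -/
theorem exists_lift_snd_comp {W X Y Y' : Scheme.{u}} (j : W ⟶ X) (h : X ⟶ Y) (c : Y' ⟶ Y) :
    ∃ l : pullback (j ≫ h) c ⟶ pullback h c,
      IsPullback (pullback.fst (j ≫ h) c) l j (pullback.fst h c) ∧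
        l ≫ pullback.snd h c = pullback.snd (j ≫ h) c := by
  have H1 := (IsPullback.of_hasPullback (j ≫ h) c).flip
  have H2 := (IsPullback.of_hasPullback h c).flip
  exact ⟨_, (IsPullback.of_right' H1 H2).flip, H2.lift_fst _ _ _⟩

variable (V : Type u) [CommRing V] [IsDomain V] [IsDiscreteValuationRing V]
  (A : Type u) [CommRing A] [Algebra V A] [IsNoetherianRing A] [Module.Flat V A]

theorem flat_chart_of_flat_snd {X : Scheme.{u}} (h : X ⟶ Spec (.of A))
    (hc : Flat (pullback.snd h (Spec.map (CommRingCat.ofHom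
      (algebraMap A (AdicCompletion ((IsLocalRing.maximalIdeal V).map (algebraMap V A)) A))))))
    {R : CommRingCat.{u}} (j : Spec R ⟶ X) [IsOpenImmersion j] :
    Flat (j ≫ h ≫ Spec.map (CommRingCat.ofHom (algebraMap V A))) := by
  set J : Ideal A := (IsLocalRing.maximalIdeal V).map (algebraMap V A) with hJ
  set c := Spec.map (CommRingCat.ofHom (algebraMap A (AdicCompletion J A))) with hcdef
  obtain ⟨l, hl, hlsnd⟩ := exists_lift_snd_comp j h c
  have hlflat : Flat l := MorphismProperty.of_isPullback (P := @Flat) hl inferInstance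
  have h1 : Flat (pullback.snd (j ≫ h) c) := by
    rw [← hlsnd]; infer_instance
  obtain ⟨φ, hφ⟩ : ∃ φ : CommRingCat.of A ⟶ R, Spec.map φ = j ≫ h :=
    ⟨Spec.preimage (j ≫ h), Spec.map_preimage _⟩
  letI : Algebra A R := φ.hom.toAlgebra
  letI : Algebra V R := ((algebraMap A R).comp (algebraMap V A)).toAlgebra
  haveI : IsScalarTower V A R := IsScalarTower.of_algebraMap_eq (fun _ => rfl)
  have hφ' : Spec.map (CommRingCat.ofHom (algebraMap A R)) = j ≫ h := hφ
  rw [← hφ'] at h1
  have h2 : Flat (Spec.map (CommRingCat.ofHom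
      (RingHomClass.toRingHom (Algebra.TensorProduct.includeRight :
        AdicCompletion J A →ₐ[A] R ⊗[A] AdicCompletion J A)))) := by
    rw [← pullbackSpecIso_inv_snd]
    infer_instance
  rw [Flat.SpecMap_iff] at h2
  have h3 : Module.Flat V R := flat_of_flat_tensor_completion V A R h2
  rw [← Category.assoc, ← hφ', ← Spec.map_comp, Flat.SpecMap_iff]
  exact (RingHom.flat_algebraMap_iff).mpr h3

end Scheme

section Generic

/-- Base change along a factorisation, against an arbitrary pullback square. -/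
theorem exists_isPullback_snd_comp {X Y Y' Y'' P : Scheme.{u}} {h : X ⟶ Y} {c : Y' ⟶ Y}
    {a : P ⟶ X} {b : P ⟶ Y'} (t : IsPullback a b h c) (e : Y'' ⟶ Y') :
    ∃ l : pullback h (e ≫ c) ⟶ P, IsPullback l (pullback.snd h (e ≫ c)) b e :=
  ⟨_, IsPullback.of_right' (IsPullback.of_hasPullback h (e ≫ c)) t⟩

/-- If `h` is a closed map to `Spec A` and `F` is an open subset of the source containing the
preimage of `V(J)`, then the image of `Spec Â → Spec A` lies in an open set above which every
point lies in `F`. -/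
theorem exists_opens_range_subset {A : Type u} [CommRing A] (J : Ideal A) (hJ : J.FG)
    {X : Scheme.{u}} (h : X ⟶ Spec (.of A)) (hcl : IsClosedMap h)
    (F : Set X) (hF : IsOpen F)
    (hJF : ∀ x : X, (h x) ∈ PrimeSpectrum.zeroLocus (J : Set A) → x ∈ F) :
    ∃ U₀ : (Spec (.of A)).Opens, (∀ x : X, h x ∈ U₀ → x ∈ F) ∧
      Set.range (Spec.map (CommRingCat.ofHom (algebraMap A (AdicCompletion J A)))) ⊆ U₀ := by
  have hZ : IsClosed (h '' Fᶜ) := hcl _ hF.isClosed_compl
  refine ⟨⟨(h '' Fᶜ)ᶜ, hZ.isOpen_compl⟩, ?_, ?_⟩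
  · intro x hx
    by_contra hxF
    exact hx ⟨x, hxF, rfl⟩
  · rintro _ ⟨p, rfl⟩ hp
    obtain ⟨K, hK⟩ := (PrimeSpectrum.isClosed_iff_zeroLocus_ideal _).mp hZ
    have hKJ : K ⊔ J = ⊤ := by
      rw [← PrimeSpectrum.zeroLocus_empty_iff_eq_top, PrimeSpectrum.zeroLocus_sup, ← hK,
        Set.eq_empty_iff_forall_notMem]
      rintro y ⟨⟨x, hxF, rfl⟩, hyJ⟩
      exact hxF (hJF x hyJ)
    rw [hK] at hp
    have hKp : K.map (algebraMap A (AdicCompletion J A)) ≤ p.asIdeal :=
      Ideal.map_le_iff_le_comap.mpr hp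
    obtain ⟨M, hM, hpM⟩ := Ideal.exists_le_maximal p.asIdeal p.2.ne_top
    haveI := AdicCompletion.isAdicComplete_self J hJ
    have hJM : J.map (algebraMap A (AdicCompletion J A)) ≤ M :=
      (IsAdicComplete.le_jacobson_bot _).trans (sInf_le ⟨bot_le, hM⟩)
    have : (K ⊔ J).map (algebraMap A (AdicCompletion J A)) ≤ M := by
      rw [Ideal.map_sup]
      exact sup_le (hKp.trans hpM) hJM
    rw [hKJ, Ideal.map_top] at this
    exact hM.ne_top (top_le_iff.mp this)

end Generic


section Fibre

variable (V : Type u) [CommRing V] [IsLocalRing V]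
  (A : Type u) [CommRing A] [Algebra V A]

/-- The special fibre square `Spec A/𝔪A = Spec A ×_{Spec V} Spec V/𝔪`. -/
theorem isPullback_specialFibre :
    IsPullback
      (Spec.map (CommRingCat.ofHom
        (Ideal.Quotient.mk ((IsLocalRing.maximalIdeal V).map (algebraMap V A)))))
      (Spec.map (CommRingCat.ofHom (algebraMap (V ⧸ IsLocalRing.maximalIdeal V)
        (A ⧸ (IsLocalRing.maximalIdeal V).map (algebraMap V A)))))
      (Spec.map (CommRingCat.ofHom (algebraMap V A)))
      (Spec.map (CommRingCat.ofHom (algebraMap V (V ⧸ IsLocalRing.maximalIdeal V)))) := by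
  haveI := Groth.Agent.Lib.Helper12.LocQuot.isPushout_quotient V A (IsLocalRing.maximalIdeal V)
  exact isPullback_SpecMap_of_isPushout _ _ _ _
    (CommRingCat.isPushout_of_isPushout V A (V ⧸ IsLocalRing.maximalIdeal V)
      (A ⧸ (IsLocalRing.maximalIdeal V).map (algebraMap V A)))

theorem isField_residue : IsField (CommRingCat.of (V ⧸ IsLocalRing.maximalIdeal V)) :=
  (Ideal.Quotient.maximal_ideal_iff_isField_quotient _).mp inferInstance

/-- A point over `V(𝔪A)` lifts to the special fibre. -/
theorem exists_preimage_specialFibre {X : Scheme.{u}} (h : X ⟶ Spec (.of A)) (x : X)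
    (hx : h x ∈ PrimeSpectrum.zeroLocus
      (((IsLocalRing.maximalIdeal V).map (algebraMap V A) : Ideal A) : Set A)) :
    ∃ x' : ↑(pullback h (Spec.map (CommRingCat.ofHom
        (Ideal.Quotient.mk ((IsLocalRing.maximalIdeal V).map (algebraMap V A)))))),
      pullback.fst h _ x' = x := by
  set J : Ideal A := (IsLocalRing.maximalIdeal V).map (algebraMap V A) with hJ
  have hr : h x ∈ Set.range (Spec.map (CommRingCat.ofHom (Ideal.Quotient.mk J))) := by
    have : Set.range (Spec.map (CommRingCat.ofHom (Ideal.Quotient.mk J))) =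
        PrimeSpectrum.zeroLocus (J : Set A) := by
      have := range_comap_of_surjective (A ⧸ J) (Ideal.Quotient.mk J)
        Ideal.Quotient.mk_surjective
      rw [Ideal.mk_ker] at this
      exact this
    rw [this]; exact hx
  obtain ⟨y, hy⟩ := hr
  obtain ⟨x', hx'1, -⟩ := Scheme.Pullback.exists_preimage_pullback x y hy.symm
  exact ⟨x', hx'1⟩

theorem flat_stalkMap_of_mem_zeroLocus [Algebra.FiniteType V A] {X : Scheme.{u}}
    (h : X ⟶ Spec (.of A))
    [LocallyOfFinitePresentation (h ≫ Spec.map (CommRingCat.ofHom (algebraMap V A)))]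
    (h1 : Flat (h ≫ Spec.map (CommRingCat.ofHom (algebraMap V A))))
    (h2 : Flat (pullback.snd h (Spec.map (CommRingCat.ofHom
      (Ideal.Quotient.mk ((IsLocalRing.maximalIdeal V).map (algebraMap V A)))))))
    (x : X) (hx : h x ∈ PrimeSpectrum.zeroLocus
      (((IsLocalRing.maximalIdeal V).map (algebraMap V A) : Ideal A) : Set A)) :
    (h.stalkMap x).hom.Flat := by
  obtain ⟨x', hx'⟩ := exists_preimage_specialFibre V A h x hx
  haveI : LocallyOfFiniteType (Spec.map (CommRingCat.ofHom (algebraMap V A))) := by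
    rw [HasRingHomProperty.Spec_iff (P := @LocallyOfFiniteType)]
    exact (RingHom.finiteType_algebraMap).mpr inferInstance
  exact Groth.Agent.Lib.Helper14.FibreCrit.flat_stalkMap_of_isPullback_field_ft
    (isField_residue V) (isPullback_specialFibre V A) (IsPullback.of_hasPullback h _)
    x' x hx' (Flat.stalkMap _ x) (Flat.stalkMap _ x')

end Fibre


section Fibre2

variable (V : Type u) [CommRing V] [IsLocalRing V]
  (A : Type u) [CommRing A] [Algebra V A]

theorem mem_smoothLocus_of_mem_zeroLocus {X : Scheme.{u}}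
    (h : X ⟶ Spec (.of A)) [LocallyOfFinitePresentation h]
    (h1 : Flat (h ≫ Spec.map (CommRingCat.ofHom (algebraMap V A))))
    (h2 : Smooth (pullback.snd h (Spec.map (CommRingCat.ofHom
      (Ideal.Quotient.mk ((IsLocalRing.maximalIdeal V).map (algebraMap V A)))))))
    (x : X) (hx : h x ∈ PrimeSpectrum.zeroLocus
      (((IsLocalRing.maximalIdeal V).map (algebraMap V A) : Ideal A) : Set A)) :
    x ∈ h.smoothLocus := by
  obtain ⟨x', hx'⟩ := exists_preimage_specialFibre V A h x hx
  exact Groth.Agent.Lib.Helper14.mem_smoothLocus_of_isPullback_field_rel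
    (isField_residue V) (isPullback_specialFibre V A) (IsPullback.of_hasPullback h _)
    x' x hx' (Flat.stalkMap _ x) (by rw [Scheme.Hom.smoothLocus_eq_top]; trivial)

variable [IsNoetherianRing A] [Algebra.FinitePresentation V A]

theorem locallyOfFinitePresentation_specMap :
    LocallyOfFinitePresentation (Spec.map (CommRingCat.ofHom (algebraMap V A))) := by
  rw [HasRingHomProperty.Spec_iff (P := @LocallyOfFinitePresentation)]
  exact (RingHom.finitePresentation_algebraMap).mpr inferInstance

/-- Forward direction, flat case. -/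
theorem flat_snd_completion {X : Scheme.{u}} (h : X ⟶ Spec (.of A)) [IsProper h]
    (h1 : Flat (h ≫ Spec.map (CommRingCat.ofHom (algebraMap V A))))
    (h2 : Flat (pullback.snd h (Spec.map (CommRingCat.ofHom
      (Ideal.Quotient.mk ((IsLocalRing.maximalIdeal V).map (algebraMap V A))))))) :
    Flat (pullback.snd h (Spec.map (CommRingCat.ofHom
      (algebraMap A (AdicCompletion ((IsLocalRing.maximalIdeal V).map (algebraMap V A)) A))))) := by
  set J : Ideal A := (IsLocalRing.maximalIdeal V).map (algebraMap V A) with hJ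
  haveI : IsNoetherianRing (CommRingCat.of A) := ‹IsNoetherianRing A›
  haveI : LocallyOfFinitePresentation h := inferInstance
  haveI := locallyOfFinitePresentation_specMap V A
  haveI : LocallyOfFinitePresentation (h ≫ Spec.map (CommRingCat.ofHom (algebraMap V A))) :=
    inferInstance
  haveI : Algebra.FiniteType V A := inferInstance
  obtain ⟨U₀, hU₀F, hrange⟩ := exists_opens_range_subset J (IsNoetherian.noetherian J) h
    h.isClosedMap {x | (h.stalkMap x).hom.Flat}
    (Groth.Agent.Lib.Helper2.isOpen_flat_stalkMap_locus h)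
    (fun x hx => flat_stalkMap_of_mem_zeroLocus V A h h1 h2 x hx)
  have hflatU : Flat (h ∣_ U₀) := Flat.of_stalkMap _ fun x =>
    (RingHom.Flat.respectsIso.arrow_mk_iso_iff (morphismRestrictStalkMap h U₀ x)).mpr
      (hU₀F x.1 x.2)
  obtain ⟨c', hc'⟩ : ∃ c', c' ≫ U₀.ι =
      Spec.map (CommRingCat.ofHom (algebraMap A (AdicCompletion J A))) :=
    ⟨IsOpenImmersion.lift U₀.ι _ (by rw [Scheme.Opens.range_ι]; exact hrange),
      IsOpenImmersion.lift_fac _ _ _⟩
  obtain ⟨l, hl⟩ := exists_isPullback_snd_comp (isPullback_morphismRestrict h U₀).flip c'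
  rw [← hc']
  exact MorphismProperty.of_isPullback (P := @Flat) hl hflatU

/-- Forward direction, smooth case. -/
theorem smooth_snd_completion {X : Scheme.{u}} (h : X ⟶ Spec (.of A)) [IsProper h]
    (h1 : Flat (h ≫ Spec.map (CommRingCat.ofHom (algebraMap V A))))
    (h2 : Smooth (pullback.snd h (Spec.map (CommRingCat.ofHom
      (Ideal.Quotient.mk ((IsLocalRing.maximalIdeal V).map (algebraMap V A))))))) :
    Smooth (pullback.snd h (Spec.map (CommRingCat.ofHom
      (algebraMap A (AdicCompletion ((IsLocalRing.maximalIdeal V).map (algebraMap V A)) A))))) := by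
  set J : Ideal A := (IsLocalRing.maximalIdeal V).map (algebraMap V A) with hJ
  haveI : IsNoetherianRing (CommRingCat.of A) := ‹IsNoetherianRing A›
  haveI : LocallyOfFinitePresentation h := inferInstance
  obtain ⟨U₀, hU₀F, hrange⟩ := exists_opens_range_subset J (IsNoetherian.noetherian J) h
    h.isClosedMap (h.smoothLocus : Set X) h.smoothLocus.2
    (fun x hx => mem_smoothLocus_of_mem_zeroLocus V A h h1 h2 x hx)
  have hsmU : Smooth (h ∣_ U₀) := by
    haveI : LocallyOfFinitePresentation (h ∣_ U₀) := inferInstance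
    rw [← Scheme.Hom.smoothLocus_eq_top_iff, ← top_le_iff]
    rintro x -
    exact (RingHom.FormallySmooth.respectsIso.arrow_mk_iso_iff
      (morphismRestrictStalkMap h U₀ x)).mpr (hU₀F x.1 x.2)
  obtain ⟨c', hc'⟩ : ∃ c', c' ≫ U₀.ι =
      Spec.map (CommRingCat.ofHom (algebraMap A (AdicCompletion J A))) :=
    ⟨IsOpenImmersion.lift U₀.ι _ (by rw [Scheme.Opens.range_ι]; exact hrange),
      IsOpenImmersion.lift_fac _ _ _⟩
  obtain ⟨l, hl⟩ := exists_isPullback_snd_comp (isPullback_morphismRestrict h U₀).flip c'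
  rw [← hc']
  exact MorphismProperty.of_isPullback (P := @Smooth) hl hsmU

end Fibre2

end Groth.Agent.Lib.Helper95.AdicFlatBC
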