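import Mathlib

namespace Groth.Agent.Lib.Helper95.SMT

section Adjacent

variable {K : Type*} [CommRing K] {V : Type*} [AddCommGroup V] [Module K V] {N : ℕ}

theorem map_swap_adjacent (f : MultilinearMap K (fun _ : Fin N => V) K)
    (hadj : ∀ (w : Fin N → V) (k : ℕ) (hk : k + 1 < N),
      w ⟨k, by omega⟩ = w ⟨k + 1, hk⟩ → f w = 0)
    (w : Fin N → V) (k : ℕ) (hk : k + 1 < N) :
    f (w ∘ Equiv.swap (⟨k, by omega⟩ : Fin N) ⟨k + 1, hk⟩) = - f w := by
  classical
  set a : Fin N := ⟨k, by omega⟩ with ha
  set b : Fin N := ⟨k + 1, hk⟩ with hb
  have hab : a ≠ b := by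
    intro h
    have := congrArg Fin.val h
    simp [ha, hb] at this
  set x := w a with hx
  set y := w b with hy
  have h1 : f (Function.update (Function.update w a (x + y)) b (x + y)) = 0 := by
    apply hadj _ k hk
    change Function.update (Function.update w a (x + y)) b (x + y) a =
      Function.update (Function.update w a (x + y)) b (x + y) b
    rw [Function.update_of_ne hab, Function.update_self, Function.update_self]
  rw [f.map_update_add, Function.update_comm hab, Function.update_comm hab,
    f.map_update_add, f.map_update_add] at h1
  have hT1 : f (Function.update (Function.update w b x) a x) = 0 := by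
    apply hadj _ k hk
    change Function.update (Function.update w b x) a x a =
      Function.update (Function.update w b x) a x b
    rw [Function.update_self, Function.update_of_ne hab.symm, Function.update_self]
  have hT4 : f (Function.update (Function.update w b y) a y) = 0 := by
    apply hadj _ k hk
    change Function.update (Function.update w b y) a y a =
      Function.update (Function.update w b y) a y b
    rw [Function.update_self, Function.update_of_ne hab.symm, Function.update_self]
  have hT3 : Function.update (Function.update w b y) a x = w := by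
    rw [hy, Function.update_eq_self, hx, Function.update_eq_self]
  have hT2 : Function.update (Function.update w b x) a y = w ∘ Equiv.swap a b := by
    funext c
    by_cases hca : c = a
    · subst hca
      rw [Function.update_self, Function.comp_apply, Equiv.swap_apply_left]
    · by_cases hcb : c = b
      · subst hcb
        rw [Function.update_of_ne hca, Function.update_self, Function.comp_apply,
          Equiv.swap_apply_right]
      · rw [Function.update_of_ne hca, Function.update_of_ne hcb, Function.comp_apply,
          Equiv.swap_apply_of_ne_of_ne hca hcb]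
  rw [hT1, hT4, hT3, hT2, zero_add, add_zero] at h1
  exact eq_neg_of_add_eq_zero_left h1

theorem map_eq_zero_of_adjacent_aux (f : MultilinearMap K (fun _ : Fin N => V) K)
    (hadj : ∀ (w : Fin N → V) (k : ℕ) (hk : k + 1 < N),
      w ⟨k, by omega⟩ = w ⟨k + 1, hk⟩ → f w = 0) :
    ∀ (m : ℕ) (w : Fin N → V) (a b : Fin N), a.val + m + 1 = b.val → w a = w b → f w = 0 := by
  intro m
  induction m with
  | zero =>
    intro w a b hab hw
    have h := hadj w a.val (by have := b.isLt; omega)
    apply h
    have h1 : (⟨a.val, by have := a.isLt; omega⟩ : Fin N) = a := Fin.ext rfl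
    have h2 : (⟨a.val + 1, by have := b.isLt; omega⟩ : Fin N) = b := Fin.ext (by simp; omega)
    rw [h1, h2]
    exact hw
  | succ m ih =>
    intro w a b hab hw
    have hb1 : b.val - 1 + 1 < N := by have := b.isLt; omega
    set c : Fin N := ⟨b.val - 1, by omega⟩ with hc
    have hcb : (⟨b.val - 1 + 1, hb1⟩ : Fin N) = b := Fin.ext (by simp; omega)
    have hswap := map_swap_adjacent f hadj w (b.val - 1) hb1
    rw [hcb] at hswap
    have hac : a ≠ c := by
      intro h
      have := congrArg Fin.val h
      simp only [hc] at this
      omega
    have hab' : a ≠ b := by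
      intro h
      have := congrArg Fin.val h
      omega
    have h0 : f (w ∘ Equiv.swap c b) = 0 := by
      apply ih (w ∘ Equiv.swap c b) a c
      · simp only [hc]; omega
      · rw [Function.comp_apply, Function.comp_apply, Equiv.swap_apply_of_ne_of_ne hac hab',
          Equiv.swap_apply_left]
        exact hw
    rw [h0] at hswap
    exact neg_eq_zero.mp hswap.symm

/-- a multilinear map on `Fin N` vanishing on families with two equal adjacent entries is
alternating. -/
def alternatingOfAdjacent (f : MultilinearMap K (fun _ : Fin N => V) K)
    (hadj : ∀ (w : Fin N → V) (k : ℕ) (hk : k + 1 < N),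
      w ⟨k, by omega⟩ = w ⟨k + 1, hk⟩ → f w = 0) : V [⋀^Fin N]→ₗ[K] K :=
  { f with
    map_eq_zero_of_eq' := by
      intro w a b hw hab
      rcases lt_or_gt_of_ne hab with h | h
      · have h' : a.val < b.val := h
        exact map_eq_zero_of_adjacent_aux f hadj (b.val - a.val - 1) w a b (by omega) hw
      · have h' : b.val < a.val := h
        exact map_eq_zero_of_adjacent_aux f hadj (a.val - b.val - 1) w b a (by omega) hw.symm }

theorem alternatingOfAdjacent_apply (f : MultilinearMap K (fun _ : Fin N => V) K)
    (hadj : ∀ (w : Fin N → V) (k : ℕ) (hk : k + 1 < N),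
      w ⟨k, by omega⟩ = w ⟨k + 1, hk⟩ → f w = 0) (w : Fin N → V) :
    alternatingOfAdjacent f hadj w = f w := rfl

end Adjacent

end Groth.Agent.Lib.Helper95.SMT
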