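import Mathlib
import Groth.Prelude.Def_W4bk4grassmannianPl
import Groth.Agent.Lib.Helper27.Plucker

/-!
# Standard monomial theory for the Grassmannian: basic combinatorics of shuffles
-/

open MvPolynomial W4bk4grassmannian

namespace Groth.Agent.Lib.Helper95.SMT

variable {d n : ℕ}


/-- sum of the entries of a tuple. -/
def sumT (a : Fin d → Fin n) : ℕ := ∑ t, (a t : ℕ)

theorem injective_of_card_image (a : Fin d → Fin n) (h : (Finset.univ.image a).card = d) :
    Function.Injective a := by
  have h' : (Finset.univ.image a).card = (Finset.univ : Finset (Fin d)).card := by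
    rw [h, Finset.card_univ, Fintype.card_fin]
  have := Finset.card_image_iff.mp h'
  intro x y hxy
  exact this (Finset.mem_coe.mpr (Finset.mem_univ x)) (Finset.mem_coe.mpr (Finset.mem_univ y)) hxy

theorem sumT_sortIdx (a : Fin d → Fin n) (h : (Finset.univ.image a).card = d) :
    sumT (sortIdx d n a h).1 = sumT a := by
  unfold sumT sortIdx
  simp only
  have h1 : ∑ t : Fin d, ((Finset.orderEmbOfFin (Finset.univ.image a) h t : Fin n) : ℕ) =
      ∑ x ∈ Finset.univ.image a, (x : ℕ) := by
    conv_rhs => rw [← Finset.map_orderEmbOfFin_univ (Finset.univ.image a) h]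
    rw [Finset.sum_map]
    rfl
  rw [h1, Finset.sum_image]
  intro x _ y _ hxy
  exact injective_of_card_image a h hxy

/-- sum of a strictly increasing index. -/
def sig (θ : Idx d n) : ℕ := sumT θ.1

theorem sig_le_of_le {θ φ : Idx d n} (h : θ ≤ φ) : sig θ ≤ sig φ := by
  unfold sig sumT
  exact Finset.sum_le_sum fun t _ => Fin.le_def.mp (h t)

theorem eq_of_le_of_sig_le {θ φ : Idx d n} (h : θ ≤ φ) (hs : sig φ ≤ sig θ) : θ = φ := by
  have heq : sig θ = sig φ := le_antisymm (sig_le_of_le h) hs
  unfold sig sumT at heq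
  have h2 : ∀ t ∈ (Finset.univ : Finset (Fin d)), ((θ.1 t : Fin n) : ℕ) = (φ.1 t : ℕ) := by
    rw [← Finset.sum_eq_sum_iff_of_le]
    · exact heq
    · intro t _
      exact Fin.le_def.mp (h t)
  apply Subtype.ext
  funext t
  exact Fin.ext (h2 t (Finset.mem_univ t))

theorem sig_le_bound (θ : Idx d n) : sig θ ≤ d * n := by
  unfold sig sumT
  calc ∑ t, ((θ.1 t : Fin n) : ℕ) ≤ ∑ _t : Fin d, n :=
        Finset.sum_le_sum fun t _ => (θ.1 t).isLt.le
    _ = d * n := by simp



/-- generic reindexing of a filtered sum over `Fin N`. -/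
theorem sum_filter_eq_sum_fin {N M : ℕ} (p : Fin N → Prop) [DecidablePred p] (f : Fin M → Fin N)
    (hf : Function.Injective f) (hp : ∀ k, p k ↔ ∃ u, f u = k) (F : Fin N → ℕ) :
    ∑ k ∈ Finset.univ.filter p, F k = ∑ u, F (f u) := by
  have : Finset.univ.filter p = Finset.univ.image f := by
    ext k
    simp only [Finset.mem_filter, Finset.mem_univ, true_and, Finset.mem_image]
    exact hp k
  rw [this, Finset.sum_image (fun x _ y _ h => hf h)]

theorem sum_split_le {N : ℕ} (r : ℕ) (F : Fin N → ℕ) :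
    ∑ k, F k = ∑ k ∈ Finset.univ.filter (fun k : Fin N => k.val ≤ r), F k +
      ∑ k ∈ Finset.univ.filter (fun k : Fin N => r < k.val), F k := by
  rw [← Finset.sum_filter_add_sum_filter_not Finset.univ (fun k : Fin N => k.val ≤ r)]
  congr 2
  ext k
  simp

theorem sum_split_lt {N : ℕ} (r : ℕ) (F : Fin N → ℕ) :
    ∑ k, F k = ∑ k ∈ Finset.univ.filter (fun k : Fin N => k.val < r), F k +
      ∑ k ∈ Finset.univ.filter (fun k : Fin N => r ≤ k.val), F k := by
  rw [← Finset.sum_filter_add_sum_filter_not Finset.univ (fun k : Fin N => k.val < r)]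
  congr 2
  ext k
  simp

theorem sum_filter_le {N : ℕ} (r : ℕ) (hr : r < N) (F : Fin N → ℕ) :
    ∑ k ∈ Finset.univ.filter (fun k : Fin N => k.val ≤ r), F k =
      ∑ u : Fin (r + 1), F ⟨u.val, by omega⟩ := by
  apply sum_filter_eq_sum_fin
  · intro u v h
    exact Fin.ext (by simpa using congrArg Fin.val h)
  · intro k
    constructor
    · intro h
      exact ⟨⟨k.val, by omega⟩, Fin.ext rfl⟩
    · rintro ⟨u, rfl⟩
      exact Nat.lt_succ_iff.mp u.isLt

theorem sum_filter_gt {N : ℕ} (r : ℕ) (hr : r < N) (F : Fin N → ℕ) :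
    ∑ k ∈ Finset.univ.filter (fun k : Fin N => r < k.val), F k =
      ∑ u : Fin (N - r - 1), F ⟨r + 1 + u.val, by omega⟩ := by
  apply sum_filter_eq_sum_fin
  · intro u v h
    exact Fin.ext (by simpa using congrArg Fin.val h)
  · intro k
    constructor
    · intro h
      exact ⟨⟨k.val - r - 1, by omega⟩, Fin.ext (by simp; omega)⟩
    · rintro ⟨u, rfl⟩
      simp; omega

theorem sum_filter_lt {N : ℕ} (r : ℕ) (hr : r ≤ N) (F : Fin N → ℕ) :
    ∑ k ∈ Finset.univ.filter (fun k : Fin N => k.val < r), F k =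
      ∑ u : Fin r, F ⟨u.val, by omega⟩ := by
  apply sum_filter_eq_sum_fin
  · intro u v h
    exact Fin.ext (by simpa using congrArg Fin.val h)
  · intro k
    constructor
    · intro h
      exact ⟨⟨k.val, h⟩, Fin.ext rfl⟩
    · rintro ⟨u, rfl⟩
      exact u.isLt

theorem sum_filter_ge {N : ℕ} (r : ℕ) (hr : r ≤ N) (F : Fin N → ℕ) :
    ∑ k ∈ Finset.univ.filter (fun k : Fin N => r ≤ k.val), F k =
      ∑ u : Fin (N - r), F ⟨r + u.val, by omega⟩ := by
  apply sum_filter_eq_sum_fin
  · intro u v h
    exact Fin.ext (by simpa using congrArg Fin.val h)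
  · intro k
    constructor
    · intro h
      exact ⟨⟨k.val - r, by omega⟩, Fin.ext (by simp; omega)⟩
    · rintro ⟨u, rfl⟩
      simp



section Shuffle

variable (i j : Idx d n) (r : Fin d)

theorem movingRows_of_le (k : Fin (d + 1)) (h : k.val ≤ r.val) :
    movingRows i j r k = i.1 ⟨k.val, lt_of_le_of_lt h r.isLt⟩ := by
  unfold movingRows
  rw [dif_pos h]

theorem movingRows_of_gt (k : Fin (d + 1)) (h : r.val < k.val) :
    movingRows i j r k = j.1 ⟨k.val - 1, by have := k.isLt; omega⟩ := by
  unfold movingRows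
  rw [dif_neg (not_le.mpr h)]

theorem movingRows_strictMono (hp : IsPivot i j r) : StrictMono (movingRows i j r) := by
  intro k l hkl
  have hkl' : k.val < l.val := hkl
  by_cases hk : k.val ≤ r.val
  · by_cases hl : l.val ≤ r.val
    · rw [movingRows_of_le i j r k hk, movingRows_of_le i j r l hl]
      exact i.2 (by exact hkl')
    · have hl' : r.val < l.val := not_le.mp hl
      rw [movingRows_of_le i j r k hk, movingRows_of_gt i j r l hl']
      have h1 : i.1 ⟨k.val, lt_of_le_of_lt hk r.isLt⟩ ≤ i.1 r :=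
        i.2.monotone (by exact hk)
      have h2 : j.1 r ≤ j.1 ⟨l.val - 1, by have := l.isLt; omega⟩ :=
        j.2.monotone (by change r.val ≤ l.val - 1; omega)
      exact lt_of_le_of_lt h1 (lt_of_lt_of_le hp.2 h2)
  · have hk' : r.val < k.val := not_le.mp hk
    have hl' : r.val < l.val := by omega
    rw [movingRows_of_gt i j r k hk', movingRows_of_gt i j r l hl']
    exact j.2 (by change k.val - 1 < l.val - 1; omega)

end Shuffle

end Groth.Agent.Lib.Helper95.SMT
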