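import Mathlib
import Groth.Prelude.Def_W4bk4grassmannianPl
import Groth.Agent.Lib.Helper27.Plucker
import Groth.Agent.Lib.Helper95.SMTBasic

open MvPolynomial W4bk4grassmannian

namespace Groth.Agent.Lib.Helper95.SMT

variable {d n : ℕ}

section Shuffle

variable (i j : Idx d n) (r : Fin d)

theorem sum_movingRows_le :
    ∑ k ∈ Finset.univ.filter (fun k : Fin (d + 1) => k.val ≤ r.val),
        ((movingRows i j r k : Fin n) : ℕ) =
      ∑ t ∈ Finset.univ.filter (fun t : Fin d => t.val ≤ r.val), ((i.1 t : Fin n) : ℕ) := by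
  refine Finset.sum_bij (fun k hk => ⟨k.val, lt_of_le_of_lt (Finset.mem_filter.mp hk).2 r.isLt⟩)
    ?_ ?_ ?_ ?_
  · intro k hk
    simp only [Finset.mem_filter, Finset.mem_univ, true_and] at hk ⊢
    exact hk
  · intro k hk l hl h
    exact Fin.ext (by simpa using congrArg Fin.val h)
  · intro t ht
    simp only [Finset.mem_filter, Finset.mem_univ, true_and] at ht
    exact ⟨⟨t.val, by have := t.isLt; omega⟩, by simpa using ht, Fin.ext rfl⟩
  · intro k hk
    simp only [Finset.mem_filter, Finset.mem_univ, true_and] at hk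
    rw [movingRows_of_le i j r k hk]

theorem sum_movingRows_gt :
    ∑ k ∈ Finset.univ.filter (fun k : Fin (d + 1) => r.val < k.val),
        ((movingRows i j r k : Fin n) : ℕ) =
      ∑ t ∈ Finset.univ.filter (fun t : Fin d => r.val ≤ t.val), ((j.1 t : Fin n) : ℕ) := by
  refine Finset.sum_bij (fun k hk => ⟨k.val - 1, by
      have := (Finset.mem_filter.mp hk).2; have := k.isLt; omega⟩) ?_ ?_ ?_ ?_
  · intro k hk
    simp only [Finset.mem_filter, Finset.mem_univ, true_and] at hk ⊢
    omega
  · intro k hk l hl h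
    simp only [Finset.mem_filter, Finset.mem_univ, true_and] at hk hl
    have := congrArg Fin.val h
    simp only at this
    exact Fin.ext (by omega)
  · intro t ht
    simp only [Finset.mem_filter, Finset.mem_univ, true_and] at ht
    refine ⟨⟨t.val + 1, by have := t.isLt; omega⟩, ?_, Fin.ext (by simp)⟩
    simp only [Finset.mem_filter, Finset.mem_univ, true_and]
    omega
  · intro k hk
    simp only [Finset.mem_filter, Finset.mem_univ, true_and] at hk
    rw [movingRows_of_gt i j r k hk]

theorem sum_movingRows :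
    ∑ k : Fin (d + 1), ((movingRows i j r k : Fin n) : ℕ) =
      ∑ t ∈ Finset.univ.filter (fun t : Fin d => t.val ≤ r.val), ((i.1 t : Fin n) : ℕ) +
      ∑ t ∈ Finset.univ.filter (fun t : Fin d => r.val ≤ t.val), ((j.1 t : Fin n) : ℕ) := by
  rw [sum_split_le r.val, sum_movingRows_le, sum_movingRows_gt]

variable (A : Finset (Fin (d + 1))) (hA : A.card = r.val + 1)

theorem shuffleI_of_le (t : Fin d) (h : t.val ≤ r.val) :
    shuffleI i j r A hA t = movingRows i j r (A.orderEmbOfFin hA ⟨t.val, by omega⟩) := by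
  unfold shuffleI
  rw [dif_pos h]

theorem shuffleI_of_gt (t : Fin d) (h : r.val < t.val) :
    shuffleI i j r A hA t = i.1 t := by
  unfold shuffleI
  rw [dif_neg (not_le.mpr h)]

include hA in
theorem card_compl_eq : Aᶜ.card = d - r.val := by
  rw [Finset.card_compl, hA, Fintype.card_fin]; omega

theorem shuffleJ_of_lt (t : Fin d) (h : t.val < r.val) :
    shuffleJ i j r A hA t = j.1 t := by
  unfold shuffleJ
  exact dif_pos h

theorem shuffleJ_of_ge (t : Fin d) (h : r.val ≤ t.val) :
    shuffleJ i j r A hA t = movingRows i j r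
      (Aᶜ.orderEmbOfFin (card_compl_eq r A hA) ⟨t.val - r.val, by have := t.isLt; omega⟩) := by
  unfold shuffleJ
  exact dif_neg (not_lt.mpr h)

theorem sumT_shuffleI :
    sumT (shuffleI i j r A hA) = ∑ a ∈ A, ((movingRows i j r a : Fin n) : ℕ) +
      ∑ t ∈ Finset.univ.filter (fun t : Fin d => r.val < t.val), ((i.1 t : Fin n) : ℕ) := by
  unfold sumT
  rw [sum_split_le r.val]
  congr 1
  · refine Finset.sum_bij (fun t ht => A.orderEmbOfFin hA ⟨t.val, by
        have := (Finset.mem_filter.mp ht).2; omega⟩) ?_ ?_ ?_ ?_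
    · intro t ht
      exact Finset.orderEmbOfFin_mem A hA _
    · intro t ht u hu h
      have := (A.orderEmbOfFin hA).injective h
      exact Fin.ext (by simpa using congrArg Fin.val this)
    · intro a ha
      rw [← Finset.image_orderEmbOfFin_univ A hA] at ha
      obtain ⟨u, -, rfl⟩ := Finset.mem_image.mp ha
      refine ⟨⟨u.val, by have := u.isLt; have := r.isLt; omega⟩, ?_, ?_⟩
      · simp only [Finset.mem_filter, Finset.mem_univ, true_and]
        have := u.isLt; omega
      · rfl
    · intro t ht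
      simp only [Finset.mem_filter, Finset.mem_univ, true_and] at ht
      rw [shuffleI_of_le i j r A hA t ht]
  · refine Finset.sum_congr rfl fun t ht => ?_
    simp only [Finset.mem_filter, Finset.mem_univ, true_and] at ht
    rw [shuffleI_of_gt i j r A hA t ht]

theorem sumT_shuffleJ :
    sumT (shuffleJ i j r A hA) =
      ∑ t ∈ Finset.univ.filter (fun t : Fin d => t.val < r.val), ((j.1 t : Fin n) : ℕ) +
      ∑ a ∈ Aᶜ, ((movingRows i j r a : Fin n) : ℕ) := by
  unfold sumT
  rw [sum_split_lt r.val]
  congr 1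
  · refine Finset.sum_congr rfl fun t ht => ?_
    simp only [Finset.mem_filter, Finset.mem_univ, true_and] at ht
    rw [shuffleJ_of_lt i j r A hA t ht]
  · refine Finset.sum_bij (fun t ht => Aᶜ.orderEmbOfFin (card_compl_eq r A hA) ⟨t.val - r.val, by
        have := (Finset.mem_filter.mp ht).2; have := t.isLt; omega⟩) ?_ ?_ ?_ ?_
    · intro t ht
      exact Finset.orderEmbOfFin_mem Aᶜ _ _
    · intro t ht u hu h
      simp only [Finset.mem_filter, Finset.mem_univ, true_and] at ht hu
      have := (Aᶜ.orderEmbOfFin (card_compl_eq r A hA)).injective h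
      have := congrArg Fin.val this
      simp only at this
      exact Fin.ext (by omega)
    · intro a ha
      rw [← Finset.image_orderEmbOfFin_univ Aᶜ (card_compl_eq r A hA)] at ha
      obtain ⟨u, -, rfl⟩ := Finset.mem_image.mp ha
      refine ⟨⟨r.val + u.val, by have := u.isLt; have := r.isLt; omega⟩, ?_, ?_⟩
      · simp only [Finset.mem_filter, Finset.mem_univ, true_and]
        omega
      · congr 1
        exact Fin.ext (by simp)
    · intro t ht
      simp only [Finset.mem_filter, Finset.mem_univ, true_and] at ht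
      rw [shuffleJ_of_ge i j r A hA t ht]

theorem sumT_shuffle_add :
    sumT (shuffleI i j r A hA) + sumT (shuffleJ i j r A hA) = sig i + sig j := by
  rw [sumT_shuffleI, sumT_shuffleJ]
  have h1 : ∑ a ∈ A, ((movingRows i j r a : Fin n) : ℕ) +
      ∑ a ∈ Aᶜ, ((movingRows i j r a : Fin n) : ℕ) =
      ∑ k : Fin (d + 1), ((movingRows i j r k : Fin n) : ℕ) := Finset.sum_add_sum_compl A _
  have h2 := sum_movingRows i j r
  have h3 : sig i = _ := sum_split_le (N := d) r.val (fun t => ((i.1 t : Fin n) : ℕ))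
  have h4 : sig j = _ := sum_split_lt (N := d) r.val (fun t => ((j.1 t : Fin n) : ℕ))
  rw [h3, h4]
  omega

end Shuffle

theorem val_le_of_strictMono {a b : ℕ} (f : Fin a → Fin b) (hf : StrictMono f) :
    ∀ (k : ℕ) (hk : k < a), k ≤ (f ⟨k, hk⟩).val := by
  intro k
  induction k with
  | zero => intro _; exact Nat.zero_le _
  | succ k ih =>
    intro hk
    have h1 := ih (by omega)
    have h2 : f ⟨k, by omega⟩ < f ⟨k + 1, hk⟩ := hf (by exact Nat.lt_succ_self k)
    have h3 : (f ⟨k, by omega⟩).val < (f ⟨k + 1, hk⟩).val := h2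
    omega

section Shuffle

variable (i j : Idx d n) (r : Fin d)

/-- the identity shuffle. -/
def A₀ : Finset (Fin (d + 1)) := Finset.univ.filter (fun k : Fin (d + 1) => k.val ≤ r.val)

theorem card_A₀ : (A₀ r).card = r.val + 1 := by
  have h := sum_filter_le (N := d + 1) r.val (by have := r.isLt; omega) (fun _ => 1)
  simp only [Finset.sum_const, smul_eq_mul, mul_one, Finset.card_univ, Fintype.card_fin] at h
  exact h

theorem orderEmb_A₀ (u : Fin (r.val + 1)) :
    (A₀ r).orderEmbOfFin (card_A₀ r) u = ⟨u.val, by have := u.isLt; have := r.isLt; omega⟩ := by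
  have : (fun u : Fin (r.val + 1) => (⟨u.val, by have := u.isLt; have := r.isLt; omega⟩ : Fin (d + 1))) =
      (A₀ r).orderEmbOfFin (card_A₀ r) := by
    apply Finset.orderEmbOfFin_unique
    · intro x
      simp only [A₀, Finset.mem_filter, Finset.mem_univ, true_and]
      have := x.isLt; omega
    · intro x y hxy
      exact hxy
  exact (congrFun this u).symm

theorem orderEmb_A₀_compl (u : Fin (d - r.val)) :
    (A₀ r)ᶜ.orderEmbOfFin (card_compl_eq r (A₀ r) (card_A₀ r)) u =
      ⟨r.val + 1 + u.val, by have := u.isLt; have := r.isLt; omega⟩ := by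
  have : (fun u : Fin (d - r.val) =>
      (⟨r.val + 1 + u.val, by have := u.isLt; have := r.isLt; omega⟩ : Fin (d + 1))) =
      (A₀ r)ᶜ.orderEmbOfFin (card_compl_eq r (A₀ r) (card_A₀ r)) := by
    apply Finset.orderEmbOfFin_unique
    · intro x
      simp only [A₀, Finset.mem_compl, Finset.mem_filter, Finset.mem_univ, true_and]
      omega
    · intro x y hxy
      have : x.val < y.val := hxy
      change r.val + 1 + x.val < r.val + 1 + y.val
      omega
  exact (congrFun this u).symm

theorem shuffleI_A₀ : shuffleI i j r (A₀ r) (card_A₀ r) = i.1 := by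
  funext t
  by_cases h : t.val ≤ r.val
  · rw [shuffleI_of_le i j r _ _ t h, orderEmb_A₀, movingRows_of_le i j r _ h]
  · rw [shuffleI_of_gt i j r _ _ t (not_le.mp h)]

theorem shuffleJ_A₀ : shuffleJ i j r (A₀ r) (card_A₀ r) = j.1 := by
  funext t
  by_cases h : t.val < r.val
  · rw [shuffleJ_of_lt i j r _ _ t h]
  · have h' : r.val ≤ t.val := not_lt.mp h
    rw [shuffleJ_of_ge i j r _ _ t h', orderEmb_A₀_compl,
      movingRows_of_gt i j r _ (by simp only; omega)]
    exact congrArg j.1 (Fin.ext (by simp only; omega))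

theorem sum_A₀_le (hp : IsPivot i j r) (A : Finset (Fin (d + 1))) (hA : A.card = r.val + 1) :
    ∑ a ∈ A₀ r, ((movingRows i j r a : Fin n) : ℕ) ≤ ∑ a ∈ A, ((movingRows i j r a : Fin n) : ℕ) ∧
    (A ≠ A₀ r → ∑ a ∈ A₀ r, ((movingRows i j r a : Fin n) : ℕ) <
      ∑ a ∈ A, ((movingRows i j r a : Fin n) : ℕ)) := by
  have hmono := movingRows_strictMono i j r hp
  have h1 : ∑ a ∈ A₀ r, ((movingRows i j r a : Fin n) : ℕ) =
      ∑ u : Fin (r.val + 1), ((movingRows i j r ⟨u.val, by have := u.isLt; have := r.isLt; omega⟩ : Fin n) : ℕ) :=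
    sum_filter_le (N := d + 1) r.val (by have := r.isLt; omega) _
  have h2 : ∑ a ∈ A, ((movingRows i j r a : Fin n) : ℕ) =
      ∑ u : Fin (r.val + 1), ((movingRows i j r (A.orderEmbOfFin hA u) : Fin n) : ℕ) := by
    conv_lhs => rw [← Finset.map_orderEmbOfFin_univ A hA]
    rw [Finset.sum_map]
    rfl
  have hle : ∀ u : Fin (r.val + 1),
      (⟨u.val, by have := u.isLt; have := r.isLt; omega⟩ : Fin (d + 1)) ≤ A.orderEmbOfFin hA u := by
    intro u
    exact val_le_of_strictMono _ (A.orderEmbOfFin hA).strictMono u.val u.isLt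
  rw [h1, h2]
  refine ⟨Finset.sum_le_sum fun u _ => Fin.le_def.mp (hmono.monotone (hle u)), fun hne => ?_⟩
  apply Finset.sum_lt_sum (fun u _ => Fin.le_def.mp (hmono.monotone (hle u)))
  by_contra hcon
  push Not at hcon
  apply hne
  have heq : ∀ u : Fin (r.val + 1),
      A.orderEmbOfFin hA u = (⟨u.val, by have := u.isLt; have := r.isLt; omega⟩ : Fin (d + 1)) := by
    intro u
    have h3 := hcon u (Finset.mem_univ u)
    have h4 := Fin.le_def.mp (hmono.monotone (hle u))
    have h5 : movingRows i j r ⟨u.val, by have := u.isLt; have := r.isLt; omega⟩ =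
        movingRows i j r (A.orderEmbOfFin hA u) := Fin.ext (le_antisymm h4 h3)
    exact (hmono.injective h5).symm
  rw [← Finset.image_orderEmbOfFin_univ A hA, ← Finset.image_orderEmbOfFin_univ (A₀ r) (card_A₀ r)]
  refine Finset.image_congr fun u _ => ?_
  rw [heq u, orderEmb_A₀]

end Shuffle

end Groth.Agent.Lib.Helper95.SMT
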