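import Mathlib
import Groth.Agent.Lib.Helper95.SMTShuffle
import Groth.Agent.Lib.Helper95.SMTAdjacent

open MvPolynomial W4bk4grassmannian

namespace Groth.Agent.Lib.Helper95.SMT

section SwapComb

variable {N : ℕ}

/-- the image of a finset under an adjacent transposition. -/
def tau (k : ℕ) (hk : k + 1 < N) (B : Finset (Fin N)) : Finset (Fin N) :=
  B.image (Equiv.swap (⟨k, by omega⟩ : Fin N) ⟨k + 1, hk⟩)

theorem tau_tau (k : ℕ) (hk : k + 1 < N) (B : Finset (Fin N)) : tau k hk (tau k hk B) = B := by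
  unfold tau
  rw [Finset.image_image]
  have : (Equiv.swap (⟨k, by omega⟩ : Fin N) ⟨k + 1, hk⟩ : Fin N → Fin N) ∘
      (Equiv.swap (⟨k, by omega⟩ : Fin N) ⟨k + 1, hk⟩) = id := by
    funext x; simp
  rw [this, Finset.image_id]

theorem card_tau (k : ℕ) (hk : k + 1 < N) (B : Finset (Fin N)) : (tau k hk B).card = B.card :=
  Finset.card_image_of_injective _ (Equiv.injective _)

theorem mem_tau (k : ℕ) (hk : k + 1 < N) (B : Finset (Fin N)) (x : Fin N) :
    x ∈ tau k hk B ↔ Equiv.swap (⟨k, by omega⟩ : Fin N) ⟨k + 1, hk⟩ x ∈ B := by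
  unfold tau
  constructor
  · intro h
    obtain ⟨y, hy, rfl⟩ := Finset.mem_image.mp h
    simpa using hy
  · intro h
    exact Finset.mem_image.mpr ⟨_, h, by simp⟩

theorem tau_compl (k : ℕ) (hk : k + 1 < N) (B : Finset (Fin N)) :
    (tau k hk B)ᶜ = tau k hk Bᶜ := by
  ext x
  rw [Finset.mem_compl, mem_tau, mem_tau, Finset.mem_compl]

theorem tau_eq_self (k : ℕ) (hk : k + 1 < N) (B : Finset (Fin N))
    (h : (⟨k, by omega⟩ : Fin N) ∈ B ↔ (⟨k + 1, hk⟩ : Fin N) ∈ B) : tau k hk B = B := by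
  ext x
  rw [mem_tau]
  by_cases hxa : x = ⟨k, by omega⟩
  · subst hxa; rw [Equiv.swap_apply_left]; exact h.symm
  · by_cases hxb : x = ⟨k + 1, hk⟩
    · subst hxb; rw [Equiv.swap_apply_right]; exact h
    · rw [Equiv.swap_apply_of_ne_of_ne hxa hxb]

theorem swap_strictMonoOn (k : ℕ) (hk : k + 1 < N) (B : Finset (Fin N))
    (h : ¬ ((⟨k, by omega⟩ : Fin N) ∈ B ∧ (⟨k + 1, hk⟩ : Fin N) ∈ B)) (x y : Fin N)
    (hx : x ∈ B) (hy : y ∈ B) (hxy : x < y) :
    Equiv.swap (⟨k, by omega⟩ : Fin N) ⟨k + 1, hk⟩ x <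
      Equiv.swap (⟨k, by omega⟩ : Fin N) ⟨k + 1, hk⟩ y := by
  have hxy' : x.val < y.val := hxy
  have key : ∀ z : Fin N, (Equiv.swap (⟨k, by omega⟩ : Fin N) ⟨k + 1, hk⟩ z).val =
      if z.val = k then k + 1 else if z.val = k + 1 then k else z.val := by
    intro z
    by_cases hza : z = ⟨k, by omega⟩
    · subst hza; rw [Equiv.swap_apply_left]; simp
    · by_cases hzb : z = ⟨k + 1, hk⟩
      · subst hzb; rw [Equiv.swap_apply_right]; simp
      · rw [Equiv.swap_apply_of_ne_of_ne hza hzb]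
        have h1 : z.val ≠ k := fun h => hza (Fin.ext h)
        have h2 : z.val ≠ k + 1 := fun h => hzb (Fin.ext h)
        rw [if_neg h1, if_neg h2]
  rw [Fin.lt_def, key x, key y]
  have hnot : ¬ (x.val = k ∧ y.val = k + 1) := by
    rintro ⟨h1, h2⟩
    apply h
    have e1 : x = ⟨k, by omega⟩ := Fin.ext h1
    have e2 : y = ⟨k + 1, hk⟩ := Fin.ext h2
    exact ⟨e1 ▸ hx, e2 ▸ hy⟩
  split_ifs <;> omega

theorem orderEmb_tau (k : ℕ) (hk : k + 1 < N) (B : Finset (Fin N)) (m : ℕ) (hB : B.card = m)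
    (h : ¬ ((⟨k, by omega⟩ : Fin N) ∈ B ∧ (⟨k + 1, hk⟩ : Fin N) ∈ B))
    (hB' : (tau k hk B).card = m) (u : Fin m) :
    (tau k hk B).orderEmbOfFin hB' u =
      Equiv.swap (⟨k, by omega⟩ : Fin N) ⟨k + 1, hk⟩ (B.orderEmbOfFin hB u) := by
  have : (fun u => Equiv.swap (⟨k, by omega⟩ : Fin N) ⟨k + 1, hk⟩ (B.orderEmbOfFin hB u)) =
      (tau k hk B).orderEmbOfFin hB' := by
    apply Finset.orderEmbOfFin_unique
    · intro x
      rw [mem_tau, Equiv.swap_apply_self]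
      exact Finset.orderEmbOfFin_mem B hB x
    · intro x y hxy
      exact swap_strictMonoOn k hk B h _ _ (Finset.orderEmbOfFin_mem B hB x)
        (Finset.orderEmbOfFin_mem B hB y) ((B.orderEmbOfFin hB).strictMono hxy)
  exact (congrFun this u).symm

theorem sum_val_tau (k : ℕ) (hk : k + 1 < N) (B : Finset (Fin N))
    (ha : (⟨k, by omega⟩ : Fin N) ∈ B) (hb : (⟨k + 1, hk⟩ : Fin N) ∉ B) :
    ∑ x ∈ tau k hk B, x.val = ∑ x ∈ B, x.val + 1 := by
  unfold tau
  rw [Finset.sum_image (fun x _ y _ h => Equiv.injective _ h)]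
  rw [← Finset.add_sum_erase B _ ha, ← Finset.add_sum_erase B (fun x => x.val) ha,
    Equiv.swap_apply_left]
  have : ∑ x ∈ B.erase ⟨k, by omega⟩,
      (Equiv.swap (⟨k, by omega⟩ : Fin N) ⟨k + 1, hk⟩ x).val =
      ∑ x ∈ B.erase ⟨k, by omega⟩, x.val := by
    refine Finset.sum_congr rfl fun x hx => ?_
    have h1 : x ≠ ⟨k, by omega⟩ := (Finset.mem_erase.mp hx).1
    have h2 : x ≠ ⟨k + 1, hk⟩ := fun h => hb (h ▸ (Finset.mem_erase.mp hx).2)
    rw [Equiv.swap_apply_of_ne_of_ne h1 h2]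
  rw [this]
  simp only
  omega

end SwapComb

section SignLemmas

variable {N : ℕ}

theorem sum_val_ge (A : Finset (Fin N)) (m : ℕ) (hA : A.card = m) :
    m * (m - 1) / 2 ≤ ∑ x ∈ A, x.val := by
  have h2 : ∑ x ∈ A, x.val = ∑ u : Fin m, (A.orderEmbOfFin hA u).val := by
    conv_lhs => rw [← Finset.map_orderEmbOfFin_univ A hA]
    rw [Finset.sum_map]
    rfl
  rw [h2, ← Finset.sum_range_id, ← Fin.sum_univ_eq_sum_range (fun i => i) m]
  exact Finset.sum_le_sum fun u _ => val_le_of_strictMono _ (A.orderEmbOfFin hA).strictMono u.val u.isLt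

variable {K : Type*} [CommRing K] {d : ℕ} (r : Fin d)

theorem neg_one_pow_shuffleSign (A : Finset (Fin (d + 1))) (hA : A.card = r.val + 1) :
    (-1 : K) ^ shuffleSign r A * (-1) ^ (r.val * (r.val + 1) / 2) = (-1) ^ (∑ x ∈ A, x.val) := by
  unfold shuffleSign
  rw [← pow_add]
  congr 1
  have := sum_val_ge A (r.val + 1) hA
  have e : (r.val + 1) * (r.val + 1 - 1) / 2 = r.val * (r.val + 1) / 2 := by
    rw [Nat.add_sub_cancel, mul_comm]
  rw [e] at this
  omega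

theorem shuffleSign_tau (k : ℕ) (hk : k + 1 < d + 1) (A : Finset (Fin (d + 1)))
    (hA : A.card = r.val + 1) (ha : (⟨k, by omega⟩ : Fin (d + 1)) ∈ A)
    (hb : (⟨k + 1, hk⟩ : Fin (d + 1)) ∉ A) :
    (-1 : K) ^ shuffleSign r (tau k hk A) = - (-1 : K) ^ shuffleSign r A := by
  have h1 := neg_one_pow_shuffleSign (K := K) r A hA
  have h2 := neg_one_pow_shuffleSign (K := K) r (tau k hk A) ((card_tau k hk A).trans hA)
  rw [sum_val_tau k hk A ha hb, pow_succ, ← h1] at h2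
  have hC : ((-1 : K) ^ (r.val * (r.val + 1) / 2)) * ((-1 : K) ^ (r.val * (r.val + 1) / 2)) = 1 := by
    rw [← mul_pow]; simp
  calc (-1 : K) ^ shuffleSign r (tau k hk A)
      = (-1 : K) ^ shuffleSign r (tau k hk A) * ((-1 : K) ^ (r.val * (r.val + 1) / 2) *
          (-1 : K) ^ (r.val * (r.val + 1) / 2)) := by rw [hC, mul_one]
    _ = ((-1 : K) ^ shuffleSign r (tau k hk A) * (-1 : K) ^ (r.val * (r.val + 1) / 2)) *
          (-1 : K) ^ (r.val * (r.val + 1) / 2) := by ring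
    _ = _ := by rw [h2]; linear_combination (-(-1 : K) ^ shuffleSign r A) * hC

end SignLemmas

end Groth.Agent.Lib.Helper95.SMT
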