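import Mathlib
import Groth.Agent.Lib.Helper95.SMTSwap

open MvPolynomial W4bk4grassmannian

namespace Groth.Agent.Lib.Helper95.SMT

section PluckerSum

variable {K : Type*} [CommRing K] {d n : ℕ} (M : Matrix (Fin n) (Fin d) K) (i j : Idx d n)
  (r : Fin d)

/-- rows of the first determinant. -/
def RI (A : Finset (Fin (d + 1))) (hA : A.card = r.val + 1) (w : Fin (d + 1) → (Fin d → K)) :
    Matrix (Fin d) (Fin d) K :=
  Matrix.of fun t => if h : t.val ≤ r.val then w (A.orderEmbOfFin hA ⟨t.val, by omega⟩)
    else M (i.1 t)

/-- rows of the second determinant. -/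
def RJ (A : Finset (Fin (d + 1))) (hA : A.card = r.val + 1) (w : Fin (d + 1) → (Fin d → K)) :
    Matrix (Fin d) (Fin d) K :=
  Matrix.of fun t => if h : t.val < r.val then M (j.1 t)
    else w (Aᶜ.orderEmbOfFin (card_compl_eq r A hA) ⟨t.val - r.val, by have := t.isLt; omega⟩)

variable {M i j r}

theorem RI_update_mem (A : Finset (Fin (d + 1))) (hA : A.card = r.val + 1)
    (w : Fin (d + 1) → (Fin d → K)) (u : Fin (r.val + 1)) (x : Fin d → K) :
    RI M i r A hA (Function.update w (A.orderEmbOfFin hA u) x) =
      (RI M i r A hA w).updateRow ⟨u.val, by have := u.isLt; have := r.isLt; omega⟩ x := by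
  ext t c
  unfold RI
  rw [Matrix.updateRow_apply]
  simp only [Matrix.of_apply]
  by_cases h : t.val ≤ r.val
  · rw [dif_pos h, dif_pos h]
    by_cases htu : t = ⟨u.val, by have := u.isLt; have := r.isLt; omega⟩
    · rw [if_pos htu]
      have : (⟨t.val, by omega⟩ : Fin (r.val + 1)) = u :=
        Fin.ext (by have := congrArg Fin.val htu; simpa using this)
      rw [this, Function.update_self]
    · rw [if_neg htu, Function.update_of_ne]
      intro h'
      apply htu
      have := (A.orderEmbOfFin hA).injective h'
      exact Fin.ext (by simpa using congrArg Fin.val this)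
  · rw [dif_neg h, dif_neg h, if_neg]
    intro htu
    apply h
    rw [htu]
    have := u.isLt
    simp only
    omega

theorem RI_update_not_mem (A : Finset (Fin (d + 1))) (hA : A.card = r.val + 1)
    (w : Fin (d + 1) → (Fin d → K)) (k : Fin (d + 1)) (hk : k ∉ A) (x : Fin d → K) :
    RI M i r A hA (Function.update w k x) = RI M i r A hA w := by
  ext t c
  unfold RI
  simp only [Matrix.of_apply]
  by_cases h : t.val ≤ r.val
  · rw [dif_pos h, dif_pos h, Function.update_of_ne]
    intro h'
    exact hk (h' ▸ Finset.orderEmbOfFin_mem A hA _)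
  · rw [dif_neg h, dif_neg h]

theorem RJ_update_not_mem (A : Finset (Fin (d + 1))) (hA : A.card = r.val + 1)
    (w : Fin (d + 1) → (Fin d → K)) (u : Fin (d - r.val)) (x : Fin d → K) :
    RJ M j r A hA (Function.update w (Aᶜ.orderEmbOfFin (card_compl_eq r A hA) u) x) =
      (RJ M j r A hA w).updateRow ⟨r.val + u.val, by have := u.isLt; have := r.isLt; omega⟩ x := by
  ext t c
  unfold RJ
  rw [Matrix.updateRow_apply]
  simp only [Matrix.of_apply]
  by_cases h : t.val < r.val
  · rw [dif_pos h, dif_pos h, if_neg]
    intro htu
    rw [htu] at h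
    simp only at h
    omega
  · rw [dif_neg h, dif_neg h]
    by_cases htu : t = ⟨r.val + u.val, by have := u.isLt; have := r.isLt; omega⟩
    · rw [if_pos htu]
      have : (⟨t.val - r.val, by have := t.isLt; omega⟩ : Fin (d - r.val)) = u :=
        Fin.ext (by have := congrArg Fin.val htu; simp only at this ⊢; omega)
      rw [this, Function.update_self]
    · rw [if_neg htu, Function.update_of_ne]
      intro h'
      apply htu
      have := (Aᶜ.orderEmbOfFin (card_compl_eq r A hA)).injective h'
      have := congrArg Fin.val this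
      simp only at this
      exact Fin.ext (by simp only; omega)

theorem RJ_update_mem (A : Finset (Fin (d + 1))) (hA : A.card = r.val + 1)
    (w : Fin (d + 1) → (Fin d → K)) (k : Fin (d + 1)) (hk : k ∈ A) (x : Fin d → K) :
    RJ M j r A hA (Function.update w k x) = RJ M j r A hA w := by
  ext t c
  unfold RJ
  simp only [Matrix.of_apply]
  by_cases h : t.val < r.val
  · rw [dif_pos h, dif_pos h]
  · rw [dif_neg h, dif_neg h, Function.update_of_ne]
    intro h'
    have := Finset.orderEmbOfFin_mem Aᶜ (card_compl_eq r A hA)
      ⟨t.val - r.val, by have := t.isLt; omega⟩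
    rw [h', Finset.mem_compl] at this
    exact this hk

variable (M i j r)

/-- one term of the evaluated shuffle relation, as a function of the moving row vectors. -/
def gTerm (A : Finset (Fin (d + 1))) (w : Fin (d + 1) → (Fin d → K)) : K :=
  if hA : A.card = r.val + 1 then
    (-1 : K) ^ shuffleSign r A * (RI M i r A hA w).det * (RJ M j r A hA w).det
  else 0

theorem gTerm_update_add (A : Finset (Fin (d + 1))) (w : Fin (d + 1) → (Fin d → K))
    (k : Fin (d + 1)) (x y : Fin d → K) :
    gTerm M i j r A (Function.update w k (x + y)) =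
      gTerm M i j r A (Function.update w k x) + gTerm M i j r A (Function.update w k y) := by
  unfold gTerm
  by_cases hA : A.card = r.val + 1
  · simp only [dif_pos hA]
    by_cases hk : k ∈ A
    · rw [RJ_update_mem A hA w k hk, RJ_update_mem A hA w k hk, RJ_update_mem A hA w k hk]
      rw [← Finset.image_orderEmbOfFin_univ A hA] at hk
      obtain ⟨u, -, rfl⟩ := Finset.mem_image.mp hk
      rw [RI_update_mem, RI_update_mem, RI_update_mem, Matrix.det_updateRow_add]
      ring
    · rw [RI_update_not_mem A hA w k hk, RI_update_not_mem A hA w k hk,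
        RI_update_not_mem A hA w k hk]
      have hk' : k ∈ Aᶜ := Finset.mem_compl.mpr hk
      rw [← Finset.image_orderEmbOfFin_univ Aᶜ (card_compl_eq r A hA)] at hk'
      obtain ⟨u, -, rfl⟩ := Finset.mem_image.mp hk'
      rw [RJ_update_not_mem, RJ_update_not_mem, RJ_update_not_mem, Matrix.det_updateRow_add]
      ring
  · simp only [dif_neg hA, add_zero]

theorem gTerm_update_smul (A : Finset (Fin (d + 1))) (w : Fin (d + 1) → (Fin d → K))
    (k : Fin (d + 1)) (c : K) (x : Fin d → K) :
    gTerm M i j r A (Function.update w k (c • x)) =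
      c • gTerm M i j r A (Function.update w k x) := by
  unfold gTerm
  by_cases hA : A.card = r.val + 1
  · simp only [dif_pos hA]
    by_cases hk : k ∈ A
    · rw [RJ_update_mem A hA w k hk, RJ_update_mem A hA w k hk]
      rw [← Finset.image_orderEmbOfFin_univ A hA] at hk
      obtain ⟨u, -, rfl⟩ := Finset.mem_image.mp hk
      rw [RI_update_mem, RI_update_mem, Matrix.det_updateRow_smul, smul_eq_mul]
      ring
    · rw [RI_update_not_mem A hA w k hk, RI_update_not_mem A hA w k hk]
      have hk' : k ∈ Aᶜ := Finset.mem_compl.mpr hk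
      rw [← Finset.image_orderEmbOfFin_univ Aᶜ (card_compl_eq r A hA)] at hk'
      obtain ⟨u, -, rfl⟩ := Finset.mem_image.mp hk'
      rw [RJ_update_not_mem, RJ_update_not_mem, Matrix.det_updateRow_smul, smul_eq_mul]
      ring
  · simp only [dif_neg hA, smul_zero]

/-- the evaluated shuffle relation as a multilinear map in the moving rows. -/
def Gmulti : MultilinearMap K (fun _ : Fin (d + 1) => (Fin d → K)) K where
  toFun w := ∑ A : Finset (Fin (d + 1)), gTerm M i j r A w
  map_update_add' := by
    intro inst w k x y
    have : inst = instDecidableEqFin (d + 1) := Subsingleton.elim _ _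
    subst this
    rw [← Finset.sum_add_distrib]
    exact Finset.sum_congr rfl fun A _ => gTerm_update_add M i j r A w k x y
  map_update_smul' := by
    intro inst w k c x
    have : inst = instDecidableEqFin (d + 1) := Subsingleton.elim _ _
    subst this
    rw [Finset.smul_sum]
    exact Finset.sum_congr rfl fun A _ => gTerm_update_smul M i j r A w k c x

theorem Gmulti_apply (w : Fin (d + 1) → (Fin d → K)) :
    Gmulti M i j r w = ∑ A : Finset (Fin (d + 1)), gTerm M i j r A w := rfl

end PluckerSum

end Groth.Agent.Lib.Helper95.SMT
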