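import Mathlib
import Groth.Agent.Lib.Helper95.SMTMulti

open MvPolynomial W4bk4grassmannian

namespace Groth.Agent.Lib.Helper95.SMT

theorem orderEmbOfFin_congr {α : Type*} [LinearOrder α] {s s' : Finset α} (hss : s = s') {m : ℕ}
    (h : s.card = m) (h' : s'.card = m) (u : Fin m) :
    s.orderEmbOfFin h u = s'.orderEmbOfFin h' u := by
  subst hss
  rfl

section PluckerAdj

variable {K : Type*} [CommRing K] {d n : ℕ} (M : Matrix (Fin n) (Fin d) K) (i j : Idx d n)
  (r : Fin d)

variable (k : ℕ) (hk : k + 1 < d + 1) (w : Fin (d + 1) → (Fin d → K))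
  (hw : w ⟨k, by omega⟩ = w ⟨k + 1, hk⟩)

include hw in
theorem w_swap (x : Fin (d + 1)) :
    w (Equiv.swap (⟨k, by omega⟩ : Fin (d + 1)) ⟨k + 1, hk⟩ x) = w x := by
  by_cases hxa : x = ⟨k, by omega⟩
  · subst hxa; rw [Equiv.swap_apply_left]; exact hw.symm
  · by_cases hxb : x = ⟨k + 1, hk⟩
    · subst hxb; rw [Equiv.swap_apply_right]; exact hw
    · rw [Equiv.swap_apply_of_ne_of_ne hxa hxb]

include hw in
theorem det_RI_eq_zero_of_both (A : Finset (Fin (d + 1))) (hA : A.card = r.val + 1)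
    (ha : (⟨k, by omega⟩ : Fin (d + 1)) ∈ A) (hb : (⟨k + 1, hk⟩ : Fin (d + 1)) ∈ A) :
    (RI M i r A hA w).det = 0 := by
  rw [← Finset.image_orderEmbOfFin_univ A hA] at ha hb
  obtain ⟨ua, -, hua⟩ := Finset.mem_image.mp ha
  obtain ⟨ub, -, hub⟩ := Finset.mem_image.mp hb
  have hne : ua ≠ ub := by
    intro h
    rw [h, hub] at hua
    have := congrArg Fin.val hua
    simp at this
  have hta : ua.val ≤ r.val := Nat.lt_succ_iff.mp ua.isLt
  have htb : ub.val ≤ r.val := Nat.lt_succ_iff.mp ub.isLt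
  apply Matrix.det_zero_of_row_eq
    (i := (⟨ua.val, by have := r.isLt; omega⟩ : Fin d))
    (j := (⟨ub.val, by have := r.isLt; omega⟩ : Fin d))
  · intro h
    apply hne
    exact Fin.ext (by simpa using congrArg Fin.val h)
  · unfold RI
    funext c
    simp only [Matrix.of_apply]
    rw [dif_pos hta, dif_pos htb]
    have e1 : (⟨ua.val, by omega⟩ : Fin (r.val + 1)) = ua := Fin.ext rfl
    have e2 : (⟨ub.val, by omega⟩ : Fin (r.val + 1)) = ub := Fin.ext rfl
    rw [e1, e2, hua, hub, hw]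

include hw in
theorem det_RJ_eq_zero_of_neither (A : Finset (Fin (d + 1))) (hA : A.card = r.val + 1)
    (ha : (⟨k, by omega⟩ : Fin (d + 1)) ∉ A) (hb : (⟨k + 1, hk⟩ : Fin (d + 1)) ∉ A) :
    (RJ M j r A hA w).det = 0 := by
  have ha' := Finset.mem_compl.mpr ha
  have hb' := Finset.mem_compl.mpr hb
  rw [← Finset.image_orderEmbOfFin_univ Aᶜ (card_compl_eq r A hA)] at ha' hb'
  obtain ⟨ua, -, hua⟩ := Finset.mem_image.mp ha'
  obtain ⟨ub, -, hub⟩ := Finset.mem_image.mp hb'
  have hne : ua ≠ ub := by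
    intro h
    rw [h, hub] at hua
    have := congrArg Fin.val hua
    simp at this
  apply Matrix.det_zero_of_row_eq
    (i := (⟨r.val + ua.val, by have := ua.isLt; have := r.isLt; omega⟩ : Fin d))
    (j := (⟨r.val + ub.val, by have := ub.isLt; have := r.isLt; omega⟩ : Fin d))
  · intro h
    apply hne
    have := congrArg Fin.val h
    simp only at this
    exact Fin.ext (by omega)
  · unfold RJ
    funext c
    simp only [Matrix.of_apply]
    rw [dif_neg (by simp), dif_neg (by simp)]
    have e1 : (⟨r.val + ua.val - r.val, by have := ua.isLt; omega⟩ : Fin (d - r.val)) = ua :=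
      Fin.ext (by simp)
    have e2 : (⟨r.val + ub.val - r.val, by have := ub.isLt; omega⟩ : Fin (d - r.val)) = ub :=
      Fin.ext (by simp)
    rw [e1, e2, hua, hub, hw]

include hw in
theorem RI_tau (A : Finset (Fin (d + 1))) (hA : A.card = r.val + 1)
    (h : ¬ ((⟨k, by omega⟩ : Fin (d + 1)) ∈ A ∧ (⟨k + 1, hk⟩ : Fin (d + 1)) ∈ A))
    (hA' : (tau k hk A).card = r.val + 1) :
    RI M i r (tau k hk A) hA' w = RI M i r A hA w := by
  ext t c
  unfold RI
  simp only [Matrix.of_apply]
  by_cases ht : t.val ≤ r.val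
  · rw [dif_pos ht, dif_pos ht, orderEmb_tau k hk A _ hA h hA', w_swap k hk w hw]
  · rw [dif_neg ht, dif_neg ht]

include hw in
theorem RJ_tau (A : Finset (Fin (d + 1))) (hA : A.card = r.val + 1)
    (h : ¬ ((⟨k, by omega⟩ : Fin (d + 1)) ∉ A ∧ (⟨k + 1, hk⟩ : Fin (d + 1)) ∉ A))
    (hA' : (tau k hk A).card = r.val + 1) :
    RJ M j r (tau k hk A) hA' w = RJ M j r A hA w := by
  ext t c
  unfold RJ
  simp only [Matrix.of_apply]
  by_cases ht : t.val < r.val
  · rw [dif_pos ht, dif_pos ht]
  · rw [dif_neg ht, dif_neg ht]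
    have h' : ¬ ((⟨k, by omega⟩ : Fin (d + 1)) ∈ Aᶜ ∧ (⟨k + 1, hk⟩ : Fin (d + 1)) ∈ Aᶜ) := by
      simpa [Finset.mem_compl] using h
    have hc' : (tau k hk Aᶜ).card = d - r.val :=
      (card_tau k hk Aᶜ).trans (card_compl_eq r A hA)
    rw [orderEmbOfFin_congr (tau_compl k hk A) (card_compl_eq r (tau k hk A) hA') hc',
      orderEmb_tau k hk Aᶜ _ (card_compl_eq r A hA) h' hc', w_swap k hk w hw]

include hw in
theorem gTerm_tau (A : Finset (Fin (d + 1)))
    (ha : (⟨k, by omega⟩ : Fin (d + 1)) ∈ A) (hb : (⟨k + 1, hk⟩ : Fin (d + 1)) ∉ A) :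
    gTerm M i j r (tau k hk A) w = - gTerm M i j r A w := by
  unfold gTerm
  by_cases hA : A.card = r.val + 1
  · have hA' : (tau k hk A).card = r.val + 1 := (card_tau k hk A).trans hA
    rw [dif_pos hA, dif_pos hA', RI_tau M i r k hk w hw A hA (fun h => hb h.2) hA',
      RJ_tau M j r k hk w hw A hA (fun h => h.1 ha) hA', shuffleSign_tau r k hk A hA ha hb]
    ring
  · have hA' : ¬ (tau k hk A).card = r.val + 1 := by rw [card_tau]; exact hA
    rw [dif_neg hA, dif_neg hA', neg_zero]

include hw in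
theorem Gmulti_adjacent : Gmulti M i j r w = 0 := by
  rw [Gmulti_apply]
  apply Finset.sum_ninvolution (tau k hk)
  · intro A
    by_cases ha : (⟨k, by omega⟩ : Fin (d + 1)) ∈ A
    · by_cases hb : (⟨k + 1, hk⟩ : Fin (d + 1)) ∈ A
      · rw [tau_eq_self k hk A ⟨fun _ => hb, fun _ => ha⟩]
        have : gTerm M i j r A w = 0 := by
          unfold gTerm
          by_cases hA : A.card = r.val + 1
          · rw [dif_pos hA, det_RI_eq_zero_of_both M i r k hk w hw A hA ha hb]; ring
          · rw [dif_neg hA]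
        rw [this, add_zero]
      · rw [gTerm_tau M i j r k hk w hw A ha hb, add_neg_cancel]
    · by_cases hb : (⟨k + 1, hk⟩ : Fin (d + 1)) ∈ A
      · have ha' : (⟨k, by omega⟩ : Fin (d + 1)) ∈ tau k hk A := by
          rw [mem_tau, Equiv.swap_apply_left]; exact hb
        have hb' : (⟨k + 1, hk⟩ : Fin (d + 1)) ∉ tau k hk A := by
          rw [mem_tau, Equiv.swap_apply_right]; exact ha
        have := gTerm_tau M i j r k hk w hw (tau k hk A) ha' hb'
        rw [tau_tau] at this
        rw [this, neg_add_cancel]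
      · rw [tau_eq_self k hk A ⟨fun h => absurd h ha, fun h => absurd h hb⟩]
        have : gTerm M i j r A w = 0 := by
          unfold gTerm
          by_cases hA : A.card = r.val + 1
          · rw [dif_pos hA, det_RJ_eq_zero_of_neither M j r k hk w hw A hA ha hb]; ring
          · rw [dif_neg hA]
        rw [this, add_zero]
  · intro A hne hfix
    by_cases ha : (⟨k, by omega⟩ : Fin (d + 1)) ∈ A
    · by_cases hb : (⟨k + 1, hk⟩ : Fin (d + 1)) ∈ A
      · apply hne
        unfold gTerm
        by_cases hA : A.card = r.val + 1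
        · rw [dif_pos hA, det_RI_eq_zero_of_both M i r k hk w hw A hA ha hb]; ring
        · rw [dif_neg hA]
      · apply hb
        rw [← hfix, mem_tau, Equiv.swap_apply_right]
        exact ha
    · by_cases hb : (⟨k + 1, hk⟩ : Fin (d + 1)) ∈ A
      · apply ha
        rw [← hfix, mem_tau, Equiv.swap_apply_left]
        exact hb
      · apply hne
        unfold gTerm
        by_cases hA : A.card = r.val + 1
        · rw [dif_pos hA, det_RJ_eq_zero_of_neither M j r k hk w hw A hA ha hb]; ring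
        · rw [dif_neg hA]
  · intro A
    exact Finset.mem_univ _
  · intro A
    exact tau_tau k hk A

end PluckerAdj

end Groth.Agent.Lib.Helper95.SMT
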