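import Mathlib
import Groth.Agent.Lib.Helper95.SMTAdjVanish

open MvPolynomial W4bk4grassmannian

namespace Groth.Agent.Lib.Helper95.SMT

section Field

variable {K : Type*} [Field K] {d n : ℕ} (M : Matrix (Fin n) (Fin d) K) (i j : Idx d n)
  (r : Fin d)

theorem Gmulti_eq_zero (w : Fin (d + 1) → (Fin d → K)) : Gmulti M i j r w = 0 := by
  set f := alternatingOfAdjacent (Gmulti M i j r)
    (fun w k hk hw => Gmulti_adjacent M i j r k hk w hw) with hf
  have h1 : f w = Gmulti M i j r w := rfl
  rw [← h1]
  apply AlternatingMap.map_linearDependent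
  intro hli
  have := hli.fintype_card_le_finrank
  simp at this

/-- evaluation of a signed coordinate at the minors of a matrix. -/
theorem evalMinors_coord (a : Fin d → Fin n) :
    evalMinors K d n M (coord K d n a) = (M.submatrix a id).det := by
  have h := Groth.Agent.Lib.Helper27.Plucker.Q_minors M a
  unfold Groth.Agent.Lib.Helper27.Plucker.Q Groth.Agent.Lib.Helper27.Plucker.minors at h
  rw [← h]
  unfold evalMinors
  rw [MvPolynomial.aeval_def, Algebra.algebraMap_self]
  rfl

theorem submatrix_shuffleI (A : Finset (Fin (d + 1))) (hA : A.card = r.val + 1) :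
    M.submatrix (shuffleI i j r A hA) id = RI M i r A hA (fun k => M (movingRows i j r k)) := by
  ext t c
  unfold RI shuffleI
  simp only [Matrix.submatrix_apply, id_eq, Matrix.of_apply]
  by_cases h : t.val ≤ r.val
  · rw [dif_pos h, dif_pos h]
  · rw [dif_neg h, dif_neg h]

theorem submatrix_shuffleJ (A : Finset (Fin (d + 1))) (hA : A.card = r.val + 1) :
    M.submatrix (shuffleJ i j r A hA) id = RJ M j r A hA (fun k => M (movingRows i j r k)) := by
  ext t c
  unfold RJ shuffleJ
  simp only [Matrix.submatrix_apply, id_eq, Matrix.of_apply]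
  by_cases h : t.val < r.val
  · rw [dif_pos h, dif_pos h]
  · rw [dif_neg h, dif_neg h]

theorem evalMinors_shuffleRel : evalMinors K d n M (shuffleRel K i j r) = 0 := by
  unfold shuffleRel
  rw [map_sum, ← Gmulti_eq_zero M i j r (fun k => M (movingRows i j r k)), Gmulti_apply]
  refine Finset.sum_congr rfl fun A _ => ?_
  unfold shuffleTerm gTerm
  by_cases hA : A.card = r.val + 1
  · rw [dif_pos hA, dif_pos hA, map_mul, map_mul, map_pow, map_neg, map_one, evalMinors_coord,
      evalMinors_coord, submatrix_shuffleI, submatrix_shuffleJ]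
  · rw [dif_neg hA, dif_neg hA, map_zero]

theorem shuffleRel_mem_vanishing : shuffleRel K i j r ∈ vanishing K d n := by
  unfold vanishing
  rw [Ideal.mem_iInf]
  intro A
  rw [RingHom.mem_ker]
  exact evalMinors_shuffleRel A i j r

theorem vanishing_le_schubertVanishing (τ : Idx d n) :
    vanishing K d n ≤ schubertVanishing K d n τ := by
  unfold vanishing schubertVanishing
  exact le_iInf fun A => le_iInf fun _ => iInf_le _ A

theorem plIdealTop_le_vanishing : plIdealTop (d := d) (n := n) K ≤ vanishing K d n := by
  unfold plIdealTop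
  rw [Ideal.span_le]
  rintro _ ⟨i, j, r, -, rfl⟩
  exact shuffleRel_mem_vanishing i j r

end Field

end Groth.Agent.Lib.Helper95.SMT
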