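import Mathlib
import Groth.Agent.Lib.Helper95.SMTVanish

open MvPolynomial W4bk4grassmannian

namespace Groth.Agent.Lib.Helper95.SMT

section Staircase

variable {R : Type*} [CommRing R] {d n : ℕ}

/-- minors of a staircase matrix on rows `φ ≰ τ` vanish. -/
theorem det_submatrix_eq_zero_of_staircase (τ : Idx d n) (A : Matrix (Fin n) (Fin d) R)
    (hA : ∀ (a : Fin n) (t : Fin d), τ.1 t < a → A a t = 0) (φ : Idx d n) (hφ : ¬ φ ≤ τ) :
    (A.submatrix φ.1 id).det = 0 := by
  have h1 : ∃ t₀, τ.1 t₀ < φ.1 t₀ := by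
    by_contra hcon
    push Not at hcon
    exact hφ hcon
  obtain ⟨t₀, ht₀⟩ := h1
  rw [Matrix.det_apply]
  refine Finset.sum_eq_zero fun σ _ => ?_
  -- some column `c ≤ t₀` is matched with a row `σ c ≥ t₀`
  have h2 : ∃ c : Fin d, c ≤ t₀ ∧ t₀ ≤ σ c := by
    by_contra hcon
    push Not at hcon
    -- σ maps {c ≤ t₀} into {s < t₀}
    have hinj : (Finset.univ.filter (fun c : Fin d => c ≤ t₀)).card ≤
        (Finset.univ.filter (fun s : Fin d => s < t₀)).card := by
      apply Finset.card_le_card_of_injOn (fun c => σ c)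
      · intro c hc
        simp only [Finset.coe_filter, Finset.mem_univ, true_and, Set.mem_setOf_eq] at hc ⊢
        exact hcon c hc
      · intro x _ y _ hxy
        exact σ.injective hxy
    have c1 : (Finset.univ.filter (fun c : Fin d => c ≤ t₀)).card = t₀.val + 1 := by
      have : Finset.univ.filter (fun c : Fin d => c ≤ t₀) = Finset.Iic t₀ := by
        ext; simp
      rw [this, Fin.card_Iic]
    have c2 : (Finset.univ.filter (fun s : Fin d => s < t₀)).card = t₀.val := by
      have : Finset.univ.filter (fun s : Fin d => s < t₀) = Finset.Iio t₀ := by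
        ext; simp
      rw [this, Fin.card_Iio]
    omega
  obtain ⟨c, hc1, hc2⟩ := h2
  have hz : (A.submatrix φ.1 id) (σ c) c = 0 := by
    rw [Matrix.submatrix_apply, id_eq]
    apply hA
    calc τ.1 c ≤ τ.1 t₀ := τ.2.monotone hc1
      _ < φ.1 t₀ := ht₀
      _ ≤ φ.1 (σ c) := φ.2.monotone hc2
  have hp : ∏ i, (A.submatrix φ.1 id) (σ i) i = 0 :=
    Finset.prod_eq_zero (f := fun i => (A.submatrix φ.1 id) (σ i) i) (Finset.mem_univ c) hz
  rw [hp, smul_zero]

end Staircase

end Groth.Agent.Lib.Helper95.SMT
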