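import Mathlib
import Groth.Agent.Lib.Helper95.SMTStair

open MvPolynomial W4bk4grassmannian

namespace Groth.Agent.Lib.Helper95.SMT

section Psi

variable (K : Type*) [Field K] {d n : ℕ} (τ : Idx d n)

/-- the generic staircase matrix attached to `τ`. -/
noncomputable def Zmat : Matrix (Fin n) (Fin d) (MvPolynomial (Lex (Fin d × Fin n)) K) :=
  Matrix.of fun a t => if a ≤ τ.1 t then X (toLex (t, a)) else 0

theorem Zmat_apply (a : Fin n) (t : Fin d) :
    Zmat K τ a t = if a ≤ τ.1 t then X (toLex (t, a)) else 0 := rfl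

theorem Zmat_staircase (a : Fin n) (t : Fin d) (h : τ.1 t < a) : Zmat K τ a t = 0 := by
  rw [Zmat_apply, if_neg (not_le.mpr h)]

/-- Plücker coordinates restricted to the generic staircase matrix. -/
noncomputable def Psi : PlRing K d n →ₐ[K] MvPolynomial (Lex (Fin d × Fin n)) K :=
  aeval fun θ : Idx d n => ((Zmat K τ).submatrix θ.1 id).det

theorem Psi_X (θ : Idx d n) : Psi K τ (X θ) = ((Zmat K τ).submatrix θ.1 id).det := by
  unfold Psi
  rw [aeval_X]

theorem Psi_X_eq_zero (θ : Idx d n) (h : ¬ θ ≤ τ) : Psi K τ (X θ) = 0 := by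
  rw [Psi_X]
  exact det_submatrix_eq_zero_of_staircase τ _ (Zmat_staircase K τ) θ h

theorem eval_Psi (z : Lex (Fin d × Fin n) → K) (p : PlRing K d n) :
    eval z (Psi K τ p) = evalMinors K d n ((Zmat K τ).map (eval z)) p := by
  have h : (MvPolynomial.aeval z : MvPolynomial (Lex (Fin d × Fin n)) K →ₐ[K] K).comp (Psi K τ) =
      evalMinors K d n ((Zmat K τ).map (eval z)) := by
    apply MvPolynomial.algHom_ext
    intro θ
    rw [AlgHom.comp_apply, Psi_X]
    unfold evalMinors
    rw [aeval_X, aeval_def, Algebra.algebraMap_self]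
    change eval z _ = _
    rw [RingHom.map_det, RingHom.mapMatrix_apply, Matrix.submatrix_map]
  have h2 := congrArg (fun f => f p) h
  simp only [AlgHom.comp_apply] at h2
  rw [← h2, aeval_def, Algebra.algebraMap_self]
  rfl

theorem Psi_eq_zero_of_mem [Infinite K] (p : PlRing K d n) (hp : p ∈ schubertVanishing K d n τ) :
    Psi K τ p = 0 := by
  apply MvPolynomial.funext
  intro z
  rw [eval_Psi, map_zero]
  unfold schubertVanishing at hp
  rw [Ideal.mem_iInf] at hp
  have h1 := hp ((Zmat K τ).map (eval z))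
  rw [Ideal.mem_iInf] at h1
  have h2 := h1 (by
    intro φ hφ
    apply det_submatrix_eq_zero_of_staircase τ _ _ φ hφ
    intro a t hat
    rw [Matrix.map_apply, Zmat_staircase K τ a t hat, map_zero])
  exact RingHom.mem_ker.mp h2

theorem X_mem_schubertVanishing (φ : Idx d n) (h : ¬ φ ≤ τ) :
    (X φ : PlRing K d n) ∈ schubertVanishing K d n τ := by
  unfold schubertVanishing
  rw [Ideal.mem_iInf]
  intro A
  rw [Ideal.mem_iInf]
  intro hA
  rw [RingHom.mem_ker]
  change evalMinors K d n A (X φ) = 0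
  unfold evalMinors
  rw [aeval_X]
  exact hA φ h

end Psi

end Groth.Agent.Lib.Helper95.SMT
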