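import Mathlib
import Groth.Agent.Lib.Helper95.SMTPsi

open MvPolynomial W4bk4grassmannian MonomialOrder

namespace Groth.Agent.Lib.Helper95.SMT

section Lead

variable {K : Type*} [Field K] {d n : ℕ}

/-- general criterion: a monomial plus smaller terms is monic with the expected degree. -/
theorem monic_and_degree_of_eq_add {σ : Type*} (m : MonomialOrder σ) (D : σ →₀ ℕ)
    (f g : MvPolynomial σ K) (hf : f = monomial D 1 + g)
    (hg : ∀ c ∈ g.support, c ≺[m] D) : m.Monic f ∧ m.degree f = D := by
  classical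
  by_cases hg0 : g = 0
  · rw [hf, hg0, add_zero]
    exact ⟨m.monic_monomial_one, by rw [m.degree_monomial]; simp⟩
  · have h1 : m.degree g ≺[m] m.degree (monomial D (1 : K)) := by
      rw [m.degree_monomial, if_neg one_ne_zero]
      exact hg _ (m.degree_mem_support hg0)
    rw [hf]
    refine ⟨MonomialOrder.Monic.add_of_lt m.monic_monomial_one h1, ?_⟩
    rw [m.degree_add_of_lt h1, m.degree_monomial, if_neg one_ne_zero]

/-- the exponent of the term of a permutation in the determinant. -/
noncomputable def expo (θ : Idx d n) (σ : Equiv.Perm (Fin d)) : Lex (Fin d × Fin n) →₀ ℕ :=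
  ∑ t : Fin d, Finsupp.single (toLex (t, θ.1 (σ t))) 1

theorem expo_apply (θ : Idx d n) (σ : Equiv.Perm (Fin d)) (t : Fin d) (a : Fin n) :
    expo θ σ (toLex (t, a)) = if θ.1 (σ t) = a then 1 else 0 := by
  unfold expo
  rw [Finsupp.finset_sum_apply]
  simp only [Finsupp.single_apply]
  rw [Finset.sum_eq_single t]
  · by_cases h : θ.1 (σ t) = a
    · rw [if_pos h, if_pos (by rw [h])]
    · rw [if_neg h, if_neg]
      intro h'
      apply h
      have := congrArg ofLex h'
      simp only [ofLex_toLex, Prod.mk.injEq] at this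
      exact this.2
  · intro s _ hst
    rw [if_neg]
    intro h'
    apply hst
    have := congrArg ofLex h'
    simp only [ofLex_toLex, Prod.mk.injEq] at this
    exact this.1
  · intro h; exact absurd (Finset.mem_univ t) h

theorem expo_lt (θ : Idx d n) (σ : Equiv.Perm (Fin d)) (hσ : σ ≠ 1) :
    toLex (expo θ σ) < toLex (expo θ 1) := by
  classical
  have hex : ∃ t, σ t ≠ t := by
    by_contra hcon
    push Not at hcon
    exact hσ (Equiv.ext hcon)
  set S := Finset.univ.filter (fun t : Fin d => σ t ≠ t) with hS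
  have hne : S.Nonempty := by
    obtain ⟨t, ht⟩ := hex
    exact ⟨t, by simp [hS, ht]⟩
  set t₀ := S.min' hne with ht₀
  have ht₀S : σ t₀ ≠ t₀ := by
    have := Finset.min'_mem S hne
    simp only [hS, Finset.mem_filter, Finset.mem_univ, true_and] at this
    exact this
  have hfix : ∀ t, t < t₀ → σ t = t := by
    intro t ht
    by_contra hcon
    have : t ∈ S := by simp [hS, hcon]
    exact absurd (Finset.min'_le S t this) (not_le.mpr ht)
  have hgt : t₀ < σ t₀ := by
    rcases lt_trichotomy (σ t₀) t₀ with h | h | h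
    · exact absurd (σ.injective (hfix _ h)) ht₀S
    · exact absurd h ht₀S
    · exact h
  rw [Finsupp.Lex.lt_iff]
  refine ⟨toLex (t₀, θ.1 t₀), ?_, ?_⟩
  · intro v hv
    obtain ⟨⟨t, a⟩, rfl⟩ := toLex.surjective v
    change expo θ σ (toLex (t, a)) = expo θ 1 (toLex (t, a))
    rw [expo_apply, expo_apply, Equiv.Perm.one_apply]
    rw [Prod.Lex.toLex_lt_toLex] at hv
    rcases hv with h | ⟨h1, h2⟩
    · rw [hfix t h]
    · simp only at h1 h2
      rw [h1]
      have h3 : θ.1 t₀ ≠ a := ne_of_gt h2
      have h4 : θ.1 (σ t₀) ≠ a := ne_of_gt (lt_trans h2 (θ.2 hgt))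
      rw [if_neg h3, if_neg h4]
  · change expo θ σ (toLex (t₀, θ.1 t₀)) < expo θ 1 (toLex (t₀, θ.1 t₀))
    rw [expo_apply, expo_apply, Equiv.Perm.one_apply, if_pos rfl, if_neg]
    · exact Nat.zero_lt_one
    · intro h
      exact ht₀S (θ.2.injective h)

end Lead

end Groth.Agent.Lib.Helper95.SMT
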