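import Mathlib
import Groth.Agent.Lib.Helper95.SMTLead

open MvPolynomial W4bk4grassmannian MonomialOrder

namespace Groth.Agent.Lib.Helper95.SMT

section DetLead

variable (K : Type*) [Field K] {d n : ℕ} (τ : Idx d n)

/-- the term of `σ` in the determinant of the staircase submatrix. -/
noncomputable def detTerm (θ : Idx d n) (σ : Equiv.Perm (Fin d)) :
    MvPolynomial (Lex (Fin d × Fin n)) K :=
  Equiv.Perm.sign σ • ∏ t : Fin d, ((Zmat K τ).submatrix θ.1 id) (σ t) t

theorem det_eq_sum_detTerm (θ : Idx d n) :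
    ((Zmat K τ).submatrix θ.1 id).det = ∑ σ : Equiv.Perm (Fin d), detTerm K τ θ σ := by
  rw [Matrix.det_apply]
  rfl

theorem detTerm_one (θ : Idx d n) (hθ : θ ≤ τ) :
    detTerm K τ θ 1 = monomial (expo θ 1) 1 := by
  unfold detTerm expo
  rw [Equiv.Perm.sign_one, one_smul, monomial_sum_one]
  refine Finset.prod_congr rfl fun t _ => ?_
  rw [Matrix.submatrix_apply, id_eq, Equiv.Perm.one_apply, Zmat_apply, if_pos (hθ t)]
  rfl

theorem support_detTerm (θ : Idx d n) (σ : Equiv.Perm (Fin d)) :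
    (detTerm K τ θ σ).support ⊆ {expo θ σ} := by
  classical
  unfold detTerm
  refine (support_smul).trans ?_
  by_cases h : ∀ t, θ.1 (σ t) ≤ τ.1 t
  · have : ∏ t : Fin d, ((Zmat K τ).submatrix θ.1 id) (σ t) t = monomial (expo θ σ) 1 := by
      unfold expo
      rw [monomial_sum_one]
      refine Finset.prod_congr rfl fun t _ => ?_
      rw [Matrix.submatrix_apply, id_eq, Zmat_apply, if_pos (h t)]
      rfl
    rw [this]
    exact support_monomial_subset
  · push Not at h
    obtain ⟨t, ht⟩ := h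
    have : ∏ t : Fin d, ((Zmat K τ).submatrix θ.1 id) (σ t) t = 0 := by
      apply Finset.prod_eq_zero (Finset.mem_univ t)
      rw [Matrix.submatrix_apply, id_eq, Zmat_apply, if_neg (not_le.mpr ht)]
    rw [this, support_zero]
    exact Finset.empty_subset _

theorem det_Z_monic (θ : Idx d n) (hθ : θ ≤ τ) :
    (MonomialOrder.lex (σ := Lex (Fin d × Fin n))).Monic ((Zmat K τ).submatrix θ.1 id).det ∧
    (MonomialOrder.lex (σ := Lex (Fin d × Fin n))).degree ((Zmat K τ).submatrix θ.1 id).det =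
      expo θ 1 := by
  classical
  apply monic_and_degree_of_eq_add _ (expo θ 1) _
    (∑ σ ∈ Finset.univ.erase (1 : Equiv.Perm (Fin d)), detTerm K τ θ σ)
  · rw [det_eq_sum_detTerm, ← Finset.add_sum_erase _ _ (Finset.mem_univ (1 : Equiv.Perm (Fin d))),
      detTerm_one K τ θ hθ]
  · intro c hc
    have h1 := support_sum hc
    rw [Finset.mem_biUnion] at h1
    obtain ⟨σ, hσ, hcσ⟩ := h1
    have h2 := support_detTerm K τ θ σ hcσ
    rw [Finset.mem_singleton] at h2
    rw [h2, MonomialOrder.lex_lt_iff]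
    exact expo_lt θ σ (Finset.mem_erase.mp hσ).1

end DetLead

end Groth.Agent.Lib.Helper95.SMT
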