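import Mathlib
import Groth.Agent.Lib.Helper95.SMTDetLead

open MvPolynomial W4bk4grassmannian MonomialOrder

namespace Groth.Agent.Lib.Helper95.SMT

section Indep

variable {K : Type*} [Field K]

theorem linearIndependent_of_monic_of_degree_injective {σ ι : Type*} (m : MonomialOrder σ)
    (f : ι → MvPolynomial σ K) (hmonic : ∀ i, m.Monic (f i))
    (hinj : Function.Injective (fun i => m.degree (f i))) : LinearIndependent K f := by
  classical
  rw [linearIndependent_iff']
  intro s g hsum i hi
  by_contra hgi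
  set s' := s.filter (fun i => g i ≠ 0) with hs'
  have hne : s'.Nonempty := ⟨i, by simp [hs', hi, hgi]⟩
  obtain ⟨i₀, hi₀, hmax⟩ := Finset.exists_max_image s' (fun i => m.toSyn (m.degree (f i))) hne
  have hi₀s : i₀ ∈ s := (Finset.mem_filter.mp hi₀).1
  have hgi₀ : g i₀ ≠ 0 := (Finset.mem_filter.mp hi₀).2
  have h1 := congrArg (coeff (m.degree (f i₀))) hsum
  rw [coeff_sum, coeff_zero] at h1
  rw [Finset.sum_eq_single i₀] at h1
  · rw [coeff_smul, (hmonic i₀).coeff_degree, smul_eq_mul, mul_one] at h1
    exact hgi₀ h1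
  · intro j hj hji
    rw [coeff_smul]
    by_cases hgj : g j = 0
    · rw [hgj, zero_smul]
    · have hj' : j ∈ s' := by simp [hs', hj, hgj]
      have hle := hmax j hj'
      have hne' : m.degree (f j) ≠ m.degree (f i₀) := fun h => hji (hinj h)
      have hlt : m.degree (f j) ≺[m] m.degree (f i₀) :=
        lt_of_le_of_ne hle (fun h => hne' (m.toSyn.injective h))
      rw [m.coeff_eq_zero_of_lt hlt, smul_zero]
  · intro h; exact absurd hi₀s h

end Indep

section ChainDeg

variable {d n : ℕ}

/-- the exponent of the leading monomial of a product of minors. -/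
noncomputable def chainExpo {m : ℕ} (c : Fin m → Idx d n) : Lex (Fin d × Fin n) →₀ ℕ :=
  ∑ k : Fin m, expo (c k) 1

theorem chainExpo_apply {m : ℕ} (c : Fin m → Idx d n) (t : Fin d) (a : Fin n) :
    chainExpo c (toLex (t, a)) = (Finset.univ.filter (fun k : Fin m => (c k).1 t = a)).card := by
  unfold chainExpo
  rw [Finsupp.finset_sum_apply, Finset.card_filter]
  refine Finset.sum_congr rfl fun k _ => ?_
  rw [expo_apply, Equiv.Perm.one_apply]

theorem degree_chainExpo {m : ℕ} (c : Fin m → Idx d n) :
    (chainExpo c).degree = m * d := by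
  unfold chainExpo expo
  rw [map_sum]
  simp [Finsupp.degree_single]

theorem card_ge_eq {m : ℕ} (c : Fin m → Idx d n) (t : Fin d) (a : Fin n) :
    (Finset.univ.filter (fun k : Fin m => a ≤ (c k).1 t)).card =
      ∑ a' ∈ Finset.Ici a, chainExpo c (toLex (t, a')) := by
  rw [Finset.card_eq_sum_card_fiberwise (f := fun k => (c k).1 t) (t := Finset.Ici a)]
  · refine Finset.sum_congr rfl fun a' ha' => ?_
    rw [chainExpo_apply]
    congr 1
    ext k
    simp only [Finset.mem_filter, Finset.mem_univ, true_and]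
    constructor
    · intro h; exact h.2
    · intro h
      exact ⟨by rw [h]; exact Finset.mem_Ici.mp ha', h⟩
  · intro k hk
    have hk' := (Finset.mem_filter.mp (Finset.mem_coe.mp hk)).2
    exact Finset.mem_coe.mpr (Finset.mem_Ici.mpr hk')

theorem mem_of_downward_closed {m : ℕ} (S : Finset (Fin m))
    (hS : ∀ k k' : Fin m, k ≤ k' → k' ∈ S → k ∈ S) (k : Fin m) (hk : k.val + 1 ≤ S.card) :
    k ∈ S := by
  by_contra hcon
  have hsub : S ⊆ Finset.Iio k := by
    intro k' hk'
    rw [Finset.mem_Iio]
    by_contra hge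
    exact hcon (hS k k' (not_lt.mp hge) hk')
  have := Finset.card_le_card hsub
  rw [Fin.card_Iio] at this
  omega

theorem chain_le_of_chainExpo_eq {m : ℕ} (c c' : Fin m → Idx d n) (hc : Antitone c)
    (hc' : Antitone c') (h : chainExpo c = chainExpo c') (k : Fin m) (t : Fin d) :
    (c k).1 t ≤ (c' k).1 t := by
  set a := (c k).1 t with ha
  have h1 : (Finset.univ.filter (fun k' : Fin m => a ≤ (c k').1 t)).card =
      (Finset.univ.filter (fun k' : Fin m => a ≤ (c' k').1 t)).card := by
    rw [card_ge_eq, card_ge_eq, h]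
  have h2 : k.val + 1 ≤ (Finset.univ.filter (fun k' : Fin m => a ≤ (c k').1 t)).card := by
    have hsub : Finset.Iic k ⊆ Finset.univ.filter (fun k' : Fin m => a ≤ (c k').1 t) := by
      intro k' hk'
      simp only [Finset.mem_filter, Finset.mem_univ, true_and]
      exact hc (Finset.mem_Iic.mp hk') t
    have := Finset.card_le_card hsub
    rw [Fin.card_Iic] at this
    exact this
  have h3 : k ∈ Finset.univ.filter (fun k' : Fin m => a ≤ (c' k').1 t) := by
    apply mem_of_downward_closed _ _ k (by rw [← h1]; exact h2)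
    intro k1 k2 hk12 hk2
    simp only [Finset.mem_filter, Finset.mem_univ, true_and] at hk2 ⊢
    exact le_trans hk2 (hc' hk12 t)
  simpa using h3

theorem chain_eq_of_chainExpo_eq {m : ℕ} (c c' : Fin m → Idx d n) (hc : Antitone c)
    (hc' : Antitone c') (h : chainExpo c = chainExpo c') : c = c' := by
  funext k
  apply Subtype.ext
  funext t
  exact le_antisymm (chain_le_of_chainExpo_eq c c' hc hc' h k t)
    (chain_le_of_chainExpo_eq c' c hc' hc h.symm k t)

theorem sigma_eq_of_chainExpo_eq (hd : 0 < d) (x y : Σ m : ℕ, (Fin m → Idx d n))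
    (hx : Antitone x.2) (hy : Antitone y.2) (h : chainExpo x.2 = chainExpo y.2) : x = y := by
  obtain ⟨m, c⟩ := x
  obtain ⟨m', c'⟩ := y
  have hm : m = m' := by
    have h1 := congrArg Finsupp.degree h
    rw [degree_chainExpo, degree_chainExpo] at h1
    exact Nat.eq_of_mul_eq_mul_right hd h1
  subst hm
  simp only at hx hy h
  rw [chain_eq_of_chainExpo_eq c c' hx hy h]

end ChainDeg

end Groth.Agent.Lib.Helper95.SMT
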