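import Mathlib
import Groth.Agent.Lib.Helper95.SMTShuffle

open MvPolynomial W4bk4grassmannian

namespace Groth.Agent.Lib.Helper95.SMT

variable {d n : ℕ} (K : Type*) [CommRing K]

theorem coord_cases (a : Fin d → Fin n) :
    coord K d n a = 0 ∨ ∃ (θ : Idx d n) (k : ℕ), sig θ = sumT a ∧
      coord K d n a = (-1 : PlRing K d n) ^ k * X θ := by
  unfold coord
  by_cases h : (Finset.univ.image a).card = d
  · right
    rw [dif_pos h]
    exact ⟨sortIdx d n a h, invCount d n a, sumT_sortIdx a h, rfl⟩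
  · left
    rw [dif_neg h]

theorem coord_idx (θ : Idx d n) : coord K d n θ.1 = X θ := by
  have hc : (Finset.univ.image θ.1).card = d :=
    (Groth.Agent.Lib.Helper27.Plucker.card_image_eq_iff _).mpr θ.2.injective
  unfold coord
  rw [dif_pos hc, Groth.Agent.Lib.Helper27.Plucker.invCount_idx,
    Groth.Agent.Lib.Helper27.Plucker.sortIdx_idx, pow_zero, one_mul]

variable {K}

theorem neg_one_pow_mul_mem {Q : Type*} [Ring Q] [Algebra K Q] (N : Submodule K Q) (k : ℕ) {x : Q}
    (hx : x ∈ N) : (-1 : Q) ^ k * x ∈ N := by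
  induction k with
  | zero => simpa using hx
  | succ k ih =>
    rw [pow_succ, mul_assoc, neg_one_mul, mul_neg]
    exact N.neg_mem ih

section Rewrite

variable (i j : Idx d n) (r : Fin d)

theorem shuffleTerm_A₀ :
    shuffleTerm K i j r (A₀ r) = (-1 : PlRing K d n) ^ shuffleSign r (A₀ r) * X i * X j := by
  unfold shuffleTerm
  rw [dif_pos (card_A₀ r), shuffleI_A₀, shuffleJ_A₀, coord_idx, coord_idx]

/-- shape of the other terms. -/
theorem shuffleTerm_cases (hp : IsPivot i j r) (A : Finset (Fin (d + 1))) (hne : A ≠ A₀ r) :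
    shuffleTerm K i j r A = 0 ∨ ∃ (i' j' : Idx d n) (k : ℕ), sig i < sig i' ∧
      sig i' + sig j' = sig i + sig j ∧
      shuffleTerm K i j r A = (-1 : PlRing K d n) ^ k * (X i' * X j') := by
  unfold shuffleTerm
  by_cases hA : A.card = r.val + 1
  · rw [dif_pos hA]
    rcases coord_cases K (shuffleI i j r A hA) with h1 | ⟨i', k1, hs1, h1⟩
    · left; rw [h1]; ring
    rcases coord_cases K (shuffleJ i j r A hA) with h2 | ⟨j', k2, hs2, h2⟩
    · left; rw [h2]; ring
    right
    refine ⟨i', j', shuffleSign r A + k1 + k2, ?_, ?_, ?_⟩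
    · rw [hs1, sumT_shuffleI]
      have h3 := (sum_A₀_le i j r hp A hA).2 hne
      have h4 : sig i = _ := sum_split_le (N := d) r.val (fun t => ((i.1 t : Fin n) : ℕ))
      have h5 := sum_movingRows_le i j r
      rw [h4]
      unfold A₀ at h3
      omega
    · rw [hs1, hs2, sumT_shuffle_add]
    · rw [h1, h2]; ring
  · left
    rw [dif_neg hA]

/-- the rewriting step in the quotient by an ideal containing the shuffle relation. -/
theorem rewrite_step (hp : IsPivot i j r) (I : Ideal (PlRing K d n))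
    (hI : shuffleRel K i j r ∈ I) (N : Submodule K (PlRing K d n ⧸ I)) (P : PlRing K d n)
    (hN : ∀ i' j' : Idx d n, sig i < sig i' → sig i' + sig j' = sig i + sig j →
      Ideal.Quotient.mk I (X i' * X j' * P) ∈ N) :
    Ideal.Quotient.mk I (X i * X j * P) ∈ N := by
  classical
  have h0 : Ideal.Quotient.mk I (shuffleRel K i j r) = 0 := Ideal.Quotient.eq_zero_iff_mem.mpr hI
  unfold shuffleRel at h0
  rw [← Finset.add_sum_erase Finset.univ _ (Finset.mem_univ (A₀ r)), shuffleTerm_A₀, map_add] at h0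
  set e : PlRing K d n ⧸ I := (-1 : PlRing K d n ⧸ I) ^ shuffleSign r (A₀ r) with he
  have hee : e * e = 1 := by
    rw [he, ← mul_pow]
    have : (-1 : PlRing K d n ⧸ I) * -1 = 1 := by ring
    rw [this, one_pow]
  have h2 : Ideal.Quotient.mk I ((-1 : PlRing K d n) ^ shuffleSign r (A₀ r) * X i * X j) =
      -Ideal.Quotient.mk I (∑ x ∈ Finset.univ.erase (A₀ r), shuffleTerm K i j r x) :=
    eq_neg_of_add_eq_zero_left h0
  have h3 : Ideal.Quotient.mk I ((-1 : PlRing K d n) ^ shuffleSign r (A₀ r) * X i * X j) =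
      e * Ideal.Quotient.mk I (X i * X j) := by
    rw [mul_assoc, map_mul, map_pow, map_neg, map_one]
  have h1 : Ideal.Quotient.mk I (X i * X j * P) =
      -(e * (Ideal.Quotient.mk I (∑ x ∈ Finset.univ.erase (A₀ r), shuffleTerm K i j r x) *
          Ideal.Quotient.mk I P)) := by
    rw [map_mul]
    calc Ideal.Quotient.mk I (X i * X j) * Ideal.Quotient.mk I P
        = e * (e * Ideal.Quotient.mk I (X i * X j)) * Ideal.Quotient.mk I P := by
          rw [← mul_assoc, hee, one_mul]
      _ = _ := by rw [← h3, h2]; ring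
  rw [h1]
  refine N.neg_mem (neg_one_pow_mul_mem N _ ?_)
  rw [map_sum, Finset.sum_mul]
  refine N.sum_mem fun A hA => ?_
  have hne : A ≠ A₀ r := (Finset.mem_erase.mp hA).1
  rcases shuffleTerm_cases (K := K) i j r hp A hne with h | ⟨i', j', k, hs1, hs2, h⟩
  · rw [h, map_zero, zero_mul]; exact N.zero_mem
  · rw [h, ← map_mul, mul_assoc, map_mul, map_pow, map_neg, map_one]
    exact neg_one_pow_mul_mem N _ (hN i' j' hs1 hs2)

end Rewrite

end Groth.Agent.Lib.Helper95.SMT
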