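import Mathlib
import Groth.Agent.Lib.Helper95.SMTRewrite

open MvPolynomial W4bk4grassmannian

namespace Groth.Agent.Lib.Helper95.SMT

variable {d n : ℕ} (K : Type*) [CommRing K]

/-- the monomial of a list of indices. -/
noncomputable def mon (l : List (Idx d n)) : PlRing K d n :=
  (l.map (fun θ => (X θ : PlRing K d n))).prod

/-- the potential. -/
def Phi (l : List (Idx d n)) : ℕ := (l.map (fun θ => sig θ ^ 2)).sum

theorem mon_cons (a : Idx d n) (l : List (Idx d n)) : mon K (a :: l) = X a * mon K l := by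
  simp [mon]

theorem Phi_cons (a : Idx d n) (l : List (Idx d n)) : Phi (a :: l) = sig a ^ 2 + Phi l := by
  simp [Phi]

theorem mon_perm {l l' : List (Idx d n)} (h : l.Perm l') : mon K l = mon K l' :=
  (h.map _).prod_eq

theorem Phi_perm {l l' : List (Idx d n)} (h : l.Perm l') : Phi l = Phi l' :=
  (h.map _).sum_eq

theorem Phi_le (l : List (Idx d n)) : Phi l ≤ l.length * (d * n) ^ 2 := by
  induction l with
  | nil => simp [Phi]
  | cons a l ih =>
    rw [Phi_cons, List.length_cons, add_mul, one_mul, add_comm]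
    exact add_le_add ih (Nat.pow_le_pow_left (sig_le_bound a) 2)

theorem exists_pivot (i j : Idx d n) (h : ¬ j ≤ i) : ∃ r, IsPivot i j r := by
  classical
  have h1 : ∃ t, i.1 t < j.1 t := by
    by_contra hcon
    push Not at hcon
    exact h hcon
  obtain ⟨t0, ht0⟩ := h1
  set S := Finset.univ.filter (fun t : Fin d => i.1 t < j.1 t) with hS
  have hne : S.Nonempty := ⟨t0, by simp [hS, ht0]⟩
  refine ⟨S.min' hne, fun t ht => ?_, ?_⟩
  · by_contra hcon
    have : t ∈ S := by simp only [hS, Finset.mem_filter, Finset.mem_univ, true_and]; exact not_le.mp hcon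
    exact absurd (Finset.min'_le S t this) (not_le.mpr ht)
  · have := Finset.min'_mem S hne
    simp only [hS, Finset.mem_filter, Finset.mem_univ, true_and] at this
    exact this

theorem exists_antitone_of_comparable (l : List (Idx d n))
    (h : ∀ θ ∈ l, ∀ φ ∈ l, θ ≤ φ ∨ φ ≤ θ) :
    ∃ (m : ℕ) (c : Fin m → Idx d n), Antitone c ∧ chainMon K c = mon K l := by
  set le : Idx d n → Idx d n → Bool := fun θ φ => decide (sig φ ≤ sig θ) with hle
  set l' := l.mergeSort le with hl'
  have hperm : l'.Perm l := List.mergeSort_perm l le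
  have hpw : l'.Pairwise (fun a b => le a b) := by
    apply List.pairwise_mergeSort
    · intro a b c hab hbc
      simp only [hle, decide_eq_true_eq] at hab hbc ⊢
      exact le_trans hbc hab
    · intro a b
      simp only [hle, Bool.or_eq_true, decide_eq_true_eq]
      exact le_total _ _
  refine ⟨l'.length, fun k => l'[k.1], ?_, ?_⟩
  · intro k k' hkk'
    rcases eq_or_lt_of_le hkk' with rfl | hlt
    · exact le_refl _
    · have h1 := (List.pairwise_iff_getElem.mp hpw) k.1 k'.1 k.2 k'.2 hlt
      simp only [hle, decide_eq_true_eq] at h1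
      have hk : l'[k.1] ∈ l := hperm.mem_iff.mp (List.getElem_mem _)
      have hk' : l'[k'.1] ∈ l := hperm.mem_iff.mp (List.getElem_mem _)
      rcases h _ hk _ hk' with h2 | h2
      · exact le_of_eq (eq_of_le_of_sig_le h2 h1).symm
      · exact h2
  · unfold chainMon
    rw [Fin.prod_univ_fun_getElem l' (fun θ => (X θ : PlRing K d n))]
    exact mon_perm K hperm

/-- the set of classes of standard monomials. -/
def stdSet (I : Ideal (PlRing K d n)) : Set (PlRing K d n ⧸ I) :=
  Set.range fun c : (Σ m : ℕ, {c : Fin m → Idx d n // Antitone c}) =>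
    Ideal.Quotient.mk I (chainMon K c.2.1)

theorem mk_mon_mem (I : Ideal (PlRing K d n))
    (hI : ∀ (i j : Idx d n) (r : Fin d), IsPivot i j r → shuffleRel K i j r ∈ I)
    (l : List (Idx d n)) :
    Ideal.Quotient.mk I (mon K l) ∈ Submodule.span K (stdSet K I) := by
  classical
  induction' hk : (l.length * (d * n) ^ 2 - Phi l) using Nat.strong_induction_on with k ih
    generalizing l
  by_cases hcomp : ∀ θ ∈ l, ∀ φ ∈ l, θ ≤ φ ∨ φ ≤ θ
  · obtain ⟨m, c, hc, hcm⟩ := exists_antitone_of_comparable K l hcomp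
    rw [← hcm]
    exact Submodule.subset_span ⟨⟨m, ⟨c, hc⟩⟩, rfl⟩
  · push Not at hcomp
    obtain ⟨θ, hθ, φ, hφ, h1, h2⟩ := hcomp
    -- choose orientation
    obtain ⟨i, j, hi, hj, hij, hji, hsig⟩ : ∃ i j : Idx d n, i ∈ l ∧ j ∈ l ∧ ¬ i ≤ j ∧ ¬ j ≤ i ∧
        sig j ≤ sig i := by
      rcases le_total (sig φ) (sig θ) with h | h
      · exact ⟨θ, φ, hθ, hφ, h1, h2, h⟩
      · exact ⟨φ, θ, hφ, hθ, h2, h1, h⟩
    have hne : j ≠ i := fun h => hij (le_of_eq h.symm)
    have hp1 : l.Perm (i :: l.erase i) := List.perm_cons_erase hi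
    have hj' : j ∈ l.erase i := (List.mem_erase_of_ne hne).mpr hj
    have hp2 : (l.erase i).Perm (j :: (l.erase i).erase j) := List.perm_cons_erase hj'
    set l'' := (l.erase i).erase j with hl''
    have hp : l.Perm (i :: j :: l'') := hp1.trans (List.Perm.cons i hp2)
    obtain ⟨r, hr⟩ := exists_pivot i j hji
    rw [mon_perm K hp, mon_cons, mon_cons, ← mul_assoc]
    refine rewrite_step i j r hr I (hI i j r hr) _ _ ?_
    intro i' j' hs1 hs2
    have hmon : X i' * X j' * mon K l'' = mon K (i' :: j' :: l'') := by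
      rw [mon_cons, mon_cons, mul_assoc]
    rw [hmon]
    have hlen : (i' :: j' :: l'').length = l.length := by
      rw [hp.length_eq]; simp
    have hPhi : Phi l < Phi (i' :: j' :: l'') := by
      rw [Phi_perm hp, Phi_cons, Phi_cons, Phi_cons, Phi_cons]
      have : sig i ^ 2 + sig j ^ 2 < sig i' ^ 2 + sig j' ^ 2 := by nlinarith
      omega
    have hbound := Phi_le (i' :: j' :: l'')
    refine ih ((i' :: j' :: l'').length * (d * n) ^ 2 - Phi (i' :: j' :: l'')) ?_ _ rfl
    rw [← hk, hlen] at *
    omega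

theorem span_mon_eq_top : Submodule.span K (Set.range (mon (d := d) (n := n) K)) = ⊤ := by
  rw [eq_top_iff]
  intro p _
  clear ‹p ∈ (⊤ : Submodule K (PlRing K d n))›
  induction p using MvPolynomial.induction_on with
  | C a =>
    have : (C a : PlRing K d n) = a • mon K ([] : List (Idx d n)) := by
      simp [mon, MvPolynomial.smul_eq_C_mul]
    rw [this]
    exact Submodule.smul_mem _ _ (Submodule.subset_span ⟨[], rfl⟩)
  | add p q hp hq => exact Submodule.add_mem _ hp hq
  | mul_X p θ hp =>
    have hmap : Submodule.map (LinearMap.mulRight K (X θ : PlRing K d n))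
        (Submodule.span K (Set.range (mon (d := d) (n := n) K))) ≤
        Submodule.span K (Set.range (mon (d := d) (n := n) K)) := by
      rw [Submodule.map_span, Submodule.span_le]
      rintro _ ⟨_, ⟨l, rfl⟩, rfl⟩
      refine Submodule.subset_span ⟨θ :: l, ?_⟩
      rw [mon_cons, LinearMap.mulRight_apply, mul_comm]
    exact hmap ⟨p, hp, rfl⟩

/-- Straightening: the standard monomials span the quotient by any ideal containing the shuffle
relations at pivots. -/
theorem span_stdSet_eq_top (I : Ideal (PlRing K d n))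
    (hI : ∀ (i j : Idx d n) (r : Fin d), IsPivot i j r → shuffleRel K i j r ∈ I) :
    Submodule.span K (stdSet K I) = ⊤ := by
  rw [eq_top_iff]
  intro x _
  obtain ⟨p, rfl⟩ := Ideal.Quotient.mk_surjective x
  have hp : p ∈ Submodule.span K (Set.range (mon (d := d) (n := n) K)) := by
    rw [span_mon_eq_top]; trivial
  have hmap : Submodule.map (Ideal.Quotient.mkₐ K I).toLinearMap
      (Submodule.span K (Set.range (mon (d := d) (n := n) K))) ≤
      Submodule.span K (stdSet K I) := by
    rw [Submodule.map_span, Submodule.span_le]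
    rintro _ ⟨_, ⟨l, rfl⟩, rfl⟩
    exact mk_mon_mem K I hI l
  exact hmap ⟨p, hp, rfl⟩

end Groth.Agent.Lib.Helper95.SMT
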