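import Mathlib
import Groth.Agent.Lib.Helper95.SMTChainDeg
import Groth.Agent.Lib.Helper95.SMTStraighten

open MvPolynomial W4bk4grassmannian MonomialOrder

namespace Groth.Agent.Lib.Helper95.SMT

section Final

variable (K : Type*) [Field K] {d n : ℕ}

theorem Psi_chainMon (τ : Idx d n) {m : ℕ} (c : Fin m → Idx d n) :
    Psi K τ (chainMon K c) = ∏ k : Fin m, ((Zmat K τ).submatrix (c k).1 id).det := by
  unfold chainMon
  rw [map_prod]
  exact Finset.prod_congr rfl fun k _ => Psi_X K τ (c k)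

theorem Psi_chainMon_monic (τ : Idx d n) {m : ℕ} (c : Fin m → Idx d n) (hc : ∀ k, c k ≤ τ) :
    (MonomialOrder.lex (σ := Lex (Fin d × Fin n))).Monic (Psi K τ (chainMon K c)) ∧
    (MonomialOrder.lex (σ := Lex (Fin d × Fin n))).degree (Psi K τ (chainMon K c)) =
      chainExpo c := by
  rw [Psi_chainMon]
  refine ⟨MonomialOrder.Monic.prod fun k _ => (det_Z_monic K τ (c k) (hc k)).1, ?_⟩
  rw [MonomialOrder.degree_prod_of_regular]
  · unfold chainExpo
    exact Finset.sum_congr rfl fun k _ => (det_Z_monic K τ (c k) (hc k)).2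
  · intro k _
    rw [(det_Z_monic K τ (c k) (hc k)).1.leadingCoeff_eq_one]
    exact isRegular_one

theorem Psi_chainMon_eq_zero (τ : Idx d n) {m : ℕ} (c : Fin m → Idx d n)
    (h : ∃ k, ¬ c k ≤ τ) : Psi K τ (chainMon K c) = 0 := by
  obtain ⟨k, hk⟩ := h
  rw [Psi_chainMon]
  apply Finset.prod_eq_zero (Finset.mem_univ k)
  rw [← Psi_X]
  exact Psi_X_eq_zero K τ (c k) hk

theorem chainMon_mem_schubertVanishing (τ : Idx d n) {m : ℕ} (c : Fin m → Idx d n)
    (h : ∃ k, ¬ c k ≤ τ) : chainMon K c ∈ schubertVanishing K d n τ := by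
  obtain ⟨k, hk⟩ := h
  unfold chainMon
  exact Ideal.mem_of_dvd _ (Finset.dvd_prod_of_mem _ (Finset.mem_univ k))
    (X_mem_schubertVanishing K τ (c k) hk)

/-- chains below `τ`. -/
abbrev ChainBelow (τ : Idx d n) : Type :=
  {x : Σ m : ℕ, (Fin m → Idx d n) // Antitone x.2 ∧ ∀ k, x.2 k ≤ τ}

theorem linearIndependent_Psi (hd : 0 < d) (τ : Idx d n) :
    LinearIndependent K (fun x : ChainBelow τ => Psi K τ (chainMon K x.1.2)) := by
  apply linearIndependent_of_monic_of_degree_injective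
    (MonomialOrder.lex (σ := Lex (Fin d × Fin n)))
  · intro x
    exact (Psi_chainMon_monic K τ x.1.2 x.2.2).1
  · intro x y hxy
    simp only at hxy
    rw [(Psi_chainMon_monic K τ x.1.2 x.2.2).2, (Psi_chainMon_monic K τ y.1.2 y.2.2).2] at hxy
    exact Subtype.ext (sigma_eq_of_chainExpo_eq hd x.1 y.1 x.2.1 y.2.1 hxy)

/-- core independence statement: a combination of standard monomials below `τ` lying in the
Schubert ideal of `τ` has zero coefficients. -/
theorem coeff_eq_zero_of_mem_schubertVanishing [Infinite K] (hd : 0 < d) (τ : Idx d n)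
    {ι : Type*} (s : Finset ι) (g : ι → K) (c : ι → Σ m : ℕ, (Fin m → Idx d n))
    (hanti : ∀ x ∈ s, Antitone (c x).2) (hinj : Set.InjOn c s)
    (hmem : ∑ x ∈ s, g x • chainMon K (c x).2 ∈ schubertVanishing K d n τ)
    (x₀ : ι) (hx₀ : x₀ ∈ s) (hbelow : ∀ k, (c x₀).2 k ≤ τ) : g x₀ = 0 := by
  classical
  have h1 := Psi_eq_zero_of_mem K τ _ hmem
  rw [map_sum] at h1
  simp only [map_smul] at h1
  -- split off the chains not below τ
  rw [← Finset.sum_filter_add_sum_filter_not s (fun x => ∀ k, (c x).2 k ≤ τ)] at h1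
  have h2 : ∑ x ∈ s.filter (fun x => ¬ ∀ k, (c x).2 k ≤ τ), g x • Psi K τ (chainMon K (c x).2) = 0 := by
    refine Finset.sum_eq_zero fun x hx => ?_
    have := (Finset.mem_filter.mp hx).2
    push Not at this
    rw [Psi_chainMon_eq_zero K τ _ this, smul_zero]
  rw [h2, add_zero] at h1
  -- reindex by ChainBelow τ
  set s₁ := s.filter (fun x => ∀ k, (c x).2 k ≤ τ) with hs₁
  have hx₀' : x₀ ∈ s₁ := Finset.mem_filter.mpr ⟨hx₀, hbelow⟩
  let e : {x // x ∈ s₁} → ChainBelow τ := fun x =>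
    ⟨c x.1, hanti x.1 (Finset.mem_filter.mp x.2).1, (Finset.mem_filter.mp x.2).2⟩
  have he : Function.Injective e := by
    intro x y hxy
    have := congrArg Subtype.val hxy
    simp only [e] at this
    exact Subtype.ext (hinj (Finset.mem_filter.mp x.2).1 (Finset.mem_filter.mp y.2).1 this)
  have hli := (linearIndependent_Psi K hd τ).comp e he
  rw [Fintype.linearIndependent_iff] at hli
  have h3 := hli (fun x => g x.1) (by
    rw [← h1, ← Finset.sum_coe_sort s₁]
    rfl)
  exact h3 ⟨x₀, hx₀'⟩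

end Final

end Groth.Agent.Lib.Helper95.SMT
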