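import Mathlib
import Groth.Agent.Lib.Helper95.SMTIndep

/-!
# Comparing ideals through standard monomials
-/

open MvPolynomial W4bk4grassmannian

namespace Groth.Agent.Lib.Helper95.SMT

variable (K : Type*) [Field K] {d n : ℕ}

/-- normal form: every polynomial is, modulo the shuffle relations, a combination of standard
monomials. -/
theorem exists_std_repr (I : Ideal (PlRing K d n))
    (hI : ∀ (i j : Idx d n) (r : Fin d), IsPivot i j r → shuffleRel K i j r ∈ I)
    (p : PlRing K d n) :
    ∃ c : (Σ m : ℕ, {c : Fin m → Idx d n // Antitone c}) →₀ K,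
      p - ∑ x ∈ c.support, c x • chainMon K x.2.1 ∈ I := by
  have htop := span_stdSet_eq_top K I hI
  have hmem : Ideal.Quotient.mk I p ∈ Submodule.span K (stdSet K I) := by
    rw [htop]; trivial
  unfold stdSet at hmem
  rw [Finsupp.mem_span_range_iff_exists_finsupp] at hmem
  obtain ⟨c, hc⟩ := hmem
  rw [Finsupp.sum] at hc
  refine ⟨c, ?_⟩
  rw [← Ideal.Quotient.eq, ← hc, ← Ideal.Quotient.mkₐ_eq_mk K, map_sum]
  refine Finset.sum_congr rfl fun x _ => ?_
  rw [map_smul]

theorem schubertVanishing_mono {τ τ' : Idx d n} (h : τ ≤ τ') :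
    schubertVanishing K d n τ' ≤ schubertVanishing K d n τ := by
  unfold schubertVanishing
  refine le_iInf fun A => le_iInf fun hA => ?_
  exact (iInf_le _ A).trans (iInf_le _ (fun φ hφ => hA φ (fun h' => hφ (le_trans h' h))))

/-- comparison principle: an ideal `L ≤ L'` containing the shuffle relations equals `L'` as soon as
every standard monomial is either in `L` or lives on a Schubert variety contained in `V(L')`. -/
theorem le_of_std_dichotomy [Infinite K] (hd : 0 < d) (L L' : Ideal (PlRing K d n))
    (hI : ∀ (i j : Idx d n) (r : Fin d), IsPivot i j r → shuffleRel K i j r ∈ L)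
    (hLL' : L ≤ L')
    (hdich : ∀ (m : ℕ) (c : Fin m → Idx d n), Antitone c →
      chainMon K c ∈ L ∨ ∃ τ : Idx d n, (∀ k, c k ≤ τ) ∧ L' ≤ schubertVanishing K d n τ) :
    L' ≤ L := by
  classical
  intro p hp
  obtain ⟨c, hc⟩ := exists_std_repr K L hI p
  set q : PlRing K d n := ∑ x ∈ c.support, c x • chainMon K x.2.1 with hq
  have hqL' : q ∈ L' := by
    have := L'.sub_mem hp (hLL' hc)
    rwa [sub_sub_cancel] at this
  have hall : ∀ x ∈ c.support, chainMon K x.2.1 ∈ L := by
    intro x hx
    rcases hdich x.1 x.2.1 x.2.2 with h | ⟨τ, hτ, hL'τ⟩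
    · exact h
    · exfalso
      have h0 := coeff_eq_zero_of_mem_schubertVanishing K hd τ c.support (fun x => c x)
        (fun x => ⟨x.1, x.2.1⟩) (fun x _ => x.2.2)
        (by
          intro x _ y _ hxy
          obtain ⟨m, c, hc⟩ := x
          obtain ⟨m', c', hc'⟩ := y
          simp only [Sigma.mk.injEq] at hxy
          obtain ⟨rfl, h2⟩ := hxy
          have := eq_of_heq h2
          subst this
          rfl)
        (hL'τ hqL') x hx hτ
      exact (Finsupp.mem_support_iff.mp hx) h0
  have hqL : q ∈ L := by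
    rw [hq]
    refine Ideal.sum_mem _ fun x hx => ?_
    rw [MvPolynomial.smul_eq_C_mul]
    exact Ideal.mul_mem_left _ _ (hall x hx)
  have := L.add_mem hc hqL
  rwa [sub_add_cancel] at this

end Groth.Agent.Lib.Helper95.SMT
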