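import Mathlib
import Groth.Agent.Lib.Helper95.SMTCompare

/-!
# The Schubert ideals are prime: `ker Psi = schubertVanishing`
-/

open MvPolynomial W4bk4grassmannian

namespace Groth.Agent.Lib.Helper95.SMT

variable (K : Type*) [Field K] {d n : ℕ}

theorem shuffleRel_mem_schubertVanishing (τ : Idx d n) (i j : Idx d n) (r : Fin d) :
    shuffleRel K i j r ∈ schubertVanishing K d n τ :=
  vanishing_le_schubertVanishing τ (shuffleRel_mem_vanishing i j r)

/-- a combination of standard monomials killed by `Psi` has zero coefficients on the chains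
below `τ`. -/
theorem coeff_eq_zero_of_Psi_eq_zero (hd : 0 < d) (τ : Idx d n)
    {ι : Type*} (s : Finset ι) (g : ι → K) (c : ι → Σ m : ℕ, (Fin m → Idx d n))
    (hanti : ∀ x ∈ s, Antitone (c x).2) (hinj : Set.InjOn c s)
    (h1 : Psi K τ (∑ x ∈ s, g x • chainMon K (c x).2) = 0)
    (x₀ : ι) (hx₀ : x₀ ∈ s) (hbelow : ∀ k, (c x₀).2 k ≤ τ) : g x₀ = 0 := by
  classical
  rw [map_sum] at h1
  simp only [map_smul] at h1
  rw [← Finset.sum_filter_add_sum_filter_not s (fun x => ∀ k, (c x).2 k ≤ τ)] at h1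
  have h2 : ∑ x ∈ s.filter (fun x => ¬ ∀ k, (c x).2 k ≤ τ), g x • Psi K τ (chainMon K (c x).2) = 0 := by
    refine Finset.sum_eq_zero fun x hx => ?_
    have := (Finset.mem_filter.mp hx).2
    push Not at this
    rw [Psi_chainMon_eq_zero K τ _ this, smul_zero]
  rw [h2, add_zero] at h1
  set s₁ := s.filter (fun x => ∀ k, (c x).2 k ≤ τ) with hs₁
  have hx₀' : x₀ ∈ s₁ := Finset.mem_filter.mpr ⟨hx₀, hbelow⟩
  let e : {x // x ∈ s₁} → ChainBelow τ := fun x =>
    ⟨c x.1, hanti x.1 (Finset.mem_filter.mp x.2).1, (Finset.mem_filter.mp x.2).2⟩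
  have he : Function.Injective e := by
    intro x y hxy
    have := congrArg Subtype.val hxy
    simp only [e] at this
    exact Subtype.ext (hinj (Finset.mem_filter.mp x.2).1 (Finset.mem_filter.mp y.2).1 this)
  have hli := (linearIndependent_Psi K hd τ).comp e he
  rw [Fintype.linearIndependent_iff] at hli
  have h3 := hli (fun x => g x.1) (by
    rw [← h1, ← Finset.sum_coe_sort s₁]
    rfl)
  exact h3 ⟨x₀, hx₀'⟩

theorem mem_schubertVanishing_of_Psi_eq_zero [Infinite K] (hd : 0 < d) (τ : Idx d n) (p : PlRing K d n)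
    (hp : Psi K τ p = 0) : p ∈ schubertVanishing K d n τ := by
  classical
  obtain ⟨c, hc⟩ := exists_std_repr K (schubertVanishing K d n τ)
    (fun i j r _ => shuffleRel_mem_schubertVanishing K τ i j r) p
  set q : PlRing K d n := ∑ x ∈ c.support, c x • chainMon K x.2.1 with hq
  have hPq : Psi K τ q = 0 := by
    have h0 := Psi_eq_zero_of_mem K τ _ hc
    rw [map_sub, hp, zero_sub, neg_eq_zero] at h0
    exact h0
  suffices hqJ : q ∈ schubertVanishing K d n τ by
    have := (schubertVanishing K d n τ).add_mem hc hqJ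
    rwa [sub_add_cancel] at this
  rw [hq]
  refine Ideal.sum_mem _ fun x hx => ?_
  rw [MvPolynomial.smul_eq_C_mul]
  refine Ideal.mul_mem_left _ _ ?_
  by_cases hbelow : ∀ k, x.2.1 k ≤ τ
  · exfalso
    have h0 := coeff_eq_zero_of_Psi_eq_zero K hd τ c.support (fun x => c x)
      (fun x => ⟨x.1, x.2.1⟩) (fun x _ => x.2.2)
      (by
        intro x _ y _ hxy
        obtain ⟨m, c, hc⟩ := x
        obtain ⟨m', c', hc'⟩ := y
        simp only [Sigma.mk.injEq] at hxy
        obtain ⟨rfl, h2⟩ := hxy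
        have := eq_of_heq h2
        subst this
        rfl)
      hPq x hx hbelow
    exact (Finsupp.mem_support_iff.mp hx) h0
  · push Not at hbelow
    exact chainMon_mem_schubertVanishing K τ _ hbelow

theorem ker_Psi [Infinite K] (hd : 0 < d) (τ : Idx d n) :
    RingHom.ker (Psi K τ).toRingHom = schubertVanishing K d n τ := by
  ext p
  rw [RingHom.mem_ker]
  exact ⟨fun h => mem_schubertVanishing_of_Psi_eq_zero K hd τ p h,
    fun h => Psi_eq_zero_of_mem K τ p h⟩

theorem isPrime_schubertVanishing [Infinite K] (hd : 0 < d) (τ : Idx d n) :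
    (schubertVanishing K d n τ).IsPrime := by
  rw [← ker_Psi K hd τ]
  exact RingHom.ker_isPrime _

/-- the top Plücker coordinate does not vanish on `X(τ)`. -/
theorem X_notMem_schubertVanishing [Infinite K] (hd : 0 < d) (τ : Idx d n) {φ : Idx d n}
    (h : φ ≤ τ) : (X φ : PlRing K d n) ∉ schubertVanishing K d n τ := by
  intro hmem
  have h1 := Psi_eq_zero_of_mem K τ _ hmem
  have h2 := (Psi_chainMon_monic K τ (fun _ : Fin 1 => φ) (fun _ => h)).1
  unfold chainMon at h2
  rw [Fin.prod_univ_one, h1] at h2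
  simp [MonomialOrder.Monic] at h2

end Groth.Agent.Lib.Helper95.SMT
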