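import Mathlib
import Groth.Agent.Lib.Helper95.SMTPrime
import Groth.Agent.Lib.Helper55.Catenary
import Groth.Agent.S11254
import Groth.Agent.S11268

open MvPolynomial W4bk4grassmannian Groth.Agent.Lib.Helper95.SMT

namespace Groth.Agent.Lib.Helper95.SMTDim

universe u

variable (K : Type u) [Field K] {d n : ℕ}

theorem val_le_val (w : Idx d n) (t : Fin d) : t.val ≤ (w.1 t).val := by
  obtain ⟨t, ht⟩ := t
  induction t with
  | zero => exact Nat.zero_le _
  | succ s ih =>
    have h1 := ih (by omega)
    have h2 : w.1 ⟨s, by omega⟩ < w.1 ⟨s + 1, ht⟩ := w.2 (by simp [Fin.lt_def])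
    have h3 : (w.1 ⟨s, by omega⟩).val < (w.1 ⟨s + 1, ht⟩).val := h2
    simp only at h1 ⊢
    omega

/-- the least index `(0, 1, …, d-1)`. -/
def iota (hdn : d ≤ n) : Idx d n := ⟨fun t => ⟨t.val, lt_of_lt_of_le t.isLt hdn⟩, fun _ _ h => h⟩

theorem iota_le (hdn : d ≤ n) (w : Idx d n) : iota hdn ≤ w := fun t => val_le_val w t

theorem codeg_iota (hdn : d ≤ n) : codeg (iota hdn) = 0 := by
  unfold codeg iota
  simp

theorem codeg_eq_zero_of_forall_not_lt (hdn : d ≤ n) (w : Idx d n) (h : ∀ φ : Idx d n, ¬ φ < w) :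
    codeg w = 0 := by
  have h1 : iota hdn = w := by
    by_contra hne
    exact h _ (lt_of_le_of_ne (iota_le hdn w) hne)
  rw [← h1, codeg_iota]

theorem schubertVanishing_le_ker_constantCoeff (hd : 0 < d) (w : Idx d n) :
    schubertVanishing K d n w ≤ RingHom.ker (constantCoeff : PlRing K d n →+* K) := by
  intro p hp
  unfold schubertVanishing at hp
  rw [Ideal.mem_iInf] at hp
  have h0 := hp 0
  rw [Ideal.mem_iInf] at h0
  have : Nonempty (Fin d) := ⟨⟨0, hd⟩⟩
  have h1 := h0 (fun φ _ => by
    have : (0 : Matrix (Fin n) (Fin d) K).submatrix φ.1 id = 0 := by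
      ext; simp
    rw [this, Matrix.det_zero])
  rw [RingHom.mem_ker] at h1 ⊢
  have h2 : (evalMinors K d n 0) p = constantCoeff p := by
    unfold evalMinors
    have : (fun θ : Idx d n => ((0 : Matrix (Fin n) (Fin d) K).submatrix θ.1 id).det) = 0 := by
      funext θ
      have : (0 : Matrix (Fin n) (Fin d) K).submatrix θ.1 id = 0 := by
        ext; simp
      rw [this, Matrix.det_zero]; rfl
    rw [this, MvPolynomial.aeval_zero]
    rfl
  rw [← h2]
  exact h1

/-- dimension drops along a strict inclusion of primes (after helper46). -/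
theorem ringKrullDim_quotient_succ_le_of_lt' {R : Type*} [CommRing R] (𝔭 𝔮 : Ideal R) [𝔭.IsPrime]
    (hle : 𝔭 ≤ 𝔮) (x : R) (hx𝔮 : x ∈ 𝔮) (hx𝔭 : x ∉ 𝔭) :
    ringKrullDim (R ⧸ 𝔮) + 1 ≤ ringKrullDim (R ⧸ 𝔭) := by
  refine ringKrullDim_succ_le_of_surjective (Ideal.Quotient.factor hle)
    (Ideal.Quotient.factor_surjective hle) (r := Ideal.Quotient.mk 𝔭 x) ?_ ?_
  · apply mem_nonZeroDivisors_of_ne_zero
    rwa [Ne, Ideal.Quotient.eq_zero_iff_mem]
  · rw [Ideal.Quotient.factor_mk, Ideal.Quotient.eq_zero_iff_mem]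
    exact hx𝔮

theorem le_ringKrullDim_schubert [Infinite K] (hd : 0 < d) (hdn : d ≤ n) :
    ∀ (k : ℕ) (w : Idx d n), codeg w = k →
      ((k + 1 : ℕ) : WithBot ℕ∞) ≤ ringKrullDim (PlRing K d n ⧸ schubertVanishing K d n w) := by
  intro k
  induction k with
  | zero =>
    intro w _
    have := isPrime_schubertVanishing K hd w
    have hmax : (RingHom.ker (constantCoeff : PlRing K d n →+* K)).IsMaximal :=
      RingHom.ker_isMaximal_of_surjective _ (fun c => ⟨C c, constantCoeff_C _ c⟩)
    have h1 := ringKrullDim_quotient_succ_le_of_lt' (schubertVanishing K d n w)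
      (RingHom.ker (constantCoeff : PlRing K d n →+* K))
      (schubertVanishing_le_ker_constantCoeff K hd w) (X w)
      (by rw [RingHom.mem_ker, constantCoeff_X]) (X_notMem_schubertVanishing K hd w le_rfl)
    have : Nontrivial (PlRing K d n ⧸ RingHom.ker (constantCoeff : PlRing K d n →+* K)) :=
      Ideal.Quotient.nontrivial_iff.mpr hmax.ne_top
    have h2 : (0 : WithBot ℕ∞) ≤
        ringKrullDim (PlRing K d n ⧸ RingHom.ker (constantCoeff : PlRing K d n →+* K)) :=
      ringKrullDim_nonneg_of_nontrivial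
    calc ((0 + 1 : ℕ) : WithBot ℕ∞) = 0 + 1 := by simp
      _ ≤ ringKrullDim (PlRing K d n ⧸ RingHom.ker (constantCoeff : PlRing K d n →+* K)) + 1 := by
        gcongr
      _ ≤ _ := h1
  | succ k ih =>
    intro w hw
    have := isPrime_schubertVanishing K hd w
    have hex : ∃ φ : Idx d n, φ < w := by
      by_contra hcon
      push Not at hcon
      have := codeg_eq_zero_of_forall_not_lt hdn w hcon
      omega
    obtain ⟨φ₀, hφ₀⟩ := hex
    obtain ⟨φ, hφdiv, -⟩ := Groth.Agent.S11268.result d n φ₀ w hφ₀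
    obtain ⟨hφlt, hφcodeg⟩ := hφdiv
    have hk : codeg φ = k := by omega
    have h1 := ringKrullDim_quotient_succ_le_of_lt' (schubertVanishing K d n w)
      (schubertVanishing K d n φ) (schubertVanishing_mono K hφlt.le) (X w)
      (X_mem_schubertVanishing K φ w (not_le_of_gt hφlt)) (X_notMem_schubertVanishing K hd w le_rfl)
    calc ((k + 1 + 1 : ℕ) : WithBot ℕ∞) = ((k + 1 : ℕ) : WithBot ℕ∞) + 1 := by push_cast; rfl
      _ ≤ ringKrullDim (PlRing K d n ⧸ schubertVanishing K d n φ) + 1 := by
        gcongr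
        exact ih φ hk
      _ ≤ _ := h1

theorem ringKrullDim_schubert_le [IsAlgClosed K] (hd : 0 < d) (hdn : d < n) :
    ∀ (k : ℕ) (w : Idx d n), codeg w = k →
      ringKrullDim (PlRing K d n ⧸ schubertVanishing K d n w) ≤ ((k + 1 : ℕ) : WithBot ℕ∞) := by
  classical
  intro k
  induction k using Nat.strong_induction_on with
  | _ k ih =>
  intro w hw
  have := isPrime_schubertVanishing K hd w
  set J := schubertVanishing K d n w with hJ
  have : IsDomain (PlRing K d n ⧸ J) := Ideal.Quotient.isDomain J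
  set x : PlRing K d n ⧸ J := Ideal.Quotient.mk J (X w) with hx
  have hJle := schubertVanishing_le_ker_constantCoeff K hd w
  have hxtop : Ideal.span {x} ≠ ⊤ := by
    intro htop
    have h1 : (1 : PlRing K d n ⧸ J) ∈ Ideal.span {x} := by rw [htop]; trivial
    rw [Ideal.mem_span_singleton'] at h1
    obtain ⟨a, ha⟩ := h1
    obtain ⟨p, rfl⟩ := Ideal.Quotient.mk_surjective a
    rw [hx, ← map_mul, ← map_one (Ideal.Quotient.mk J), Ideal.Quotient.eq] at ha
    have h2 := hJle ha
    rw [RingHom.mem_ker, map_sub, map_mul, constantCoeff_X, mul_zero, map_one] at h2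
    simp at h2
  obtain ⟨Q, hQ⟩ := Ideal.nonempty_minimalPrimes hxtop
  have := hQ.1.1
  have hht : Q.height ≤ 1 :=
    Ideal.height_le_one_of_isPrincipal_of_mem_minimalPrimes (Ideal.span {x}) Q hQ
  have hdim := Groth.Agent.Lib.Helper55.ringKrullDim_quotient_add_height K (PlRing K d n ⧸ J) Q
  set P' := Q.comap (Ideal.Quotient.mk J) with hP'
  have : P'.IsPrime := Ideal.comap_isPrime _ _
  have hJP' : J ≤ P' := by
    intro a ha
    rw [hP', Ideal.mem_comap, Ideal.Quotient.eq_zero_iff_mem.mpr ha]
    exact Q.zero_mem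
  have hXP' : X w ∈ P' := by
    rw [hP', Ideal.mem_comap]
    exact hQ.1.2 (Ideal.subset_span rfl)
  have key : ringKrullDim ((PlRing K d n ⧸ J) ⧸ Q) ≤ (k : WithBot ℕ∞) := by
    by_cases hex : ∃ φ : Idx d n, φ < w
    · have h54 := Groth.Agent.S11254.result K d n hd hdn w hex
      have hle : (⨅ φ ∈ divisors w, schubertVanishing K d n φ) ≤ P' := by
        rw [← h54]
        exact sup_le hJP' ((Ideal.span_singleton_le_iff_mem _).mpr hXP')
      have hfin : (⨅ φ ∈ divisors w, schubertVanishing K d n φ) =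
          (Finset.univ.filter (fun φ => φ ∈ divisors w)).inf (fun φ => schubertVanishing K d n φ) := by
        rw [Finset.inf_eq_iInf]
        simp
      rw [hfin, Ideal.IsPrime.inf_le' inferInstance] at hle
      obtain ⟨φ, hφ, hφle⟩ := hle
      have hφdiv : φ ∈ divisors w := (Finset.mem_filter.mp hφ).2
      obtain ⟨hφlt, hφcodeg⟩ := hφdiv
      have hk : codeg φ < k := by omega
      have hih := ih (codeg φ) hk φ rfl
      let f : (PlRing K d n ⧸ schubertVanishing K d n φ) →+* ((PlRing K d n ⧸ J) ⧸ Q) :=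
        Ideal.Quotient.lift _ ((Ideal.Quotient.mk Q).comp (Ideal.Quotient.mk J)) (fun a ha => by
          have := hφle ha
          rw [hP', Ideal.mem_comap] at this
          rw [RingHom.comp_apply, Ideal.Quotient.eq_zero_iff_mem]
          exact this)
      have hf : Function.Surjective f := by
        apply Ideal.Quotient.lift_surjective_of_surjective
        exact Ideal.Quotient.mk_surjective.comp Ideal.Quotient.mk_surjective
      have := ringKrullDim_le_of_surjective (R := PlRing K d n ⧸ schubertVanishing K d n φ) (S := (PlRing K d n ⧸ J) ⧸ Q) f hf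
      refine this.trans (hih.trans ?_)
      have : codeg φ + 1 ≤ k := by omega
      exact_mod_cast this
    · push Not at hex
      have hall : ∀ θ : Idx d n, (X θ : PlRing K d n) ∈ P' := by
        intro θ
        by_cases hθ : θ = w
        · rw [hθ]; exact hXP'
        · refine hJP' (X_mem_schubertVanishing K w θ fun hle => hex θ (lt_of_le_of_ne hle hθ))
      have hconst : ∀ p : PlRing K d n, ∃ c : K, p - C c ∈ P' := by
        intro p
        induction p using MvPolynomial.induction_on with
        | C a => exact ⟨a, by simp⟩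
        | add p q hp hq =>
          obtain ⟨c1, h1⟩ := hp
          obtain ⟨c2, h2⟩ := hq
          refine ⟨c1 + c2, ?_⟩
          have := P'.add_mem h1 h2
          rw [map_add]
          convert this using 1
          ring
        | mul_X p θ _ =>
          refine ⟨0, ?_⟩
          rw [map_zero, sub_zero]
          exact Ideal.mul_mem_left _ _ (hall θ)
      have hf : Function.Surjective (algebraMap K ((PlRing K d n ⧸ J) ⧸ Q)) := by
        intro y
        obtain ⟨a, rfl⟩ := Ideal.Quotient.mk_surjective y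
        obtain ⟨p, rfl⟩ := Ideal.Quotient.mk_surjective a
        obtain ⟨c, hc⟩ := hconst p
        refine ⟨c, ?_⟩
        rw [hP', Ideal.mem_comap, map_sub, ← Ideal.Quotient.eq] at hc
        rw [hc]
        rfl
      have : ringKrullDim ((PlRing K d n ⧸ J) ⧸ Q) ≤ ringKrullDim K := ringKrullDim_le_of_surjective _ hf
      rw [ringKrullDim_eq_zero_of_field] at this
      refine this.trans ?_
      exact_mod_cast Nat.zero_le k
  calc ringKrullDim (PlRing K d n ⧸ J) = ringKrullDim ((PlRing K d n ⧸ J) ⧸ Q) + Q.height :=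
        hdim.symm
    _ ≤ (k : WithBot ℕ∞) + 1 := by
        refine add_le_add key ?_
        exact_mod_cast hht
    _ = ((k + 1 : ℕ) : WithBot ℕ∞) := by push_cast; rfl

end Groth.Agent.Lib.Helper95.SMTDim
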