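import Mathlib
import Groth.Agent.Lib.Helper95.SMTPrime
import Groth.Agent.Lib.Helper95.SMTDim
import Groth.Agent.S11275

open MvPolynomial W4bk4grassmannian Groth.Agent.Lib.Helper95.SMT Groth.Agent.Lib.Helper95.SMTDim

namespace Groth.Agent.Lib.Helper95.BT

universe u

variable (K : Type u) [Field K] (d r : ℕ)

/-- the comorphism of the opposite big cell. -/
noncomputable def cellHom : PlRing K d (d + r) →ₐ[K] CellRing K d r :=
  aeval (fun θ => cellMinor K d r θ)

/-- the matrix `[I; x]`. -/
noncomputable def cellMat (x : Fin r × Fin d → K) : Matrix (Fin (d + r)) (Fin d) K :=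
  (cellMatrix K d r).map (eval x)

theorem eval_cellMinor (x : Fin r × Fin d → K) (θ : Idx d (d + r)) :
    eval x (cellMinor K d r θ) = ((cellMat K d r x).submatrix θ.1 id).det := by
  unfold cellMinor cellMat
  rw [RingHom.map_det]
  rfl

theorem eval_cellHom (x : Fin r × Fin d → K) (f : PlRing K d (d + r)) :
    eval x (cellHom K d r f) = evalMinors K d (d + r) (cellMat K d r x) f := by
  have h : (aeval x : CellRing K d r →ₐ[K] K).comp (cellHom K d r) =
      evalMinors K d (d + r) (cellMat K d r x) := by
    apply MvPolynomial.algHom_ext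
    intro θ
    unfold cellHom evalMinors
    rw [AlgHom.comp_apply, aeval_X, aeval_X]
    exact eval_cellMinor K d r x θ
  rw [← h]
  rfl

theorem cellHom_eq_zero_of_mem_vanishing [Infinite K] {f : PlRing K d (d + r)}
    (hf : f ∈ vanishing K d (d + r)) : cellHom K d r f = 0 := by
  apply MvPolynomial.funext
  intro x
  rw [eval_cellHom, map_zero]
  unfold vanishing at hf
  rw [Ideal.mem_iInf] at hf
  exact hf (cellMat K d r x)

theorem cellMat_apply_lt (x : Fin r × Fin d → K) (i : Fin (d + r)) (j : Fin d) (h : i.val < d) :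
    cellMat K d r x i j = if i.val = j.val then 1 else 0 := by
  unfold cellMat cellMatrix
  simp only [Matrix.map_apply, Matrix.of_apply, dif_pos h]
  split_ifs <;> simp

theorem cellMat_apply_ge (x : Fin r × Fin d → K) (i : Fin (d + r)) (j : Fin d) (h : ¬ i.val < d) :
    cellMat K d r x i j = x (⟨i.val - d, by have := i.isLt; omega⟩, j) := by
  unfold cellMat cellMatrix
  simp only [Matrix.map_apply, Matrix.of_apply, dif_neg h, eval_X]

theorem cellMinor_iota :
    cellMinor K d r (iota (Nat.le_add_right d r)) = 1 := by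
  unfold cellMinor
  have h : (cellMatrix K d r).submatrix (iota (Nat.le_add_right d r)).1 id = 1 := by
    ext i j
    simp only [Matrix.submatrix_apply, id_eq, cellMatrix, Matrix.of_apply, iota, dif_pos i.isLt,
      Matrix.one_apply, Fin.ext_iff]
  rw [h, Matrix.det_one]

theorem cellHom_X_iota : cellHom K d r (X (iota (Nat.le_add_right d r))) = 1 := by
  unfold cellHom
  rw [aeval_X, cellMinor_iota]

/-- normalisation: a matrix with invertible top block is, up to right multiplication, of the
form `[I; x]`. -/
theorem exists_cellMat (A : Matrix (Fin (d + r)) (Fin d) K)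
    (hA : (A.submatrix (iota (Nat.le_add_right d r)).1 id).det ≠ 0) :
    ∃ x : Fin r × Fin d → K, ∀ θ : Idx d (d + r),
      ((cellMat K d r x).submatrix θ.1 id).det =
        ((A.submatrix (iota (Nat.le_add_right d r)).1 id).det)⁻¹ * (A.submatrix θ.1 id).det := by
  set A₀ := A.submatrix (iota (Nat.le_add_right d r)).1 id with hA₀
  set A' : Matrix (Fin (d + r)) (Fin d) K := A * A₀⁻¹ with hA'
  have hunit : IsUnit A₀.det := isUnit_iff_ne_zero.mpr hA
  refine ⟨fun p => A' (Fin.natAdd d p.1) p.2, fun θ => ?_⟩
  have h1 : cellMat K d r (fun p => A' (Fin.natAdd d p.1) p.2) = A' := by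
    ext i j
    by_cases h : i.val < d
    · rw [cellMat_apply_lt K d r _ i j h]
      have h2 : A' i j = (A₀ * A₀⁻¹) ⟨i.val, h⟩ j := by
        rw [hA', Matrix.mul_apply, Matrix.mul_apply]
        refine Finset.sum_congr rfl fun k _ => ?_
        rw [hA₀]
        simp only [Matrix.submatrix_apply, id_eq, iota]
      rw [h2, Matrix.mul_nonsing_inv _ hunit, Matrix.one_apply]
      simp only [Fin.ext_iff]
    · rw [cellMat_apply_ge K d r _ i j h]
      simp only
      congr 1
      ext
      simp only [Fin.val_natAdd]
      omega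
  rw [h1, hA']
  have h3 : (A * A₀⁻¹).submatrix θ.1 id = A.submatrix θ.1 id * A₀⁻¹ := by
    ext i j
    simp only [Matrix.submatrix_apply, id_eq, Matrix.mul_apply]
  rw [h3, Matrix.det_mul, Matrix.det_nonsing_inv, Ring.inverse_eq_inv', mul_comm]

end Groth.Agent.Lib.Helper95.BT
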