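import Mathlib

/-!
# A Gröbner-type degeneration lemma

Data: a finite family of variables `H`, "relations" `r` with lead monomials `lead r` and tails
`∑ k ∈ S r, a r k • x^(mono k)`, two weights `ω` (deformation weight, weakly decreasing along the
relations) and `μ` (termination weight, strictly decreasing).  For a `K`-algebra `A` generated by a
family `X : H → A` satisfying the relations and in which the standard monomials are linearly
independent, the quotient of `K[t][x_h]` by the `t`-deformed relations is free over `K[t]`, its fibre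
at `t = c ≠ 0` is `A`, and its fibre at `t = 0` is the quotient by the initial relations.
-/

open MvPolynomial

namespace Groth.Agent.Lib.Helper95.Degen

universe u

/-- weight of a monomial. -/
def wt {H : Type*} (ω : H → ℕ) (m : H →₀ ℕ) : ℕ := m.sum fun h k => k * ω h

theorem wt_add {H : Type*} (ω : H → ℕ) (m m' : H →₀ ℕ) : wt ω (m + m') = wt ω m + wt ω m' := by
  unfold wt
  exact Finsupp.sum_add_index' (by simp) (by intros; ring)

theorem wt_single {H : Type*} (ω : H → ℕ) (h : H) (k : ℕ) : wt ω (Finsupp.single h k) = k * ω h := by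
  unfold wt
  rw [Finsupp.sum_single_index]
  simp

/-- the rewriting data. -/
structure Data (K : Type u) (H ρ κ : Type) where
  lead : ρ → (H →₀ ℕ)
  mono : κ → (H →₀ ℕ)
  S : ρ → Finset κ
  a : ρ → κ → K
  ω : H → ℕ
  μ : H → ℕ

namespace Data

variable {K : Type u} [Field K] {H ρ κ : Type} (D : Data K H ρ κ)

/-- standard monomials: not divisible by any lead monomial. -/
def IsStd (m : H →₀ ℕ) : Prop := ∀ r, ¬ D.lead r ≤ m

/-- the tail of a relation. -/
noncomputable def tail (r : ρ) : MvPolynomial H K :=
  ∑ k ∈ D.S r, monomial (D.mono k) (D.a r k)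

/-- the `t`-deformed tail. -/
noncomputable def tailT (r : ρ) : MvPolynomial H (Polynomial K) :=
  ∑ k ∈ D.S r, monomial (D.mono k)
    (Polynomial.monomial (wt D.ω (D.lead r) - wt D.ω (D.mono k)) (D.a r k))

/-- the `t`-deformed relation. -/
noncomputable def relT (r : ρ) : MvPolynomial H (Polynomial K) :=
  monomial (D.lead r) 1 - D.tailT r

/-- the ideal of deformed relations. -/
noncomputable def IT : Ideal (MvPolynomial H (Polynomial K)) := Ideal.span (Set.range D.relT)

/-- the standard monomials in the deformed algebra. -/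
noncomputable def stdT (s : {m : H →₀ ℕ // D.IsStd m}) : MvPolynomial H (Polynomial K) ⧸ D.IT :=
  Ideal.Quotient.mk D.IT (monomial s.1 1)

theorem mk_lead (r : ρ) :
    Ideal.Quotient.mk D.IT (monomial (D.lead r) 1) = Ideal.Quotient.mk D.IT (D.tailT r) := by
  rw [Ideal.Quotient.eq]
  exact Ideal.subset_span ⟨r, rfl⟩

theorem mk_monomial_eq_smul (m : H →₀ ℕ) (c : Polynomial K) :
    Ideal.Quotient.mk D.IT (monomial m c) = c • Ideal.Quotient.mk D.IT (monomial m 1) := by
  rw [← Ideal.Quotient.mkₐ_eq_mk (Polynomial K), ← map_smul, smul_monomial, smul_eq_mul, mul_one]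

theorem mk_monomial_mem_span
    (hμ : ∀ r, ∀ k ∈ D.S r, wt D.μ (D.mono k) < wt D.μ (D.lead r)) (m : H →₀ ℕ) :
    Ideal.Quotient.mk D.IT (monomial m 1) ∈ Submodule.span (Polynomial K) (Set.range D.stdT) := by
  induction' hn : wt D.μ m using Nat.strong_induction_on with n ih generalizing m
  by_cases hstd : D.IsStd m
  · exact Submodule.subset_span ⟨⟨m, hstd⟩, rfl⟩
  · unfold IsStd at hstd
    push Not at hstd
    obtain ⟨r, hr⟩ := hstd
    obtain ⟨e, rfl⟩ : ∃ e, m = D.lead r + e := ⟨m - D.lead r, (add_tsub_cancel_of_le hr).symm⟩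
    have h1 : Ideal.Quotient.mk D.IT (monomial (D.lead r + e) 1) =
        Ideal.Quotient.mk D.IT (monomial e 1 * D.tailT r) := by
      rw [map_mul, ← D.mk_lead r, ← map_mul, monomial_mul, one_mul, add_comm]
    rw [h1]
    unfold tailT
    rw [Finset.mul_sum, map_sum]
    refine Submodule.sum_mem _ fun k hk => ?_
    rw [monomial_mul, one_mul, mk_monomial_eq_smul]
    refine Submodule.smul_mem _ _ (ih _ ?_ _ rfl)
    rw [← hn, wt_add, wt_add, add_comm]
    exact Nat.add_lt_add_right (hμ r k hk) _

theorem span_stdT_eq_top (hμ : ∀ r, ∀ k ∈ D.S r, wt D.μ (D.mono k) < wt D.μ (D.lead r)) :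
    Submodule.span (Polynomial K) (Set.range D.stdT) = ⊤ := by
  rw [eq_top_iff]
  intro x _
  obtain ⟨p, rfl⟩ := Ideal.Quotient.mk_surjective x
  rw [p.as_sum, map_sum]
  refine Submodule.sum_mem _ fun m _ => ?_
  rw [mk_monomial_eq_smul]
  exact Submodule.smul_mem _ _ (D.mk_monomial_mem_span hμ m)

end Data

end Groth.Agent.Lib.Helper95.Degen
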