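import Mathlib
import Groth.Agent.Lib.Helper95.Degen

open MvPolynomial

namespace Groth.Agent.Lib.Helper95.Degen

universe u

namespace Data

variable {K : Type u} [Field K] {H ρ κ : Type} (D : Data K H ρ κ)
  {A : Type*} [CommRing A] [Algebra K A] (X : H → A)

/-- value of a monomial. -/
noncomputable def pm (m : H →₀ ℕ) : A := aeval X (monomial m (1 : K))

theorem pm_eq (m : H →₀ ℕ) : pm (K := K) X m = m.prod fun h k => X h ^ k := by
  unfold pm
  rw [aeval_monomial, map_one, one_mul]

theorem aeval_monomial' (m : H →₀ ℕ) (c : K) :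
    aeval X (monomial m c) = c • pm (K := K) X m := by
  unfold pm
  rw [aeval_monomial, aeval_monomial, map_one, one_mul, Algebra.smul_def]

/-- the comparison map to `A[t]`. -/
noncomputable def Theta : MvPolynomial H (Polynomial K) →+* Polynomial A :=
  eval₂Hom (Polynomial.mapRingHom (algebraMap K A)) (fun h => Polynomial.monomial (D.ω h) (X h))

theorem prod_monomial {ι : Type*} (s : Finset ι) (e : ι → ℕ) (x : ι → A) :
    ∏ i ∈ s, Polynomial.monomial (e i) (x i) = Polynomial.monomial (∑ i ∈ s, e i) (∏ i ∈ s, x i) := by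
  classical
  induction s using Finset.induction_on with
  | empty => simp
  | insert i s hi ih =>
    rw [Finset.prod_insert hi, Finset.sum_insert hi, Finset.prod_insert hi, ih,
      Polynomial.monomial_mul_monomial]

theorem Theta_monomial (m : H →₀ ℕ) (p : Polynomial K) :
    D.Theta X (monomial m p) =
      p.map (algebraMap K A) * Polynomial.monomial (wt D.ω m) (pm (K := K) X m) := by
  unfold Theta
  rw [eval₂Hom_monomial, pm_eq]
  congr 1
  unfold wt Finsupp.prod Finsupp.sum
  rw [← prod_monomial]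
  refine Finset.prod_congr rfl fun h _ => ?_
  simp only
  rw [Polynomial.monomial_pow, mul_comm]

theorem aeval_tail (r : ρ) :
    aeval X (D.tail r) = ∑ k ∈ D.S r, D.a r k • pm (K := K) X (D.mono k) := by
  unfold tail
  rw [map_sum]
  exact Finset.sum_congr rfl fun k _ => aeval_monomial' X _ _

theorem Theta_tailT (r : ρ) (hω : ∀ k ∈ D.S r, wt D.ω (D.mono k) ≤ wt D.ω (D.lead r)) :
    D.Theta X (D.tailT r) = Polynomial.monomial (wt D.ω (D.lead r)) (aeval X (D.tail r)) := by
  unfold tailT
  rw [map_sum, aeval_tail, map_sum]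
  refine Finset.sum_congr rfl fun k hk => ?_
  rw [Theta_monomial, Polynomial.map_monomial, Polynomial.monomial_mul_monomial,
    Nat.sub_add_cancel (hω k hk), Algebra.smul_def]

/-- the hypotheses on the target algebra. -/
structure Good : Prop where
  rel : ∀ r, aeval X (monomial (D.lead r) (1 : K)) = aeval X (D.tail r)
  hω : ∀ r, ∀ k ∈ D.S r, wt D.ω (D.mono k) ≤ wt D.ω (D.lead r)
  hμ : ∀ r, ∀ k ∈ D.S r, wt D.μ (D.mono k) < wt D.μ (D.lead r)
  ind : LinearIndependent K (fun m : {m : H →₀ ℕ // D.IsStd m} => pm (K := K) X m.1)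
  surj : Function.Surjective (aeval X : MvPolynomial H K →ₐ[K] A)

variable {D X}

theorem Good.Theta_relT (hG : D.Good X) (r : ρ) : D.Theta X (D.relT r) = 0 := by
  unfold relT
  rw [map_sub, Theta_monomial, Theta_tailT D X r (hG.hω r), Polynomial.map_one, one_mul,
    ← hG.rel r]
  exact sub_self _

theorem Good.IT_le_ker (hG : D.Good X) : D.IT ≤ RingHom.ker (D.Theta X) := by
  unfold IT
  rw [Ideal.span_le]
  rintro _ ⟨r, rfl⟩
  exact hG.Theta_relT r

/-- the comparison map on the deformed algebra. -/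
noncomputable def Good.ThetaBar (hG : D.Good X) :
    MvPolynomial H (Polynomial K) ⧸ D.IT →+* Polynomial A :=
  Ideal.Quotient.lift D.IT (D.Theta X) (fun _ ha => hG.IT_le_ker ha)

theorem Good.ThetaBar_smul_stdT (hG : D.Good X) (p : Polynomial K)
    (s : {m : H →₀ ℕ // D.IsStd m}) :
    hG.ThetaBar (p • D.stdT s) =
      p.map (algebraMap K A) * Polynomial.monomial (wt D.ω s.1) (pm (K := K) X s.1) := by
  unfold Good.ThetaBar stdT
  rw [← mk_monomial_eq_smul, Ideal.Quotient.lift_mk, Theta_monomial]

theorem Good.linearIndependent_stdT (hG : D.Good X) :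
    LinearIndependent (Polynomial K) D.stdT := by
  classical
  rw [linearIndependent_iff']
  intro s g hg i₀ hi₀
  have h1 := congrArg hG.ThetaBar hg
  rw [map_sum, map_zero] at h1
  simp only [hG.ThetaBar_smul_stdT] at h1
  ext j
  rw [Polynomial.coeff_zero]
  have h2 := congrArg (fun q => Polynomial.coeff q (j + wt D.ω i₀.1)) h1
  simp only [Polynomial.finsetSum_coeff, Polynomial.coeff_zero] at h2
  have h3 : ∀ i ∈ s, ((g i).map (algebraMap K A) *
      Polynomial.monomial (wt D.ω i.1) (pm (K := K) X i.1)).coeff (j + wt D.ω i₀.1) =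
      (if wt D.ω i.1 ≤ j + wt D.ω i₀.1 then (g i).coeff (j + wt D.ω i₀.1 - wt D.ω i.1) else 0) •
        pm (K := K) X i.1 := by
    intro i _
    rw [← Polynomial.C_mul_X_pow_eq_monomial, ← mul_assoc, Polynomial.coeff_mul_X_pow',
      Polynomial.coeff_mul_C, Polynomial.coeff_map]
    split_ifs
    · rw [Algebra.smul_def]
    · rw [zero_smul]
  rw [Finset.sum_congr rfl h3] at h2
  have h4 := (linearIndependent_iff'.mp hG.ind) s _ h2 i₀ hi₀
  simpa using h4

theorem Good.free (hG : D.Good X) :
    Module.Free (Polynomial K) (MvPolynomial H (Polynomial K) ⧸ D.IT) :=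
  Module.Free.of_basis (Module.Basis.mk hG.linearIndependent_stdT
    (by rw [D.span_stdT_eq_top hG.hμ]))

theorem Good.ThetaBar_algebraMap (hG : D.Good X) (q : Polynomial K) :
    hG.ThetaBar (algebraMap (Polynomial K) _ q) = q.map (algebraMap K A) := by
  have h1 : algebraMap (Polynomial K) (MvPolynomial H (Polynomial K) ⧸ D.IT) q =
      Ideal.Quotient.mk D.IT (C q) := rfl
  rw [h1]
  unfold Good.ThetaBar
  rw [Ideal.Quotient.lift_mk]
  unfold Theta
  rw [eval₂Hom_C]
  rfl

/-- specialisation at `t = c`. -/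
noncomputable def Good.spec (hG : D.Good X) (c : K) :
    (MvPolynomial H (Polynomial K) ⧸ D.IT) →ₐ[K] A :=
  { toRingHom := (Polynomial.evalRingHom (algebraMap K A c)).comp hG.ThetaBar
    commutes' := by
      intro k
      rw [IsScalarTower.algebraMap_apply K (Polynomial K) (MvPolynomial H (Polynomial K) ⧸ D.IT)]
      simp only [RingHom.toMonoidHom_eq_coe, OneHom.toFun_eq_coe, MonoidHom.toOneHom_coe,
        MonoidHom.coe_coe, RingHom.coe_comp, Function.comp_apply]
      rw [hG.ThetaBar_algebraMap]
      simp }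

theorem Good.spec_apply (hG : D.Good X) (c : K) (x : MvPolynomial H (Polynomial K) ⧸ D.IT) :
    hG.spec c x = Polynomial.eval (algebraMap K A c) (hG.ThetaBar x) := rfl

theorem Good.spec_algebraMap (hG : D.Good X) (c : K) (q : Polynomial K) :
    hG.spec c (algebraMap (Polynomial K) _ q) = algebraMap K A (q.eval c) := by
  rw [hG.spec_apply, hG.ThetaBar_algebraMap, Polynomial.eval_map_algebraMap,
    Polynomial.aeval_algebraMap_apply, Polynomial.coe_aeval_eq_eval]

theorem Good.spec_smul_stdT (hG : D.Good X) (c : K) (p : Polynomial K)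
    (s : {m : H →₀ ℕ // D.IsStd m}) :
    hG.spec c (p • D.stdT s) = (p.eval c * c ^ wt D.ω s.1) • pm (K := K) X s.1 := by
  rw [hG.spec_apply, hG.ThetaBar_smul_stdT, Polynomial.eval_mul, Polynomial.eval_map_algebraMap,
    Polynomial.aeval_algebraMap_apply, Polynomial.eval_monomial, Algebra.smul_def, map_mul, map_pow,
    Polynomial.coe_aeval_eq_eval]
  ring

end Data

end Groth.Agent.Lib.Helper95.Degen
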