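import Mathlib
import Groth.Agent.Lib.Helper95.DegenTheta

open MvPolynomial

namespace Groth.Agent.Lib.Helper95.Degen

universe u

namespace Data

variable {K : Type u} [Field K] {H ρ κ : Type} {D : Data K H ρ κ}
  {A : Type*} [CommRing A] [Algebra K A] {X : H → A}

/-- helper instance: nested instance search does not find this by itself. -/
noncomputable local instance instCRaux : CommRing (MvPolynomial H (Polynomial K)) :=
  AddMonoidAlgebra.commRing

/-- the ideal `(t - c)` of the deformed algebra. -/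
noncomputable def fibreIdeal (D : Data K H ρ κ) (c : K) :
    Ideal (MvPolynomial H (Polynomial K) ⧸ D.IT) :=
  Ideal.span {algebraMap (Polynomial K) (MvPolynomial H (Polynomial K) ⧸ D.IT)
    (Polynomial.X - Polynomial.C c)}

theorem Good.fibreIdeal_le_ker (hG : D.Good X) (c : K) :
    D.fibreIdeal c ≤ RingHom.ker (hG.spec c).toRingHom := by
  unfold fibreIdeal
  rw [Ideal.span_le]
  rintro _ ⟨rfl⟩
  rw [SetLike.mem_coe, RingHom.mem_ker]
  show hG.spec c _ = 0
  rw [hG.spec_algebraMap]
  simp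

/-- the specialisation map on the fibre. -/
noncomputable def Good.specBar (hG : D.Good X) (c : K) :
    ((MvPolynomial H (Polynomial K) ⧸ D.IT) ⧸ D.fibreIdeal c) →ₐ[K] A :=
  Ideal.Quotient.liftₐ (D.fibreIdeal c) (hG.spec c) (fun _ ha => hG.fibreIdeal_le_ker c ha)

theorem Good.spec_mk_X (hG : D.Good X) (c : K) (h : H) :
    hG.spec c (Ideal.Quotient.mk D.IT (MvPolynomial.X h)) = c ^ D.ω h • X h := by
  rw [hG.spec_apply]
  unfold Good.ThetaBar
  rw [Ideal.Quotient.lift_mk]
  unfold Theta
  rw [eval₂Hom_X', Polynomial.eval_monomial, Algebra.smul_def, map_pow, mul_comm]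

theorem Good.specBar_surjective (hG : D.Good X) (c : K) (hc : c ≠ 0) :
    Function.Surjective (hG.specBar c) := by
  intro a
  obtain ⟨q, rfl⟩ := hG.surj a
  let ψ : MvPolynomial H K →ₐ[K] (MvPolynomial H (Polynomial K) ⧸ D.IT) :=
    aeval (fun h => (c ^ D.ω h)⁻¹ • Ideal.Quotient.mk D.IT (MvPolynomial.X h))
  have hψ : (hG.spec c).comp ψ = aeval X := by
    apply MvPolynomial.algHom_ext
    intro h
    rw [AlgHom.comp_apply, aeval_X, aeval_X, map_smul, hG.spec_mk_X, smul_smul,
      inv_mul_cancel₀ (pow_ne_zero _ hc), one_smul]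
  refine ⟨Ideal.Quotient.mk _ (ψ q), ?_⟩
  unfold Good.specBar
  rw [Ideal.Quotient.liftₐ_apply, Ideal.Quotient.lift_mk]
  show (hG.spec c) (ψ q) = _
  rw [← AlgHom.comp_apply, hψ]

theorem Good.specBar_injective (hG : D.Good X) (c : K) (hc : c ≠ 0) :
    Function.Injective (hG.specBar c) := by
  classical
  rw [injective_iff_map_eq_zero]
  intro y hy
  obtain ⟨x, rfl⟩ := Ideal.Quotient.mk_surjective y
  have hx : x ∈ Submodule.span (Polynomial K) (Set.range D.stdT) := by
    rw [D.span_stdT_eq_top hG.hμ]; trivial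
  rw [Finsupp.mem_span_range_iff_exists_finsupp] at hx
  obtain ⟨g, rfl⟩ := hx
  unfold Good.specBar at hy
  rw [Ideal.Quotient.liftₐ_apply, Ideal.Quotient.lift_mk] at hy
  change hG.spec c _ = 0 at hy
  rw [Finsupp.sum, map_sum] at hy
  simp only [hG.spec_smul_stdT] at hy
  have h1 := (linearIndependent_iff'.mp hG.ind) g.support _ hy
  rw [Ideal.Quotient.eq_zero_iff_mem, Finsupp.sum]
  refine Ideal.sum_mem _ fun i hi => ?_
  have h2 := h1 i hi
  have h3 : (g i).eval c = 0 := by
    rcases mul_eq_zero.mp h2 with h | h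
    · exact h
    · exact absurd h (pow_ne_zero _ hc)
  have h4 : (Polynomial.X - Polynomial.C c) * ((g i) /ₘ (Polynomial.X - Polynomial.C c)) = g i :=
    Polynomial.mul_divByMonic_eq_iff_isRoot.mpr h3
  have h5 : g i • D.stdT i =
      algebraMap (Polynomial K) (MvPolynomial H (Polynomial K) ⧸ D.IT)
        (Polynomial.X - Polynomial.C c) *
        Ideal.Quotient.mk D.IT (monomial i.1 ((g i) /ₘ (Polynomial.X - Polynomial.C c))) := by
    have h6 : algebraMap (Polynomial K) (MvPolynomial H (Polynomial K) ⧸ D.IT)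
        (Polynomial.X - Polynomial.C c) =
        Ideal.Quotient.mk D.IT (C (Polynomial.X - Polynomial.C c)) := rfl
    rw [h6, ← map_mul, C_mul_monomial, h4]
    unfold stdT
    rw [← mk_monomial_eq_smul]
  rw [h5]
  exact Ideal.mul_mem_right _ _ (Ideal.subset_span rfl)

/-- the fibre of the deformed algebra at `c ≠ 0` is `A`. -/
noncomputable def Good.fibreEquiv (hG : D.Good X) (c : K) (hc : c ≠ 0) :
    ((MvPolynomial H (Polynomial K) ⧸ D.IT) ⧸ D.fibreIdeal c) ≃ₐ[K] A :=
  AlgEquiv.ofBijective (hG.specBar c) ⟨hG.specBar_injective c hc, hG.specBar_surjective c hc⟩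

end Data

end Groth.Agent.Lib.Helper95.Degen
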