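import Mathlib
import Groth.Agent.Lib.Helper95.DegenFibre

open MvPolynomial

namespace Groth.Agent.Lib.Helper95.Degen

universe u

namespace Data

variable {K : Type u} [Field K] {H ρ κ : Type} {D : Data K H ρ κ}
  {A : Type*} [CommRing A] [Algebra K A] {X : H → A}

/-- helper instance: nested instance search does not find this by itself. -/
noncomputable local instance instCRaux' : CommRing (MvPolynomial H (Polynomial K)) :=
  AddMonoidAlgebra.commRing

/-- evaluation at `t = 0`. -/
noncomputable def ev0 : MvPolynomial H (Polynomial K) →ₐ[K] MvPolynomial H K :=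
  MvPolynomial.mapAlgHom (Polynomial.aeval (0 : K))

/-- inclusion of the constants. -/
noncomputable def inc : MvPolynomial H K →ₐ[K] MvPolynomial H (Polynomial K) :=
  MvPolynomial.mapAlgHom (Algebra.ofId K (Polynomial K))

theorem ev0_monomial (m : H →₀ ℕ) (p : Polynomial K) :
    ev0 (H := H) (monomial m p) = monomial m (p.eval 0) := by
  unfold ev0
  rw [MvPolynomial.mapAlgHom_apply, MvPolynomial.map_monomial]
  rfl

theorem inc_monomial (m : H →₀ ℕ) (a : K) :
    inc (H := H) (monomial m a) = monomial m (Polynomial.C a) := by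
  unfold inc
  rw [MvPolynomial.mapAlgHom_apply, MvPolynomial.map_monomial]
  rfl

theorem ev0_inc (p : MvPolynomial H K) : ev0 (inc p) = p := by
  induction p using MvPolynomial.induction_on' with
  | monomial m a => rw [inc_monomial, ev0_monomial, Polynomial.eval_C]
  | add p q hp hq => rw [map_add, map_add, hp, hq]

theorem inc_ev0_sub_mem (q : MvPolynomial H (Polynomial K)) :
    inc (ev0 q) - q ∈ Ideal.span {(C Polynomial.X : MvPolynomial H (Polynomial K))} := by
  induction q using MvPolynomial.induction_on' with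
  | monomial m p =>
    rw [ev0_monomial, inc_monomial, ← map_sub (monomial m)]
    have h1 : Polynomial.C (p.eval 0) - p = Polynomial.X * (-p.divX) := by
      have h0 := Polynomial.divX_mul_X_add p
      rw [← Polynomial.coeff_zero_eq_eval_zero]
      calc Polynomial.C (p.coeff 0) - p
          = Polynomial.C (p.coeff 0) - (p.divX * Polynomial.X + Polynomial.C (p.coeff 0)) := by
            rw [h0]
        _ = _ := by ring
    rw [h1, ← C_mul_monomial]
    exact Ideal.mul_mem_right _ _ (Ideal.subset_span rfl)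
  | add p q hp hq =>
    rw [map_add, map_add]
    have := Ideal.add_mem _ hp hq
    convert this using 1
    ring

/-- the ideal `(t)` of the deformed algebra. -/
noncomputable def zeroIdeal (D : Data K H ρ κ) :
    Ideal (MvPolynomial H (Polynomial K) ⧸ D.IT) :=
  Ideal.span {algebraMap (Polynomial K) (MvPolynomial H (Polynomial K) ⧸ D.IT) Polynomial.X}

/-- the ideal of initial relations. -/
noncomputable def I0 (D : Data K H ρ κ) : Ideal (MvPolynomial H K) :=
  Ideal.map (ev0 (K := K) (H := H)) D.IT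

/-- first step of the map to the special fibre. -/
noncomputable def toI0 (D : Data K H ρ κ) :
    (MvPolynomial H (Polynomial K) ⧸ D.IT) →ₐ[K] (MvPolynomial H K ⧸ D.I0) :=
  Ideal.Quotient.liftₐ D.IT ((Ideal.Quotient.mkₐ K D.I0).comp ev0) (fun a ha => by
    rw [AlgHom.comp_apply, Ideal.Quotient.mkₐ_eq_mk, Ideal.Quotient.eq_zero_iff_mem]
    exact Ideal.mem_map_of_mem _ ha)

theorem toI0_mk (D : Data K H ρ κ) (q : MvPolynomial H (Polynomial K)) :
    D.toI0 (Ideal.Quotient.mk D.IT q) = Ideal.Quotient.mk D.I0 (ev0 q) := by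
  unfold toI0
  rw [Ideal.Quotient.liftₐ_apply, Ideal.Quotient.lift_mk]
  rfl

theorem zeroIdeal_le_ker (D : Data K H ρ κ) : D.zeroIdeal ≤ RingHom.ker D.toI0.toRingHom := by
  unfold zeroIdeal
  rw [Ideal.span_le]
  rintro _ ⟨rfl⟩
  rw [SetLike.mem_coe, RingHom.mem_ker]
  have h6 : algebraMap (Polynomial K) (MvPolynomial H (Polynomial K) ⧸ D.IT) Polynomial.X =
      Ideal.Quotient.mk D.IT (C Polynomial.X) := rfl
  rw [h6]
  show D.toI0 _ = 0
  rw [toI0_mk, ← monomial_zero', ev0_monomial, Polynomial.eval_X, monomial_zero, map_zero]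

/-- the map from the fibre at `t = 0` to the quotient by the initial relations. -/
noncomputable def fibre0To (D : Data K H ρ κ) :
    ((MvPolynomial H (Polynomial K) ⧸ D.IT) ⧸ D.zeroIdeal) →ₐ[K] (MvPolynomial H K ⧸ D.I0) :=
  Ideal.Quotient.liftₐ D.zeroIdeal D.toI0 (fun _ ha => D.zeroIdeal_le_ker ha)

/-- the composite `K[x] → K[t][x] → R → R/(t)`. -/
noncomputable def incBar (D : Data K H ρ κ) :
    MvPolynomial H K →ₐ[K] ((MvPolynomial H (Polynomial K) ⧸ D.IT) ⧸ D.zeroIdeal) :=
  (Ideal.Quotient.mkₐ K D.zeroIdeal).comp ((Ideal.Quotient.mkₐ K D.IT).comp inc)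

theorem incBar_apply (D : Data K H ρ κ) (p : MvPolynomial H K) :
    D.incBar p = Ideal.Quotient.mk D.zeroIdeal (Ideal.Quotient.mk D.IT (inc p)) := rfl

theorem mk_mk_eq_of_sub_mem (D : Data K H ρ κ) (q q' : MvPolynomial H (Polynomial K))
    (h : q - q' ∈ Ideal.span {(C Polynomial.X : MvPolynomial H (Polynomial K))}) :
    Ideal.Quotient.mk D.zeroIdeal (Ideal.Quotient.mk D.IT q) =
      Ideal.Quotient.mk D.zeroIdeal (Ideal.Quotient.mk D.IT q') := by
  rw [Ideal.Quotient.eq, ← map_sub]
  rw [Ideal.mem_span_singleton'] at h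
  obtain ⟨a, ha⟩ := h
  rw [← ha, map_mul]
  exact Ideal.mul_mem_left _ _ (Ideal.subset_span rfl)

theorem incBar_ev0 (D : Data K H ρ κ) (q : MvPolynomial H (Polynomial K)) :
    D.incBar (ev0 q) = Ideal.Quotient.mk D.zeroIdeal (Ideal.Quotient.mk D.IT q) := by
  rw [incBar_apply]
  exact D.mk_mk_eq_of_sub_mem _ _ (inc_ev0_sub_mem q)

theorem I0_le_ker_incBar (D : Data K H ρ κ) : D.I0 ≤ RingHom.ker D.incBar.toRingHom := by
  unfold I0
  rw [Ideal.map_le_iff_le_comap]
  intro b hb
  rw [Ideal.mem_comap, RingHom.mem_ker]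
  show D.incBar (ev0 b) = 0
  rw [incBar_ev0, Ideal.Quotient.eq_zero_iff_mem.mpr hb, map_zero]

/-- the map from the quotient by the initial relations to the fibre at `t = 0`. -/
noncomputable def fibre0From (D : Data K H ρ κ) :
    (MvPolynomial H K ⧸ D.I0) →ₐ[K] ((MvPolynomial H (Polynomial K) ⧸ D.IT) ⧸ D.zeroIdeal) :=
  Ideal.Quotient.liftₐ D.I0 D.incBar (fun _ ha => D.I0_le_ker_incBar ha)

theorem fibre0To_mk (D : Data K H ρ κ) (x : MvPolynomial H (Polynomial K) ⧸ D.IT) :
    D.fibre0To (Ideal.Quotient.mk D.zeroIdeal x) = D.toI0 x := rfl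

theorem fibre0From_mk (D : Data K H ρ κ) (p : MvPolynomial H K) :
    D.fibre0From (Ideal.Quotient.mk D.I0 p) = D.incBar p := rfl

/-- the fibre at `t = 0` of the deformed algebra is the quotient by the initial relations. -/
noncomputable def fibre0Equiv (D : Data K H ρ κ) :
    ((MvPolynomial H (Polynomial K) ⧸ D.IT) ⧸ D.zeroIdeal) ≃ₐ[K] (MvPolynomial H K ⧸ D.I0) :=
  AlgEquiv.ofAlgHom D.fibre0To D.fibre0From
    (by
      apply AlgHom.ext
      intro y
      obtain ⟨p, rfl⟩ := Ideal.Quotient.mk_surjective y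
      rw [AlgHom.comp_apply, AlgHom.id_apply, fibre0From_mk, incBar_apply, fibre0To_mk, toI0_mk,
        ev0_inc])
    (by
      apply AlgHom.ext
      intro y
      obtain ⟨x, rfl⟩ := Ideal.Quotient.mk_surjective y
      obtain ⟨q, rfl⟩ := Ideal.Quotient.mk_surjective x
      rw [AlgHom.comp_apply, AlgHom.id_apply, fibre0To_mk, toI0_mk, fibre0From_mk, incBar_ev0])

theorem ev0_relT (D : Data K H ρ κ) (r : ρ) :
    ev0 (D.relT r) = monomial (D.lead r) 1 - ∑ k ∈ D.S r, monomial (D.mono k)
      (if wt D.ω (D.lead r) - wt D.ω (D.mono k) = 0 then D.a r k else 0) := by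
  unfold relT tailT
  rw [map_sub, map_sum, ev0_monomial, Polynomial.eval_one]
  congr 1
  refine Finset.sum_congr rfl fun k _ => ?_
  rw [ev0_monomial, Polynomial.eval_monomial, zero_pow_eq]
  split_ifs <;> simp

theorem I0_eq (D : Data K H ρ κ) :
    D.I0 = Ideal.span (Set.range fun r => ev0 (D.relT r)) := by
  unfold I0 IT
  rw [Ideal.map_span, ← Set.range_comp]
  rfl

theorem Good.exists_family (hG : D.Good X) :
    ∃ (R : Type u) (_ : CommRing R) (_ : Algebra K R) (_ : Algebra (Polynomial K) R)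
      (_ : IsScalarTower K (Polynomial K) R),
      Module.Free (Polynomial K) R ∧
      Nonempty ((R ⧸ Ideal.span {algebraMap (Polynomial K) R Polynomial.X}) ≃ₐ[K]
        (MvPolynomial H K ⧸ D.I0)) ∧
      ∀ c : K, c ≠ 0 →
        Nonempty ((R ⧸ Ideal.span {algebraMap (Polynomial K) R (Polynomial.X - Polynomial.C c)})
          ≃ₐ[K] A) :=
  ⟨MvPolynomial H (Polynomial K) ⧸ D.IT, inferInstance, inferInstance, inferInstance,
    inferInstance, hG.free, ⟨D.fibre0Equiv⟩, fun c hc => ⟨hG.fibreEquiv c hc⟩⟩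

end Data

end Groth.Agent.Lib.Helper95.Degen
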