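import Mathlib
import Groth.Agent.Lib.Helper95.SMTStraighten

/-!
# Straightening with degree and weight tracking
-/

open MvPolynomial W4bk4grassmannian

namespace Groth.Agent.Lib.Helper95.SMT

variable {d n : ℕ} (K : Type*) [CommRing K]

/-- total entry sum of a list of indices. -/
def sigL (l : List (Idx d n)) : ℕ := (l.map sig).sum

theorem sigL_cons (a : Idx d n) (l : List (Idx d n)) : sigL (a :: l) = sig a + sigL l := by
  simp [sigL]

theorem sigL_perm {l l' : List (Idx d n)} (h : l.Perm l') : sigL l = sigL l' :=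
  (h.map _).sum_eq

theorem exists_antitone_of_comparable' (l : List (Idx d n))
    (h : ∀ θ ∈ l, ∀ φ ∈ l, θ ≤ φ ∨ φ ≤ θ) :
    ∃ (m : ℕ) (c : Fin m → Idx d n), m = l.length ∧ Antitone c ∧ chainMon K c = mon K l ∧
      ∑ k, sig (c k) = sigL l ∧ ∀ k, c k ∈ l := by
  set le : Idx d n → Idx d n → Bool := fun θ φ => decide (sig φ ≤ sig θ) with hle
  set l' := l.mergeSort le with hl'
  have hperm : l'.Perm l := List.mergeSort_perm l le
  have hpw : l'.Pairwise (fun a b => le a b) := by
    apply List.pairwise_mergeSort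
    · intro a b c hab hbc
      simp only [hle, decide_eq_true_eq] at hab hbc ⊢
      exact le_trans hbc hab
    · intro a b
      simp only [hle, Bool.or_eq_true, decide_eq_true_eq]
      exact le_total _ _
  refine ⟨l'.length, fun k => l'[k.1], hperm.length_eq, ?_, ?_, ?_,
    fun k => hperm.mem_iff.mp (List.getElem_mem _)⟩
  · intro k k' hkk'
    rcases eq_or_lt_of_le hkk' with rfl | hlt
    · exact le_refl _
    · have h1 := (List.pairwise_iff_getElem.mp hpw) k.1 k'.1 k.2 k'.2 hlt
      simp only [hle, decide_eq_true_eq] at h1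
      have hk : l'[k.1] ∈ l := hperm.mem_iff.mp (List.getElem_mem _)
      have hk' : l'[k'.1] ∈ l := hperm.mem_iff.mp (List.getElem_mem _)
      rcases h _ hk _ hk' with h2 | h2
      · exact le_of_eq (eq_of_le_of_sig_le h2 h1).symm
      · exact h2
  · unfold chainMon
    rw [Fin.prod_univ_fun_getElem l' (fun θ => (X θ : PlRing K d n))]
    exact mon_perm K hperm
  · rw [Fin.sum_univ_fun_getElem l' (fun θ => sig θ)]
    exact sigL_perm hperm

/-- classes of standard monomials of given degree and entry sum. -/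
def stdSetT (I : Ideal (PlRing K d n)) (m s : ℕ) : Set (PlRing K d n ⧸ I) :=
  {x | ∃ c : Fin m → Idx d n, Antitone c ∧ ∑ k, sig (c k) = s ∧
    x = Ideal.Quotient.mk I (chainMon K c)}

theorem mk_mon_mem_tracked (I : Ideal (PlRing K d n))
    (hI : ∀ (i j : Idx d n) (r : Fin d), IsPivot i j r → shuffleRel K i j r ∈ I)
    (l : List (Idx d n)) :
    Ideal.Quotient.mk I (mon K l) ∈ Submodule.span K (stdSetT K I l.length (sigL l)) := by
  classical
  induction' hk : (l.length * (d * n) ^ 2 - Phi l) using Nat.strong_induction_on with k ih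
    generalizing l
  by_cases hcomp : ∀ θ ∈ l, ∀ φ ∈ l, θ ≤ φ ∨ φ ≤ θ
  · obtain ⟨m, c, hm, hc, hcm, hcs, -⟩ := exists_antitone_of_comparable' K l hcomp
    subst hm
    rw [← hcm]
    exact Submodule.subset_span ⟨c, hc, hcs, rfl⟩
  · push Not at hcomp
    obtain ⟨θ, hθ, φ, hφ, h1, h2⟩ := hcomp
    obtain ⟨i, j, hi, hj, hij, hji, hsig⟩ : ∃ i j : Idx d n, i ∈ l ∧ j ∈ l ∧ ¬ i ≤ j ∧ ¬ j ≤ i ∧
        sig j ≤ sig i := by
      rcases le_total (sig φ) (sig θ) with h | h
      · exact ⟨θ, φ, hθ, hφ, h1, h2, h⟩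
      · exact ⟨φ, θ, hφ, hθ, h2, h1, h⟩
    have hne : j ≠ i := fun h => hij (le_of_eq h.symm)
    have hp1 : l.Perm (i :: l.erase i) := List.perm_cons_erase hi
    have hj' : j ∈ l.erase i := (List.mem_erase_of_ne hne).mpr hj
    have hp2 : (l.erase i).Perm (j :: (l.erase i).erase j) := List.perm_cons_erase hj'
    set l'' := (l.erase i).erase j with hl''
    have hp : l.Perm (i :: j :: l'') := hp1.trans (List.Perm.cons i hp2)
    obtain ⟨r, hr⟩ := exists_pivot i j hji
    rw [mon_perm K hp, mon_cons, mon_cons, ← mul_assoc]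
    refine rewrite_step i j r hr I (hI i j r hr) _ _ ?_
    intro i' j' hs1 hs2
    have hmon : X i' * X j' * mon K l'' = mon K (i' :: j' :: l'') := by
      rw [mon_cons, mon_cons, mul_assoc]
    rw [hmon]
    have hlen : (i' :: j' :: l'').length = l.length := by
      rw [hp.length_eq]; simp
    have hsigL : sigL (i' :: j' :: l'') = sigL l := by
      rw [sigL_perm hp, sigL_cons, sigL_cons, sigL_cons, sigL_cons]
      omega
    have hPhi : Phi l < Phi (i' :: j' :: l'') := by
      rw [Phi_perm hp, Phi_cons, Phi_cons, Phi_cons, Phi_cons]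
      have : sig i ^ 2 + sig j ^ 2 < sig i' ^ 2 + sig j' ^ 2 := by nlinarith
      omega
    have hbound := Phi_le (i' :: j' :: l'')
    have := ih ((i' :: j' :: l'').length * (d * n) ^ 2 - Phi (i' :: j' :: l'')) (by
      rw [← hk, hlen] at *
      omega) _ rfl
    rw [hlen, hsigL] at this
    exact this

end Groth.Agent.Lib.Helper95.SMT
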