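import Mathlib
import Groth.Agent.Lib.Helper95.SMTTrack
import Groth.Agent.Lib.Helper95.SMTPrime

/-!
# Quadratic straightening relations: explicit shape
-/

open MvPolynomial W4bk4grassmannian

namespace Groth.Agent.Lib.Helper95.SMT

variable {d n : ℕ}

open Classical in
/-- standard pairs `(α, β)`, `β ≤ α`, with given total entry sum. -/
noncomputable def stdPairs (d n s : ℕ) : Finset (Idx d n × Idx d n) :=
  Finset.univ.filter (fun p => p.2 ≤ p.1 ∧ sig p.1 + sig p.2 = s)

theorem mem_stdPairs {s : ℕ} {p : Idx d n × Idx d n} :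
    p ∈ stdPairs d n s ↔ p.2 ≤ p.1 ∧ sig p.1 + sig p.2 = s := by
  classical
  simp [stdPairs]

section Ring

variable (K : Type*) [CommRing K]

theorem quad_repr (I : Ideal (PlRing K d n))
    (hI : ∀ (i j : Idx d n) (r : Fin d), IsPivot i j r → shuffleRel K i j r ∈ I)
    (τ φ : Idx d n) :
    ∃ a : Idx d n × Idx d n → K,
      X τ * X φ - ∑ p ∈ stdPairs d n (sig τ + sig φ), a p • (X p.1 * X p.2) ∈ I := by
  classical
  have h0 := mk_mon_mem_tracked K I hI [τ, φ]
  have hmon : mon K [τ, φ] = X τ * X φ := by simp [mon]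
  have hs : sigL [τ, φ] = sig τ + sig φ := by simp [sigL]
  rw [hmon, hs] at h0
  simp only [List.length_cons, List.length_nil] at h0
  set s := sig τ + sig φ with hsdef
  have hsub : stdSetT K I (0 + 1 + 1) s ⊆
      Set.range (fun p : ↥(stdPairs d n s) => Ideal.Quotient.mk I (X p.1.1 * X p.1.2)) := by
    rintro x ⟨c, hc, hcs, rfl⟩
    refine ⟨⟨(c 0, c 1), mem_stdPairs.mpr ⟨hc (by simp), ?_⟩⟩, ?_⟩
    · rw [← hcs, Fin.sum_univ_two]
    · simp only [chainMon]
      rw [Fin.prod_univ_two]
  have h1 := Submodule.span_mono hsub h0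
  rw [Submodule.mem_span_range_iff_exists_fun] at h1
  obtain ⟨c, hc⟩ := h1
  refine ⟨fun p => if h : p ∈ stdPairs d n s then c ⟨p, h⟩ else 0, ?_⟩
  rw [← Ideal.Quotient.eq, ← hc, map_sum, ← Finset.sum_coe_sort (stdPairs d n s)]
  refine Finset.sum_congr rfl fun p _ => ?_
  simp only [dif_pos p.2, Subtype.coe_eta]
  rw [← Ideal.Quotient.mkₐ_eq_mk K, map_smul]

end Ring

/-- a pair as a chain of length two. -/
def pairChain (p : Idx d n × Idx d n) : Σ m : ℕ, (Fin m → Idx d n) := ⟨2, ![p.1, p.2]⟩

theorem antitone_pairChain {p : Idx d n × Idx d n} (h : p.2 ≤ p.1) : Antitone (pairChain p).2 := by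
  intro a b hab
  simp only [pairChain]
  fin_cases a <;> fin_cases b
  · exact le_rfl
  · exact h
  · simp at hab
  · exact le_rfl

theorem chainMon_pairChain (K : Type*) [CommRing K] (p : Idx d n × Idx d n) :
    chainMon K (pairChain p).2 = X p.1 * X p.2 := by
  show (∏ k : Fin 2, (X (![p.1, p.2] k) : PlRing K d n)) = _
  rw [Fin.prod_univ_two]
  rfl

theorem pairChain_injective : Function.Injective (pairChain (d := d) (n := n)) := by
  intro p q h
  simp only [pairChain, Sigma.mk.injEq, heq_eq_eq, true_and] at h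
  have h0 := congrFun h 0
  have h1 := congrFun h 1
  simp only [Matrix.cons_val_zero, Matrix.cons_val_one] at h0 h1
  exact Prod.ext h0 h1

section Field

variable (K : Type*) [Field K] [Infinite K]

/-- In a quadratic relation modulo the Grassmannian ideal, the larger member of each standard pair
that occurs dominates both factors of the left side. -/
theorem le_fst_of_quad_rel (hd : 0 < d) (τ φ : Idx d n) {ι : Type*} (s : Finset ι) (g : ι → K)
    (pr : ι → Idx d n × Idx d n) (hstd : ∀ x ∈ s, (pr x).2 ≤ (pr x).1) (hinj : Set.InjOn pr s)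
    (hrel : X τ * X φ - ∑ x ∈ s, g x • (X (pr x).1 * X (pr x).2) ∈ vanishing K d n)
    (x₀ : ι) (hx₀ : x₀ ∈ s) (hg : g x₀ ≠ 0) : τ ≤ (pr x₀).1 ∧ φ ≤ (pr x₀).1 := by
  by_contra hcon
  apply hg
  set α₀ := (pr x₀).1 with hα₀
  have hprod : (X τ * X φ : PlRing K d n) ∈ schubertVanishing K d n α₀ := by
    rw [not_and_or] at hcon
    rcases hcon with h | h
    · exact Ideal.mul_mem_right _ _ (X_mem_schubertVanishing K α₀ τ h)
    · exact Ideal.mul_mem_left _ _ (X_mem_schubertVanishing K α₀ φ h)
  have hrel' := vanishing_le_schubertVanishing α₀ hrel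
  have hsum : ∑ x ∈ s, g x • chainMon K (pairChain (pr x)).2 ∈ schubertVanishing K d n α₀ := by
    simp only [chainMon_pairChain]
    have := (schubertVanishing K d n α₀).sub_mem hprod hrel'
    rwa [sub_sub_cancel] at this
  refine coeff_eq_zero_of_mem_schubertVanishing K hd α₀ s g (fun x => pairChain (pr x))
    (fun x hx => antitone_pairChain (hstd x hx))
    (fun x hx y hy hxy => hinj hx hy (pairChain_injective hxy)) hsum x₀ hx₀ ?_
  intro k
  simp only [pairChain]
  fin_cases k
  · exact le_rfl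
  · exact hstd x₀ hx₀

end Field

end Groth.Agent.Lib.Helper95.SMT
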