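import Mathlib
import Groth.Agent.Lib.Helper95.SMTQuad
import Groth.Agent.Lib.Helper95.DegenZero

open MvPolynomial W4bk4grassmannian

namespace Groth.Agent.Lib.Helper95.SMT

universe u

variable (K : Type u) [Field K] {d n : ℕ}

theorem prod_map_X_toMultiset {σ : Type*} (m : σ →₀ ℕ) :
    (m.toMultiset.map (fun θ => (X θ : MvPolynomial σ K))).prod = monomial m 1 := by
  classical
  refine m.induction ?_ ?_
  · simp
  · intro a k f _ _ ih
    rw [Finsupp.toMultiset_add, Multiset.map_add, Multiset.prod_add, ih, Finsupp.toMultiset_single,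
      Multiset.map_nsmul, Multiset.prod_nsmul, Multiset.map_singleton, Multiset.prod_singleton,
      monomial_single_add]

/-- a monomial with chain support is a standard monomial. -/
theorem exists_chain_of_finsupp (m : Idx d n →₀ ℕ)
    (hm : ∀ a ∈ m.support, ∀ b ∈ m.support, a ≤ b ∨ b ≤ a) :
    ∃ c : Σ k : ℕ, (Fin k → Idx d n), Antitone c.2 ∧ (∀ i, c.2 i ∈ m.support) ∧
      chainMon K c.2 = monomial m 1 := by
  set l := m.toMultiset.toList with hl
  have hmem : ∀ θ, θ ∈ l ↔ θ ∈ m.support := by
    intro θ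
    rw [hl, Multiset.mem_toList, Finsupp.mem_toMultiset]
  obtain ⟨k, c, -, hc, hcm, -, hcl⟩ := exists_antitone_of_comparable' K l
    (fun θ hθ φ hφ => hm θ ((hmem θ).mp hθ) φ ((hmem φ).mp hφ))
  refine ⟨⟨k, c⟩, hc, fun i => (hmem _).mp (hcl i), ?_⟩
  rw [hcm]
  unfold mon
  rw [← Multiset.prod_coe, ← Multiset.map_coe, hl, Multiset.coe_toList]
  exact prod_map_X_toMultiset K m

section Gen

variable (w : Idx d n)

/-- the generators of the coordinate ring of the cone over `X(w)`. -/
noncomputable def XB (θ : Below w) : PlRing K d n ⧸ schubertVanishing K d n w :=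
  Ideal.Quotient.mk _ (X θ.1)

theorem aeval_XB (p : MvPolynomial (Below w) K) :
    aeval (XB K w) p = Ideal.Quotient.mk (schubertVanishing K d n w) (rename Subtype.val p) := by
  have h : aeval (XB K w) =
      (Ideal.Quotient.mkₐ K (schubertVanishing K d n w)).comp (rename Subtype.val) := by
    apply MvPolynomial.algHom_ext
    intro θ
    rw [aeval_X, AlgHom.comp_apply, rename_X]
    rfl
  rw [h]
  rfl

theorem pm_XB (m : Below w →₀ ℕ) :
    Degen.Data.pm (K := K) (XB K w) m =
      Ideal.Quotient.mk (schubertVanishing K d n w) (monomial (m.mapDomain Subtype.val) 1) := by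
  unfold Degen.Data.pm
  rw [aeval_XB, rename_monomial]

theorem aeval_XB_surjective :
    Function.Surjective (aeval (XB K w) : MvPolynomial (Below w) K →ₐ[K] _) := by
  classical
  intro a
  obtain ⟨p, rfl⟩ := Ideal.Quotient.mk_surjective a
  let σ : PlRing K d n →ₐ[K] MvPolynomial (Below w) K :=
    aeval (fun θ => if h : θ ≤ w then X ⟨θ, h⟩ else 0)
  have h : (aeval (XB K w)).comp σ = Ideal.Quotient.mkₐ K (schubertVanishing K d n w) := by
    apply MvPolynomial.algHom_ext
    intro θ
    rw [AlgHom.comp_apply, aeval_X]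
    by_cases hθ : θ ≤ w
    · rw [dif_pos hθ, aeval_X]
      rfl
    · rw [dif_neg hθ, map_zero, Ideal.Quotient.mkₐ_eq_mk]
      exact (Ideal.Quotient.eq_zero_iff_mem.mpr (X_mem_schubertVanishing K w θ hθ)).symm
  exact ⟨σ p, by rw [← AlgHom.comp_apply, h]; rfl⟩

end Gen

end Groth.Agent.Lib.Helper95.SMT
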