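import Mathlib
import Groth.Agent.Lib.Helper95.BTCell
import Groth.Agent.Lib.Helper95.SMTGen

open MvPolynomial W4bk4grassmannian Groth.Agent.Lib.Helper95.SMT Groth.Agent.Lib.Helper95.SMTDim

namespace Groth.Agent.Lib.Helper95.BT

universe u

variable (K : Type u) [Field K] {d n : ℕ}

/-- the exponent vector of a chain monomial. -/
noncomputable def chainFs {k : ℕ} (c : Fin k → Idx d n) : Idx d n →₀ ℕ :=
  ∑ i : Fin k, Finsupp.single (c i) 1

theorem chainMon_eq_monomial {k : ℕ} (c : Fin k → Idx d n) :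
    chainMon K c = monomial (chainFs c) 1 := by
  unfold chainMon chainFs
  rw [MvPolynomial.monomial_sum_one]
  rfl

theorem mem_support_chainFs {k : ℕ} (c : Fin k → Idx d n) (θ : Idx d n) :
    θ ∈ (chainFs c).support ↔ ∃ i, c i = θ := by
  classical
  unfold chainFs
  rw [Finsupp.mem_support_iff, Finsupp.finsetSum_apply]
  simp only [Finsupp.single_apply]
  constructor
  · intro h
    by_contra hcon
    push Not at hcon
    apply h
    refine Finset.sum_eq_zero fun i _ => ?_
    rw [if_neg (hcon i)]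
  · rintro ⟨i, hi⟩ h
    have := Finset.sum_eq_zero_iff.mp h i (Finset.mem_univ i)
    rw [if_pos hi] at this
    exact one_ne_zero this

theorem sigma_eq_of_chainMon_eq [Infinite K] (hd : 0 < d) (w : Idx d n)
    (x y : Σ k : ℕ, (Fin k → Idx d n))
    (hx : Antitone x.2) (hy : Antitone y.2) (hxw : ∀ i, x.2 i ≤ w) (hyw : ∀ i, y.2 i ≤ w)
    (h : chainMon K x.2 = chainMon K y.2) : x = y := by
  apply sigma_eq_of_chainExpo_eq hd x y hx hy
  rw [← (Psi_chainMon_monic K w x.2 hxw).2, ← (Psi_chainMon_monic K w y.2 hyw).2, h]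

theorem evalMinors_chainMon (A : Matrix (Fin n) (Fin d) K) {k : ℕ} (c : Fin k → Idx d n) :
    evalMinors K d n A (chainMon K c) = ∏ i, (A.submatrix (c i).1 id).det := by
  unfold chainMon evalMinors
  rw [map_prod]
  exact Finset.prod_congr rfl fun i _ => aeval_X _ _

variable (r : ℕ)

/-- chains below `w` avoiding the least index. -/
abbrev CellChain (w : Idx d (d + r)) : Type :=
  {x : Σ k : ℕ, (Fin k → Idx d (d + r)) //
    Antitone x.2 ∧ ∀ i, x.2 i ≤ w ∧ x.2 i ≠ iota (Nat.le_add_right d r)}

theorem cell_linearIndependent [Infinite K] (hd : 0 < d) (w : Idx d (d + r))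
    (I : Ideal (CellRing K d r))
    (hI : I = Ideal.span {f | ∃ θ : Idx d (d + r), ¬ θ ≤ w ∧ f = cellMinor K d r θ}) :
    LinearIndependent K (fun x : CellChain r w =>
      Ideal.Quotient.mk I (cellHom K d r (chainMon K x.1.2))) := by
  classical
  rw [linearIndependent_iff']
  intro s g hsum x₀ hx₀
  set ι₀ := iota (Nat.le_add_right d r) with hι₀
  have hP : ∑ x ∈ s, g x • cellHom K d r (chainMon K x.1.2) ∈ I := by
    rw [← Ideal.Quotient.eq_zero_iff_mem, map_sum, ← hsum]
    refine Finset.sum_congr rfl fun x _ => ?_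
    rw [← Ideal.Quotient.mkₐ_eq_mk K, map_smul]
  set D := s.sup (fun x => x.1.1) + 1 with hD
  have hlen : ∀ x ∈ s, x.1.1 + (D - x.1.1) = D ∧ 1 ≤ D - x.1.1 := by
    intro x hx
    have : x.1.1 ≤ s.sup (fun x => x.1.1) := Finset.le_sup (f := fun x : CellChain r w => x.1.1) hx
    omega
  -- the homogenised chains
  have hex : ∀ x : CellChain r w, ∃ c : Σ k : ℕ, (Fin k → Idx d (d + r)), Antitone c.2 ∧
      (∀ i, c.2 i ∈ (chainFs x.1.2 + Finsupp.single ι₀ (D - x.1.1)).support) ∧
      chainMon K c.2 = monomial (chainFs x.1.2 + Finsupp.single ι₀ (D - x.1.1)) 1 := by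
    intro x
    apply exists_chain_of_finsupp K
    have hsupp : ∀ a ∈ (chainFs x.1.2 + Finsupp.single ι₀ (D - x.1.1)).support,
        a = ι₀ ∨ ∃ i, x.1.2 i = a := by
      intro a ha
      have := Finsupp.support_add ha
      rcases Finset.mem_union.mp this with h | h
      · exact Or.inr ((mem_support_chainFs _ a).mp h)
      · have := Finsupp.support_single_subset h
        exact Or.inl (Finset.mem_singleton.mp this)
    intro a ha b hb
    rcases hsupp a ha with rfl | ⟨i, rfl⟩
    · exact Or.inl (iota_le _ b)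
    · rcases hsupp b hb with rfl | ⟨j, rfl⟩
      · exact Or.inr (iota_le _ _)
      · rcases le_total i j with h | h
        · exact Or.inr (x.2.1 h)
        · exact Or.inl (x.2.1 h)
  choose c hc1 hc2 hc3 using hex
  have hcw : ∀ x i, (c x).2 i ≤ w := by
    intro x i
    have := Finsupp.support_add (hc2 x i)
    rcases Finset.mem_union.mp this with h | h
    · obtain ⟨j, hj⟩ := (mem_support_chainFs _ _).mp h
      rw [← hj]; exact (x.2.2 j).1
    · have := Finsupp.support_single_subset h
      rw [Finset.mem_singleton.mp this]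
      exact iota_le _ w
  have hchainFs_ι : ∀ x : CellChain r w, chainFs x.1.2 ι₀ = 0 := by
    intro x
    rw [← Finsupp.notMem_support_iff, mem_support_chainFs]
    rintro ⟨i, hi⟩
    exact (x.2.2 i).2 hi
  have hinj : Function.Injective c := by
    intro x y hxy
    have h1 : (monomial (chainFs x.1.2 + Finsupp.single ι₀ (D - x.1.1)) (1 : K)) =
        monomial (chainFs y.1.2 + Finsupp.single ι₀ (D - y.1.1)) 1 := by
      rw [← hc3 x, ← hc3 y, hxy]
    have h2 := MvPolynomial.monomial_left_injective (R := K) one_ne_zero h1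
    have h3 : chainFs x.1.2 = chainFs y.1.2 := by
      ext θ
      by_cases hθ : θ = ι₀
      · rw [hθ, hchainFs_ι, hchainFs_ι]
      · have := DFunLike.congr_fun h2 θ
        simpa [Finsupp.single_apply, Ne.symm hθ] using this
    apply Subtype.ext
    apply sigma_eq_of_chainMon_eq K hd w x.1 y.1 x.2.1 y.2.1 (fun i => (x.2.2 i).1)
      (fun i => (y.2.2 i).1)
    rw [chainMon_eq_monomial, chainMon_eq_monomial, h3]
  have hcmon : ∀ x : CellChain r w,
      chainMon K (c x).2 = chainMon K x.1.2 * X ι₀ ^ (D - x.1.1) := by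
    intro x
    rw [hc3, chainMon_eq_monomial, X_pow_eq_monomial, monomial_mul, one_mul]
  -- F lies in the Schubert ideal
  have hF : ∑ x ∈ s, g x • chainMon K (c x).2 ∈ schubertVanishing K d (d + r) w := by
    unfold schubertVanishing
    rw [Ideal.mem_iInf]
    intro A
    rw [Ideal.mem_iInf]
    intro hA
    rw [RingHom.mem_ker]
    show evalMinors K d (d + r) A _ = 0
    rw [map_sum]
    simp only [map_smul, hcmon, map_mul, map_pow]
    set δ := (A.submatrix ι₀.1 id).det with hδ
    have hXι : evalMinors K d (d + r) A (X ι₀) = δ := by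
      unfold evalMinors
      rw [aeval_X]
    rw [hXι]
    by_cases hδ0 : δ = 0
    · refine Finset.sum_eq_zero fun x hx => ?_
      rw [hδ0, zero_pow (by have := (hlen x hx).2; omega), mul_zero, smul_zero]
    · obtain ⟨x₁, hx₁⟩ := exists_cellMat K d r A hδ0
      have hker : I ≤ RingHom.ker (eval x₁ : CellRing K d r →+* K) := by
        rw [hI, Ideal.span_le]
        rintro _ ⟨θ, hθ, rfl⟩
        rw [SetLike.mem_coe, RingHom.mem_ker, eval_cellMinor, hx₁ θ, hA θ hθ, mul_zero]
      have h0 := hker hP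
      rw [RingHom.mem_ker, map_sum] at h0
      have hterm : ∀ x ∈ s, eval x₁ (g x • cellHom K d r (chainMon K x.1.2)) =
          g x * (δ⁻¹ ^ x.1.1 * evalMinors K d (d + r) A (chainMon K x.1.2)) := by
        intro x _
        rw [smul_eval, eval_cellHom, evalMinors_chainMon, evalMinors_chainMon]
        congr 1
        simp only [hx₁]
        rw [Finset.prod_mul_distrib, Finset.prod_const, Finset.card_univ, Fintype.card_fin]
      rw [Finset.sum_congr rfl hterm] at h0
      have hgoal : ∀ x ∈ s, g x • (evalMinors K d (d + r) A (chainMon K x.1.2) * δ ^ (D - x.1.1)) =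
          δ ^ D * (g x * (δ⁻¹ ^ x.1.1 * evalMinors K d (d + r) A (chainMon K x.1.2))) := by
        intro x hx
        have h1 : δ ^ D = δ ^ x.1.1 * δ ^ (D - x.1.1) := by
          rw [← pow_add, (hlen x hx).1]
        have h2 : δ ^ x.1.1 * δ⁻¹ ^ x.1.1 = 1 := by
          rw [← mul_pow, mul_inv_cancel₀ hδ0, one_pow]
        rw [smul_eq_mul, h1]
        calc g x * (evalMinors K d (d + r) A (chainMon K x.1.2) * δ ^ (D - x.1.1))
            = (δ ^ x.1.1 * δ⁻¹ ^ x.1.1) *
              (g x * (evalMinors K d (d + r) A (chainMon K x.1.2) * δ ^ (D - x.1.1))) := by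
              rw [h2, one_mul]
          _ = _ := by ring
      rw [Finset.sum_congr rfl hgoal, ← Finset.mul_sum, h0, mul_zero]
  exact coeff_eq_zero_of_mem_schubertVanishing K hd w s g c (fun x _ => hc1 x)
    (fun x _ y _ h => hinj h) hF x₀ hx₀ (hcw x₀)

theorem cell_span [Infinite K] (w : Idx d (d + r)) (I : Ideal (CellRing K d r))
    (hI : I = Ideal.span {f | ∃ θ : Idx d (d + r), ¬ θ ≤ w ∧ f = cellMinor K d r θ})
    (hsurj : Function.Surjective (cellHom K d r)) :
    Submodule.span K (Set.range fun x : CellChain r w =>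
      Ideal.Quotient.mk I (cellHom K d r (chainMon K x.1.2))) = ⊤ := by
  classical
  set ι₀ := iota (Nat.le_add_right d r) with hι₀
  rw [eq_top_iff]
  intro y _
  obtain ⟨P, rfl⟩ := Ideal.Quotient.mk_surjective y
  obtain ⟨f, rfl⟩ := hsurj P
  set φ : PlRing K d (d + r) →+* (CellRing K d r ⧸ I) :=
    (Ideal.Quotient.mk I).comp (cellHom K d r).toRingHom with hφ
  have hshuffle : ∀ (i j : Idx d (d + r)) (t : Fin d), IsPivot i j t →
      shuffleRel K i j t ∈ RingHom.ker φ := by
    intro i j t _
    rw [RingHom.mem_ker, hφ, RingHom.comp_apply]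
    show Ideal.Quotient.mk I (cellHom K d r _) = 0
    rw [cellHom_eq_zero_of_mem_vanishing K d r (shuffleRel_mem_vanishing i j t), map_zero]
  obtain ⟨c, hc⟩ := exists_std_repr K (RingHom.ker φ) hshuffle f
  rw [RingHom.mem_ker, map_sub, sub_eq_zero] at hc
  have hφf : Ideal.Quotient.mk I (cellHom K d r f) = φ f := rfl
  rw [hφf, hc, map_sum]
  refine Submodule.sum_mem _ fun x _ => ?_
  have hsm : φ (c x • chainMon K x.2.1) = c x • φ (chainMon K x.2.1) := by
    rw [MvPolynomial.smul_eq_C_mul, map_mul]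
    have : φ (C (c x)) = algebraMap K _ (c x) := by
      rw [hφ, RingHom.comp_apply]
      show Ideal.Quotient.mk I (cellHom K d r (C (c x))) = _
      rw [← MvPolynomial.algebraMap_eq, AlgHom.commutes]
      rfl
    rw [this, ← Algebra.smul_def]
  rw [hsm]
  refine Submodule.smul_mem _ _ ?_
  obtain ⟨k, ch, hch⟩ := x
  show φ (chainMon K ch) ∈ _
  by_cases hw : ∀ i, ch i ≤ w
  · -- drop the factors `X ι₀`
    have hsplit : chainFs ch = Finsupp.single ι₀ (chainFs ch ι₀) + (chainFs ch).erase ι₀ :=
      (Finsupp.single_add_erase ι₀ (chainFs ch)).symm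
    obtain ⟨c', hc'1, hc'2, hc'3⟩ := exists_chain_of_finsupp K ((chainFs ch).erase ι₀) (by
      intro a ha b hb
      rw [Finsupp.support_erase] at ha hb
      obtain ⟨i, rfl⟩ := (mem_support_chainFs ch a).mp (Finset.mem_of_mem_erase ha)
      obtain ⟨j, rfl⟩ := (mem_support_chainFs ch b).mp (Finset.mem_of_mem_erase hb)
      rcases le_total i j with h | h
      · exact Or.inr (hch h)
      · exact Or.inl (hch h))
    have hmem : ∀ i, c'.2 i ≤ w ∧ c'.2 i ≠ ι₀ := by
      intro i
      have h1 := hc'2 i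
      rw [Finsupp.support_erase] at h1
      obtain ⟨j, hj⟩ := (mem_support_chainFs ch _).mp (Finset.mem_of_mem_erase h1)
      exact ⟨hj ▸ hw j, Finset.ne_of_mem_erase h1⟩
    have heq : φ (chainMon K ch) = φ (chainMon K c'.2) := by
      rw [chainMon_eq_monomial, hsplit, ← one_mul (1 : K), ← monomial_mul, hc'3, map_mul]
      have : φ (monomial (Finsupp.single ι₀ (chainFs ch ι₀)) 1) = 1 := by
        rw [← X_pow_eq_monomial, map_pow, hφ, RingHom.comp_apply]
        show (Ideal.Quotient.mk I (cellHom K d r (X ι₀))) ^ _ = 1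
        rw [cellHom_X_iota, map_one, one_pow]
      rw [this, one_mul]
    rw [heq]
    exact Submodule.subset_span ⟨⟨c', hc'1, hmem⟩, rfl⟩
  · push Not at hw
    obtain ⟨i, hi⟩ := hw
    have h0 : φ (chainMon K ch) = 0 := by
      rw [hφ, RingHom.comp_apply, Ideal.Quotient.eq_zero_iff_mem]
      show cellHom K d r (chainMon K ch) ∈ I
      unfold chainMon
      rw [map_prod]
      refine Ideal.mem_of_dvd _ (Finset.dvd_prod_of_mem _ (Finset.mem_univ i)) ?_
      rw [hI]
      refine Ideal.subset_span ⟨ch i, hi, ?_⟩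
      unfold cellHom
      rw [aeval_X]
    rw [h0]
    exact Submodule.zero_mem _

end Groth.Agent.Lib.Helper95.BT
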