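import Mathlib
import Groth.Agent.Lib.Helper95.BTBasis

open MvPolynomial W4bk4grassmannian Groth.Agent.Lib.Helper95.SMT Groth.Agent.Lib.Helper95.SMTDim

namespace Groth.Agent.Lib.Helper95.BT

/-- the number of entries below `z`. -/
def cntLt {p : ℕ} (a : Fin p → ℕ) (z : ℕ) : ℕ := (Finset.univ.filter (fun j : Fin p => a j < z)).card

theorem cntLt_le {p : ℕ} (a : Fin p → ℕ) (z : ℕ) : cntLt a z ≤ p := by
  unfold cntLt
  calc _ ≤ (Finset.univ : Finset (Fin p)).card := Finset.card_filter_le _ _
    _ = p := by simp

/-- dominance of increasing sequences in terms of counting functions. -/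
theorem dominance_iff_cnt {p p' : ℕ} (a : Fin p → ℕ) (a' : Fin p' → ℕ) (ha : StrictMono a)
    (ha' : StrictMono a') :
    (p ≤ p' ∧ ∀ (j : Fin p) (j' : Fin p'), j.val = j'.val → a' j' ≤ a j) ↔
      ∀ z, cntLt a z ≤ cntLt a' z := by
  constructor
  · rintro ⟨hp, h⟩ z
    unfold cntLt
    apply Finset.card_le_card_of_injOn (fun j => ⟨j.val, lt_of_lt_of_le j.isLt hp⟩)
    · intro j hj
      have hj' := (Finset.mem_filter.mp (Finset.mem_coe.mp hj)).2
      refine Finset.mem_coe.mpr (Finset.mem_filter.mpr ⟨Finset.mem_univ _, ?_⟩)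
      exact lt_of_le_of_lt (h j ⟨j.val, lt_of_lt_of_le j.isLt hp⟩ rfl) hj'
    · intro j _ j' _ hjj'
      simp only [Fin.mk.injEq] at hjj'
      exact Fin.ext hjj'
  · intro h
    have hp : p ≤ p' := by
      rcases Nat.eq_zero_or_pos p with h0 | h0
      · omega
      · have h1 := h (a ⟨p - 1, by omega⟩ + 1)
        have h2 : cntLt a (a ⟨p - 1, by omega⟩ + 1) = p := by
          unfold cntLt
          rw [Finset.filter_true_of_mem]
          · simp
          · intro j _
            have : a j ≤ a ⟨p - 1, by omega⟩ := ha.monotone (by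
              rw [Fin.le_def]; have := j.isLt; simp only; omega)
            omega
        have h3 := cntLt_le a' (a ⟨p - 1, by omega⟩ + 1)
        omega
    refine ⟨hp, fun j j' hjj' => ?_⟩
    by_contra hcon
    push Not at hcon
    have h1 := h (a j + 1)
    have h2 : j.val + 1 ≤ cntLt a (a j + 1) := by
      unfold cntLt
      rw [← Fin.card_Iic j]
      apply Finset.card_le_card
      intro i hi
      rw [Finset.mem_Iic] at hi
      refine Finset.mem_filter.mpr ⟨Finset.mem_univ _, ?_⟩
      have := ha.monotone hi
      omega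
    have h3 : cntLt a' (a j + 1) ≤ j'.val := by
      unfold cntLt
      rw [← Fin.card_Iio j']
      apply Finset.card_le_card
      intro i hi
      have hi' := (Finset.mem_filter.mp hi).2
      rw [Finset.mem_Iio]
      by_contra hge
      have := ha'.monotone (not_lt.mp hge)
      omega
    omega

theorem idx_le_iff_cnt {d n : ℕ} (θ θ' : Idx d n) :
    θ ≤ θ' ↔ ∀ z, cntLt (fun k => (θ'.1 k).val) z ≤ cntLt (fun k => (θ.1 k).val) z := by
  rw [← dominance_iff_cnt (fun k => (θ'.1 k).val) (fun k => (θ.1 k).val)
    (fun _ _ h => θ'.2 h) (fun _ _ h => θ.2 h)]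
  constructor
  · intro h
    refine ⟨le_rfl, fun j j' hjj' => ?_⟩
    have : j = j' := Fin.ext hjj'
    subst this
    exact h j
  · rintro ⟨-, h⟩ k
    exact h k k rfl

theorem cntLt_sortIdx {d n : ℕ} (w : Fin d → Fin n) (h : (Finset.univ.image w).card = d) (z : ℕ) :
    cntLt (fun k => ((sortIdx d n w h).1 k).val) z = cntLt (fun i => (w i).val) z := by
  classical
  have hw : Function.Injective w := (Groth.Agent.Lib.Helper27.Plucker.card_image_eq_iff w).mp h
  have hs : Function.Injective (sortIdx d n w h).1 := (sortIdx d n w h).2.injective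
  unfold cntLt
  have h1 : (Finset.univ.filter (fun k : Fin d => ((sortIdx d n w h).1 k).val < z)).card =
      ((Finset.univ.image (sortIdx d n w h).1).filter (fun x : Fin n => x.val < z)).card := by
    rw [Finset.filter_image, Finset.card_image_of_injective _ hs]
  have h2 : (Finset.univ.filter (fun i : Fin d => (w i).val < z)).card =
      ((Finset.univ.image w).filter (fun x : Fin n => x.val < z)).card := by
    rw [Finset.filter_image, Finset.card_image_of_injective _ hw]
  rw [h1, h2, Groth.Agent.Lib.Helper27.Plucker.image_sortIdx]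

theorem cntLt_eq_card_image {p N : ℕ} (a : Fin p → Fin N) (ha : Function.Injective a) (z : ℕ) :
    cntLt (fun k => (a k).val) z =
      ((Finset.univ.image a).filter (fun x : Fin N => x.val < z)).card := by
  classical
  unfold cntLt
  rw [Finset.filter_image, Finset.card_image_of_injective _ ha]

theorem lt_iff_cntLt {p : ℕ} (a : Fin p → ℕ) (ha : StrictMono a) (j : Fin p) (z : ℕ) :
    a j < z ↔ j.val + 1 ≤ cntLt a z := by
  constructor
  · intro h
    unfold cntLt
    rw [← Fin.card_Iic j]
    apply Finset.card_le_card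
    intro i hi
    rw [Finset.mem_Iic] at hi
    refine Finset.mem_filter.mpr ⟨Finset.mem_univ _, ?_⟩
    have := ha.monotone hi
    omega
  · intro h
    by_contra hcon
    push Not at hcon
    have h3 : cntLt a z ≤ j.val := by
      unfold cntLt
      rw [← Fin.card_Iio j]
      apply Finset.card_le_card
      intro i hi
      have hi' := (Finset.mem_filter.mp hi).2
      rw [Finset.mem_Iio]
      by_contra hge
      have := ha.monotone (not_lt.mp hge)
      omega
    omega

theorem cntLt_of_forall_lt {p : ℕ} (a : Fin p → ℕ) (z : ℕ) (h : ∀ j, a j < z) : cntLt a z = p := by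
  unfold cntLt
  rw [Finset.filter_true_of_mem (fun j _ => h j)]
  simp

end Groth.Agent.Lib.Helper95.BT
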