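import Mathlib
import Groth.Agent.Lib.Helper95.BTCell

open MvPolynomial W4bk4grassmannian Groth.Agent.Lib.Helper95.SMT Groth.Agent.Lib.Helper95.SMTDim
open Groth.Agent.Lib.Helper10.Fitting

namespace Groth.Agent.Lib.Helper95.BT

universe u

/-- a minor of the generic matrix is, up to sign, a Plücker coordinate of the cell. -/
theorem det_submatrix_eq_cellMinor (K : Type u) [CommRing K] (d r : ℕ) {t : ℕ}
    (f : Fin t → Fin r) (g : Fin t → Fin d)
    (hf : Function.Injective f) (hg : Function.Injective g) (θ : Idx d (d + r))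
    (h1 : ∀ x : Fin d, (¬ ∃ b, g b = x) → ∃ k, θ.1 k = Fin.castAdd r x)
    (h2 : ∀ b : Fin t, ∃ k, θ.1 k = Fin.natAdd d (f b)) :
    ∃ ε : Kˣ, ((genMatrix K r d).submatrix f g).det = C (ε : K) * cellMinor K d r θ := by
  classical
  let w : Fin d → Fin (d + r) := fun i =>
    if h : ∃ b, g b = i then Fin.natAdd d (f (Classical.choose h)) else Fin.castAdd r i
  have hw1 : ∀ b, w (g b) = Fin.natAdd d (f b) := by
    intro b
    have h : ∃ b', g b' = g b := ⟨b, rfl⟩
    show (if h : ∃ b', g b' = g b then Fin.natAdd d (f (Classical.choose h))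
      else Fin.castAdd r (g b)) = _
    rw [dif_pos h]
    congr 2
    exact hg (Classical.choose_spec h)
  have hw2 : ∀ i, (¬ ∃ b, g b = i) → w i = Fin.castAdd r i := by
    intro i hi
    show (if h : ∃ b', g b' = i then Fin.natAdd d (f (Classical.choose h))
      else Fin.castAdd r i) = _
    rw [dif_neg hi]
  have hwinj : Function.Injective w := by
    intro i i' hii'
    by_cases hi : ∃ b, g b = i
    · obtain ⟨b, rfl⟩ := hi
      by_cases hi' : ∃ b', g b' = i'
      · obtain ⟨b', rfl⟩ := hi'
        rw [hw1, hw1] at hii'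
        have := Fin.natAdd_injective _ _ hii'
        rw [hf this]
      · rw [hw1, hw2 _ hi'] at hii'
        have := congrArg Fin.val hii'
        simp only [Fin.val_natAdd, Fin.val_castAdd] at this
        have := i'.isLt
        omega
    · by_cases hi' : ∃ b', g b' = i'
      · obtain ⟨b', rfl⟩ := hi'
        rw [hw1, hw2 _ hi] at hii'
        have := congrArg Fin.val hii'
        simp only [Fin.val_natAdd, Fin.val_castAdd] at this
        have := i.isLt
        omega
      · rw [hw2 _ hi, hw2 _ hi'] at hii'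
        exact Fin.castAdd_injective _ _ hii'
  set v : Matrix (Fin d) (Fin d) (CellRing K d r) := (cellMatrix K d r).submatrix w id with hv
  have hv1 : ∀ b j, v (g b) j = genMatrix K r d (f b) j := by
    intro b j
    have hnlt : ¬ (Fin.natAdd d (f b)).val < d := by
      simp only [Fin.val_natAdd]
      omega
    simp only [hv, Matrix.submatrix_apply, id_eq, hw1, cellMatrix, Matrix.of_apply,
      dif_neg hnlt, genMatrix]
    congr 2
    ext
    simp only [Fin.val_natAdd]
    omega
  have hv2 : ∀ i, (¬ ∃ b, g b = i) → v i = Pi.single i 1 := by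
    intro i hi
    funext j
    simp only [hv, Matrix.submatrix_apply, id_eq, hw2 i hi, cellMatrix, Matrix.of_apply,
      Fin.val_castAdd, dif_pos i.isLt, Pi.single_apply, Fin.ext_iff]
    by_cases h : i.val = j.val
    · rw [if_pos h, if_pos h.symm]
    · rw [if_neg h, if_neg (fun h' => h h'.symm)]
  have hpmi := det_eq_det_submatrix_of_unit_rows v (fun i => ¬ ∃ b, g b = i) hv2
  let ρ : Fin t ≃ {i // ¬ ¬ ∃ b, g b = i} :=
    Equiv.ofBijective (fun b => ⟨g b, not_not.mpr ⟨b, rfl⟩⟩) (by
      constructor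
      · intro a a' h
        exact hg (congrArg Subtype.val h)
      · rintro ⟨i, hi⟩
        obtain ⟨a, rfl⟩ := not_not.mp hi
        exact ⟨a, rfl⟩)
  have hdetρ : ((v.submatrix (Subtype.val : {i // ¬ ¬ ∃ b, g b = i} → Fin d)
      Subtype.val).submatrix ρ ρ).det =
      (v.submatrix (Subtype.val : {i // ¬ ¬ ∃ b, g b = i} → Fin d) Subtype.val).det :=
    Matrix.det_submatrix_equiv_self ρ _
  have heq : (genMatrix K r d).submatrix f g =
      ((v.submatrix (Subtype.val : {i // ¬ ¬ ∃ b, g b = i} → Fin d) Subtype.val).submatrix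
        ρ ρ) := by
    refine Matrix.ext fun a b => ?_
    show genMatrix K r d (f a) (g b) = v (g a) (g b)
    rw [hv1]
  rw [heq, hdetρ, ← hpmi]
  have hex : ∀ i, ∃ a, θ.1 a = w i := by
    intro i
    by_cases hi : ∃ b, g b = i
    · obtain ⟨b, rfl⟩ := hi
      rw [hw1]
      exact h2 b
    · rw [hw2 i hi]
      exact h1 i hi
  choose π hπ using hex
  have hπinj : Function.Injective π := by
    intro i i' h
    apply hwinj
    rw [← hπ i, ← hπ i', h]
  let πe : Equiv.Perm (Fin d) := Equiv.ofBijective π (Finite.injective_iff_bijective.mp hπinj)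
  have hπe : ∀ i, θ.1 (πe i) = w i := hπ
  have hvθ : v = ((cellMatrix K d r).submatrix θ.1 id).submatrix πe id := by
    ext i j
    simp only [hv, Matrix.submatrix_apply, id_eq]
    rw [hπe]
  rw [hvθ, Matrix.det_permute]
  refine ⟨Units.map (Int.castRingHom K).toMonoidHom (Equiv.Perm.sign πe), ?_⟩
  unfold cellMinor
  congr 1

/-- the signs are nonzero. -/
theorem det_submatrix_eq_cellMinor' (K : Type u) [Field K] (d r : ℕ) {t : ℕ}
    (f : Fin t → Fin r) (g : Fin t → Fin d)
    (hf : Function.Injective f) (hg : Function.Injective g) (θ : Idx d (d + r))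
    (h1 : ∀ x : Fin d, (¬ ∃ b, g b = x) → ∃ k, θ.1 k = Fin.castAdd r x)
    (h2 : ∀ b : Fin t, ∃ k, θ.1 k = Fin.natAdd d (f b)) :
    ∃ ε : K, ε ≠ 0 ∧ ((genMatrix K r d).submatrix f g).det = C ε * cellMinor K d r θ := by
  obtain ⟨ε, hε⟩ := det_submatrix_eq_cellMinor K d r f g hf hg θ h1 h2
  exact ⟨ε, ε.ne_zero, hε⟩

end Groth.Agent.Lib.Helper95.BT
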