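import Mathlib
import Groth.Agent.Lib.Helper95.BTCount
import Groth.Agent.Lib.Helper95.BTDet

open MvPolynomial W4bk4grassmannian Groth.Agent.Lib.Helper95.SMT Groth.Agent.Lib.Helper95.SMTDim

namespace Groth.Agent.Lib.Helper95.BT

universe u

variable {m n : ℕ}

theorem card_filter_add' {N M : ℕ} (P : Fin (N + M) → Prop) [DecidablePred P] :
    (Finset.univ.filter P).card =
      (Finset.univ.filter (fun x : Fin N => P (Fin.castAdd M x))).card +
        (Finset.univ.filter (fun y : Fin M => P (Fin.natAdd N y))).card := by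
  simp only [Finset.card_filter]
  exact Fin.sum_univ_add _

theorem card_filter_comp_eq {p N : ℕ} (a : Fin p → Fin N) (ha : Function.Injective a)
    (R : Fin N → Prop) [DecidablePred R] :
    (Finset.univ.filter (fun k => R (a k))).card =
      (Finset.univ.filter (fun i : Fin N => (∃ k, a k = i) ∧ R i)).card := by
  classical
  have h : Finset.univ.filter (fun i : Fin N => (∃ k, a k = i) ∧ R i) =
      (Finset.univ.filter (fun k => R (a k))).image a := by
    ext i
    simp only [Finset.mem_filter, Finset.mem_univ, true_and, Finset.mem_image]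
    constructor
    · rintro ⟨⟨k, rfl⟩, hR⟩
      exact ⟨k, hR, rfl⟩
    · rintro ⟨k, hR, rfl⟩
      exact ⟨⟨k, rfl⟩, hR⟩
  rw [h, Finset.card_image_of_injective _ ha]

/-- membership predicate for the row set of `[I; Z]` attached to a minor (rows reversed). -/
def RowMem (M : MinorIdx m n) (i : Fin (n + m)) : Prop :=
  Fin.addCases (motive := fun _ => Prop) (fun x : Fin n => ¬ ∃ b, M.2.2.1 b = x)
    (fun y : Fin m => ∃ b, M.2.1.1 b = Fin.rev y) i

theorem rowMem_castAdd (M : MinorIdx m n) (x : Fin n) :
    RowMem M (Fin.castAdd m x) ↔ ¬ ∃ b, M.2.2.1 b = x := by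
  unfold RowMem
  rw [Fin.addCases_left]

theorem rowMem_natAdd (M : MinorIdx m n) (y : Fin m) :
    RowMem M (Fin.natAdd n y) ↔ ∃ b, M.2.1.1 b = Fin.rev y := by
  unfold RowMem
  rw [Fin.addCases_right]

open Classical in
/-- the row set. -/
noncomputable def rowSet (M : MinorIdx m n) : Finset (Fin (n + m)) :=
  Finset.univ.filter (RowMem M)

theorem mem_rowSet (M : MinorIdx m n) (i : Fin (n + m)) : i ∈ rowSet M ↔ RowMem M i := by
  unfold rowSet
  simp

theorem card_compl_range {p N : ℕ} (a : Fin p → Fin N) (ha : Function.Injective a) :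
    (Finset.univ.filter (fun x : Fin N => ¬ ∃ b, a b = x)).card + p = N := by
  classical
  have h := Finset.card_filter_add_card_filter_not (s := (Finset.univ : Finset (Fin N)))
    (fun x : Fin N => ∃ b, a b = x)
  have h2 : (Finset.univ.filter (fun x : Fin N => ∃ b, a b = x)).card = p := by
    have : Finset.univ.filter (fun x : Fin N => ∃ b, a b = x) = Finset.univ.image a := by
      ext x
      simp
    rw [this, Finset.card_image_of_injective _ ha, Finset.card_univ, Fintype.card_fin]
  rw [h2, Finset.card_univ, Fintype.card_fin] at h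
  omega

theorem card_rev_range {p N : ℕ} (a : Fin p → Fin N) (ha : Function.Injective a) :
    (Finset.univ.filter (fun y : Fin N => ∃ b, a b = Fin.rev y)).card = p := by
  classical
  have : Finset.univ.filter (fun y : Fin N => ∃ b, a b = Fin.rev y) =
      Finset.univ.image (fun b => Fin.rev (a b)) := by
    ext y
    simp only [Finset.mem_filter, Finset.mem_univ, true_and, Finset.mem_image]
    constructor
    · rintro ⟨b, hb⟩
      exact ⟨b, by rw [hb, Fin.rev_rev]⟩
    · rintro ⟨b, rfl⟩
      exact ⟨b, by rw [Fin.rev_rev]⟩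
  rw [this, Finset.card_image_of_injective _ (fun b b' h => ha (Fin.rev_injective h)),
    Finset.card_univ, Fintype.card_fin]

theorem card_rowSet (M : MinorIdx m n) : (rowSet M).card = n := by
  classical
  unfold rowSet
  rw [card_filter_add']
  simp only [rowMem_castAdd, rowMem_natAdd]
  have h1 := card_compl_range M.2.2.1 M.2.2.2.injective
  have h2 := card_rev_range M.2.1.1 M.2.1.2.injective
  rw [h2]
  exact h1


/-- the index of the cell attached to a minor. -/
noncomputable def thetaOf (M : MinorIdx m n) : Idx n (n + m) :=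
  ⟨(rowSet M).orderEmbOfFin (card_rowSet M), ((rowSet M).orderEmbOfFin (card_rowSet M)).strictMono⟩

theorem exists_thetaOf_eq_iff (M : MinorIdx m n) (i : Fin (n + m)) :
    (∃ k, (thetaOf M).1 k = i) ↔ RowMem M i := by
  rw [← mem_rowSet]
  have hr := Finset.range_orderEmbOfFin (rowSet M) (card_rowSet M)
  constructor
  · rintro ⟨k, rfl⟩
    exact Finset.orderEmbOfFin_mem _ _ k
  · intro h
    have : i ∈ Set.range ((rowSet M).orderEmbOfFin (card_rowSet M)) := by
      rw [hr]
      exact h
    exact this

theorem card_filter_and_add_not {α : Type*} [Fintype α] (P Q : α → Prop) [DecidablePred P]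
    [DecidablePred Q] :
    (Finset.univ.filter (fun x => ¬ P x ∧ Q x)).card +
      (Finset.univ.filter (fun x => P x ∧ Q x)).card = (Finset.univ.filter Q).card := by
  simp only [Finset.card_filter]
  rw [← Finset.sum_add_distrib]
  refine Finset.sum_congr rfl fun x _ => ?_
  by_cases hP : P x <;> by_cases hQ : Q x <;> simp [hP, hQ]

theorem card_filter_thetaOf (M : MinorIdx m n) (R : ℕ → Prop) [DecidablePred R] :
    (Finset.univ.filter (fun k => R ((thetaOf M).1 k).val)).card =
      (Finset.univ.filter (fun x : Fin n => (¬ ∃ b, M.2.2.1 b = x) ∧ R x.val)).card +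
      (Finset.univ.filter (fun y : Fin m =>
        (∃ b, M.2.1.1 b = Fin.rev y) ∧ R (n + y.val))).card := by
  classical
  rw [card_filter_comp_eq (thetaOf M).1 (thetaOf M).2.injective (fun i => R i.val),
    card_filter_add']
  simp only [exists_thetaOf_eq_iff, rowMem_castAdd, rowMem_natAdd, Fin.val_castAdd,
    Fin.val_natAdd]

theorem cntLt_thetaOf_add (M : MinorIdx m n) (z : ℕ) (hz : z ≤ n) :
    cntLt (fun k => ((thetaOf M).1 k).val) z + cntLt (fun b => (M.2.2.1 b).val) z = z := by
  classical
  unfold cntLt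
  rw [card_filter_thetaOf M (fun v => v < z)]
  have h0 : (Finset.univ.filter (fun y : Fin m =>
      (∃ b, M.2.1.1 b = Fin.rev y) ∧ n + y.val < z)).card = 0 := by
    rw [Finset.card_eq_zero, Finset.filter_eq_empty_iff]
    intro y _ h
    omega
  rw [h0, add_zero, card_filter_comp_eq M.2.2.1 M.2.2.2.injective (fun i => i.val < z),
    card_filter_and_add_not, Fin.card_filter_val_lt]
  exact min_eq_right hz

theorem cntLt_thetaOf_add' (M : MinorIdx m n) (y : ℕ) :
    cntLt (fun k => ((thetaOf M).1 k).val) (n + y) +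
      cntLt (fun b => (M.2.1.1 b).val) (m - y) = n := by
  classical
  have h := Finset.card_filter_add_card_filter_not (s := (Finset.univ : Finset (Fin n)))
    (fun k => ((thetaOf M).1 k).val < n + y)
  rw [Finset.card_univ, Fintype.card_fin] at h
  have h2 : (Finset.univ.filter (fun k => ¬ ((thetaOf M).1 k).val < n + y)).card =
      cntLt (fun b => (M.2.1.1 b).val) (m - y) := by
    rw [card_filter_thetaOf M (fun v => ¬ v < n + y)]
    have h0 : (Finset.univ.filter (fun x : Fin n =>
        (¬ ∃ b, M.2.2.1 b = x) ∧ ¬ x.val < n + y)).card = 0 := by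
      rw [Finset.card_eq_zero, Finset.filter_eq_empty_iff]
      intro x _ h
      have := x.isLt
      omega
    rw [h0, zero_add]
    unfold cntLt
    rw [card_filter_comp_eq M.2.1.1 M.2.1.2.injective (fun i => i.val < m - y)]
    apply Finset.card_equiv Fin.revPerm
    intro y'
    simp only [Finset.mem_filter, Finset.mem_univ, true_and, Fin.revPerm_apply, Fin.val_rev]
    have := y'.isLt
    constructor
    · rintro ⟨h1, h2⟩
      exact ⟨h1, by omega⟩
    · rintro ⟨h1, h2⟩
      exact ⟨h1, by omega⟩
  rw [← h2]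
  exact h

theorem minorGE_iff_cnt (M M' : MinorIdx m n) :
    MinorGE M M' ↔ (∀ z, cntLt (fun b => (M.2.1.1 b).val) z ≤ cntLt (fun b => (M'.2.1.1 b).val) z) ∧
      (∀ z, cntLt (fun b => (M.2.2.1 b).val) z ≤ cntLt (fun b => (M'.2.2.1 b).val) z) := by
  rw [← dominance_iff_cnt (fun b => (M.2.1.1 b).val) (fun b => (M'.2.1.1 b).val)
    (fun _ _ h => M.2.1.2 h) (fun _ _ h => M'.2.1.2 h),
    ← dominance_iff_cnt (fun b => (M.2.2.1 b).val) (fun b => (M'.2.2.1 b).val)
    (fun _ _ h => M.2.2.2 h) (fun _ _ h => M'.2.2.2 h)]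
  unfold MinorGE
  constructor
  · rintro ⟨h1, h2⟩
    exact ⟨⟨by omega, fun j j' h => (h2 j j' h).1⟩, ⟨by omega, fun j j' h => (h2 j j' h).2⟩⟩
  · rintro ⟨⟨h1, h2⟩, ⟨_, h3⟩⟩
    exact ⟨by omega, fun j j' h => ⟨h2 j j' h, h3 j j' h⟩⟩

theorem thetaOf_le_iff (M M' : MinorIdx m n) : thetaOf M ≤ thetaOf M' ↔ MinorGE M M' := by
  rw [idx_le_iff_cnt, minorGE_iff_cnt]
  have hB : ∀ (N : MinorIdx m n) z, n ≤ z → cntLt (fun b => (N.2.2.1 b).val) z = N.1 + 1 := by
    intro N z hz
    apply cntLt_of_forall_lt
    intro j
    have := (N.2.2.1 j).isLt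
    omega
  have hA : ∀ (N : MinorIdx m n) z, m ≤ z → cntLt (fun b => (N.2.1.1 b).val) z = N.1 + 1 := by
    intro N z hz
    apply cntLt_of_forall_lt
    intro j
    have := (N.2.1.1 j).isLt
    omega
  constructor
  · intro h
    constructor
    · intro z
      rcases le_or_gt z m with hz | hz
      · have h1 := cntLt_thetaOf_add' M (m - z)
        have h2 := cntLt_thetaOf_add' M' (m - z)
        have h3 := h (n + (m - z))
        have h4 : m - (m - z) = z := by omega
        rw [h4] at h1 h2
        omega
      · have h1 := cntLt_thetaOf_add' M 0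
        have h2 := cntLt_thetaOf_add' M' 0
        have h3 := h (n + 0)
        rw [Nat.sub_zero] at h1 h2
        rw [hA M z hz.le, hA M' z hz.le]
        rw [hA M m le_rfl] at h1
        rw [hA M' m le_rfl] at h2
        omega
    · intro z
      rcases le_or_gt z n with hz | hz
      · have h1 := cntLt_thetaOf_add M z hz
        have h2 := cntLt_thetaOf_add M' z hz
        have h3 := h z
        omega
      · have h1 := cntLt_thetaOf_add M n le_rfl
        have h2 := cntLt_thetaOf_add M' n le_rfl
        have h3 := h n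
        rw [hB M z hz.le, hB M' z hz.le]
        rw [hB M n le_rfl] at h1
        rw [hB M' n le_rfl] at h2
        omega
  · rintro ⟨hAA, hBB⟩ z
    rcases le_or_gt z n with hz | hz
    · have h1 := cntLt_thetaOf_add M z hz
      have h2 := cntLt_thetaOf_add M' z hz
      have h3 := hBB z
      omega
    · have h1 := cntLt_thetaOf_add' M (z - n)
      have h2 := cntLt_thetaOf_add' M' (z - n)
      have h3 := hAA (m - (z - n))
      have h4 : n + (z - n) = z := by omega
      rw [h4] at h1 h2
      omega

theorem thetaOf_injective : Function.Injective (thetaOf : MinorIdx m n → Idx n (n + m)) := by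
  intro M M' h
  have h1 : MinorGE M M' := (thetaOf_le_iff M M').mp (le_of_eq h)
  have h2 : MinorGE M' M := (thetaOf_le_iff M' M).mp (le_of_eq h.symm)
  obtain ⟨s, A, B⟩ := M
  obtain ⟨s', A', B'⟩ := M'
  have hs : s = s' := le_antisymm h1.1 h2.1
  subst hs
  have hA : A = A' := by
    apply Subtype.ext
    funext j
    exact le_antisymm (h2.2 j j rfl).1 (h1.2 j j rfl).1
  have hB : B = B' := by
    apply Subtype.ext
    funext j
    exact le_antisymm (h2.2 j j rfl).2 (h1.2 j j rfl).2
  rw [hA, hB]

end Groth.Agent.Lib.Helper95.BT
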