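import Mathlib
import Groth.Agent.Lib.Helper95.BTRows

open MvPolynomial W4bk4grassmannian Groth.Agent.Lib.Helper95.SMT Groth.Agent.Lib.Helper95.SMTDim

namespace Groth.Agent.Lib.Helper95.BT

universe u

variable {m n : ℕ}

theorem val_add_le {d N : ℕ} (θ : Idx d N) (k j : Fin d) (h : k ≤ j) :
    (θ.1 k).val + (j.val - k.val) ≤ (θ.1 j).val := by
  have key : ∀ e : ℕ, ∀ k j : Fin d, j.val = k.val + e → (θ.1 k).val + e ≤ (θ.1 j).val := by
    intro e
    induction e with
    | zero =>
      intro k j hj
      have : k = j := Fin.ext (by omega)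
      rw [this]
      omega
    | succ e ih =>
      intro k j hj
      have hlt : k.val + e < d := by have := j.isLt; omega
      have h1 := ih k ⟨k.val + e, hlt⟩ rfl
      have h2 : θ.1 ⟨k.val + e, hlt⟩ < θ.1 j := θ.2 (by rw [Fin.lt_def]; simp only; omega)
      have h3 := Fin.lt_def.mp h2
      omega
  have := key (j.val - k.val) k j (by have := Fin.le_def.mp h; omega)
  exact this

theorem val_le_add {d r : ℕ} (θ : Idx d (d + r)) (k : Fin d) : (θ.1 k).val ≤ r + k.val := by
  have hd : 0 < d := Fin.pos k
  have h1 := val_add_le θ k ⟨d - 1, by omega⟩ (by rw [Fin.le_def]; have := k.isLt; simp only; omega)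
  have h2 := (θ.1 ⟨d - 1, by omega⟩).isLt
  have := k.isLt
  simp only at h1
  omega

/-- the top index with `t - 1` entries in the lower block. -/
def wTop (m n t : ℕ) (ht : 1 ≤ t) (htm : t ≤ m + 1) : Idx n (n + m) :=
  ⟨fun k => if h : k.val + t ≤ n then ⟨t - 1 + k.val, by omega⟩ else ⟨m + k.val, by
      have := k.isLt; omega⟩, by
    intro k k' hkk'
    have hlt := Fin.lt_def.mp hkk'
    by_cases h : k.val + t ≤ n
    · by_cases h' : k'.val + t ≤ n
      · dsimp only
        rw [dif_pos h, dif_pos h', Fin.lt_def]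
        simp only
        omega
      · dsimp only
        rw [dif_pos h, dif_neg h', Fin.lt_def]
        simp only
        omega
    · by_cases h' : k'.val + t ≤ n
      · omega
      · dsimp only
        rw [dif_neg h, dif_neg h', Fin.lt_def]
        simp only
        omega⟩

theorem le_wTop_iff (t : ℕ) (ht : 1 ≤ t) (htm : t ≤ m + 1) (htn : t ≤ n) (θ : Idx n (n + m)) :
    θ ≤ wTop m n t ht htm ↔ (θ.1 ⟨n - t, by omega⟩).val < n := by
  constructor
  · intro h
    have h1 := Fin.le_def.mp (h ⟨n - t, by omega⟩)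
    unfold wTop at h1
    simp only at h1
    rw [dif_pos (by omega)] at h1
    simp only at h1
    omega
  · intro h k
    rw [Fin.le_def]
    unfold wTop
    simp only
    by_cases hk : k.val + t ≤ n
    · rw [dif_pos hk]
      simp only
      have h1 := val_add_le θ k ⟨n - t, by omega⟩ (by rw [Fin.le_def]; simp only; omega)
      simp only at h1
      omega
    · rw [dif_neg hk]
      simp only
      exact val_le_add θ k

theorem le_wTop_of (t : ℕ) (ht : 1 ≤ t) (htm : t ≤ m + 1) (htn : n < t) (θ : Idx n (n + m)) :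
    θ ≤ wTop m n t ht htm := by
  intro k
  rw [Fin.le_def]
  unfold wTop
  simp only
  rw [dif_neg (by omega)]
  simp only
  exact val_le_add θ k

theorem cntLt_B (M : MinorIdx m n) : cntLt (fun b => (M.2.2.1 b).val) n = M.1 + 1 := by
  apply cntLt_of_forall_lt
  intro j
  exact (M.2.2.1 j).isLt

theorem thetaOf_ne_iota (M : MinorIdx m n) : thetaOf M ≠ iota (Nat.le_add_right n m) := by
  intro h
  have h1 := cntLt_thetaOf_add M n le_rfl
  rw [cntLt_B, h] at h1
  have h2 : cntLt (fun k => ((iota (Nat.le_add_right n m)).1 k).val) n = n := by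
    apply cntLt_of_forall_lt
    intro j
    exact j.isLt
  omega

theorem thetaOf_le_wTop_iff (t : ℕ) (ht : 1 ≤ t) (htm : t ≤ m + 1) (htn : t ≤ n + 1)
    (M : MinorIdx m n) : thetaOf M ≤ wTop m n t ht htm ↔ M.1 + 1 ≤ t - 1 := by
  have h1 := cntLt_thetaOf_add M n le_rfl
  rw [cntLt_B] at h1
  rcases Nat.lt_or_ge n t with h | h
  · constructor
    · intro _
      omega
    · intro _
      exact le_wTop_of t ht htm h _
  · rw [le_wTop_iff t ht htm h,
      lt_iff_cntLt (fun k => ((thetaOf M).1 k).val) (fun _ _ hh => (thetaOf M).2 hh)]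
    simp only
    omega

theorem exists_orderEmbOfFin_eq_iff {α : Type*} [LinearOrder α] (S : Finset α) {k : ℕ}
    (h : S.card = k) (x : α) : (∃ b, S.orderEmbOfFin h b = x) ↔ x ∈ S := by
  rw [← Finset.mem_coe, ← Finset.range_orderEmbOfFin S h]
  rfl

theorem exists_thetaOf_eq (θ : Idx n (n + m)) (hθ : θ ≠ iota (Nat.le_add_right n m)) :
    ∃ M : MinorIdx m n, thetaOf M = θ := by
  classical
  set Bset := Finset.univ.filter (fun x : Fin n => ¬ ∃ k, θ.1 k = Fin.castAdd m x) with hBset
  set Aset := Finset.univ.filter (fun a : Fin m => ∃ k, θ.1 k = Fin.natAdd n (Fin.rev a))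
    with hAset
  have hcard : Bset.card = Aset.card := by
    have h1 := card_filter_comp_eq θ.1 θ.2.injective (fun _ => True)
    simp only [Finset.filter_true, Finset.card_univ, Fintype.card_fin, and_true] at h1
    rw [card_filter_add'] at h1
    have h2 := Finset.card_filter_add_card_filter_not (s := (Finset.univ : Finset (Fin n)))
      (fun x => ∃ k, θ.1 k = Fin.castAdd m x)
    rw [Finset.card_univ, Fintype.card_fin] at h2
    have h2' : (Finset.univ.filter (fun x : Fin n => ∃ k, θ.1 k = Fin.castAdd m x)).card +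
        Bset.card = n := h2
    have h3 : Aset.card = (Finset.univ.filter (fun y : Fin m => ∃ k, θ.1 k = Fin.natAdd n y)).card := by
      apply Finset.card_equiv Fin.revPerm
      intro a
      simp only [hAset, Finset.mem_filter, Finset.mem_univ, true_and, Fin.revPerm_apply]
    omega
  have hpos : 0 < Aset.card := by
    by_contra h0
    apply hθ
    have hempty : Aset = ∅ := Finset.card_eq_zero.mp (by omega)
    have hlt : ∀ k, (θ.1 k).val < n := by
      intro k
      by_contra hge
      have hk := (θ.1 k).isLt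
      have hmem : Fin.rev (⟨(θ.1 k).val - n, by omega⟩ : Fin m) ∈ Aset := by
        rw [hAset, Finset.mem_filter]
        refine ⟨Finset.mem_univ _, k, ?_⟩
        rw [Fin.rev_rev]
        ext
        simp only [Fin.val_natAdd]
        omega
      rw [hempty] at hmem
      exact Finset.notMem_empty _ hmem
    apply Subtype.ext
    funext k
    ext
    have h1 := val_le_val θ k
    have hn : 0 < n := Fin.pos k
    have h2 := val_add_le θ k ⟨n - 1, by omega⟩ (by rw [Fin.le_def]; have := k.isLt; simp only; omega)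
    have h3 := hlt ⟨n - 1, by omega⟩
    have := k.isLt
    simp only at h2
    show (θ.1 k).val = k.val
    omega
  obtain ⟨s, hs⟩ : ∃ s, Aset.card = s + 1 := ⟨Aset.card - 1, by omega⟩
  have hsB : Bset.card = s + 1 := by omega
  refine ⟨⟨s, ⟨Aset.orderEmbOfFin hs, (Aset.orderEmbOfFin hs).strictMono⟩,
    ⟨Bset.orderEmbOfFin hsB, (Bset.orderEmbOfFin hsB).strictMono⟩⟩, ?_⟩
  apply Groth.Agent.Lib.Helper27.Plucker.idx_ext_image
  ext i
  simp only [Finset.mem_image, Finset.mem_univ, true_and]
  rw [exists_thetaOf_eq_iff]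
  induction i using Fin.addCases with
  | left x =>
    rw [rowMem_castAdd]
    show (¬ ∃ b, Bset.orderEmbOfFin hsB b = x) ↔ _
    rw [exists_orderEmbOfFin_eq_iff, hBset, Finset.mem_filter]
    simp only [Finset.mem_univ, true_and, not_not]
  | right y =>
    rw [rowMem_natAdd]
    show (∃ b, Aset.orderEmbOfFin hs b = Fin.rev y) ↔ _
    rw [exists_orderEmbOfFin_eq_iff, hAset, Finset.mem_filter]
    simp only [Finset.mem_univ, true_and, Fin.rev_rev]

end Groth.Agent.Lib.Helper95.BT
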