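import Mathlib
import Groth.Agent.Lib.Helper95.BTTop

open MvPolynomial W4bk4grassmannian Groth.Agent.Lib.Helper95.SMT Groth.Agent.Lib.Helper95.SMTDim

namespace Groth.Agent.Lib.Helper95.BT

universe u

variable (K : Type u) [Field K] (m n : ℕ)

/-- the row reversal. -/
noncomputable def rho : MvPolynomial (Fin m × Fin n) K ≃ₐ[K] MvPolynomial (Fin m × Fin n) K :=
  MvPolynomial.renameEquiv K ((Fin.revPerm).prodCongr (Equiv.refl (Fin n)))

theorem rho_X (i : Fin m) (j : Fin n) : rho K m n (X (i, j)) = X (Fin.rev i, j) := by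
  unfold rho
  rw [renameEquiv_apply, rename_X]
  rfl

theorem rho_C (a : K) : rho K m n (C a) = C a := by
  unfold rho
  rw [renameEquiv_apply, rename_C]

theorem rho_det {t : ℕ} (f : Fin t → Fin m) (g : Fin t → Fin n) :
    rho K m n ((genMatrix K m n).submatrix f g).det =
      ((genMatrix K m n).submatrix (fun b => Fin.rev (f b)) g).det := by
  rw [AlgEquiv.map_det]
  congr 1
  ext a b
  simp only [AlgEquiv.mapMatrix_apply, Matrix.map_apply, Matrix.submatrix_apply, genMatrix,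
    Matrix.of_apply, rho_X]

theorem minorOf_eq (M : MinorIdx m n) :
    ∃ ε : K, ε ≠ 0 ∧ minorOf K M = C ε * rho K m n (cellMinor K n m (thetaOf M)) := by
  obtain ⟨ε, hε, h⟩ := det_submatrix_eq_cellMinor' K n m (fun b => Fin.rev (M.2.1.1 b)) M.2.2.1
    (fun b b' hb => M.2.1.2.injective (Fin.rev_injective hb)) M.2.2.2.injective (thetaOf M)
    (fun x hx => (exists_thetaOf_eq_iff M _).mpr ((rowMem_castAdd M x).mpr hx))
    (fun b => (exists_thetaOf_eq_iff M _).mpr ((rowMem_natAdd M _).mpr ⟨b, by rw [Fin.rev_rev]⟩))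
  refine ⟨ε, hε, ?_⟩
  have h2 := congrArg (rho K m n) h
  rw [rho_det, map_mul, rho_C] at h2
  rw [← h2]
  unfold minorOf
  congr 2
  funext b
  rw [Fin.rev_rev]

theorem map_rho_minorIdeal (t : ℕ) :
    (CAlgX.minorIdeal (genMatrix K m n) t).map
      ((rho K m n : MvPolynomial (Fin m × Fin n) K ≃ₐ[K] MvPolynomial (Fin m × Fin n) K) :
        MvPolynomial (Fin m × Fin n) K →+* MvPolynomial (Fin m × Fin n) K) =
      CAlgX.minorIdeal (genMatrix K m n) t := by
  unfold CAlgX.minorIdeal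
  rw [Ideal.map_span]
  congr 1
  ext P
  constructor
  · rintro ⟨_, ⟨⟨f, g⟩, rfl⟩, rfl⟩
    refine ⟨(fun b => Fin.rev (f b), g), ?_⟩
    exact (rho_det K m n f g).symm
  · rintro ⟨⟨f, g⟩, rfl⟩
    refine ⟨_, ⟨(fun b => Fin.rev (f b), g), rfl⟩, ?_⟩
    have := rho_det K m n (fun b => Fin.rev (f b)) g
    simp only [Fin.rev_rev] at this
    exact this

/-- the induced automorphism of the determinantal ring. -/
noncomputable def rhoBar (t : ℕ) :
    (MvPolynomial (Fin m × Fin n) K ⧸ CAlgX.minorIdeal (genMatrix K m n) t) ≃ₐ[K]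
      (MvPolynomial (Fin m × Fin n) K ⧸ CAlgX.minorIdeal (genMatrix K m n) t) :=
  Ideal.quotientEquivAlg _ _ (rho K m n) (map_rho_minorIdeal K m n t).symm

theorem rhoBar_mk (t : ℕ) (P : MvPolynomial (Fin m × Fin n) K) :
    rhoBar K m n t (Ideal.Quotient.mk _ P) = Ideal.Quotient.mk _ (rho K m n P) := rfl

end Groth.Agent.Lib.Helper95.BT
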