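import Mathlib
import Groth.Agent.Lib.Helper95.BTRho
import Groth.Agent.Lib.Helper95.BTBasis

open MvPolynomial W4bk4grassmannian Groth.Agent.Lib.Helper95.SMT Groth.Agent.Lib.Helper95.SMTDim

namespace Groth.Agent.Lib.Helper95.BT

universe u

theorem rho_rho (K : Type u) [Field K] (m n : ℕ) (P : MvPolynomial (Fin m × Fin n) K) :
    rho K m n (rho K m n P) = P := by
  have h : (rho K m n).toAlgHom.comp (rho K m n).toAlgHom = AlgHom.id K _ := by
    apply MvPolynomial.algHom_ext
    rintro ⟨i, j⟩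
    simp only [AlgHom.comp_apply, AlgEquiv.coe_toAlgHom, rho_X, Fin.rev_rev, AlgHom.id_apply]
  exact DFunLike.congr_fun h P

theorem minorIdeal_eq_span (K : Type u) [Field K] (m n t : ℕ) (hn : 0 < n) (ht : 1 ≤ t)
    (htm : t ≤ m + 1) (htn : t ≤ n + 1) :
    CAlgX.minorIdeal (genMatrix K m n) t =
      Ideal.span {f | ∃ θ : Idx n (n + m), ¬ θ ≤ wTop m n t ht htm ∧ f = cellMinor K n m θ} := by
  rcases Nat.lt_or_ge n t with h | h
  · have h1 : {f | ∃ θ : Idx n (n + m), ¬ θ ≤ wTop m n t ht htm ∧ f = cellMinor K n m θ} = ∅ := by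
      ext f
      simp only [Set.mem_ofPred_eq, Set.mem_empty_iff_false, iff_false]
      rintro ⟨θ, hθ, -⟩
      exact hθ (le_wTop_of t ht htm h θ)
    rw [h1, Ideal.span_empty]
    unfold CAlgX.minorIdeal
    rw [Ideal.span_eq_bot]
    rintro _ ⟨⟨f, g⟩, rfl⟩
    have hg : ¬ Function.Injective g := by
      intro hg
      have := Fintype.card_le_of_injective g hg
      simp only [Fintype.card_fin] at this
      omega
    rw [Function.Injective] at hg
    simp only [not_forall] at hg
    obtain ⟨a, a', hga, hne⟩ := hg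
    apply Matrix.det_zero_of_column_eq hne
    intro b
    simp only [Matrix.submatrix_apply, hga]
  · have hset : {f | ∃ θ : Idx n (n + m), ¬ θ ≤ wTop m n t ht htm ∧ f = cellMinor K n m θ} =
        {f : CellRing K n m | ∃ θ : Idx n (n + m),
          n ≤ (θ.1 ⟨n - t, Nat.sub_lt hn ht⟩).val ∧ f = cellMinor K n m θ} := by
      ext f
      simp only [Set.mem_ofPred_eq]
      constructor
      · rintro ⟨θ, hθ, rfl⟩
        rw [le_wTop_iff t ht htm h, not_lt] at hθ
        exact ⟨θ, hθ, rfl⟩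
      · rintro ⟨θ, hθ, rfl⟩
        refine ⟨θ, ?_, rfl⟩
        rw [le_wTop_iff t ht htm h, not_lt]
        exact hθ
    rw [hset]
    apply le_antisymm
    · unfold CAlgX.minorIdeal
      rw [Ideal.span_le]
      rintro _ ⟨⟨f, g⟩, rfl⟩
      exact Groth.Agent.S11275.minor_mem_span K n m t hn ht h f g
    · rw [Ideal.span_le]
      rintro _ ⟨θ, hθ, rfl⟩
      exact Groth.Agent.S11275.cellMinor_mem K n m t hn ht h θ hθ

theorem cellHom_surjective (K : Type u) [Field K] (m n : ℕ) :
    Function.Surjective (cellHom K n m) := by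
  rw [← AlgHom.range_eq_top, eq_top_iff, ← MvPolynomial.adjoin_range_X]
  apply Algebra.adjoin_le
  rintro _ ⟨⟨i, j⟩, rfl⟩
  let M : MinorIdx m n := ⟨0, ⟨fun _ => Fin.rev i, fun a b hab => by
    have := a.isLt; have := b.isLt; rw [Fin.lt_def] at hab; omega⟩,
    ⟨fun _ => j, fun a b hab => by
    have := a.isLt; have := b.isLt; rw [Fin.lt_def] at hab; omega⟩⟩
  obtain ⟨ε, -, hε⟩ := minorOf_eq K m n M
  have h1 : minorOf K M = X (Fin.rev i, j) := by
    show Matrix.det ((genMatrix K m n).submatrix (fun _ : Fin 1 => Fin.rev i)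
      (fun _ : Fin 1 => j)) = _
    rw [Matrix.det_fin_one]
    rfl
  rw [h1] at hε
  have h2 := congrArg (rho K m n) hε
  rw [rho_X, Fin.rev_rev, map_mul, rho_C, rho_rho] at h2
  refine ⟨C ε * X (thetaOf M), ?_⟩
  rw [h2]
  show cellHom K n m _ = _
  unfold cellHom
  rw [map_mul, aeval_X, aeval_C]
  rfl

/-- the index type of bitableaux. -/
abbrev BTIdx (m n t : ℕ) : Type :=
  Σ k : ℕ, {c : Fin k → MinorIdx m n //
    (∀ i, (c i).1 + 1 ≤ t - 1) ∧ ∀ i j, i < j → MinorGE (c i) (c j)}

/-- bitableaux to chains. -/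
noncomputable def beta (m n t : ℕ) (ht : 1 ≤ t) (htm : t ≤ m + 1) (htn : t ≤ n + 1)
    (c : BTIdx m n t) : CellChain m (wTop m n t ht htm) :=
  ⟨⟨c.1, fun i => thetaOf (c.2.1 (Fin.rev i))⟩, by
    intro i j hij
    rcases eq_or_lt_of_le hij with h | h
    · rw [h]
    · exact (thetaOf_le_iff _ _).mpr (c.2.2.2 _ _ (Fin.rev_lt_rev.mpr h)), fun i =>
    ⟨(thetaOf_le_wTop_iff t ht htm htn _).mpr (c.2.2.1 _), thetaOf_ne_iota _⟩⟩

theorem beta_injective (m n t : ℕ) (ht : 1 ≤ t) (htm : t ≤ m + 1) (htn : t ≤ n + 1) :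
    Function.Injective (beta m n t ht htm htn) := by
  rintro ⟨k, cf, hc⟩ ⟨k', cf', hc'⟩ h
  have h1 := congrArg Subtype.val h
  simp only [beta] at h1
  obtain ⟨hk, hf⟩ := Sigma.mk.inj_iff.mp h1
  subst hk
  have hf' := eq_of_heq hf
  have : cf = cf' := by
    funext i
    have := congrFun hf' (Fin.rev i)
    simp only [Fin.rev_rev] at this
    exact thetaOf_injective this
  subst this
  rfl

theorem beta_surjective (m n t : ℕ) (ht : 1 ≤ t) (htm : t ≤ m + 1) (htn : t ≤ n + 1) :
    Function.Surjective (beta m n t ht htm htn) := by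
  rintro ⟨⟨k, ch⟩, hanti, hmem⟩
  have hex : ∀ i, ∃ M : MinorIdx m n, thetaOf M = ch i := fun i => exists_thetaOf_eq _ (hmem i).2
  choose Mi hMi using hex
  refine ⟨⟨k, fun i => Mi (Fin.rev i), ?_, ?_⟩, ?_⟩
  · intro i
    rw [← thetaOf_le_wTop_iff t ht htm htn, hMi]
    exact (hmem _).1
  · intro i j hij
    rw [← thetaOf_le_iff, hMi, hMi]
    exact hanti (Fin.rev_le_rev.mpr hij.le)
  · apply Subtype.ext
    simp only [beta]
    congr 1
    funext i
    rw [Fin.rev_rev, hMi]

theorem family_eq (K : Type u) [Field K] (m n t : ℕ) (ht : 1 ≤ t) (htm : t ≤ m + 1)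
    (htn : t ≤ n + 1) (c : BTIdx m n t) : ∃ u : K, u ≠ 0 ∧
      Ideal.Quotient.mk (CAlgX.minorIdeal (genMatrix K m n) t)
        (Finset.univ.prod fun i => minorOf K (c.2.1 i)) =
      u • rhoBar K m n t (Ideal.Quotient.mk (CAlgX.minorIdeal (genMatrix K m n) t)
        (cellHom K n m (chainMon K (beta m n t ht htm htn c).1.2))) := by
  choose ε hε0 hε using minorOf_eq K m n
  refine ⟨∏ i, ε (c.2.1 i), Finset.prod_ne_zero_iff.mpr fun i _ => hε0 _, ?_⟩
  rw [rhoBar_mk, ← Ideal.Quotient.mkₐ_eq_mk K, ← map_smul]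
  congr 1
  have h1 : cellHom K n m (chainMon K (beta m n t ht htm htn c).1.2) =
      ∏ i, cellMinor K n m (thetaOf (c.2.1 i)) := by
    unfold chainMon cellHom
    rw [map_prod]
    simp only [aeval_X, beta]
    exact Equiv.prod_comp Fin.revPerm (fun i => cellMinor K n m (thetaOf (c.2.1 i)))
  rw [h1, map_prod, MvPolynomial.smul_eq_C_mul, map_prod, ← Finset.prod_mul_distrib]
  exact Finset.prod_congr rfl fun i _ => hε _

theorem bitableaux_basis (K : Type u) [Field K] [Infinite K] (m n t : ℕ) (hn : 0 < n)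
    (ht : 1 ≤ t) (htm : t ≤ m + 1) (htn : t ≤ n + 1) :
    LinearIndependent K (fun c : BTIdx m n t =>
        Ideal.Quotient.mk (CAlgX.minorIdeal (genMatrix K m n) t)
          (Finset.univ.prod fun i => minorOf K (c.2.1 i))) ∧
      Submodule.span K (Set.range fun c : BTIdx m n t =>
        Ideal.Quotient.mk (CAlgX.minorIdeal (genMatrix K m n) t)
          (Finset.univ.prod fun i => minorOf K (c.2.1 i))) = ⊤ := by
  have hI := minorIdeal_eq_span K m n t hn ht htm htn
  choose u hu0 hu using family_eq K m n t ht htm htn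
  constructor
  · have hG := cell_linearIndependent K m hn (wTop m n t ht htm) _ hI
    have h1 := hG.comp (beta m n t ht htm htn) (beta_injective m n t ht htm htn)
    have h2 := h1.map' (rhoBar K m n t).toLinearMap
      (LinearMap.ker_eq_bot.mpr (rhoBar K m n t).injective)
    have h3 := h2.units_smul (fun c => Units.mk0 (u c) (hu0 c))
    have hfun : (fun c : BTIdx m n t =>
        Ideal.Quotient.mk (CAlgX.minorIdeal (genMatrix K m n) t)
          (Finset.univ.prod fun i => minorOf K (c.2.1 i))) =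
        (fun c => Units.mk0 (u c) (hu0 c)) • ((rhoBar K m n t).toLinearMap ∘
          (fun x : CellChain m (wTop m n t ht htm) =>
            (Ideal.Quotient.mk (CAlgX.minorIdeal (genMatrix K m n) t))
              ((cellHom K n m) (chainMon K x.1.2))) ∘ beta m n t ht htm htn) := by
      funext c
      rw [hu c]
      rfl
    rw [hfun]
    exact h3
  · have hS := cell_span K m (wTop m n t ht htm) _ hI (cellHom_surjective K m n)
    rw [eq_top_iff]
    intro y _
    obtain ⟨y', rfl⟩ := (rhoBar K m n t).surjective y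
    have hy' : y' ∈ Submodule.span K (Set.range fun x : CellChain m (wTop m n t ht htm) =>
        Ideal.Quotient.mk (CAlgX.minorIdeal (genMatrix K m n) t)
          (cellHom K n m (chainMon K x.1.2))) := by
      rw [hS]
      exact Submodule.mem_top
    have hmap := Submodule.mem_map_of_mem (f := (rhoBar K m n t).toLinearMap) hy'
    rw [Submodule.map_span] at hmap
    refine Submodule.span_le.mpr ?_ hmap
    rintro _ ⟨_, ⟨x, rfl⟩, rfl⟩
    obtain ⟨c, rfl⟩ := beta_surjective m n t ht htm htn x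
    have h4 : (rhoBar K m n t).toLinearMap (Ideal.Quotient.mk _
        (cellHom K n m (chainMon K (beta m n t ht htm htn c).1.2))) =
        (u c)⁻¹ • Ideal.Quotient.mk (CAlgX.minorIdeal (genMatrix K m n) t)
          (Finset.univ.prod fun i => minorOf K (c.2.1 i)) := by
      rw [hu c, smul_smul, inv_mul_cancel₀ (hu0 c), one_smul]
      rfl
    rw [SetLike.mem_coe, h4]
    exact Submodule.smul_mem _ _ (Submodule.subset_span ⟨c, rfl⟩)

end Groth.Agent.Lib.Helper95.BT
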