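import Mathlib
import Groth.Agent.Lib.Helper95.BTAssemble
import Groth.Agent.Lib.Helper95.BTVanish

open MvPolynomial W4bk4grassmannian Groth.Agent.Lib.Helper95.SMT Groth.Agent.Lib.Helper95.SMTDim

namespace Groth.Agent.Lib.Helper95.BT

universe u

theorem eval_rho (K : Type u) [Field K] (m n : ℕ) (y : Fin m × Fin n → K)
    (P : MvPolynomial (Fin m × Fin n) K) :
    eval y (rho K m n P) = eval (fun p => y (Fin.rev p.1, p.2)) P := by
  unfold rho
  rw [renameEquiv_apply, eval_rename]
  rfl

theorem prod_minorOf_eq (K : Type u) [Field K] (m n t : ℕ) (ht : 1 ≤ t) (htm : t ≤ m + 1)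
    (htn : t ≤ n + 1) (c : BTIdx m n t) : ∃ u : K, u ≠ 0 ∧
      (Finset.univ.prod fun i => minorOf K (c.2.1 i)) =
      C u * rho K m n (cellHom K n m (chainMon K (beta m n t ht htm htn c).1.2)) := by
  choose ε hε0 hε using minorOf_eq K m n
  refine ⟨∏ i, ε (c.2.1 i), Finset.prod_ne_zero_iff.mpr fun i _ => hε0 _, ?_⟩
  have h1 : cellHom K n m (chainMon K (beta m n t ht htm htn c).1.2) =
      ∏ i, cellMinor K n m (thetaOf (c.2.1 i)) := by
    unfold chainMon cellHom
    rw [map_prod]
    simp only [aeval_X, beta]
    exact Equiv.prod_comp Fin.revPerm (fun i => cellMinor K n m (thetaOf (c.2.1 i)))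
  rw [h1, map_prod, map_prod, ← Finset.prod_mul_distrib]
  exact Finset.prod_congr rfl fun i _ => hε _

theorem minor_eq_zero_of_lt (K : Type u) [Field K] (m n t : ℕ) (h : ¬ t ≤ min m n)
    (f : Fin t → Fin m) (g : Fin t → Fin n) : ((genMatrix K m n).submatrix f g).det = 0 := by
  rcases Nat.lt_or_ge m t with h1 | h1
  · have hf : ¬ Function.Injective f := by
      intro hf
      have := Fintype.card_le_of_injective f hf
      simp only [Fintype.card_fin] at this
      omega
    rw [Function.Injective] at hf
    simp only [not_forall] at hf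
    obtain ⟨a, a', hfa, hne⟩ := hf
    apply Matrix.det_zero_of_row_eq hne
    funext b
    simp only [Matrix.submatrix_apply, hfa]
  · have h2 : n < t := by
      by_contra h2
      exact h (le_min h1 (not_lt.mp h2))
    have hg : ¬ Function.Injective g := by
      intro hg
      have := Fintype.card_le_of_injective g hg
      simp only [Fintype.card_fin] at this
      omega
    rw [Function.Injective] at hg
    simp only [not_forall] at hg
    obtain ⟨a, a', hga, hne⟩ := hg
    apply Matrix.det_zero_of_column_eq hne
    intro b
    simp only [Matrix.submatrix_apply, hga]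

/-- the ideal of `t`-minors is the vanishing ideal of the `K`-points of the determinantal
variety. -/
theorem mem_minorIdeal_of_vanishing (K : Type u) [Field K] [Infinite K] (m n t : ℕ) (ht : 1 ≤ t)
    (P : MvPolynomial (Fin m × Fin n) K)
    (hP : ∀ y : Fin m × Fin n → K, (∀ (f : Fin t → Fin m) (g : Fin t → Fin n),
      eval y ((genMatrix K m n).submatrix f g).det = 0) → eval y P = 0) :
    P ∈ CAlgX.minorIdeal (genMatrix K m n) t := by
  classical
  by_cases htmn : t ≤ min m n
  · have htm : t ≤ m + 1 := le_trans htmn (le_trans (min_le_left m n) (Nat.le_succ m))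
    have htn : t ≤ n + 1 := le_trans htmn (le_trans (min_le_right m n) (Nat.le_succ n))
    have hn : 0 < n := lt_of_lt_of_le ht (le_trans htmn (min_le_right m n))
    have hI := minorIdeal_eq_span K m n t hn ht htm htn
    set I := CAlgX.minorIdeal (genMatrix K m n) t with hIdef
    have hbasis := (bitableaux_basis K m n t hn ht htm htn).2
    have hmem : Ideal.Quotient.mk I P ∈ Submodule.span K (Set.range fun c : BTIdx m n t =>
        Ideal.Quotient.mk I (Finset.univ.prod fun i => minorOf K (c.2.1 i))) := by
      rw [hbasis]
      exact Submodule.mem_top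
    obtain ⟨a, ha⟩ := Finsupp.mem_span_range_iff_exists_finsupp.mp hmem
    set Q : MvPolynomial (Fin m × Fin n) K :=
      ∑ c ∈ a.support, a c • (Finset.univ.prod fun i => minorOf K (c.2.1 i)) with hQ
    have hPQ : P - Q ∈ I := by
      rw [← Ideal.Quotient.eq, ← ha, hQ, map_sum]
      unfold Finsupp.sum
      refine Finset.sum_congr rfl fun c _ => ?_
      rw [← Ideal.Quotient.mkₐ_eq_mk K, map_smul]
    -- every element of I vanishes on the determinantal variety
    have hIvan : ∀ y : Fin m × Fin n → K, (∀ (f : Fin t → Fin m) (g : Fin t → Fin n),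
        eval y ((genMatrix K m n).submatrix f g).det = 0) → ∀ R ∈ I, eval y R = 0 := by
      intro y hy R hR
      have hle : I ≤ RingHom.ker (eval y : MvPolynomial (Fin m × Fin n) K →+* K) := by
        rw [hIdef]
        unfold CAlgX.minorIdeal
        rw [Ideal.span_le]
        rintro _ ⟨⟨f, g⟩, rfl⟩
        exact hy f g
      exact hle hR
    have hQvan : ∀ y : Fin m × Fin n → K, (∀ (f : Fin t → Fin m) (g : Fin t → Fin n),
        eval y ((genMatrix K m n).submatrix f g).det = 0) → eval y Q = 0 := by
      intro y hy
      have h1 := hIvan y hy _ hPQ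
      rw [map_sub, hP y hy, zero_sub, neg_eq_zero] at h1
      exact h1
    choose u hu0 hu using prod_minorOf_eq K m n t ht htm htn
    let e : BTIdx m n t ≃ CellChain m (wTop m n t ht htm) :=
      Equiv.ofBijective (beta m n t ht htm htn)
        ⟨beta_injective m n t ht htm htn, beta_surjective m n t ht htm htn⟩
    have hrhoQ : rho K m n Q = ∑ x ∈ a.support.map e.toEmbedding,
        (a (e.symm x) * u (e.symm x)) • cellHom K n m (chainMon K x.1.2) := by
      rw [Finset.sum_map, hQ, map_sum]
      refine Finset.sum_congr rfl fun c _ => ?_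
      simp only [Equiv.coe_toEmbedding, Equiv.symm_apply_apply]
      rw [hu c, MvPolynomial.smul_eq_C_mul, map_mul, map_mul, rho_C, rho_C, rho_rho,
        MvPolynomial.smul_eq_C_mul, map_mul, mul_assoc]
      rfl
    have hzero : ∀ c ∈ a.support, a c * u c = 0 := by
      intro c hc
      have := cell_coeff_eq_zero K m hn (wTop m n t ht htm) (a.support.map e.toEmbedding)
        (fun x => a (e.symm x) * u (e.symm x)) (by
          intro x₁ hx₁
          rw [← hrhoQ, eval_rho]
          apply hQvan
          intro f g
          have h1 := eval_rho K m n x₁ ((genMatrix K m n).submatrix f g).det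
          rw [rho_det] at h1
          rw [← h1]
          have hle : I ≤ RingHom.ker (eval x₁ : MvPolynomial (Fin m × Fin n) K →+* K) := by
            rw [hI, Ideal.span_le]
            rintro _ ⟨θ, hθ, rfl⟩
            exact hx₁ θ hθ
          apply hle
          rw [hIdef]
          unfold CAlgX.minorIdeal
          exact Ideal.subset_span ⟨(fun b => Fin.rev (f b), g), rfl⟩) (e c)
        (Finset.mem_map_of_mem _ hc)
      simpa only [Equiv.symm_apply_apply] using this
    have hQ0 : Q = 0 := by
      rw [hQ]
      refine Finset.sum_eq_zero fun c hc => ?_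
      have := hzero c hc
      rcases mul_eq_zero.mp this with h | h
      · rw [h, zero_smul]
      · exact absurd h (hu0 c)
    rw [hQ0, sub_zero] at hPQ
    exact hPQ
  · have h0 : P = 0 := by
      apply MvPolynomial.funext
      intro y
      rw [map_zero]
      apply hP
      intro f g
      rw [minor_eq_zero_of_lt K m n t htmn f g, map_zero]
    rw [h0]
    exact zero_mem _

end Groth.Agent.Lib.Helper95.BT
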