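import Mathlib
import Groth.Agent.Lib.Helper95.BTVanish

open MvPolynomial W4bk4grassmannian Groth.Agent.Lib.Helper95.SMT Groth.Agent.Lib.Helper95.SMTDim

namespace Groth.Agent.Lib.Helper95.BT

universe u

variable (K : Type u) [Field K] {d n : ℕ} (r : ℕ)

/-- a combination of standard monomials of the cell, none involving the top coordinate, vanishing
at all `K`-points of the cell of the hyperplane section `p_w = 0` of the Schubert variety, has zero
coefficients. -/
theorem cell_coeff_eq_zero' [Infinite K] (hd : 0 < d) (w : Idx d (d + r))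
    (s : Finset (CellChain r w)) (g : CellChain r w → K)
    (hvan : ∀ x₁ : Fin r × Fin d → K,
      (∀ θ : Idx d (d + r), ¬ θ ≤ w → eval x₁ (cellMinor K d r θ) = 0) →
      eval x₁ (cellMinor K d r w) = 0 →
        eval x₁ (∑ x ∈ s, g x • cellHom K d r (chainMon K x.1.2)) = 0)
    (x₀ : CellChain r w) (hx₀ : x₀ ∈ s) (hx₀w : ∀ i, x₀.1.2 i ≠ w)
    (hw : w ≠ iota (Nat.le_add_right d r)) : g x₀ = 0 := by
  classical
  set ι₀ := iota (Nat.le_add_right d r) with hι₀
  set D := s.sup (fun x => x.1.1) + 1 with hD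
  have hlen : ∀ x ∈ s, x.1.1 + (D - x.1.1) = D ∧ 1 ≤ D - x.1.1 := by
    intro x hx
    have : x.1.1 ≤ s.sup (fun x => x.1.1) := Finset.le_sup (f := fun x : CellChain r w => x.1.1) hx
    omega
  -- the homogenised chains
  have hex : ∀ x : CellChain r w, ∃ c : Σ k : ℕ, (Fin k → Idx d (d + r)), Antitone c.2 ∧
      (∀ i, c.2 i ∈ (chainFs x.1.2 + Finsupp.single ι₀ (D - x.1.1)).support) ∧
      chainMon K c.2 = monomial (chainFs x.1.2 + Finsupp.single ι₀ (D - x.1.1)) 1 := by
    intro x
    apply exists_chain_of_finsupp K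
    have hsupp : ∀ a ∈ (chainFs x.1.2 + Finsupp.single ι₀ (D - x.1.1)).support,
        a = ι₀ ∨ ∃ i, x.1.2 i = a := by
      intro a ha
      have := Finsupp.support_add ha
      rcases Finset.mem_union.mp this with h | h
      · exact Or.inr ((mem_support_chainFs _ a).mp h)
      · have := Finsupp.support_single_subset h
        exact Or.inl (Finset.mem_singleton.mp this)
    intro a ha b hb
    rcases hsupp a ha with rfl | ⟨i, rfl⟩
    · exact Or.inl (iota_le _ b)
    · rcases hsupp b hb with rfl | ⟨j, rfl⟩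
      · exact Or.inr (iota_le _ _)
      · rcases le_total i j with h | h
        · exact Or.inr (x.2.1 h)
        · exact Or.inl (x.2.1 h)
  choose c hc1 hc2 hc3 using hex
  have hcw : ∀ x i, (c x).2 i ≤ w := by
    intro x i
    have := Finsupp.support_add (hc2 x i)
    rcases Finset.mem_union.mp this with h | h
    · obtain ⟨j, hj⟩ := (mem_support_chainFs _ _).mp h
      rw [← hj]; exact (x.2.2 j).1
    · have := Finsupp.support_single_subset h
      rw [Finset.mem_singleton.mp this]
      exact iota_le _ w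
  have hchainFs_ι : ∀ x : CellChain r w, chainFs x.1.2 ι₀ = 0 := by
    intro x
    rw [← Finsupp.notMem_support_iff, mem_support_chainFs]
    rintro ⟨i, hi⟩
    exact (x.2.2 i).2 hi
  have hinj : Function.Injective c := by
    intro x y hxy
    have h1 : (monomial (chainFs x.1.2 + Finsupp.single ι₀ (D - x.1.1)) (1 : K)) =
        monomial (chainFs y.1.2 + Finsupp.single ι₀ (D - y.1.1)) 1 := by
      rw [← hc3 x, ← hc3 y, hxy]
    have h2 := MvPolynomial.monomial_left_injective (R := K) one_ne_zero h1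
    have h3 : chainFs x.1.2 = chainFs y.1.2 := by
      ext θ
      by_cases hθ : θ = ι₀
      · rw [hθ, hchainFs_ι, hchainFs_ι]
      · have := DFunLike.congr_fun h2 θ
        simpa [Finsupp.single_apply, Ne.symm hθ] using this
    apply Subtype.ext
    apply sigma_eq_of_chainMon_eq K hd w x.1 y.1 x.2.1 y.2.1 (fun i => (x.2.2 i).1)
      (fun i => (y.2.2 i).1)
    rw [chainMon_eq_monomial, chainMon_eq_monomial, h3]
  have hcmon : ∀ x : CellChain r w,
      chainMon K (c x).2 = chainMon K x.1.2 * X ι₀ ^ (D - x.1.1) := by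
    intro x
    rw [hc3, chainMon_eq_monomial, X_pow_eq_monomial, monomial_mul, one_mul]
  obtain ⟨φ, hφw, hφne, hφ⟩ : ∃ φ : Idx d (d + r), φ ≤ w ∧ φ ≠ w ∧ ∀ i, x₀.1.2 i ≤ φ := by
    rcases Nat.eq_zero_or_pos x₀.1.1 with h0 | h0
    · exact ⟨ι₀, iota_le _ w, Ne.symm hw, fun i => absurd i.isLt (by omega)⟩
    · exact ⟨x₀.1.2 ⟨0, h0⟩, (x₀.2.2 _).1, hx₀w _, fun i =>
        x₀.2.1 (show (⟨0, h0⟩ : Fin x₀.1.1) ≤ i from Fin.mk_le_of_le_val (Nat.zero_le _))⟩
  have hcφ : ∀ i, (c x₀).2 i ≤ φ := by
    intro i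
    have := Finsupp.support_add (hc2 x₀ i)
    rcases Finset.mem_union.mp this with h | h
    · obtain ⟨j, hj⟩ := (mem_support_chainFs _ _).mp h
      rw [← hj]; exact hφ j
    · have := Finsupp.support_single_subset h
      rw [Finset.mem_singleton.mp this]
      exact iota_le _ φ
  -- F lies in the Schubert ideal
  have hF : ∑ x ∈ s, g x • chainMon K (c x).2 ∈ schubertVanishing K d (d + r) φ := by
    unfold schubertVanishing
    rw [Ideal.mem_iInf]
    intro A
    rw [Ideal.mem_iInf]
    intro hA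
    rw [RingHom.mem_ker]
    show evalMinors K d (d + r) A _ = 0
    rw [map_sum]
    simp only [map_smul, hcmon, map_mul, map_pow]
    set δ := (A.submatrix ι₀.1 id).det with hδ
    have hXι : evalMinors K d (d + r) A (X ι₀) = δ := by
      unfold evalMinors
      rw [aeval_X]
    rw [hXι]
    by_cases hδ0 : δ = 0
    · refine Finset.sum_eq_zero fun x hx => ?_
      rw [hδ0, zero_pow (by have := (hlen x hx).2; omega), mul_zero, smul_zero]
    · obtain ⟨x₁, hx₁⟩ := exists_cellMat K d r A hδ0
      have h0 := hvan x₁ (fun θ hθ => by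
        rw [eval_cellMinor, hx₁ θ, hA θ (fun h => hθ (le_trans h hφw)), mul_zero]) (by
        rw [eval_cellMinor, hx₁ w, hA w (fun h => hφne (le_antisymm hφw h)), mul_zero])
      rw [map_sum] at h0
      have hterm : ∀ x ∈ s, eval x₁ (g x • cellHom K d r (chainMon K x.1.2)) =
          g x * (δ⁻¹ ^ x.1.1 * evalMinors K d (d + r) A (chainMon K x.1.2)) := by
        intro x _
        rw [smul_eval, eval_cellHom, evalMinors_chainMon, evalMinors_chainMon]
        congr 1
        simp only [hx₁]
        rw [Finset.prod_mul_distrib, Finset.prod_const, Finset.card_univ, Fintype.card_fin]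
      rw [Finset.sum_congr rfl hterm] at h0
      have hgoal : ∀ x ∈ s, g x • (evalMinors K d (d + r) A (chainMon K x.1.2) * δ ^ (D - x.1.1)) =
          δ ^ D * (g x * (δ⁻¹ ^ x.1.1 * evalMinors K d (d + r) A (chainMon K x.1.2))) := by
        intro x hx
        have h1 : δ ^ D = δ ^ x.1.1 * δ ^ (D - x.1.1) := by
          rw [← pow_add, (hlen x hx).1]
        have h2 : δ ^ x.1.1 * δ⁻¹ ^ x.1.1 = 1 := by
          rw [← mul_pow, mul_inv_cancel₀ hδ0, one_pow]
        rw [smul_eq_mul, h1]
        calc g x * (evalMinors K d (d + r) A (chainMon K x.1.2) * δ ^ (D - x.1.1))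
            = (δ ^ x.1.1 * δ⁻¹ ^ x.1.1) *
              (g x * (evalMinors K d (d + r) A (chainMon K x.1.2) * δ ^ (D - x.1.1))) := by
              rw [h2, one_mul]
          _ = _ := by ring
      rw [Finset.sum_congr rfl hgoal, ← Finset.mul_sum, h0, mul_zero]
  exact coeff_eq_zero_of_mem_schubertVanishing K hd φ s g c (fun x _ => hc1 x)
    (fun x _ y _ h => hinj h) hF x₀ hx₀ hcφ


end Groth.Agent.Lib.Helper95.BT
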