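import Mathlib
import Groth.Agent.Lib.Helper95.BTNull
import Groth.Agent.Lib.Helper95.BTVanish2

open MvPolynomial W4bk4grassmannian Groth.Agent.Lib.Helper95.SMT Groth.Agent.Lib.Helper95.SMTDim

namespace Groth.Agent.Lib.Helper95.BT

universe u

/-- the top left minor of size `s + 1`. -/
def topLeft (m n s : ℕ) (hsm : s + 1 ≤ m) (hsn : s + 1 ≤ n) : MinorIdx m n :=
  ⟨s, ⟨fun j => Fin.castLE hsm j, fun _ _ h => h⟩, ⟨fun j => Fin.castLE hsn j, fun _ _ h => h⟩⟩

theorem thetaOf_topLeft (m n s : ℕ) (hsm : s + 1 ≤ m) (hsn : s + 1 ≤ n) :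
    thetaOf (topLeft m n s hsm hsn) =
      wTop m n (s + 2) (by omega) (by omega) := by
  have ht : 1 ≤ s + 2 := by omega
  have htm : s + 2 ≤ m + 1 := by omega
  have htn : s + 2 ≤ n + 1 := by omega
  have h1 : thetaOf (topLeft m n s hsm hsn) ≤ wTop m n (s + 2) ht htm :=
    (thetaOf_le_wTop_iff (s + 2) ht htm htn _).mpr (by show s + 1 ≤ s + 2 - 1; omega)
  have hne : wTop m n (s + 2) ht htm ≠ iota (Nat.le_add_right n m) := by
    intro h
    rw [h] at h1
    exact thetaOf_ne_iota _ (le_antisymm h1 (iota_le _ _))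
  obtain ⟨M₀, hM₀⟩ := exists_thetaOf_eq _ hne
  have hsize : M₀.1 + 1 ≤ s + 2 - 1 := by
    rw [← thetaOf_le_wTop_iff (s + 2) ht htm htn, hM₀]
  have h2 : thetaOf M₀ ≤ thetaOf (topLeft m n s hsm hsn) := by
    rw [thetaOf_le_iff]
    refine ⟨by show M₀.1 ≤ s; omega, fun j j' hjj' => ⟨?_, ?_⟩⟩
    · rw [Fin.le_def]
      show j'.val ≤ _
      rw [← hjj']
      exact val_le_val M₀.2.1 j
    · rw [Fin.le_def]
      show j'.val ≤ _
      rw [← hjj']
      exact val_le_val M₀.2.2 j
  rw [hM₀] at h2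
  exact le_antisymm h1 h2

theorem rho_minorOf (K : Type u) [Field K] (m n : ℕ) (M : MinorIdx m n) :
    ∃ ε : K, rho K m n (minorOf K M) = C ε * cellMinor K n m (thetaOf M) := by
  obtain ⟨ε, -, hε⟩ := minorOf_eq K m n M
  refine ⟨ε, ?_⟩
  rw [hε, map_mul, rho_C, rho_rho]

/-- a combination of standard bitableaux, vanishing at the `K`-points of the section of the
determinantal variety by the top left maximal minor, has zero coefficients at the bitableaux not
involving that minor. -/
theorem bt_coeff_eq_zero (K : Type u) [Field K] [Infinite K] (m n s : ℕ) (hsm : s + 1 ≤ m)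
    (hsn : s + 1 ≤ n) (a : BTIdx m n (s + 2) →₀ K)
    (hvan : ∀ y : Fin m × Fin n → K, (∀ (f : Fin (s + 2) → Fin m) (g : Fin (s + 2) → Fin n),
      eval y ((genMatrix K m n).submatrix f g).det = 0) →
      eval y (minorOf K (topLeft m n s hsm hsn)) = 0 →
      eval y (∑ c ∈ a.support, a c • (Finset.univ.prod fun i => minorOf K (c.2.1 i))) = 0)
    (c₀ : BTIdx m n (s + 2)) (hc₀ : ∀ i, c₀.2.1 i ≠ topLeft m n s hsm hsn) : a c₀ = 0 := by
  classical
  have ht : 1 ≤ s + 2 := by omega
  have htm : s + 2 ≤ m + 1 := by omega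
  have htn : s + 2 ≤ n + 1 := by omega
  have hn : 0 < n := by omega
  by_cases hc₀s : c₀ ∈ a.support
  swap
  · exact Finsupp.notMem_support_iff.mp hc₀s
  have hI := minorIdeal_eq_span K m n (s + 2) hn ht htm htn
  set I := CAlgX.minorIdeal (genMatrix K m n) (s + 2) with hIdef
  set Q : MvPolynomial (Fin m × Fin n) K :=
    ∑ c ∈ a.support, a c • (Finset.univ.prod fun i => minorOf K (c.2.1 i)) with hQ
  choose u hu0 hu using prod_minorOf_eq K m n (s + 2) ht htm htn
  let e : BTIdx m n (s + 2) ≃ CellChain m (wTop m n (s + 2) ht htm) :=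
    Equiv.ofBijective (beta m n (s + 2) ht htm htn)
      ⟨beta_injective m n (s + 2) ht htm htn, beta_surjective m n (s + 2) ht htm htn⟩
  have hrhoQ : rho K m n Q = ∑ x ∈ a.support.map e.toEmbedding,
      (a (e.symm x) * u (e.symm x)) • cellHom K n m (chainMon K x.1.2) := by
    rw [Finset.sum_map, hQ, map_sum]
    refine Finset.sum_congr rfl fun c _ => ?_
    simp only [Equiv.coe_toEmbedding, Equiv.symm_apply_apply]
    rw [hu c, MvPolynomial.smul_eq_C_mul, map_mul, map_mul, rho_C, rho_C, rho_rho,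
      MvPolynomial.smul_eq_C_mul, map_mul, mul_assoc]
    rfl
  have hwne : wTop m n (s + 2) ht htm ≠ iota (Nat.le_add_right n m) := by
    rw [← thetaOf_topLeft m n s hsm hsn]
    exact thetaOf_ne_iota _
  have := cell_coeff_eq_zero' K m hn (wTop m n (s + 2) ht htm) (a.support.map e.toEmbedding)
    (fun x => a (e.symm x) * u (e.symm x)) (by
      intro x₁ hx₁ hx₁w
      rw [← hrhoQ, eval_rho]
      apply hvan
      · intro f g
        have h1 := eval_rho K m n x₁ ((genMatrix K m n).submatrix f g).det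
        rw [rho_det] at h1
        rw [← h1]
        have hle : I ≤ RingHom.ker (eval x₁ : MvPolynomial (Fin m × Fin n) K →+* K) := by
          rw [hI, Ideal.span_le]
          rintro _ ⟨θ, hθ, rfl⟩
          exact hx₁ θ hθ
        apply hle
        rw [hIdef]
        unfold CAlgX.minorIdeal
        exact Ideal.subset_span ⟨(fun b => Fin.rev (f b), g), rfl⟩
      · rw [← eval_rho]
        obtain ⟨ε, hε⟩ := rho_minorOf K m n (topLeft m n s hsm hsn)
        rw [hε, map_mul, thetaOf_topLeft m n s hsm hsn, hx₁w, mul_zero]) (e c₀)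
    (Finset.mem_map_of_mem _ hc₀s) (by
      intro i hi
      apply hc₀ (Fin.rev i)
      apply thetaOf_injective
      rw [thetaOf_topLeft m n s hsm hsn]
      exact hi) hwne
  simp only [Equiv.symm_apply_apply] at this
  rcases mul_eq_zero.mp this with h | h
  · exact h
  · exact absurd h (hu0 c₀)

end Groth.Agent.Lib.Helper95.BT
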