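import Mathlib

namespace Groth.Agent.Lib.Helper95.BT

universe u

/-- rank factorisation. -/
theorem exists_mul_eq_of_rank_le {K : Type u} [Field K] {m q : ℕ} (n : ℕ)
    (Y : Matrix (Fin m) (Fin q) K) (hY : Y.rank ≤ n) :
    ∃ (U : Matrix (Fin m) (Fin n) K) (W : Matrix (Fin n) (Fin q) K), Y = U * W := by
  classical
  set V := LinearMap.range Y.mulVecLin with hV
  have hρ : Module.finrank K V ≤ n := hY
  let b := Module.finBasis K V
  let v : Fin n → (Fin m → K) := fun k' =>
    if h : k'.val < Module.finrank K V then ((b ⟨k'.val, h⟩ : V) : Fin m → K) else 0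
  have hVspan : V ≤ Submodule.span K (Set.range v) := by
    have h1 : V = Submodule.span K (Set.range (fun k => ((b k : V) : Fin m → K))) := by
      have h2 := b.span_eq
      have h3 := congrArg (Submodule.map V.subtype) h2
      rw [Submodule.map_subtype_top, Submodule.map_span, ← Set.range_comp] at h3
      exact h3.symm
    rw [h1]
    apply Submodule.span_mono
    rintro _ ⟨k, rfl⟩
    refine ⟨Fin.castLE hρ k, ?_⟩
    simp only [v, Fin.val_castLE, dif_pos k.isLt]
  have hcol : ∀ j : Fin q, ∃ c : Fin n → K, ∑ k, c k • v k = fun i => Y i j := by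
    intro j
    rw [← Submodule.mem_span_range_iff_exists_fun]
    apply hVspan
    refine ⟨Pi.single j 1, ?_⟩
    rw [Matrix.mulVecLin_apply, Matrix.mulVec_single_one]
    rfl
  choose c hc using hcol
  refine ⟨Matrix.of fun i k => v k i, Matrix.of fun k j => c j k, ?_⟩
  ext i j
  rw [Matrix.mul_apply]
  have := congrFun (hc j) i
  rw [Finset.sum_apply] at this
  rw [← this]
  refine Finset.sum_congr rfl fun k _ => ?_
  simp only [Matrix.of_apply, Pi.smul_apply, smul_eq_mul]
  ring

end Groth.Agent.Lib.Helper95.BT
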