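import Mathlib
import Groth.Agent.Lib.Helper95.BTNull
import Groth.Agent.Lib.Helper95.BTFactor
import Groth.Agent.Lib.Helper77.RankConstructible

open MvPolynomial W4bk4grassmannian

namespace Groth.Agent.Lib.Helper95.BT

universe u

variable (K : Type u) [Field K] (m n q : ℕ)

theorem eval_pairingMap (z : (Fin m × Fin n) ⊕ (Fin n × Fin q) → K)
    (P : MvPolynomial (Fin m × Fin q) K) :
    eval z (pairingMap K n m q P) =
      eval (fun p : Fin m × Fin q => ∑ k : Fin n, z (Sum.inl (p.1, k)) * z (Sum.inr (k, p.2))) P := by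
  have h : (aeval z : PairRing K n m q →ₐ[K] K).comp (pairingMap K n m q) =
      aeval (fun p : Fin m × Fin q => ∑ k : Fin n, z (Sum.inl (p.1, k)) * z (Sum.inr (k, p.2))) := by
    apply MvPolynomial.algHom_ext
    intro p
    unfold pairingMap
    rw [AlgHom.comp_apply, aeval_X, aeval_X, map_sum]
    refine Finset.sum_congr rfl fun k _ => ?_
    rw [map_mul, aeval_X, aeval_X]
  have := DFunLike.congr_fun h P
  exact this

theorem eval_minor (y : Fin m × Fin q → K) {t : ℕ} (f : Fin t → Fin m) (g : Fin t → Fin q) :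
    eval y ((genMatrix K m q).submatrix f g).det =
      ((Matrix.of fun i j => y (i, j)).submatrix f g).det := by
  rw [RingHom.map_det]
  congr 1
  ext a b
  simp only [RingHom.mapMatrix_apply, Matrix.map_apply, Matrix.submatrix_apply, genMatrix,
    Matrix.of_apply, eval_X]

theorem minorIdeal_le_ker_pairingMap [Infinite K] :
    CAlgX.minorIdeal (genMatrix K m q) (n + 1) ≤ RingHom.ker (pairingMap K n m q).toRingHom := by
  classical
  unfold CAlgX.minorIdeal
  rw [Ideal.span_le]
  rintro _ ⟨⟨f, g⟩, rfl⟩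
  rw [SetLike.mem_coe, RingHom.mem_ker]
  show pairingMap K n m q _ = 0
  apply MvPolynomial.funext
  intro z
  rw [eval_pairingMap, map_zero, eval_minor]
  set U : Matrix (Fin m) (Fin n) K := Matrix.of fun i k => z (Sum.inl (i, k)) with hU
  set W : Matrix (Fin n) (Fin q) K := Matrix.of fun k j => z (Sum.inr (k, j)) with hW
  have hUW : (Matrix.of fun i j => ∑ k : Fin n, z (Sum.inl (i, k)) * z (Sum.inr (k, j))) = U * W := by
    ext i j
    rw [Matrix.mul_apply]
    rfl
  rw [hUW]
  by_contra hne
  have h1 : n + 1 ≤ (U * W).rank :=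
    (Groth.Agent.Lib.Helper77.RankConstructible.le_rank_iff_exists_minor (U * W) (n + 1)).mpr
      ⟨f, g, hne⟩
  have h2 : (U * W).rank ≤ U.rank := Matrix.rank_mul_le_left U W
  have h3 : U.rank ≤ n := Matrix.rank_le_width U
  omega

theorem ker_pairingMap_le_minorIdeal [Infinite K] :
    RingHom.ker (pairingMap K n m q).toRingHom ≤ CAlgX.minorIdeal (genMatrix K m q) (n + 1) := by
  classical
  intro P hP
  rw [RingHom.mem_ker] at hP
  have hP' : pairingMap K n m q P = 0 := hP
  apply mem_minorIdeal_of_vanishing K m q (n + 1) (Nat.le_add_left 1 n) P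
  intro y hy
  set Y : Matrix (Fin m) (Fin q) K := Matrix.of fun i j => y (i, j) with hYdef
  have hrank : Y.rank ≤ n := by
    by_contra hcon
    push Not at hcon
    obtain ⟨r, c, hrc⟩ :=
      (Groth.Agent.Lib.Helper77.RankConstructible.le_rank_iff_exists_minor Y (n + 1)).mp hcon
    apply hrc
    rw [← eval_minor]
    exact hy r c
  obtain ⟨U, W, hUW⟩ := exists_mul_eq_of_rank_le n Y hrank
  have h1 := eval_pairingMap K m n q
    (Sum.elim (fun p : Fin m × Fin n => U p.1 p.2) (fun p : Fin n × Fin q => W p.1 p.2)) P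
  rw [hP', map_zero] at h1
  have hy2 : (fun p : Fin m × Fin q => ∑ k : Fin n,
      Sum.elim (fun p : Fin m × Fin n => U p.1 p.2) (fun p : Fin n × Fin q => W p.1 p.2)
        (Sum.inl (p.1, k)) *
      Sum.elim (fun p : Fin m × Fin n => U p.1 p.2) (fun p : Fin n × Fin q => W p.1 p.2)
        (Sum.inr (k, p.2))) = y := by
    funext p
    simp only [Sum.elim_inl, Sum.elim_inr]
    have := congrFun (congrFun hUW p.1) p.2
    rw [Matrix.mul_apply] at this
    rw [← this]
    rfl
  rw [hy2] at h1
  exact h1.symm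

end Groth.Agent.Lib.Helper95.BT
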