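import Mathlib
import Groth.Agent.Lib.Helper95.BTDiv
import Groth.Agent.Lib.Helper95.BTPairing

open MvPolynomial W4bk4grassmannian Groth.Agent.Lib.Helper95.SMT Groth.Agent.Lib.Helper95.SMTDim

namespace Groth.Agent.Lib.Helper95.BT

universe u

variable (K : Type u) [Field K]

/-- every `K`-point of the determinantal variety is a product. -/
theorem exists_point_pairing (m n q : ℕ) (y : Fin m × Fin q → K)
    (hy : ∀ (f : Fin (n + 1) → Fin m) (g : Fin (n + 1) → Fin q),
      eval y ((genMatrix K m q).submatrix f g).det = 0) :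
    ∃ z : (Fin m × Fin n) ⊕ (Fin n × Fin q) → K,
      ∀ P : MvPolynomial (Fin m × Fin q) K, eval z (pairingMap K n m q P) = eval y P := by
  classical
  set Y : Matrix (Fin m) (Fin q) K := Matrix.of fun i j => y (i, j) with hYdef
  have hrank : Y.rank ≤ n := by
    by_contra hcon
    push Not at hcon
    obtain ⟨r, c, hrc⟩ :=
      (Groth.Agent.Lib.Helper77.RankConstructible.le_rank_iff_exists_minor Y (n + 1)).mp hcon
    apply hrc
    rw [← eval_minor]
    exact hy r c
  obtain ⟨U, W, hUW⟩ := exists_mul_eq_of_rank_le n Y hrank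
  refine ⟨Sum.elim (fun p : Fin m × Fin n => U p.1 p.2) (fun p : Fin n × Fin q => W p.1 p.2),
    fun P => ?_⟩
  rw [eval_pairingMap]
  have hy2 : (fun p : Fin m × Fin q => ∑ k : Fin n,
      Sum.elim (fun p : Fin m × Fin n => U p.1 p.2) (fun p : Fin n × Fin q => W p.1 p.2)
        (Sum.inl (p.1, k)) *
      Sum.elim (fun p : Fin m × Fin n => U p.1 p.2) (fun p : Fin n × Fin q => W p.1 p.2)
        (Sum.inr (k, p.2))) = y := by
    funext p
    simp only [Sum.elim_inl, Sum.elim_inr]
    have := congrFun (congrFun hUW p.1) p.2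
    rw [Matrix.mul_apply] at this
    rw [← this]
    rfl
  rw [hy2]

theorem pairingMap_topLeft_ne_zero (m s q : ℕ) (hsm : s + 1 ≤ m) (hsq : s + 1 ≤ q) :
    pairingMap K (s + 1) m q (minorOf K (topLeft m q s hsm hsq)) ≠ 0 := by
  intro h
  have h1 := congrArg (eval (Sum.elim
    (fun p : Fin m × Fin (s + 1) => if p.1.val = p.2.val then (1 : K) else 0)
    (fun p : Fin (s + 1) × Fin q => if p.1.val = p.2.val then (1 : K) else 0))) h
  rw [eval_pairingMap, map_zero] at h1
  unfold minorOf at h1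
  rw [eval_minor] at h1
  set Ymat : Matrix (Fin m) (Fin q) K := (Matrix.of fun (i : Fin m) (j : Fin q) =>
      ∑ k : Fin (s + 1),
      Sum.elim (fun p : Fin m × Fin (s + 1) => if p.1.val = p.2.val then (1 : K) else 0)
        (fun p : Fin (s + 1) × Fin q => if p.1.val = p.2.val then (1 : K) else 0)
        (Sum.inl (i, k)) *
      Sum.elim (fun p : Fin m × Fin (s + 1) => if p.1.val = p.2.val then (1 : K) else 0)
        (fun p : Fin (s + 1) × Fin q => if p.1.val = p.2.val then (1 : K) else 0)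
        (Sum.inr (k, j))) with hYmat
  have h1' : (Ymat.submatrix (fun j : Fin (s + 1) => Fin.castLE hsm j)
      (fun j : Fin (s + 1) => Fin.castLE hsq j)).det = 0 := h1
  have h2 : Ymat.submatrix (fun j : Fin (s + 1) => Fin.castLE hsm j)
      (fun j : Fin (s + 1) => Fin.castLE hsq j) = 1 := by
    ext a b
    simp only [hYmat, Matrix.submatrix_apply, Matrix.of_apply, Sum.elim_inl, Sum.elim_inr,
      Fin.val_castLE, Matrix.one_apply]
    rw [Finset.sum_eq_single a]
    · simp only [if_true, one_mul, Fin.ext_iff]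
    · intro k _ hk
      rw [if_neg (fun h => hk (Fin.ext h.symm)), zero_mul]
    · intro h
      exact absurd (Finset.mem_univ _) h
  rw [h2, Matrix.det_one] at h1'
  exact one_ne_zero h1'

/-- division by the top left maximal minor inside the invariant ring. -/
theorem pairing_div [Infinite K] (m s q : ℕ) (hsm : s + 1 ≤ m) (hsq : s + 1 ≤ q)
    (h : PairRing K (s + 1) m q)
    (hh : pairingMap K (s + 1) m q (minorOf K (topLeft m q s hsm hsq)) * h ∈
      (pairingMap K (s + 1) m q).range) :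
    h ∈ (pairingMap K (s + 1) m q).range := by
  classical
  set Δ := topLeft m q s hsm hsq with hΔ
  obtain ⟨G, hG⟩ := hh
  have hG' : pairingMap K (s + 1) m q G = pairingMap K (s + 1) m q (minorOf K Δ) * h := hG
  have ht : 1 ≤ s + 2 := by omega
  have htm : s + 2 ≤ m + 1 := by omega
  have htn : s + 2 ≤ q + 1 := by omega
  have hq0 : 0 < q := by omega
  have hbasis := (bitableaux_basis K m q (s + 2) hq0 ht htm htn).2
  set I := CAlgX.minorIdeal (genMatrix K m q) (s + 2) with hIdef
  have hmem : Ideal.Quotient.mk I G ∈ Submodule.span K (Set.range fun c : BTIdx m q (s + 2) =>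
      Ideal.Quotient.mk I (Finset.univ.prod fun i => minorOf K (c.2.1 i))) := by
    rw [hbasis]
    exact Submodule.mem_top
  obtain ⟨a, ha⟩ := Finsupp.mem_span_range_iff_exists_finsupp.mp hmem
  set Q : MvPolynomial (Fin m × Fin q) K :=
    ∑ c ∈ a.support, a c • (Finset.univ.prod fun i => minorOf K (c.2.1 i)) with hQ
  have hGQ : G - Q ∈ I := by
    rw [← Ideal.Quotient.eq, ← ha, hQ, map_sum]
    unfold Finsupp.sum
    refine Finset.sum_congr rfl fun c _ => ?_
    rw [← Ideal.Quotient.mkₐ_eq_mk K, map_smul]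
  have hker : pairingMap K (s + 1) m q (G - Q) = 0 :=
    minorIdeal_le_ker_pairingMap K m (s + 1) q hGQ
  set S₁ := a.support.filter (fun c => ∃ i, c.2.1 i = Δ) with hS₁
  set S₂ := a.support.filter (fun c => ¬ ∃ i, c.2.1 i = Δ) with hS₂
  have hsplit : Q = ∑ c ∈ S₁, a c • (Finset.univ.prod fun i => minorOf K (c.2.1 i)) +
      ∑ c ∈ S₂, a c • (Finset.univ.prod fun i => minorOf K (c.2.1 i)) :=
    (Finset.sum_filter_add_sum_filter_not _ _ _).symm
  have hfac : ∀ c : BTIdx m q (s + 2), (∃ i, c.2.1 i = Δ) →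
      ∃ M : MvPolynomial (Fin m × Fin q) K,
        (Finset.univ.prod fun i => minorOf K (c.2.1 i)) = minorOf K Δ * M := by
    rintro c ⟨i, hi⟩
    refine ⟨∏ j ∈ Finset.univ.erase i, minorOf K (c.2.1 j), ?_⟩
    rw [← hi]
    exact (Finset.mul_prod_erase _ (fun j => minorOf K (c.2.1 j)) (Finset.mem_univ i)).symm
  choose! Mc hMc using hfac
  set Q₁ := ∑ c ∈ S₁, a c • Mc c with hQ₁
  set Q₂ := ∑ c ∈ S₂, a c • (Finset.univ.prod fun i => minorOf K (c.2.1 i)) with hQ₂
  have hQ12 : Q = minorOf K Δ * Q₁ + Q₂ := by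
    rw [hsplit]
    congr 1
    rw [hQ₁, Finset.mul_sum]
    refine Finset.sum_congr rfl fun c hc => ?_
    rw [hMc c (Finset.mem_filter.mp hc).2, mul_smul_comm]
  have hQ₂' : pairingMap K (s + 1) m q Q₂ = pairingMap K (s + 1) m q (minorOf K Δ) *
      (h - pairingMap K (s + 1) m q Q₁) := by
    rw [map_sub, sub_eq_zero, hG', hQ12, map_add, map_mul] at hker
    rw [mul_sub, hker]
    ring
  have hclaim : ∀ c ∈ S₂, a c = 0 := by
    intro c₀ hc₀
    have hfilt : (a.filter (fun c => ¬ ∃ i, c.2.1 i = Δ)).support = S₂ := by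
      rw [Finsupp.support_filter]
    have := bt_coeff_eq_zero K m q s hsm hsq (a.filter (fun c => ¬ ∃ i, c.2.1 i = Δ)) (by
      intro y hy hyΔ
      rw [hfilt]
      have : ∑ c ∈ S₂, (a.filter (fun c => ¬ ∃ i, c.2.1 i = Δ)) c •
          (Finset.univ.prod fun i => minorOf K (c.2.1 i)) = Q₂ := by
        rw [hQ₂]
        refine Finset.sum_congr rfl fun c hc => ?_
        rw [Finsupp.filter_apply_pos (fun c : BTIdx m q (s + 2) => ¬ ∃ i, c.2.1 i = Δ) a
          (Finset.mem_filter.mp hc).2]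
      rw [this]
      obtain ⟨z, hz⟩ := exists_point_pairing K m (s + 1) q y hy
      rw [← hz, hQ₂', map_mul, hz, hyΔ, zero_mul]) c₀ (by
      intro i hi
      exact (Finset.mem_filter.mp hc₀).2 ⟨i, hi⟩)
    rw [Finsupp.filter_apply_pos (fun c : BTIdx m q (s + 2) => ¬ ∃ i, c.2.1 i = Δ) a
      (Finset.mem_filter.mp hc₀).2] at this
    exact this
  have hQ₂0 : Q₂ = 0 := by
    rw [hQ₂]
    refine Finset.sum_eq_zero fun c hc => ?_
    rw [hclaim c hc, zero_smul]
  rw [hQ₂0, map_zero] at hQ₂'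
  have := (mul_eq_zero.mp hQ₂'.symm).resolve_left (pairingMap_topLeft_ne_zero K m s q hsm hsq)
  exact ⟨Q₁, (sub_eq_zero.mp this).symm⟩

end Groth.Agent.Lib.Helper95.BT
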