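import Mathlib
import Groth.Agent.Lib.Helper95.BTPairDiv

open MvPolynomial W4bk4grassmannian Groth.Agent.Lib.Helper95.SMT Groth.Agent.Lib.Helper95.SMTDim

namespace Groth.Agent.Lib.Helper95.BT

universe u

variable (K : Type u) [Field K]

/-- the left matrix of a point. -/
def ptU (n m q : ℕ) (z : (Fin m × Fin n) ⊕ (Fin n × Fin q) → K) : Matrix (Fin m) (Fin n) K :=
  Matrix.of fun i k => z (Sum.inl (i, k))

/-- the right matrix of a point. -/
def ptW (n m q : ℕ) (z : (Fin m × Fin n) ⊕ (Fin n × Fin q) → K) : Matrix (Fin n) (Fin q) K :=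
  Matrix.of fun k j => z (Sum.inr (k, j))

/-- the point of a pair of matrices. -/
def mkPt (n m q : ℕ) (U : Matrix (Fin m) (Fin n) K) (W : Matrix (Fin n) (Fin q) K) :
    (Fin m × Fin n) ⊕ (Fin n × Fin q) → K :=
  Sum.elim (fun p => U p.1 p.2) (fun p => W p.1 p.2)

theorem mkPt_ptU_ptW (n m q : ℕ) (z : (Fin m × Fin n) ⊕ (Fin n × Fin q) → K) :
    mkPt K n m q (ptU K n m q z) (ptW K n m q z) = z := by
  funext p
  rcases p with p | p <;> rfl

theorem eval_pairingMap' (n m q : ℕ) (U : Matrix (Fin m) (Fin n) K) (W : Matrix (Fin n) (Fin q) K)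
    (P : MvPolynomial (Fin m × Fin q) K) :
    eval (mkPt K n m q U W) (pairingMap K n m q P) = eval (fun p => (U * W) p.1 p.2) P := by
  rw [eval_pairingMap]
  congr 1

theorem eval_glTranslate (n m q : ℕ) (A : GL (Fin n) K) (U : Matrix (Fin m) (Fin n) K)
    (W : Matrix (Fin n) (Fin q) K) (F : PairRing K n m q) :
    eval (mkPt K n m q U W) (glTranslate K n m q A F) =
      eval (mkPt K n m q (U * ((A⁻¹ : GL (Fin n) K) : Matrix (Fin n) (Fin n) K))
        ((A : Matrix (Fin n) (Fin n) K) * W)) F := by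
  have h : (aeval (mkPt K n m q U W) : PairRing K n m q →ₐ[K] K).comp (glTranslate K n m q A) =
      aeval (mkPt K n m q (U * ((A⁻¹ : GL (Fin n) K) : Matrix (Fin n) (Fin n) K))
        ((A : Matrix (Fin n) (Fin n) K) * W)) := by
    apply MvPolynomial.algHom_ext
    intro p
    unfold glTranslate
    rw [AlgHom.comp_apply, aeval_X, aeval_X]
    rcases p with p | p
    · simp only [Sum.elim_inl, map_sum, map_mul, aeval_X, aeval_C, mkPt, Matrix.mul_apply]
      rfl
    · simp only [Sum.elim_inr, map_sum, map_mul, aeval_X, aeval_C, mkPt, Matrix.mul_apply]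
      rfl
  exact DFunLike.congr_fun h F

theorem glTranslate_pairingMap [Infinite K] (n m q : ℕ) (A : GL (Fin n) K)
    (P : MvPolynomial (Fin m × Fin q) K) :
    glTranslate K n m q A (pairingMap K n m q P) = pairingMap K n m q P := by
  apply MvPolynomial.funext
  intro z
  rw [← mkPt_ptU_ptW K n m q z, eval_glTranslate, eval_pairingMap', eval_pairingMap']
  congr 2
  funext p
  have : ptU K n m q z * ((A⁻¹ : GL (Fin n) K) : Matrix (Fin n) (Fin n) K) *
      ((A : Matrix (Fin n) (Fin n) K) * ptW K n m q z) = ptU K n m q z * ptW K n m q z := by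
    rw [Matrix.mul_assoc, ← Matrix.mul_assoc _ (A : Matrix (Fin n) (Fin n) K)]
    have h1 : ((A⁻¹ : GL (Fin n) K) : Matrix (Fin n) (Fin n) K) * (A : Matrix (Fin n) (Fin n) K) =
        1 := by
      rw [← Units.val_mul, inv_mul_cancel]
      rfl
    rw [h1, Matrix.one_mul]
  rw [this]

end Groth.Agent.Lib.Helper95.BT
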