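import Mathlib
import Groth.Agent.Lib.Helper95.BTGL

open MvPolynomial W4bk4grassmannian Groth.Agent.Lib.Helper95.SMT Groth.Agent.Lib.Helper95.SMTDim

namespace Groth.Agent.Lib.Helper95.BT

universe u

variable (K : Type u) [Field K] (n m q : ℕ)

/-- top left block. -/
def Y11 (y : Fin (n + m) × Fin (n + q) → K) : Matrix (Fin n) (Fin n) K :=
  Matrix.of fun a b => y (Fin.castAdd m a, Fin.castAdd q b)

/-- top right block. -/
def Y12 (y : Fin (n + m) × Fin (n + q) → K) : Matrix (Fin n) (Fin q) K :=
  Matrix.of fun a j => y (Fin.castAdd m a, Fin.natAdd n j)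

/-- bottom left block. -/
def Y21 (y : Fin (n + m) × Fin (n + q) → K) : Matrix (Fin m) (Fin n) K :=
  Matrix.of fun i b => y (Fin.natAdd n i, Fin.castAdd q b)

/-- the generic top left block. -/
noncomputable def G11 : Matrix (Fin n) (Fin n) (MvPolynomial (Fin (n + m) × Fin (n + q)) K) :=
  Matrix.of fun a b => X (Fin.castAdd m a, Fin.castAdd q b)

theorem eval_adjugate_G11 (y : Fin (n + m) × Fin (n + q) → K) (k l : Fin n) :
    eval y ((G11 K n m q).adjugate k l) = (Y11 K n m q y).adjugate k l := by
  have h := RingHom.map_adjugate (eval y : MvPolynomial (Fin (n + m) × Fin (n + q)) K →+* K)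
    (G11 K n m q)
  have h2 : (eval y : MvPolynomial (Fin (n + m) × Fin (n + q)) K →+* K).mapMatrix (G11 K n m q) =
      Y11 K n m q y := by
    ext a b
    simp only [RingHom.mapMatrix_apply, Matrix.map_apply, G11, Y11, Matrix.of_apply, eval_X]
  rw [h2] at h
  rw [← h]
  rfl

theorem exists_homogenize_pair (D : MvPolynomial (Fin (n + m) × Fin (n + q)) K)
    (hD : ∀ y, eval y D = (Y11 K n m q y).det) (H : PairRing K n m q) :
    ∃ (N : ℕ) (G : MvPolynomial (Fin (n + m) × Fin (n + q)) K),
      ∀ y : Fin (n + m) × Fin (n + q) → K, (Y11 K n m q y).det ≠ 0 →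
        (Y11 K n m q y).det ^ N * eval (mkPt K n m q (Y21 K n m q y)
          ((Y11 K n m q y)⁻¹ * Y12 K n m q y)) H = eval y G := by
  induction H using MvPolynomial.induction_on with
  | C a =>
    exact ⟨0, C a, fun y _ => by rw [pow_zero, one_mul, eval_C, eval_C]⟩
  | add p q' hp hq =>
    obtain ⟨N1, G1, h1⟩ := hp
    obtain ⟨N2, G2, h2⟩ := hq
    refine ⟨N1 + N2, D ^ N2 * G1 + D ^ N1 * G2, fun y hy => ?_⟩
    rw [map_add, map_add, map_mul, map_mul, map_pow, map_pow, hD, ← h1 y hy, ← h2 y hy]
    ring
  | mul_X p o hp =>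
    obtain ⟨N1, G1, h1⟩ := hp
    rcases o with ⟨i, k⟩ | ⟨k, j⟩
    · refine ⟨N1, G1 * X (Fin.natAdd n i, Fin.castAdd q k), fun y hy => ?_⟩
      rw [map_mul, eval_X, map_mul, eval_X, ← h1 y hy]
      simp only [mkPt, Sum.elim_inl, Y21, Matrix.of_apply]
      ring
    · refine ⟨N1 + 1, G1 * ∑ l : Fin n, (G11 K n m q).adjugate k l *
        X (Fin.castAdd m l, Fin.natAdd n j), fun y hy => ?_⟩
      rw [map_mul, eval_X, map_mul, map_sum, ← h1 y hy]
      simp only [mkPt, Sum.elim_inr, map_mul, eval_X, eval_adjugate_G11]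
      rw [Matrix.mul_apply, Matrix.inv_def, Ring.inverse_eq_inv', pow_succ]
      simp only [Matrix.smul_apply, smul_eq_mul, Y12, Matrix.of_apply]
      rw [Finset.sum_congr rfl (fun l _ => mul_assoc _ _ _), ← Finset.mul_sum]
      field_simp

/-- the inclusion of the pair ring into the enlarged pair ring. -/
noncomputable def iotaPair : PairRing K n m q →ₐ[K] PairRing K n (n + m) (n + q) :=
  rename (Sum.map (Prod.map (Fin.natAdd n) id) (Prod.map id (Fin.natAdd n)))

theorem exists_pow_mul_eq_pair [Infinite K] (D : MvPolynomial (Fin (n + m) × Fin (n + q)) K)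
    (hD : ∀ y, eval y D = (Y11 K n m q y).det) (hD0 : pairingMap K n (n + m) (n + q) D ≠ 0)
    (f : PairRing K n m q)
    (hf : ∀ A : GL (Fin n) K, glTranslate K n m q A f = f) :
    ∃ (N : ℕ) (G : MvPolynomial (Fin (n + m) × Fin (n + q)) K),
      pairingMap K n (n + m) (n + q) D ^ N * iotaPair K n m q f =
        pairingMap K n (n + m) (n + q) G := by
  classical
  obtain ⟨N, G, hNG⟩ := exists_homogenize_pair K n m q D hD f
  refine ⟨N, G, ?_⟩
  have key : (pairingMap K n (n + m) (n + q) D ^ N * iotaPair K n m q f -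
      pairingMap K n (n + m) (n + q) G) * pairingMap K n (n + m) (n + q) D = 0 := by
    apply MvPolynomial.funext
    intro z
    rw [← mkPt_ptU_ptW K n (n + m) (n + q) z]
    set U' := ptU K n (n + m) (n + q) z with hU'
    set W' := ptW K n (n + m) (n + q) z with hW'
    set y : Fin (n + m) × Fin (n + q) → K := fun p => (U' * W') p.1 p.2 with hy
    rw [map_mul, map_sub, map_mul, map_pow, eval_pairingMap', eval_pairingMap', map_zero, hD]
    by_cases hδ : (Y11 K n m q y).det = 0
    · rw [hδ, mul_zero]
    · set U₀ : Matrix (Fin n) (Fin n) K := Matrix.of fun a k => U' (Fin.castAdd m a) k with hU₀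
      set W₀ : Matrix (Fin n) (Fin n) K := Matrix.of fun k b => W' k (Fin.castAdd q b) with hW₀
      set U : Matrix (Fin m) (Fin n) K := Matrix.of fun i k => U' (Fin.natAdd n i) k with hU
      set W : Matrix (Fin n) (Fin q) K := Matrix.of fun k j => W' k (Fin.natAdd n j) with hW
      have h11 : Y11 K n m q y = U₀ * W₀ := by
        ext a b
        simp only [Y11, hy, Matrix.of_apply, Matrix.mul_apply, hU₀, hW₀]
      have h12 : Y12 K n m q y = U₀ * W := by
        ext a b
        simp only [Y12, hy, Matrix.of_apply, Matrix.mul_apply, hU₀, hW]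
      have h21 : Y21 K n m q y = U * W₀ := by
        ext a b
        simp only [Y21, hy, Matrix.of_apply, Matrix.mul_apply, hU, hW₀]
      rw [h11, Matrix.det_mul] at hδ
      have hU₀det : U₀.det ≠ 0 := fun h => hδ (by rw [h, zero_mul])
      have hW₀det : W₀.det ≠ 0 := fun h => hδ (by rw [h, mul_zero])
      have hiota : eval (mkPt K n (n + m) (n + q) U' W') (iotaPair K n m q f) =
          eval (mkPt K n m q U W) f := by
        unfold iotaPair
        rw [eval_rename]
        have hpt : mkPt K n (n + m) (n + q) U' W' ∘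
            Sum.map (Prod.map (Fin.natAdd n) id) (Prod.map id (Fin.natAdd n)) =
            mkPt K n m q U W := by
          funext p
          rcases p with p | p <;> rfl
        rw [hpt]
      let A : GL (Fin n) K := (Matrix.GeneralLinearGroup.mkOfDetNeZero W₀ hW₀det)⁻¹
      have hA1 : ((A⁻¹ : GL (Fin n) K) : Matrix (Fin n) (Fin n) K) = W₀ := by
        show (((Matrix.GeneralLinearGroup.mkOfDetNeZero W₀ hW₀det)⁻¹⁻¹ : GL (Fin n) K) :
          Matrix (Fin n) (Fin n) K) = W₀
        rw [inv_inv]
        rfl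
      have hA2 : (A : Matrix (Fin n) (Fin n) K) = W₀⁻¹ := by
        show (((Matrix.GeneralLinearGroup.mkOfDetNeZero W₀ hW₀det)⁻¹ : GL (Fin n) K) :
          Matrix (Fin n) (Fin n) K) = W₀⁻¹
        rw [Matrix.coe_units_inv]
        rfl
      have hinv : eval (mkPt K n m q U W) f = eval (mkPt K n m q (U * W₀) (W₀⁻¹ * W)) f := by
        have h1 := eval_glTranslate K n m q A U W f
        rw [hf A, hA1, hA2] at h1
        exact h1
      have hW : (U₀ * W₀)⁻¹ * (U₀ * W) = W₀⁻¹ * W := by
        rw [Matrix.mul_inv_rev, Matrix.mul_assoc, ← Matrix.mul_assoc U₀⁻¹,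
          Matrix.nonsing_inv_mul _ (isUnit_iff_ne_zero.mpr hU₀det), Matrix.one_mul]
      have h2 := hNG y (by rw [h11, Matrix.det_mul]; exact hδ)
      rw [h11, h12, h21, hW, ← hinv, ← hiota] at h2
      rw [h11, h2, sub_self, zero_mul]
  rcases mul_eq_zero.mp key with h | h
  · exact sub_eq_zero.mp h
  · exact absurd h hD0

/-- the specialisation killing the auxiliary blocks. -/
noncomputable def sigmaPair : PairRing K n (n + m) (n + q) →ₐ[K] PairRing K n m q :=
  aeval (Sum.elim
    (fun p : Fin (n + m) × Fin n => Fin.addCases (motive := fun _ => PairRing K n m q)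
      (fun _ => 0) (fun i => X (Sum.inl (i, p.2))) p.1)
    (fun p : Fin n × Fin (n + q) => Fin.addCases (motive := fun _ => PairRing K n m q)
      (fun _ => 0) (fun j => X (Sum.inr (p.1, j))) p.2))

/-- the specialisation killing the auxiliary rows and columns of the product. -/
noncomputable def tauPair :
    MvPolynomial (Fin (n + m) × Fin (n + q)) K →ₐ[K] MvPolynomial (Fin m × Fin q) K :=
  aeval (fun p : Fin (n + m) × Fin (n + q) =>
    Fin.addCases (motive := fun _ => MvPolynomial (Fin m × Fin q) K) (fun _ => 0)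
      (fun i => Fin.addCases (motive := fun _ => MvPolynomial (Fin m × Fin q) K) (fun _ => 0)
        (fun j => X (i, j)) p.2) p.1)

theorem sigmaPair_iotaPair (f : PairRing K n m q) :
    sigmaPair K n m q (iotaPair K n m q f) = f := by
  have h : (sigmaPair K n m q).comp (iotaPair K n m q) = AlgHom.id K _ := by
    apply MvPolynomial.algHom_ext
    intro p
    unfold sigmaPair iotaPair
    rw [AlgHom.comp_apply, rename_X, aeval_X, AlgHom.id_apply]
    rcases p with ⟨i, k⟩ | ⟨k, j⟩
    · simp only [Sum.map_inl, Prod.map_apply, id_eq, Sum.elim_inl, Fin.addCases_right]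
    · simp only [Sum.map_inr, Prod.map_apply, id_eq, Sum.elim_inr, Fin.addCases_right]
  exact DFunLike.congr_fun h f

theorem sigmaPair_pairingMap (P : MvPolynomial (Fin (n + m) × Fin (n + q)) K) :
    sigmaPair K n m q (pairingMap K n (n + m) (n + q) P) =
      pairingMap K n m q (tauPair K n m q P) := by
  have h : (sigmaPair K n m q).comp (pairingMap K n (n + m) (n + q)) =
      (pairingMap K n m q).comp (tauPair K n m q) := by
    apply MvPolynomial.algHom_ext
    rintro ⟨i, j⟩
    unfold sigmaPair tauPair pairingMap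
    rw [AlgHom.comp_apply, AlgHom.comp_apply, aeval_X, aeval_X, map_sum]
    simp only [map_mul, aeval_X, Sum.elim_inl, Sum.elim_inr]
    induction i using Fin.addCases with
    | left a =>
      simp only [Fin.addCases_left, zero_mul, Finset.sum_const_zero, map_zero]
    | right i' =>
      induction j using Fin.addCases with
      | left b =>
        simp only [Fin.addCases_left, Fin.addCases_right, mul_zero, Finset.sum_const_zero,
          map_zero]
      | right j' =>
        simp only [Fin.addCases_right, aeval_X]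
  exact DFunLike.congr_fun h P

theorem mem_range_of_invariant [Infinite K] (f : PairRing K n m q)
    (hf : ∀ A : GL (Fin n) K, glTranslate K n m q A f = f) :
    f ∈ (pairingMap K n m q).range := by
  rcases Nat.eq_zero_or_pos n with hn | hn
  · subst hn
    haveI : IsEmpty ((Fin m × Fin 0) ⊕ (Fin 0 × Fin q)) := by
      constructor
      rintro (⟨_, k⟩ | ⟨k, _⟩) <;> exact k.elim0
    rw [MvPolynomial.eq_C_of_isEmpty f]
    refine ⟨C (coeff 0 f), ?_⟩
    show pairingMap K 0 m q (C (coeff 0 f)) = _
    unfold pairingMap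
    rw [aeval_C]
    rfl
  · obtain ⟨s, rfl⟩ : ∃ s, n = s + 1 := ⟨n - 1, by omega⟩
    have hsm : s + 1 ≤ s + 1 + m := by omega
    have hsq : s + 1 ≤ s + 1 + q := by omega
    have hD : ∀ y, eval y (minorOf K (topLeft (s + 1 + m) (s + 1 + q) s hsm hsq)) =
        (Y11 K (s + 1) m q y).det := by
      intro y
      unfold minorOf
      rw [eval_minor]
      rfl
    have hD0 := pairingMap_topLeft_ne_zero K (s + 1 + m) s (s + 1 + q) hsm hsq
    obtain ⟨N, G, hNG⟩ := exists_pow_mul_eq_pair K (s + 1) m q
      (minorOf K (topLeft (s + 1 + m) (s + 1 + q) s hsm hsq)) hD hD0 f hf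
    have key : ∀ (N : ℕ) (h : PairRing K (s + 1) (s + 1 + m) (s + 1 + q)),
        pairingMap K (s + 1) (s + 1 + m) (s + 1 + q)
          (minorOf K (topLeft (s + 1 + m) (s + 1 + q) s hsm hsq)) ^ N * h ∈
          (pairingMap K (s + 1) (s + 1 + m) (s + 1 + q)).range →
        h ∈ (pairingMap K (s + 1) (s + 1 + m) (s + 1 + q)).range := by
      intro N
      induction N with
      | zero =>
        intro h hh
        rw [pow_zero, one_mul] at hh
        exact hh
      | succ N ih =>
        intro h hh
        apply pairing_div K (s + 1 + m) s (s + 1 + q) hsm hsq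
        apply ih
        rw [← mul_assoc, ← pow_succ]
        exact hh
    obtain ⟨G'', hG''⟩ := key N (iotaPair K (s + 1) m q f) ⟨G, hNG.symm⟩
    have hG2 : pairingMap K (s + 1) (s + 1 + m) (s + 1 + q) G'' = iotaPair K (s + 1) m q f := hG''
    refine ⟨tauPair K (s + 1) m q G'', ?_⟩
    show pairingMap K (s + 1) m q (tauPair K (s + 1) m q G'') = f
    rw [← sigmaPair_pairingMap, hG2, sigmaPair_iotaPair]

end Groth.Agent.Lib.Helper95.BT
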