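import Groth.Prelude.Def_W4c6intromoduliQuartic
import Mathlib

/-!
# Binary quartics: two quadruples of points of `P¹` with the same cross ratio are projectively equivalent

* `subst_linear`: the effect of `W4c6intromoduli.subst M` on a linear form.
* `quartic_equiv_scalar`: the explicit substitution carrying one split quartic to a multiple of another.
* `six_cases`: equality of `j`-invariants forces one of six cross-ratio relations.
-/

set_option autoImplicit false
universe u

namespace Groth.Agent.Lib.Helper95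

open MvPolynomial

section BQ1

variable {k : Type u} [Field k]

theorem subst_linear (M : Matrix (Fin 2) (Fin 2) k) (l m : k) :
    W4c6intromoduli.subst M (C m * X 0 - C l * X 1) =
      C (m * M 0 0 - l * M 1 0) * X 0 - C (l * M 1 1 - m * M 0 1) * X 1 := by
  unfold W4c6intromoduli.subst
  rw [map_sub, map_mul, map_mul, aeval_C, aeval_C, aeval_X, aeval_X, Fin.sum_univ_two, Fin.sum_univ_two]
  simp only [MvPolynomial.algebraMap_eq, map_sub, map_mul]
  ring

set_option maxHeartbeats 1600000 in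
/-- Two quadruples of points of the projective line with the same cross ratio are related by a
linear substitution: the scalar form. -/
theorem quartic_equiv_scalar (l0 l1 l2 l3 m0 m1 m2 m3 l0' l1' l2' l3' m0' m1' m2' m3' : k)
    (h01 : l1 * m0 - l0 * m1 ≠ 0) (h02 : l2 * m0 - l0 * m2 ≠ 0) (h12 : l2 * m1 - l1 * m2 ≠ 0)
    (h13 : l3 * m1 - l1 * m3 ≠ 0)
    (h01' : l1' * m0' - l0' * m1' ≠ 0) (h02' : l2' * m0' - l0' * m2' ≠ 0)
    (h12' : l2' * m1' - l1' * m2' ≠ 0) (h13' : l3' * m1' - l1' * m3' ≠ 0)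
    (hcr : (l2 * m0 - l0 * m2) * (l3 * m1 - l1 * m3) *
        ((l3' * m0' - l0' * m3') * (l2' * m1' - l1' * m2')) =
      (l3 * m0 - l0 * m3) * (l2 * m1 - l1 * m2) *
        ((l2' * m0' - l0' * m2') * (l3' * m1' - l1' * m3'))) :
    ∃ (M : Matrix (Fin 2) (Fin 2) k) (c : k), IsUnit M.det ∧ c ≠ 0 ∧
      (C m0' * X 0 - C l0' * X 1) * (C m1' * X 0 - C l1' * X 1) * (C m2' * X 0 - C l2' * X 1) *
        (C m3' * X 0 - C l3' * X 1) =
      C c * W4c6intromoduli.subst M ((C m0 * X 0 - C l0 * X 1) * (C m1 * X 0 - C l1 * X 1) *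
        (C m2 * X 0 - C l2 * X 1) * (C m3 * X 0 - C l3 * X 1)) := by
  set α := (l2 * m0 - l0 * m2) * (l2' * m1' - l1' * m2') with hα
  set β := (l2 * m1 - l1 * m2) * (l2' * m0' - l0' * m2') with hβ
  have hα0 : α ≠ 0 := mul_ne_zero h02 h12'
  have hβ0 : β ≠ 0 := mul_ne_zero h12 h02'
  set G00 := α * m1 * l0' - β * m0 * l1' with hG00
  set G01 := -α * l1 * l0' + β * l0 * l1' with hG01
  set G10 := α * m1 * m0' - β * m0 * m1' with hG10
  set G11 := -α * l1 * m0' + β * l0 * m1' with hG11
  set g0 := -α * (l1 * m0 - l0 * m1) with hg0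
  set g1 := -β * (l1 * m0 - l0 * m1) with hg1
  set g2 := -(l2 * m1 - l1 * m2) * (l2 * m0 - l0 * m2) * (l1' * m0' - l0' * m1') with hg2
  obtain ⟨g3, hg3⟩ : ∃ g3 : k, g3 = -(l2 * m0 - l0 * m2) * (l3 * m1 - l1 * m3) * (l2' * m1' - l1' * m2') *
    (l1' * m0' - l0' * m1') / (l3' * m1' - l1' * m3') := ⟨_, rfl⟩
  have hg0n : g0 ≠ 0 := mul_ne_zero (neg_ne_zero.mpr hα0) h01
  have hg1n : g1 ≠ 0 := mul_ne_zero (neg_ne_zero.mpr hβ0) h01
  have hg2n : g2 ≠ 0 := mul_ne_zero (mul_ne_zero (neg_ne_zero.mpr h12) h02) h01'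
  have hg3n : g3 ≠ 0 := by
    rw [hg3]
    exact div_ne_zero (mul_ne_zero (mul_ne_zero (mul_ne_zero (neg_ne_zero.mpr h02) h13) h12') h01') h13'
  -- the action on the four points
  have e0l : G00 * l0 + G01 * m0 = g0 * l0' := by simp only [hG00, hG01, hg0]; ring
  have e0m : G10 * l0 + G11 * m0 = g0 * m0' := by simp only [hG10, hG11, hg0]; ring
  have e1l : G00 * l1 + G01 * m1 = g1 * l1' := by simp only [hG00, hG01, hg1]; ring
  have e1m : G10 * l1 + G11 * m1 = g1 * m1' := by simp only [hG10, hG11, hg1]; ring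
  have e2l : G00 * l2 + G01 * m2 = g2 * l2' := by simp only [hG00, hG01, hg2, hα, hβ]; ring
  have e2m : G10 * l2 + G11 * m2 = g2 * m2' := by simp only [hG10, hG11, hg2, hα, hβ]; ring
  have hg3d : g3 * (l3' * m1' - l1' * m3') =
      -(l2 * m0 - l0 * m2) * (l3 * m1 - l1 * m3) * (l2' * m1' - l1' * m2') *
        (l1' * m0' - l0' * m1') := by
    rw [hg3]
    exact div_mul_cancel₀ _ h13'
  have e3l : G00 * l3 + G01 * m3 = g3 * l3' := by
    apply mul_right_cancel₀ h13'
    simp only [hG00, hG01, hα, hβ]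
    linear_combination l1' * hcr - l3' * hg3d
  have e3m : G10 * l3 + G11 * m3 = g3 * m3' := by
    apply mul_right_cancel₀ h13'
    simp only [hG10, hG11, hα, hβ]
    linear_combination m1' * hcr - m3' * hg3d
  refine ⟨!![G11, -G01; -G10, G00], (g0 * g1 * g2 * g3)⁻¹, ?_, ?_, ?_⟩
  · rw [Matrix.det_fin_two_of, isUnit_iff_ne_zero]
    have : G11 * G00 - -G01 * -G10 = α * β * (l1 * m0 - l0 * m1) * (l1' * m0' - l0' * m1') := by
      simp only [hG00, hG01, hG10, hG11]
      ring
    rw [this]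
    exact mul_ne_zero (mul_ne_zero (mul_ne_zero hα0 hβ0) h01) h01'
  · exact inv_ne_zero (mul_ne_zero (mul_ne_zero (mul_ne_zero hg0n hg1n) hg2n) hg3n)
  · rw [map_mul, map_mul, map_mul, subst_linear, subst_linear, subst_linear, subst_linear]
    simp only [Matrix.of_apply, Matrix.cons_val', Matrix.cons_val_zero, Matrix.cons_val_one,
      Matrix.cons_val_fin_one]
    have f0 : m0 * G11 - l0 * -G10 = g0 * m0' := by rw [← e0m]; ring
    have f0' : l0 * G00 - m0 * -G01 = g0 * l0' := by rw [← e0l]; ring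
    have f1 : m1 * G11 - l1 * -G10 = g1 * m1' := by rw [← e1m]; ring
    have f1' : l1 * G00 - m1 * -G01 = g1 * l1' := by rw [← e1l]; ring
    have f2 : m2 * G11 - l2 * -G10 = g2 * m2' := by rw [← e2m]; ring
    have f2' : l2 * G00 - m2 * -G01 = g2 * l2' := by rw [← e2l]; ring
    have f3 : m3 * G11 - l3 * -G10 = g3 * m3' := by rw [← e3m]; ring
    have f3' : l3 * G00 - m3 * -G01 = g3 * l3' := by rw [← e3l]; ring
    rw [f0, f0', f1, f1', f2, f2', f3, f3']
    have hc : (g0 * g1 * g2 * g3)⁻¹ * (g0 * g1 * g2 * g3) = 1 :=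
      inv_mul_cancel₀ (mul_ne_zero (mul_ne_zero (mul_ne_zero hg0n hg1n) hg2n) hg3n)
    have hC : (C ((g0 * g1 * g2 * g3)⁻¹) : MvPolynomial (Fin 2) k) * (C g0 * C g1 * C g2 * C g3) = 1 := by
      rw [← map_mul, ← map_mul, ← map_mul, ← map_mul, hc, map_one]
    simp only [map_mul]
    calc _ = (1 : MvPolynomial (Fin 2) k) * ((C m0' * X 0 - C l0' * X 1) * (C m1' * X 0 - C l1' * X 1) *
          (C m2' * X 0 - C l2' * X 1) * (C m3' * X 0 - C l3' * X 1)) := by rw [one_mul]
      _ = _ := by
        rw [← hC]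
        ring

end BQ1

section BQ2

variable {k : Type u} [Field k]

theorem six_cases (A B C A' B' C' I I' D D' : k) (hC : C = B - A) (hC' : C' = B' - A')
    (hI : I = A ^ 2 - A * B + B ^ 2) (hI' : I' = A' ^ 2 - A' * B' + B' ^ 2)
    (hD : D = (A * B * C) ^ 2) (hD' : D' = (A' * B' * C') ^ 2) (h : I ^ 3 * D' = I' ^ 3 * D) :
    B * C' = C * B' ∨ A * C' = -C * B' ∨ C * C' = B * B' ∨ -B * C' = -A * B' ∨ -C * C' = A * B' ∨
      -A * C' = -B * B' := by
  have key : (B * C' - C * B') * (A * C' + C * B') * (C * C' - B * B') * (-B * C' + A * B') *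
      (-C * C' - A * B') * (-A * C' + B * B') = 0 := by
    have e : (B * C' - C * B') * (A * C' + C * B') * (C * C' - B * B') * (-B * C' + A * B') *
        (-C * C' - A * B') * (-A * C' + B * B') = I ^ 3 * D' - I' ^ 3 * D := by
      subst hC hC' hI hI' hD hD'
      ring
    rw [e, h, sub_self]
  rcases mul_eq_zero.mp key with h1 | h1
  · rcases mul_eq_zero.mp h1 with h2 | h2
    · rcases mul_eq_zero.mp h2 with h3 | h3
      · rcases mul_eq_zero.mp h3 with h4 | h4
        · rcases mul_eq_zero.mp h4 with h5 | h5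
          · left; linear_combination h5
          · right; left; linear_combination h5
        · right; right; left; linear_combination h4
      · right; right; right; left; linear_combination h3
    · right; right; right; right; left; linear_combination h2
  · right; right; right; right; right; linear_combination h1

end BQ2

end Groth.Agent.Lib.Helper95
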