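import Groth.Agent.Lib.Helper95.BinQuartic
import Groth.Agent.S19391

/-!
# Binary quartics: the invariant `I` through brackets and the six cross-ratio cases

* `invI_eq`: `I = A² − AB + B²` for `A = [01][23]`, `B = [02][13]`.
* `quartic_equiv_six`: any of the six cross-ratio relations yields a linear substitution.
-/

set_option autoImplicit false
universe u

namespace Groth.Agent.Lib.Helper95

open MvPolynomial

theorem invI_eq {R : Type u} [CommRing R] (la mu : Fin 4 → R) :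
    W4c6intromoduli.invI (W4c6intromoduli.coef la mu) =
      ((la 1 * mu 0 - la 0 * mu 1) * (la 3 * mu 2 - la 2 * mu 3)) ^ 2
      - ((la 1 * mu 0 - la 0 * mu 1) * (la 3 * mu 2 - la 2 * mu 3)) *
          ((la 2 * mu 0 - la 0 * mu 2) * (la 3 * mu 1 - la 1 * mu 3))
      + ((la 2 * mu 0 - la 0 * mu 2) * (la 3 * mu 1 - la 1 * mu 3)) ^ 2 := by
  obtain ⟨h0, h1, h2, h3, h4⟩ := Groth.Agent.S19391.coeff_quartic
    (mu 0 * mu 1 * mu 2 * mu 3)
    (-(la 0 * mu 1 * mu 2 * mu 3 + mu 0 * la 1 * mu 2 * mu 3 + mu 0 * mu 1 * la 2 * mu 3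
            + mu 0 * mu 1 * mu 2 * la 3))
    (la 0 * la 1 * mu 2 * mu 3 + la 0 * mu 1 * la 2 * mu 3 + la 0 * mu 1 * mu 2 * la 3
            + mu 0 * la 1 * la 2 * mu 3 + mu 0 * la 1 * mu 2 * la 3 + mu 0 * mu 1 * la 2 * la 3)
    (-(la 0 * la 1 * la 2 * mu 3 + la 0 * la 1 * mu 2 * la 3 + la 0 * mu 1 * la 2 * la 3
            + mu 0 * la 1 * la 2 * la 3))
    (la 0 * la 1 * la 2 * la 3)
  rw [← Groth.Agent.S19391.rootPoly_eq] at h0 h1 h2 h3 h4
  change W4c6intromoduli.coef la mu 0 = _ at h0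
  change W4c6intromoduli.coef la mu 1 = _ at h1
  change W4c6intromoduli.coef la mu 2 = _ at h2
  change W4c6intromoduli.coef la mu 3 = _ at h3
  change W4c6intromoduli.coef la mu 4 = _ at h4
  unfold W4c6intromoduli.invI
  rw [h0, h1, h2, h3, h4]
  ring

section BQ3

variable {k : Type u} [Field k]

/-- `quartic_equiv_scalar` with the substituted quartic given up to a propositional equality. -/
theorem quartic_equiv_scalar' (l0 l1 l2 l3 m0 m1 m2 m3 l0' l1' l2' l3' m0' m1' m2' m3' : k)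
    (h01 : l1 * m0 - l0 * m1 ≠ 0) (h02 : l2 * m0 - l0 * m2 ≠ 0) (h12 : l2 * m1 - l1 * m2 ≠ 0)
    (h13 : l3 * m1 - l1 * m3 ≠ 0)
    (h01' : l1' * m0' - l0' * m1' ≠ 0) (h02' : l2' * m0' - l0' * m2' ≠ 0)
    (h12' : l2' * m1' - l1' * m2' ≠ 0) (h13' : l3' * m1' - l1' * m3' ≠ 0)
    (hcr : (l2 * m0 - l0 * m2) * (l3 * m1 - l1 * m3) *
        ((l3' * m0' - l0' * m3') * (l2' * m1' - l1' * m2')) =
      (l3 * m0 - l0 * m3) * (l2 * m1 - l1 * m2) *
        ((l2' * m0' - l0' * m2') * (l3' * m1' - l1' * m3')))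
    (P : MvPolynomial (Fin 2) k)
    (hP : P = (C m0 * X 0 - C l0 * X 1) * (C m1 * X 0 - C l1 * X 1) *
        (C m2 * X 0 - C l2 * X 1) * (C m3 * X 0 - C l3 * X 1)) :
    ∃ (M : Matrix (Fin 2) (Fin 2) k) (c : k), IsUnit M.det ∧ c ≠ 0 ∧
      (C m0' * X 0 - C l0' * X 1) * (C m1' * X 0 - C l1' * X 1) * (C m2' * X 0 - C l2' * X 1) *
        (C m3' * X 0 - C l3' * X 1) =
      C c * W4c6intromoduli.subst M P := by
  subst hP
  exact quartic_equiv_scalar l0 l1 l2 l3 m0 m1 m2 m3 l0' l1' l2' l3' m0' m1' m2' m3'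
    h01 h02 h12 h13 h01' h02' h12' h13' hcr

set_option maxHeartbeats 1600000 in
/-- Any of the six cross-ratio relations between two quadruples of distinct points of the
projective line yields a linear substitution carrying one split quartic to a multiple of the
other. -/
theorem quartic_equiv_six (l0 l1 l2 l3 m0 m1 m2 m3 l0' l1' l2' l3' m0' m1' m2' m3' : k)
    (h01 : l1 * m0 - l0 * m1 ≠ 0) (h02 : l2 * m0 - l0 * m2 ≠ 0) (h03 : l3 * m0 - l0 * m3 ≠ 0)
    (h12 : l2 * m1 - l1 * m2 ≠ 0) (h13 : l3 * m1 - l1 * m3 ≠ 0) (h23 : l3 * m2 - l2 * m3 ≠ 0)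
    (h01' : l1' * m0' - l0' * m1' ≠ 0) (h02' : l2' * m0' - l0' * m2' ≠ 0)
    (h12' : l2' * m1' - l1' * m2' ≠ 0) (h13' : l3' * m1' - l1' * m3' ≠ 0)
    (cA cB cC cB' cC' : k)
    (hA : cA = (l1 * m0 - l0 * m1) * (l3 * m2 - l2 * m3))
    (hB : cB = (l2 * m0 - l0 * m2) * (l3 * m1 - l1 * m3))
    (hC : cC = (l3 * m0 - l0 * m3) * (l2 * m1 - l1 * m2))
    (hB' : cB' = (l2' * m0' - l0' * m2') * (l3' * m1' - l1' * m3'))
    (hC' : cC' = (l3' * m0' - l0' * m3') * (l2' * m1' - l1' * m2'))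
    (hcases : cB * cC' = cC * cB' ∨ cA * cC' = -cC * cB' ∨ cC * cC' = cB * cB' ∨
      -cB * cC' = -cA * cB' ∨ -cC * cC' = cA * cB' ∨ -cA * cC' = -cB * cB') :
    ∃ (M : Matrix (Fin 2) (Fin 2) k) (c : k), IsUnit M.det ∧ c ≠ 0 ∧
      (C m0' * X 0 - C l0' * X 1) * (C m1' * X 0 - C l1' * X 1) * (C m2' * X 0 - C l2' * X 1) *
        (C m3' * X 0 - C l3' * X 1) =
      C c * W4c6intromoduli.subst M ((C m0 * X 0 - C l0 * X 1) * (C m1 * X 0 - C l1 * X 1) *
        (C m2 * X 0 - C l2 * X 1) * (C m3 * X 0 - C l3 * X 1)) := by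
  have n10 : l0 * m1 - l1 * m0 ≠ 0 := fun h => h01 (by linear_combination -h)
  have n20 : l0 * m2 - l2 * m0 ≠ 0 := fun h => h02 (by linear_combination -h)
  have n30 : l0 * m3 - l3 * m0 ≠ 0 := fun h => h03 (by linear_combination -h)
  have n21 : l1 * m2 - l2 * m1 ≠ 0 := fun h => h12 (by linear_combination -h)
  have n31 : l1 * m3 - l3 * m1 ≠ 0 := fun h => h13 (by linear_combination -h)
  have n32 : l2 * m3 - l3 * m2 ≠ 0 := fun h => h23 (by linear_combination -h)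
  rcases hcases with hc | hc | hc | hc | hc | hc
  · -- (0,1,2,3)
    exact quartic_equiv_scalar l0 l1 l2 l3 m0 m1 m2 m3 l0' l1' l2' l3' m0' m1' m2' m3'
      h01 h02 h12 h13 h01' h02' h12' h13' (by rw [← hB, ← hC, ← hB', ← hC']; exact hc)
  · -- (0,2,1,3)
    exact quartic_equiv_scalar' l0 l2 l1 l3 m0 m2 m1 m3
      l0' l1' l2' l3' m0' m1' m2' m3'
      h02 h01 n21 h23 h01' h02' h12' h13' (by
        rw [← hB', ← hC', ← hA]
        have : (l3 * m0 - l0 * m3) * (l1 * m2 - l2 * m1) = -cC := by rw [hC]; ring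
        rw [this]; exact hc) _ (by ring)
  · -- (0,1,3,2)
    exact quartic_equiv_scalar' l0 l1 l3 l2 m0 m1 m3 m2
      l0' l1' l2' l3' m0' m1' m2' m3'
      h01 h03 h13 h12 h01' h02' h12' h13' (by
        rw [← hB', ← hC', ← hC, ← hB]; exact hc) _ (by ring)
  · -- (0,3,2,1)
    exact quartic_equiv_scalar' l0 l3 l2 l1 m0 m3 m2 m1
      l0' l1' l2' l3' m0' m1' m2' m3'
      h03 h02 n32 n31 h01' h02' h12' h13' (by
        rw [← hB', ← hC']
        have e1 : (l2 * m0 - l0 * m2) * (l1 * m3 - l3 * m1) = -cB := by rw [hB]; ring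
        have e2 : (l1 * m0 - l0 * m1) * (l2 * m3 - l3 * m2) = -cA := by rw [hA]; ring
        rw [e1, e2]; exact hc) _ (by ring)
  · -- (0,2,3,1)
    exact quartic_equiv_scalar' l0 l2 l3 l1 m0 m2 m3 m1
      l0' l1' l2' l3' m0' m1' m2' m3'
      h02 h03 h23 n21 h01' h02' h12' h13' (by
        rw [← hB', ← hC']
        have e1 : (l3 * m0 - l0 * m3) * (l1 * m2 - l2 * m1) = -cC := by rw [hC]; ring
        have e2 : (l1 * m0 - l0 * m1) * (l3 * m2 - l2 * m3) = cA := by rw [hA]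
        rw [e1, e2]; exact hc) _ (by ring)
  · -- (0,3,1,2)
    exact quartic_equiv_scalar' l0 l3 l1 l2 m0 m3 m1 m2
      l0' l1' l2' l3' m0' m1' m2' m3'
      h03 h01 n31 n32 h01' h02' h12' h13' (by
        rw [← hB', ← hC']
        have e1 : (l1 * m0 - l0 * m1) * (l2 * m3 - l3 * m2) = -cA := by rw [hA]; ring
        have e2 : (l2 * m0 - l0 * m2) * (l1 * m3 - l3 * m1) = -cB := by rw [hB]; ring
        rw [e1, e2]; exact hc) _ (by ring)

end BQ3

end Groth.Agent.Lib.Helper95
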