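import Mathlib

/-!
# Birkhoff factorization over `k[T;T⁻¹]`: row reduction over `k[X]`

* `isUnit_of_isUnit_toLaurent`, `exists_polynomial_matrix`: units and clearing denominators.
* `birkhoff_step`, `birkhoff_reduce`: row reduction of a polynomial matrix by `GL_n(k[X])` until the
  matrix of leading coefficients (w.r.t. row degree bounds) is invertible.
* `reflEntry`: `X^d p(1/X)`.
-/

set_option autoImplicit false
universe u

namespace Groth.Agent.Lib.Helper95

section Birkhoff1

open Polynomial LaurentPolynomial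



variable {k : Type u} [Field k]

/-- A polynomial with nonzero constant term dividing a power of `X` is a unit. -/
theorem isUnit_of_mul_eq_X_pow (g : k[X]) (hg0 : g.coeff 0 ≠ 0) :
    ∀ (N : ℕ) (h : k[X]), g * h = X ^ N → IsUnit g := by
  intro N
  induction N with
  | zero =>
    intro h hgh
    rw [pow_zero] at hgh
    exact IsUnit.of_mul_eq_one h hgh
  | succ N ih =>
    intro h hgh
    have h0 : (g * h).coeff 0 = 0 := by
      rw [hgh, Polynomial.coeff_X_pow]
      simp
    rw [Polynomial.mul_coeff_zero] at h0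
    have hh0 : h.coeff 0 = 0 := by
      rcases mul_eq_zero.mp h0 with h1 | h1
      · exact absurd h1 hg0
      · exact h1
    obtain ⟨h', rfl⟩ := Polynomial.X_dvd_iff.mpr hh0
    apply ih h'
    have hX : (X : k[X]) ≠ 0 := Polynomial.X_ne_zero
    apply mul_left_cancel₀ hX
    rw [pow_succ] at hgh
    rw [mul_comm X (X ^ N), ← hgh]
    ring

/-- A polynomial with nonzero constant term which becomes a unit in `k[T;T⁻¹]` is a unit. -/
theorem isUnit_of_isUnit_toLaurent (g : k[X]) (hg0 : g.coeff 0 ≠ 0)
    (hu : IsUnit (toLaurent g)) : IsUnit g := by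
  obtain ⟨h, hh⟩ := hu.exists_right_inv
  obtain ⟨N, h', hh'⟩ := LaurentPolynomial.exists_T_pow h
  apply isUnit_of_mul_eq_X_pow g hg0 N h'
  apply Polynomial.toLaurent_injective
  rw [map_mul, hh', ← mul_assoc, hh, one_mul, Polynomial.toLaurent_X_pow]

/-- Clearing denominators in a matrix of Laurent polynomials. -/
theorem exists_polynomial_matrix {n : ℕ} (A : Matrix (Fin n) (Fin n) k[T;T⁻¹]) :
    ∃ (N : ℕ) (M : Matrix (Fin n) (Fin n) k[X]), ∀ i j, toLaurent (M i j) = A i j * T N := by
  choose e f hf using fun p : Fin n × Fin n => LaurentPolynomial.exists_T_pow (A p.1 p.2)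
  refine ⟨Finset.univ.sup e, fun i j => f (i, j) * X ^ (Finset.univ.sup e - e (i, j)), ?_⟩
  intro i j
  have hle : e (i, j) ≤ Finset.univ.sup e := Finset.le_sup (Finset.mem_univ (i, j))
  rw [map_mul, hf, Polynomial.toLaurent_X_pow, LaurentPolynomial.mul_T_assoc]
  congr 2
  push_cast [hle]
  ring

end Birkhoff1

open Polynomial

section Birkhoff2

variable {k : Type u} [Field k] {n : ℕ}

/-- The matrix of coefficients at the row bounds `d`. -/
def lcMat (B : Matrix (Fin n) (Fin n) k[X]) (d : Fin n → ℕ) : Matrix (Fin n) (Fin n) k :=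
  Matrix.of fun i j => (B i j).coeff (d i)

theorem birkhoff_step (M P : Matrix (Fin n) (Fin n) k[X]) (hM : M.det ≠ 0) (hP : IsUnit P.det)
    (d : Fin n → ℕ) (hd : ∀ i j, ((P * M) i j).natDegree ≤ d i)
    (hL : (lcMat (P * M) d).det = 0) :
    ∃ (P' : Matrix (Fin n) (Fin n) k[X]) (d' : Fin n → ℕ), IsUnit P'.det ∧
      (∀ i j, ((P' * M) i j).natDegree ≤ d' i) ∧ ∑ i, d' i < ∑ i, d i := by
  classical
  obtain ⟨c, hc0, hc⟩ := Matrix.exists_vecMul_eq_zero_iff.mpr hL
  have hI : (Finset.univ.filter fun i => c i ≠ 0).Nonempty := by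
    by_contra hcon
    rw [Finset.not_nonempty_iff_eq_empty, Finset.filter_eq_empty_iff] at hcon
    apply hc0
    funext i
    simpa using hcon (Finset.mem_univ i)
  obtain ⟨i₀, hi₀, hmax⟩ := Finset.exists_max_image _ d hI
  rw [Finset.mem_filter] at hi₀
  set B := P * M with hB
  set r : Fin n → k[X] := fun l => C (c l) * X ^ (d i₀ - d l) with hr
  set P' := P.updateRow i₀ (∑ l, r l • P l) with hP'
  have hdetP' : P'.det = C (c i₀) * P.det := by
    rw [hP', Matrix.det_updateRow_sum, smul_eq_mul, hr]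
    simp
  have hP'u : IsUnit P'.det := by
    rw [hdetP']
    exact (isUnit_C.mpr (isUnit_iff_ne_zero.mpr hi₀.2)).mul hP
  have hrow_ne : ∀ i, i ≠ i₀ → ∀ j, (P' * M) i j = B i j := by
    intro i hi j
    simp [Matrix.mul_apply, hP', Matrix.updateRow_ne hi, hB]
  have hrow : ∀ j, (P' * M) i₀ j = ∑ l, r l * B l j := by
    intro j
    simp only [Matrix.mul_apply, hP', Matrix.updateRow_self, Finset.sum_apply, Pi.smul_apply,
      smul_eq_mul, hB, Finset.sum_mul, Finset.mul_sum, mul_assoc]
    rw [Finset.sum_comm]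
  -- degree and top coefficient of the terms
  have hterm : ∀ l j, (r l * B l j).natDegree ≤ d i₀ ∧
      (r l * B l j).coeff (d i₀) = c l * (B l j).coeff (d l) := by
    intro l j
    by_cases hcl : c l = 0
    · simp [hr, hcl]
    · have hle : d l ≤ d i₀ := hmax l (Finset.mem_filter.mpr ⟨Finset.mem_univ l, hcl⟩)
      have e1 : r l * B l j = C (c l) * (X ^ (d i₀ - d l) * B l j) := by
        simp only [hr]
        ring
      constructor
      · rw [e1]
        calc (C (c l) * (X ^ (d i₀ - d l) * B l j)).natDegree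
            ≤ (X ^ (d i₀ - d l) * B l j).natDegree := natDegree_C_mul_le _ _
          _ ≤ (X ^ (d i₀ - d l) : k[X]).natDegree + (B l j).natDegree := natDegree_mul_le
          _ ≤ (d i₀ - d l) + d l := Nat.add_le_add (natDegree_X_pow_le _) (hd l j)
          _ = d i₀ := Nat.sub_add_cancel hle
      · rw [e1, coeff_C_mul]
        congr 1
        have h2 := coeff_X_pow_mul (B l j) (d i₀ - d l) (d l)
        rwa [Nat.add_sub_of_le hle] at h2
  have hdeg : ∀ j, ((P' * M) i₀ j).natDegree ≤ d i₀ := by
    intro j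
    rw [hrow]
    exact natDegree_sum_le_of_forall_le _ _ (fun l _ => (hterm l j).1)
  have hcoeff : ∀ j, ((P' * M) i₀ j).coeff (d i₀) = 0 := by
    intro j
    rw [hrow, finsetSum_coeff]
    have := congrFun hc j
    simp only [Matrix.vecMul, dotProduct, lcMat, Matrix.of_apply, Pi.zero_apply] at this
    rw [← this]
    exact Finset.sum_congr rfl (fun l _ => (hterm l j).2)
  have hdetne : (P' * M).det ≠ 0 := by
    rw [Matrix.det_mul]
    exact mul_ne_zero hP'u.ne_zero hM
  have hpos : 0 < d i₀ := by
    by_contra hcon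
    have h0 : d i₀ = 0 := by omega
    apply hdetne
    apply Matrix.det_eq_zero_of_row_eq_zero i₀
    intro j
    have h1 := hdeg j
    have h2 := hcoeff j
    rw [h0] at h1 h2
    rw [eq_C_of_natDegree_le_zero h1, h2, map_zero]
  refine ⟨P', Function.update d i₀ (d i₀ - 1), hP'u, ?_, ?_⟩
  · intro i j
    by_cases hi : i = i₀
    · subst hi
      rw [Function.update_self]
      exact natDegree_le_pred (hdeg j) (hcoeff j)
    · rw [Function.update_of_ne hi, hrow_ne i hi j]
      exact hd i j
  · apply Finset.sum_lt_sum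
    · intro i _
      by_cases hi : i = i₀
      · subst hi
        rw [Function.update_self]
        omega
      · rw [Function.update_of_ne hi]
    · refine ⟨i₀, Finset.mem_univ _, ?_⟩
      rw [Function.update_self]
      omega

theorem birkhoff_reduce (M : Matrix (Fin n) (Fin n) k[X]) (hM : M.det ≠ 0) :
    ∃ (P : Matrix (Fin n) (Fin n) k[X]) (d : Fin n → ℕ), IsUnit P.det ∧
      (∀ i j, ((P * M) i j).natDegree ≤ d i) ∧ (lcMat (P * M) d).det ≠ 0 := by
  classical
  have hne : ∃ s : ℕ, ∃ (P : Matrix (Fin n) (Fin n) k[X]) (d : Fin n → ℕ), IsUnit P.det ∧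
      (∀ i j, ((P * M) i j).natDegree ≤ d i) ∧ ∑ i, d i = s := by
    refine ⟨_, 1, fun i => Finset.univ.sup (fun j => (M i j).natDegree), by simp, ?_, rfl⟩
    intro i j
    rw [one_mul]
    exact Finset.le_sup (f := fun j => (M i j).natDegree) (Finset.mem_univ j)
  obtain ⟨P, d, hP, hd, hs⟩ := Nat.find_spec hne
  refine ⟨P, d, hP, hd, ?_⟩
  intro hL
  obtain ⟨P', d', hP', hd', hlt⟩ := birkhoff_step M P hM hP d hd hL
  exact Nat.find_min hne (hs ▸ hlt) ⟨P', d', hP', hd', rfl⟩

end Birkhoff2

section Birkhoff3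

variable {k : Type u} [Field k] {n : ℕ}

/-- The entry `p` reflected at degree `d`: `X^d p(1/X)`. -/
noncomputable def reflEntry (p : k[X]) (d : ℕ) : k[X] := p.reverse * X ^ (d - p.natDegree)

theorem toLaurent_reflEntry (p : k[X]) (d : ℕ) (h : p.natDegree ≤ d) :
    toLaurent p = LaurentPolynomial.T (d : ℤ) *
      LaurentPolynomial.invert (toLaurent (reflEntry p d)) := by
  rw [reflEntry, map_mul, LaurentPolynomial.toLaurent_reverse, Polynomial.toLaurent_X_pow, map_mul,
    map_mul, LaurentPolynomial.invert_T, LaurentPolynomial.invert_T,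
    LaurentPolynomial.involutive_invert (toLaurent p), LaurentPolynomial.mul_T_assoc,
    LaurentPolynomial.T_mul, LaurentPolynomial.mul_T_assoc]
  have : (-(p.natDegree : ℤ) + -((d - p.natDegree : ℕ) : ℤ) + (d : ℤ)) = 0 := by
    push_cast [h]
    ring
  rw [this, LaurentPolynomial.T_zero, mul_one]

theorem coeff_zero_reflEntry (p : k[X]) (d : ℕ) (h : p.natDegree ≤ d) :
    (reflEntry p d).coeff 0 = p.coeff d := by
  rw [reflEntry, Polynomial.mul_coeff_zero, Polynomial.coeff_zero_reverse, Polynomial.coeff_X_pow]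
  by_cases hd : p.natDegree = d
  · subst hd
    simp
  · have hlt : p.natDegree < d := lt_of_le_of_ne h hd
    rw [Polynomial.coeff_eq_zero_of_natDegree_lt hlt]
    have : ¬ (0 = d - p.natDegree) := by omega
    simp [this]

end Birkhoff3

end Groth.Agent.Lib.Helper95
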