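import Groth.Agent.Lib.Helper95.BirkhoffA
import Mathlib

/-!
# Birkhoff factorization: the polynomial case

* `birkhoff_poly`: for a polynomial matrix `M` invertible over `k[T;T⁻¹]` there are `P, Q ∈ GL_n(k[X])`
  and `d` with `P M = diag(T^{d_i}) Q(T⁻¹)`.
-/

set_option autoImplicit false
universe u

namespace Groth.Agent.Lib.Helper95

open Polynomial

section Birkhoff4

variable {k : Type u} [Field k] {n : ℕ}

theorem toLaurent_det (M : Matrix (Fin n) (Fin n) k[X]) :
    toLaurent M.det = (M.map toLaurent).det := by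
  rw [RingHom.map_det, RingHom.mapMatrix_apply]

theorem invert_det (M : Matrix (Fin n) (Fin n) (LaurentPolynomial k)) :
    LaurentPolynomial.invert M.det = (M.map LaurentPolynomial.invert).det := by
  rw [AlgEquiv.map_det, AlgEquiv.mapMatrix_apply]

theorem birkhoff_poly (M : Matrix (Fin n) (Fin n) k[X]) (hMu : IsUnit (M.map toLaurent).det) :
    ∃ (P Q : Matrix (Fin n) (Fin n) k[X]) (d : Fin n → ℕ), IsUnit P.det ∧ IsUnit Q.det ∧
      (P * M).map toLaurent = Matrix.diagonal (fun i => LaurentPolynomial.T (d i : ℤ)) *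
        (Q.map toLaurent).map LaurentPolynomial.invert := by
  have hM : M.det ≠ 0 := by
    intro h
    rw [← toLaurent_det, h, map_zero] at hMu
    exact not_isUnit_zero hMu
  obtain ⟨P, d, hP, hd, hL⟩ := birkhoff_reduce M hM
  set B := P * M with hB
  set Q : Matrix (Fin n) (Fin n) k[X] := Matrix.of fun i j => reflEntry (B i j) (d i) with hQ
  have hident : B.map toLaurent = Matrix.diagonal (fun i => LaurentPolynomial.T (d i : ℤ)) *
      (Q.map toLaurent).map LaurentPolynomial.invert := by
    apply Matrix.ext
    intro i j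
    rw [Matrix.diagonal_mul, Matrix.map_apply, Matrix.map_apply, Matrix.map_apply, hQ, Matrix.of_apply]
    exact toLaurent_reflEntry (B i j) (d i) (hd i j)
  refine ⟨P, Q, d, hP, ?_, hident⟩
  -- `det Q` is a unit
  have h1 : toLaurent B.det = (∏ i, LaurentPolynomial.T (d i : ℤ)) *
      LaurentPolynomial.invert (toLaurent Q.det) := by
    rw [toLaurent_det, hident, Matrix.det_mul, Matrix.det_diagonal, toLaurent_det, invert_det]
  have h2 : IsUnit (toLaurent B.det) := by
    rw [hB, Matrix.det_mul, map_mul, toLaurent_det M]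
    exact (hP.map _).mul hMu
  rw [h1] at h2
  have h3 : IsUnit (LaurentPolynomial.invert (toLaurent Q.det)) := isUnit_of_mul_isUnit_right h2
  have h4 : IsUnit (toLaurent Q.det) := by
    have := h3.map LaurentPolynomial.invert
    rwa [LaurentPolynomial.involutive_invert] at this
  apply isUnit_of_isUnit_toLaurent _ _ h4
  have h5 : Q.det.coeff 0 = (lcMat B d).det := by
    rw [Polynomial.coeff_zero_eq_eval_zero, ← Polynomial.coe_evalRingHom, RingHom.map_det,
      RingHom.mapMatrix_apply]
    congr 1
    ext i j
    rw [Matrix.map_apply, Polynomial.coe_evalRingHom, ← Polynomial.coeff_zero_eq_eval_zero, hQ,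
      Matrix.of_apply, coeff_zero_reflEntry _ _ (hd i j)]
    rfl
  rw [h5]
  exact hL

end Birkhoff4

end Groth.Agent.Lib.Helper95
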