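import Groth.Agent.Lib.Helper95.BirkhoffB
import Mathlib

/-!
# Birkhoff factorization over `k[T;T⁻¹]` (unsorted exponents)
-/

set_option autoImplicit false
universe u

namespace Groth.Agent.Lib.Helper95

open Polynomial

section Birkhoff5

variable {k : Type u} [Field k] {n : ℕ}

/-- Unsorted Birkhoff factorization. -/
theorem birkhoff_unsorted (A : Matrix (Fin n) (Fin n) (LaurentPolynomial k)) (hA : IsUnit A) :
    ∃ (P Q : Matrix (Fin n) (Fin n) k[X]) (e : Fin n → ℤ), IsUnit P ∧ IsUnit Q ∧
      A = P.map toLaurent * Matrix.diagonal (fun i => LaurentPolynomial.T (e i)) *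
        (Q.map toLaurent).map LaurentPolynomial.invert := by
  classical
  obtain ⟨N, M, hM⟩ := exists_polynomial_matrix A
  have hMA : M.map toLaurent = (LaurentPolynomial.T (N : ℤ) : LaurentPolynomial k) • A := by
    apply Matrix.ext
    intro i j
    rw [Matrix.map_apply, hM, Matrix.smul_apply, smul_eq_mul, mul_comm]
  have hMu : IsUnit (M.map toLaurent).det := by
    rw [hMA, Matrix.det_smul]
    exact ((LaurentPolynomial.isUnit_T _).pow _).mul ((Matrix.isUnit_iff_isUnit_det A).mp hA)
  obtain ⟨P, Q, d, hP, hQ, hid⟩ := birkhoff_poly M hMu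
  have hPinv : (P⁻¹).map toLaurent * P.map toLaurent = 1 := by
    rw [← Matrix.map_mul, Matrix.nonsing_inv_mul P hP, Matrix.map_one _ (map_zero _) (map_one _)]
  have hPinvu : IsUnit P⁻¹ :=
    (Matrix.isUnit_iff_isUnit_det _).mpr (Matrix.isUnit_nonsing_inv_det P hP)
  refine ⟨P⁻¹, Q, fun i => (d i : ℤ) - N, hPinvu, (Matrix.isUnit_iff_isUnit_det Q).mpr hQ, ?_⟩
  have hT : LaurentPolynomial.T (-(N : ℤ)) * LaurentPolynomial.T (N : ℤ) = (1 : LaurentPolynomial k) := by
    rw [← LaurentPolynomial.T_add, neg_add_cancel, LaurentPolynomial.T_zero]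
  have hD : (LaurentPolynomial.T (-(N : ℤ)) : LaurentPolynomial k) •
      Matrix.diagonal (fun i => (LaurentPolynomial.T (d i : ℤ) : LaurentPolynomial k)) =
      Matrix.diagonal (fun i => LaurentPolynomial.T ((d i : ℤ) - N)) := by
    rw [← Matrix.diagonal_smul]
    congr 1
    funext i
    rw [Pi.smul_apply, smul_eq_mul, ← LaurentPolynomial.T_add]
    congr 1
    ring
  calc A = (LaurentPolynomial.T (-(N : ℤ)) : LaurentPolynomial k) • ((LaurentPolynomial.T (N : ℤ) : LaurentPolynomial k) • A) := by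
        rw [smul_smul, hT, one_smul]
    _ = (LaurentPolynomial.T (-(N : ℤ)) : LaurentPolynomial k) • (((P⁻¹).map toLaurent * P.map toLaurent) * M.map toLaurent) := by
        rw [hPinv, one_mul, hMA]
    _ = (LaurentPolynomial.T (-(N : ℤ)) : LaurentPolynomial k) • ((P⁻¹).map toLaurent * (P * M).map toLaurent) := by
        rw [Matrix.map_mul (L := P) (M := M), Matrix.mul_assoc]
    _ = _ := by
        rw [hid, ← Matrix.mul_assoc, ← Matrix.smul_mul, ← Matrix.mul_smul, hD]

end Birkhoff5

end Groth.Agent.Lib.Helper95
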