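import Groth.Agent.Lib.Helper95.BirkhoffC
import Mathlib

/-!
# Birkhoff factorization over `k[T;T⁻¹]` with decreasing exponents (`birkhoff_sorted`)
-/

set_option autoImplicit false
universe u

namespace Groth.Agent.Lib.Helper95

open Polynomial

section Birkhoff6

variable {k : Type u} [Field k] {n : ℕ}

theorem isUnit_sign_cast (R : Type*) [CommRing R] (σ : Equiv.Perm (Fin n)) :
    IsUnit (((Equiv.Perm.sign σ : ℤˣ) : ℤ) : R) := by
  have := (Units.isUnit (Equiv.Perm.sign σ)).map (Int.castRingHom R)
  simpa using this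

/-- Birkhoff factorization with decreasing exponents. -/
theorem birkhoff_sorted (A : Matrix (Fin n) (Fin n) (LaurentPolynomial k)) (hA : IsUnit A) :
    ∃ (P Q : Matrix (Fin n) (Fin n) k[X]) (d : Fin n → ℤ), IsUnit P ∧ IsUnit Q ∧ Antitone d ∧
      A = P.map toLaurent * Matrix.diagonal (fun i => LaurentPolynomial.T (d i)) *
        (Q.map toLaurent).map LaurentPolynomial.invert := by
  classical
  obtain ⟨P, Q, e, hP, hQ, hA'⟩ := birkhoff_unsorted A hA
  let σ : Equiv.Perm (Fin n) := Tuple.sort (fun i => - e i)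
  have hmono : Monotone ((fun i => - e i) ∘ σ) := Tuple.monotone_sort _
  refine ⟨P.submatrix id σ, Q.submatrix σ id, e ∘ σ, ?_, ?_, ?_, ?_⟩
  · rw [Matrix.isUnit_iff_isUnit_det, Matrix.det_permute']
    exact (isUnit_sign_cast _ σ).mul ((Matrix.isUnit_iff_isUnit_det _).mp hP)
  · rw [Matrix.isUnit_iff_isUnit_det, Matrix.det_permute]
    exact (isUnit_sign_cast _ σ).mul ((Matrix.isUnit_iff_isUnit_det _).mp hQ)
  · intro a b hab
    have := hmono hab
    simp only [Function.comp_apply, neg_le_neg_iff] at this
    exact this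
  · rw [hA']
    have h1 : (P.submatrix id σ).map toLaurent = (P.map toLaurent).submatrix id σ := rfl
    have h2 : ((Q.submatrix σ id).map toLaurent).map LaurentPolynomial.invert =
        ((Q.map toLaurent).map LaurentPolynomial.invert).submatrix σ id := rfl
    have h3 : Matrix.diagonal (fun i => (LaurentPolynomial.T ((e ∘ σ) i) : LaurentPolynomial k)) =
        (Matrix.diagonal (fun i => (LaurentPolynomial.T (e i) : LaurentPolynomial k))).submatrix σ σ :=
      (Matrix.submatrix_diagonal_equiv (fun i => (LaurentPolynomial.T (e i) : LaurentPolynomial k)) σ).symm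
    rw [h1, h2, h3, Matrix.submatrix_mul_equiv, Matrix.submatrix_mul_equiv]
    rfl

end Birkhoff6

end Groth.Agent.Lib.Helper95
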