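import Mathlib
import Groth.Agent.Lib.Helper95.BoschT
import Groth.Agent.Lib.Helper55.KrullDimIntegral

namespace Groth.Agent.Lib.Helper95.Bosch

open AdicRing MvPolynomial Groth.Agent.Lib.Helper95.RGNil TensorProduct IsLocalRing

universe u v

section zariski

variable {R : Type u} [CommRing R] [IsDomain R] [Ring.KrullDimLE 1 R]

theorem krullDimLE_zero_quotient (t : R) (ht : t ≠ 0) :
    Ring.KrullDimLE 0 (R ⧸ Ideal.span {t}) :=
  Ring.krullDimLE_zero_iff.mpr fun J prime => by
    haveI := prime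
    apply Ideal.isMaximal_of_isIntegral_of_isMaximal_comap (R := R) J
    have hq : (J.comap (algebraMap R (R ⧸ Ideal.span {t}))).IsPrime := inferInstance
    apply Ring.krullDimLE_one_iff_of_noZeroDivisors.mp inferInstance _ _ hq
    intro h
    have h1 : t ∈ J.comap (algebraMap R (R ⧸ Ideal.span {t})) := by
      rw [Ideal.mem_comap]
      have : algebraMap R (R ⧸ Ideal.span {t}) t = 0 :=
        Ideal.Quotient.eq_zero_iff_mem.mpr (Ideal.mem_span_singleton_self t)
      rw [this]
      exact J.zero_mem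
    rw [h] at h1
    exact ht h1

/-- Zariski's lemma over a one-dimensional base: a field of finite type over `R` in which `t`
vanishes is integral over `R`. -/
theorem isIntegral_of_field_finiteType (t : R) (ht : t ≠ 0) (K : Type*) [Field K] [Algebra R K]
    [hK : Algebra.FiniteType R K] (h0 : algebraMap R K t = 0) : Algebra.IsIntegral R K := by
  haveI := krullDimLE_zero_quotient t ht
  obtain ⟨ι, _, f, hf⟩ := Algebra.FiniteType.iff_quotient_mvPolynomial'.mp hK
  let φ₀ : R ⧸ Ideal.span {t} →+* K := Ideal.Quotient.lift _ (algebraMap R K) (by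
    intro a ha
    obtain ⟨c, rfl⟩ := Ideal.mem_span_singleton'.mp ha
    rw [map_mul, h0, mul_zero])
  let F : MvPolynomial ι (R ⧸ Ideal.span {t}) →+* K :=
    MvPolynomial.eval₂Hom φ₀ (fun i => f (X i))
  have hF : F.comp (MvPolynomial.map (Ideal.Quotient.mk (Ideal.span {t}))) = f.toRingHom := by
    apply MvPolynomial.ringHom_ext
    · intro r
      simp [F, φ₀]
    · intro i
      simp [F]
  have hFs : Function.Surjective F := by
    intro y
    obtain ⟨p, rfl⟩ := hf y
    exact ⟨MvPolynomial.map _ p, DFunLike.congr_fun hF p⟩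
  have h1 := MvPolynomial.comp_C_integral_of_surjective_of_isJacobsonRing F hFs
  have h2 : F.comp C = φ₀ := by
    ext a
    simp [F]
  rw [h2] at h1
  have h3 : algebraMap R K = φ₀.comp (Ideal.Quotient.mk _) := by
    ext a
    simp [φ₀]
  rw [← algebraMap_isIntegral_iff, h3]
  exact RingHom.IsIntegral.trans _ _
    (RingHom.isIntegral_of_surjective _ Ideal.Quotient.mk_surjective) h1

end zariski

section main

variable {R : Type u} [CommRing R] [IsDomain R] [ValuationRing R] [Ring.KrullDimLE 1 R]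
  (t : R) (ht : t ≠ 0) [IsAdicComplete (Ideal.span {t}) R]

omit [IsDomain R] [ValuationRing R] [Ring.KrullDimLE 1 R] [IsAdicComplete (Ideal.span {t}) R] in
theorem map_span_pow_one_le {A : Type*} [CommRing A] [Algebra R A] (J : Ideal A)
    (h : algebraMap R A t ∈ J) : (Ideal.span {t} ^ 1).map (algebraMap R A) ≤ J := by
  rw [Ideal.map_le_iff_le_comap, pow_one, Ideal.span_singleton_le_iff_mem, Ideal.mem_comap]
  exact h

include ht in
theorem topFiniteType_self : AdicRing.TopFiniteType R (Ideal.span {t}) R := by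
  haveI : IsAdicComplete ((Ideal.span {t}).map (algebraMap R R)) R := by
    rw [IsAdicComplete.map_algebraMap_iff]
    infer_instance
  obtain ⟨φ, hφ⟩ := exists_lift_rPow (Ideal.span {t}) R 0 Fin.elim0
  refine ⟨0, φ, fun r => ⟨algebraMap (MvPolynomial (Fin 0) R) _ (C r), ?_⟩⟩
  rw [hφ]
  simp

include ht in
theorem not_isUnit_of_complete : ¬ IsUnit t := by
  have h1 : (Ideal.span {t} : Ideal R) ≤ Ideal.jacobson ⊥ :=
    IsAdicComplete.le_jacobson_bot (Ideal.span {t})
  rw [IsLocalRing.jacobson_eq_maximalIdeal ⊥ bot_ne_top] at h1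
  exact (IsLocalRing.mem_maximalIdeal _).mp (h1 (Ideal.mem_span_singleton_self t))

include ht in
theorem ringKrullDim_eq_one_of_complete : ringKrullDim R = 1 := by
  have h1 : ringKrullDim R ≤ 1 := Ring.krullDimLE_iff.mp inferInstance
  have h2 : ¬ ringKrullDim R ≤ 0 := fun h => by
    haveI : Ring.KrullDimLE 0 R := Ring.krullDimLE_iff.mpr h
    have hf : IsField R := Ring.KrullDimLE.isField_of_isDomain
    obtain ⟨c, hc⟩ := hf.mul_inv_cancel ht
    exact not_isUnit_of_complete t ht (IsUnit.of_mul_eq_one c hc)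
  exact le_antisymm h1 (Order.succ_le_of_lt (lt_of_not_ge h2))

include ht in
/-- **closed points of the special fibre of the formal affine space lift to rig-points**. -/
theorem exists_rigPoint_prime (n : ℕ) (m : Ideal (AdicRing.RPow R (Ideal.span {t}) n))
    [hmax : m.IsMaximal]
    (hm : algebraMap R (AdicRing.RPow R (Ideal.span {t}) n) t ∈ m) :
    ∃ p : Ideal (AdicRing.RPow R (Ideal.span {t}) n), p.IsPrime ∧ p ≤ m ∧
      algebraMap R (AdicRing.RPow R (Ideal.span {t}) n) t ∉ p ∧
      ringKrullDim (AdicRing.RPow R (Ideal.span {t}) n ⧸ p) = 1 := by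
  have hR := isBase_of_valuationRing t ht
  have hI : (Ideal.span {t} : Ideal R).FG := fg_of_isBase hR
  letI : Field (AdicRing.RPow R (Ideal.span {t}) n ⧸ m) := Ideal.Quotient.field m
  let ι : MvPolynomial (Fin n) R →ₐ[R] AdicRing.RPow R (Ideal.span {t}) n :=
    IsScalarTower.toAlgHom R (MvPolynomial (Fin n) R) (Compl R (Ideal.span {t}) (MvPolynomial (Fin n) R))
  let q : AdicRing.RPow R (Ideal.span {t}) n →ₐ[R] AdicRing.RPow R (Ideal.span {t}) n ⧸ m :=
    Ideal.Quotient.mkₐ R m
  have hle : (Ideal.span {t} ^ 1).map (algebraMap R (AdicRing.RPow R (Ideal.span {t}) n)) ≤ m := by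
    exact map_span_pow_one_le t m hm
  have happrox : ∀ s : AdicRing.RPow R (Ideal.span {t}) n, ∃ P : MvPolynomial (Fin n) R,
      s - ι P ∈ (Ideal.span {t} ^ 1).map (algebraMap R (AdicRing.RPow R (Ideal.span {t}) n)) :=
    fun s => exists_sub_mem_map_pow_compl R (Ideal.span {t}) (MvPolynomial (Fin n) R) hI 1 s
  have hsurj : Function.Surjective (q.comp ι) := by
    intro y
    obtain ⟨s, rfl⟩ := Ideal.Quotient.mk_surjective y
    obtain ⟨P, hP⟩ := happrox s
    refine ⟨P, ?_⟩
    symm
    rw [AlgHom.comp_apply]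
    exact Ideal.Quotient.eq.mpr (hle hP)
  haveI : Algebra.FiniteType R (AdicRing.RPow R (Ideal.span {t}) n ⧸ m) :=
    Algebra.FiniteType.of_surjective (q.comp ι) hsurj
  have h0 : algebraMap R (AdicRing.RPow R (Ideal.span {t}) n ⧸ m) t = 0 := by
    rw [IsScalarTower.algebraMap_apply R (AdicRing.RPow R (Ideal.span {t}) n)
      (AdicRing.RPow R (Ideal.span {t}) n ⧸ m), Ideal.Quotient.algebraMap_eq,
      Ideal.Quotient.eq_zero_iff_mem]
    exact hm
  haveI : Algebra.IsIntegral R (AdicRing.RPow R (Ideal.span {t}) n ⧸ m) :=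
    isIntegral_of_field_finiteType t ht _ h0
  let z : Fin n → AdicRing.RPow R (Ideal.span {t}) n ⧸ m := fun i => q (ι (X i))
  choose G hGm hGz using fun i => Algebra.IsIntegral.isIntegral (R := R) (z i)
  obtain ⟨T, _, _, hfree, hfin, x, hx⟩ := exists_tower n G hGm
  obtain ⟨π, hπ⟩ := hx (AdicRing.RPow R (Ideal.span {t}) n ⧸ m) z (fun i => hGz i)
  haveI : IsAdicComplete ((Ideal.span {t}).map (algebraMap R T)) T := by
    rw [IsAdicComplete.map_algebraMap_iff]
    exact isAdicComplete_of_finite_topFiniteType hR R (topFiniteType_self t ht) T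
  obtain ⟨Φ, hΦ⟩ := exists_lift_rPow (Ideal.span {t}) T n x
  -- any `R`-algebra hom to `K` kills `tS`
  have hkill : ∀ (ψ : AdicRing.RPow R (Ideal.span {t}) n →ₐ[R]
      AdicRing.RPow R (Ideal.span {t}) n ⧸ m),
      ∀ y ∈ (Ideal.span {t} ^ 1).map (algebraMap R (AdicRing.RPow R (Ideal.span {t}) n)),
      ψ y = 0 := by
    intro ψ y hy
    have h1 := Ideal.mem_map_of_mem ψ.toRingHom hy
    rw [Ideal.map_map] at h1
    have h2 : ψ.toRingHom.comp (algebraMap R (AdicRing.RPow R (Ideal.span {t}) n)) =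
        algebraMap R _ := ψ.comp_algebraMap
    rw [h2] at h1
    have h3 := map_span_pow_one_le t (⊥ : Ideal (AdicRing.RPow R (Ideal.span {t}) n ⧸ m))
      (by rw [h0]; exact Ideal.zero_mem _) h1
    exact h3
  have hπΦ : ∀ s, π (Φ s) = q s := by
    intro s
    obtain ⟨P, hP⟩ := happrox s
    have h1 : π (Φ (ι P)) = q (ι P) := by
      have h2 : Φ (ι P) = MvPolynomial.aeval x P := hΦ P
      rw [h2]
      have h3 : (π.comp (MvPolynomial.aeval x)) = q.comp ι := by
        apply MvPolynomial.algHom_ext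
        intro i
        simp [hπ, z]
      exact DFunLike.congr_fun h3 P
    have h4 := hkill (π.comp Φ) _ hP
    have h5 := hkill q _ hP
    rw [AlgHom.comp_apply, map_sub, map_sub, h1] at h4
    rw [map_sub] at h5
    rw [sub_eq_zero] at h4 h5
    rw [h4, h5]
  -- the prime of `T`
  haveI hmT : (RingHom.ker π.toRingHom).IsPrime := RingHom.ker_isPrime _
  haveI : Module.Flat R T := inferInstance
  obtain ⟨pT, hpT_le, hpT_prime, hpT_over⟩ := Ideal.exists_ideal_le_liesOver_of_le
    (p := (⊥ : Ideal R)) (q := (RingHom.ker π.toRingHom).under R) (RingHom.ker π.toRingHom) bot_le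
  have hbot : ∀ r : R, algebraMap R T r ∈ pT → r = 0 := by
    intro r hr
    have : r ∈ pT.under R := hr
    rw [← hpT_over.over] at this
    exact this
  haveI hpprime : (pT.comap Φ.toRingHom).IsPrime := Ideal.comap_isPrime _ _
  refine ⟨pT.comap Φ.toRingHom, hpprime, ?_, ?_, ?_⟩
  · intro s hs
    have h1 : Φ s ∈ RingHom.ker π.toRingHom := hpT_le hs
    rw [RingHom.mem_ker] at h1
    have h2 : q s = 0 := (hπΦ s).symm.trans h1
    exact Ideal.Quotient.eq_zero_iff_mem.mp h2
  · intro h
    have h1 : algebraMap R T t ∈ pT := by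
      rw [← Φ.commutes]
      exact h
    exact ht (hbot t h1)
  · haveI : Algebra.IsIntegral R T := Algebra.IsIntegral.of_finite R T
    haveI : Algebra.IsIntegral R (AdicRing.RPow R (Ideal.span {t}) n ⧸ pT.comap Φ.toRingHom) := by
      refine ⟨fun y => ?_⟩
      obtain ⟨s, rfl⟩ := Ideal.Quotient.mk_surjective y
      obtain ⟨g, hgm, hg⟩ := Algebra.IsIntegral.isIntegral (R := R) (Φ s)
      refine ⟨g, hgm, ?_⟩
      rw [← Polynomial.aeval_def, ← Ideal.Quotient.mkₐ_eq_mk R, Polynomial.aeval_algHom_apply,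
        Ideal.Quotient.mkₐ_eq_mk, Ideal.Quotient.eq_zero_iff_mem, Ideal.mem_comap]
      show Φ (Polynomial.aeval s g) ∈ pT
      rw [← Polynomial.aeval_algHom_apply, Polynomial.aeval_def, hg]
      exact pT.zero_mem
    have hinj : Function.Injective
        (algebraMap R (AdicRing.RPow R (Ideal.span {t}) n ⧸ pT.comap Φ.toRingHom)) := by
      rw [injective_iff_map_eq_zero]
      intro r hr
      rw [IsScalarTower.algebraMap_apply R (AdicRing.RPow R (Ideal.span {t}) n),
        Ideal.Quotient.algebraMap_eq, Ideal.Quotient.eq_zero_iff_mem, Ideal.mem_comap] at hr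
      apply hbot r
      rw [← Φ.commutes]
      exact hr
    rw [Groth.Agent.Lib.Helper55.ringKrullDim_eq_of_isIntegral_of_injective R _ hinj]
    exact ringKrullDim_eq_one_of_complete t ht

end main

end Groth.Agent.Lib.Helper95.Bosch
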