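import Mathlib
import Groth.Agent.Lib.Helper87.CMVertex4

set_option autoImplicit false
universe u v

namespace Groth.Agent.Lib.Helper95.CMLoc

open Groth.Agent.Lib.Helper29 Groth.Agent.Lib.Helper87.CMVertex Pointwise

variable {A : Type v} [CommRing A]

/-- `(A/𝔞)/f(A/𝔞) ≃ A/(𝔞 + (f))`. -/
noncomputable def quotSMulTopEquiv (𝔞 : Ideal A) (f : A) :
    QuotSMulTop f (A ⧸ 𝔞) ≃ₗ[A] A ⧸ (𝔞 ⊔ Ideal.span {f}) := by
  let g : (A ⧸ 𝔞) →ₗ[A] (A ⧸ (𝔞 ⊔ Ideal.span {f})) :=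
    Submodule.mapQ 𝔞 (𝔞 ⊔ Ideal.span {f}) LinearMap.id le_sup_left
  have hsurj : Function.Surjective g := by
    intro y
    obtain ⟨a, rfl⟩ := Ideal.Quotient.mk_surjective y
    exact ⟨Ideal.Quotient.mk 𝔞 a, rfl⟩
  have hker : LinearMap.ker g = f • (⊤ : Submodule A (A ⧸ 𝔞)) := by
    ext x
    obtain ⟨a, rfl⟩ := Ideal.Quotient.mk_surjective x
    rw [LinearMap.mem_ker]
    have hg : g (Ideal.Quotient.mk 𝔞 a) = Ideal.Quotient.mk (𝔞 ⊔ Ideal.span {f}) a := rfl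
    rw [hg, Ideal.Quotient.eq_zero_iff_mem, Submodule.mem_smul_pointwise_iff_exists]
    constructor
    · intro h
      obtain ⟨b, hb, c, hc, hbc⟩ := Submodule.mem_sup.mp h
      obtain ⟨c', rfl⟩ := Ideal.mem_span_singleton'.mp hc
      refine ⟨Ideal.Quotient.mk 𝔞 c', Submodule.mem_top, ?_⟩
      rw [← hbc, map_add, Ideal.Quotient.eq_zero_iff_mem.mpr hb, zero_add, mul_comm]
      rfl
    · rintro ⟨y, -, hy⟩
      obtain ⟨c, rfl⟩ := Ideal.Quotient.mk_surjective y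
      have h1 : Ideal.Quotient.mk 𝔞 (f * c) = Ideal.Quotient.mk 𝔞 a := hy
      have h2 : a - f * c ∈ 𝔞 := by
        rw [← Ideal.Quotient.eq_zero_iff_mem, map_sub, h1, sub_self]
      have h3 : a = (a - f * c) + f * c := by ring
      rw [h3]
      exact Ideal.add_mem _ (Ideal.mem_sup_left h2)
        (Ideal.mem_sup_right (Ideal.mul_mem_right _ _ (Ideal.mem_span_singleton_self f)))
  exact (Submodule.quotEquivOfEq _ _ hker.symm).trans (g.quotKerEquivOfSurjective hsurj)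

variable [IsNoetherianRing A]

/-- Cohen–Macaulayness at a maximal ideal from a regular hyperplane section. -/
theorem main_regular (𝔪 : Ideal A) (hmax : 𝔪.IsMaximal) (𝔞 : Ideal A) (f : A) (e : ℕ)
    (he : 1 ≤ e) (h𝔞 : 𝔞 ≤ 𝔪) (hf : f ∈ 𝔪) (hreg : IsSMulRegular (A ⧸ 𝔞) f)
    (hcm : LocCoh.IsCohenMacaulayRing (A ⧸ (𝔞 ⊔ Ideal.span {f})))
    (hdim : ringKrullDim (A ⧸ 𝔞) ≤ (e : WithBot ℕ∞))
    (hht : ((e - 1 : ℕ) : ℕ∞) ≤ (𝔪.map (Ideal.Quotient.mk (𝔞 ⊔ Ideal.span {f}))).height)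
    [hm : (𝔪.map (Ideal.Quotient.mk 𝔞)).IsPrime] :
    LocCoh.IsCohenMacaulayLocalRing (Localization.AtPrime (𝔪.map (Ideal.Quotient.mk 𝔞))) ∧
      ringKrullDim (Localization.AtPrime (𝔪.map (Ideal.Quotient.mk 𝔞))) =
        (e : WithBot ℕ∞) := by
  have hsup𝔪 : 𝔞 ⊔ Ideal.span {f} ≤ 𝔪 :=
    sup_le h𝔞 ((Ideal.span_singleton_le_iff_mem 𝔪).mpr hf)
  have d1 : ((e - 1 : ℕ) : ℕ∞) ≤ LocCoh.idealDepth 𝔪 (A ⧸ (𝔞 ⊔ Ideal.span {f})) := by
    rw [idealDepth_quotient_eq_height 𝔪 hmax _ hsup𝔪 hcm]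
    exact hht
  have d2 : (e : ℕ∞) ≤ LocCoh.idealDepth 𝔪 (A ⧸ 𝔞) := by
    have h1 := idealDepth_quotSMulTop_add_one_le 𝔪 (A ⧸ 𝔞) hf hreg
    rw [idealDepth_congr 𝔪 (quotSMulTopEquiv 𝔞 f)] at h1
    have h2 : ((e - 1 : ℕ) : ℕ∞) + 1 ≤ LocCoh.idealDepth 𝔪 (A ⧸ (𝔞 ⊔ Ideal.span {f})) + 1 := by
      gcongr
    have h3 : ((e - 1 : ℕ) : ℕ∞) + 1 = (e : ℕ∞) := by
      have : e - 1 + 1 = e := by omega
      exact_mod_cast this
    rw [h3] at h2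
    exact h2.trans h1
  have h1 := idealDepth_map_eq (A := A) (B := A ⧸ 𝔞) 𝔪 (A ⧸ 𝔞)
  rw [h1] at d2
  have h2 := idealDepth_le_depth_localization (A ⧸ 𝔞) (𝔪.map (Ideal.Quotient.mk 𝔞)) (A ⧸ 𝔞)
  rw [Groth.Agent.S14424.depth_localizedModule_self] at h2
  have d6 : (e : ℕ∞) ≤ LocCoh.depth (Localization.AtPrime (𝔪.map (Ideal.Quotient.mk 𝔞)))
      (Localization.AtPrime (𝔪.map (Ideal.Quotient.mk 𝔞))) := d2.trans h2
  have hN : IsNoetherianRing (Localization.AtPrime (𝔪.map (Ideal.Quotient.mk 𝔞))) :=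
    IsLocalization.isNoetherianRing (𝔪.map (Ideal.Quotient.mk 𝔞)).primeCompl _ inferInstance
  have h3 := depth_le_supportDim (Localization.AtPrime (𝔪.map (Ideal.Quotient.mk 𝔞)))
    (Localization.AtPrime (𝔪.map (Ideal.Quotient.mk 𝔞)))
  rw [Module.supportDim_self_eq_ringKrullDim] at h3
  have h4 : ringKrullDim (Localization.AtPrime (𝔪.map (Ideal.Quotient.mk 𝔞))) ≤
      (e : WithBot ℕ∞) := by
    rw [IsLocalization.AtPrime.ringKrullDim_eq_height (𝔪.map (Ideal.Quotient.mk 𝔞))]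
    exact (Ideal.height_le_ringKrullDim_of_ne_top hm.ne_top).trans hdim
  have h5 : ((e : ℕ∞) : WithBot ℕ∞) ≤ ((LocCoh.depth
      (Localization.AtPrime (𝔪.map (Ideal.Quotient.mk 𝔞)))
      (Localization.AtPrime (𝔪.map (Ideal.Quotient.mk 𝔞))) : ℕ∞) : WithBot ℕ∞) :=
    WithBot.coe_le_coe.mpr d6
  have h6 : ringKrullDim (Localization.AtPrime (𝔪.map (Ideal.Quotient.mk 𝔞))) =
      (e : WithBot ℕ∞) := le_antisymm h4 (h5.trans h3)
  refine ⟨{ supportDim_eq_depth := ?_ }, h6⟩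
  rw [Module.supportDim_self_eq_ringKrullDim]
  apply le_antisymm
  · rw [h6]; exact h5
  · exact h3

end Groth.Agent.Lib.Helper95.CMLoc
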