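import Mathlib
import Groth.Agent.Lib.Helper95.SMTGen

open MvPolynomial W4bk4grassmannian

namespace Groth.Agent.Lib.Helper95.SMT

universe u

variable (K : Type u) [Field K] {d n : ℕ}

/-- coefficients of the quadratic straightening relation of `X τ * X φ` (a choice). -/
noncomputable def strCoeff (τ φ : Idx d n) : Idx d n × Idx d n → K :=
  Classical.choose (quad_repr K (vanishing K d n)
    (fun i j r _ => shuffleRel_mem_vanishing i j r) τ φ)

theorem strCoeff_spec (τ φ : Idx d n) :
    X τ * X φ - ∑ p ∈ stdPairs d n (sig τ + sig φ), strCoeff K τ φ p • (X p.1 * X p.2) ∈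
      vanishing K d n :=
  Classical.choose_spec (quad_repr K (vanishing K d n)
    (fun i j r _ => shuffleRel_mem_vanishing i j r) τ φ)

theorem le_fst_of_strCoeff_ne_zero [Infinite K] (hd : 0 < d) (τ φ : Idx d n)
    (p : Idx d n × Idx d n) (hp : p ∈ stdPairs d n (sig τ + sig φ)) (ha : strCoeff K τ φ p ≠ 0) :
    τ ≤ p.1 ∧ φ ≤ p.1 :=
  le_fst_of_quad_rel K hd τ φ (stdPairs d n (sig τ + sig φ)) (strCoeff K τ φ) id
    (fun _ hx => (mem_stdPairs.mp hx).1) (fun _ _ _ _ h => h) (strCoeff_spec K τ φ) p hp ha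

variable (w : Idx d n)

/-- incomparable pairs in `H(w)`. -/
abbrev IncPair (w : Idx d n) : Type := {p : Below w × Below w // ¬ p.1 ≤ p.2 ∧ ¬ p.2 ≤ p.1}

/-- the quadratic monomial of a pair. -/
noncomputable def pairMono (q : Below w × Below w) : Below w →₀ ℕ :=
  Finsupp.single q.1 1 + Finsupp.single q.2 1

theorem monomial_pairMono (q : Below w × Below w) :
    (monomial (pairMono w q) 1 : MvPolynomial (Below w) K) = X q.1 * X q.2 := by
  unfold pairMono
  rw [MvPolynomial.X, MvPolynomial.X, monomial_mul, one_mul]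

theorem wt_pairMono (ω : Below w → ℕ) (q : Below w × Below w) :
    Degen.wt ω (pairMono w q) = ω q.1 + ω q.2 := by
  unfold pairMono
  rw [Degen.wt_add, Degen.wt_single, Degen.wt_single, one_mul, one_mul]

open Classical in
/-- the rewriting data of the cone over `X(w)`. -/
noncomputable def schData (ω μ : Below w → ℕ) :
    Degen.Data K (Below w) (IncPair w) (Below w × Below w) where
  lead r := pairMono w r.1
  mono q := pairMono w q
  S r := Finset.univ.filter (fun q : Below w × Below w =>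
    (q.1.1, q.2.1) ∈ stdPairs d n (sig r.1.1.1 + sig r.1.2.1) ∧
      strCoeff K r.1.1.1 r.1.2.1 (q.1.1, q.2.1) ≠ 0)
  a r q := strCoeff K r.1.1.1 r.1.2.1 (q.1.1, q.2.1)
  ω := ω
  μ := μ

theorem mem_schData_S (ω μ : Below w → ℕ) (r : IncPair w) (q : Below w × Below w) :
    q ∈ (schData K w ω μ).S r ↔
      (q.1.1, q.2.1) ∈ stdPairs d n (sig r.1.1.1 + sig r.1.2.1) ∧
        strCoeff K r.1.1.1 r.1.2.1 (q.1.1, q.2.1) ≠ 0 := by
  classical
  simp [schData]

theorem aeval_XB_monomial_pairMono (q : Below w × Below w) (a : K) :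
    aeval (XB K w) (monomial (pairMono w q) a) =
      a • Ideal.Quotient.mk (schubertVanishing K d n w) (X q.1.1 * X q.2.1) := by
  have h : (monomial (pairMono w q) a : MvPolynomial (Below w) K) =
      a • monomial (pairMono w q) 1 := by
    rw [smul_monomial, smul_eq_mul, mul_one]
  rw [h, map_smul, monomial_pairMono, map_mul, aeval_X, aeval_X]
  rfl

theorem schData_rel (ω μ : Below w → ℕ) (r : IncPair w) :
    aeval (XB K w) (monomial ((schData K w ω μ).lead r) (1 : K)) =
      aeval (XB K w) ((schData K w ω μ).tail r) := by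
  classical
  obtain ⟨⟨τ, φ⟩, hr⟩ := r
  have hlead : (schData K w ω μ).lead ⟨(τ, φ), hr⟩ = pairMono w (τ, φ) := rfl
  rw [hlead, aeval_XB_monomial_pairMono, one_smul]
  unfold Degen.Data.tail
  rw [map_sum]
  have hterm : ∀ q ∈ (schData K w ω μ).S ⟨(τ, φ), hr⟩,
      aeval (XB K w) (monomial ((schData K w ω μ).mono q) ((schData K w ω μ).a ⟨(τ, φ), hr⟩ q)) =
      strCoeff K τ.1 φ.1 (q.1.1, q.2.1) •
        Ideal.Quotient.mk (schubertVanishing K d n w) (X q.1.1 * X q.2.1) :=
    fun q _ => aeval_XB_monomial_pairMono K w q _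
  rw [Finset.sum_congr rfl hterm]
  -- the straightening relation modulo J(w)
  have hspec := vanishing_le_schubertVanishing w (strCoeff_spec K τ.1 φ.1)
  rw [← Ideal.Quotient.eq, map_sum] at hspec
  simp only [← Ideal.Quotient.mkₐ_eq_mk K, map_smul] at hspec
  simp only [Ideal.Quotient.mkₐ_eq_mk] at hspec
  simp only [← Ideal.Quotient.mkₐ_eq_mk K]
  simp only [Ideal.Quotient.mkₐ_eq_mk]
  rw [hspec]
  -- reindex
  let ι : (Below w × Below w) ↪ (Idx d n × Idx d n) :=
    ⟨fun q => (q.1.1, q.2.1), fun q q' h => by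
      simp only [Prod.mk.injEq] at h
      exact Prod.ext (Subtype.ext h.1) (Subtype.ext h.2)⟩
  have h1 : ∑ q ∈ (schData K w ω μ).S ⟨(τ, φ), hr⟩, strCoeff K τ.1 φ.1 (q.1.1, q.2.1) •
      Ideal.Quotient.mk (schubertVanishing K d n w) (X q.1.1 * X q.2.1) =
      ∑ p ∈ ((schData K w ω μ).S ⟨(τ, φ), hr⟩).map ι, strCoeff K τ.1 φ.1 p •
        Ideal.Quotient.mk (schubertVanishing K d n w) (X p.1 * X p.2) := by
    rw [Finset.sum_map]
    rfl
  rw [h1]
  symm
  apply Finset.sum_subset
  · intro p hp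
    obtain ⟨q, hq, rfl⟩ := Finset.mem_map.mp hp
    exact ((mem_schData_S K w ω μ _ q).mp hq).1
  · intro p hp hnp
    by_cases ha : strCoeff K τ.1 φ.1 p = 0
    · rw [ha, zero_smul]
    · by_cases hw : p.1 ≤ w
      · exfalso
        apply hnp
        have hp2 : p.2 ≤ w := le_trans (mem_stdPairs.mp hp).1 hw
        refine Finset.mem_map.mpr ⟨(⟨p.1, hw⟩, ⟨p.2, hp2⟩), ?_, rfl⟩
        exact (mem_schData_S K w ω μ _ _).mpr ⟨hp, ha⟩
      · have : (X p.1 * X p.2 : PlRing K d n) ∈ schubertVanishing K d n w :=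
          Ideal.mul_mem_right _ _ (X_mem_schubertVanishing K w p.1 hw)
        rw [Ideal.Quotient.eq_zero_iff_mem.mpr this, smul_zero]

theorem pairMono_le {m : Below w →₀ ℕ} {a b : Below w} (hab : a ≠ b) (ha : a ∈ m.support)
    (hb : b ∈ m.support) : pairMono w (a, b) ≤ m := by
  classical
  intro x
  unfold pairMono
  simp only [Finsupp.coe_add, Pi.add_apply, Finsupp.single_apply]
  have ha' : 1 ≤ m a := Nat.one_le_iff_ne_zero.mpr (Finsupp.mem_support_iff.mp ha)
  have hb' : 1 ≤ m b := Nat.one_le_iff_ne_zero.mpr (Finsupp.mem_support_iff.mp hb)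
  by_cases h1 : a = x
  · subst h1
    rw [if_pos rfl, if_neg (fun h => hab h.symm)]
    simpa using ha'
  · by_cases h2 : b = x
    · subst h2
      rw [if_neg h1, if_pos rfl]
      simpa using hb'
    · rw [if_neg h1, if_neg h2]
      exact Nat.zero_le _

theorem chain_of_isStd (ω μ : Below w → ℕ) {m : Below w →₀ ℕ}
    (hm : (schData K w ω μ).IsStd m) :
    ∀ a ∈ m.support, ∀ b ∈ m.support, a ≤ b ∨ b ≤ a := by
  intro a ha b hb
  by_contra hcon
  push Not at hcon
  have hab : a ≠ b := fun h => hcon.1 (le_of_eq h)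
  exact hm ⟨(a, b), hcon⟩ (pairMono_le w hab ha hb)

theorem schData_ind [Infinite K] (hd : 0 < d) (ω μ : Below w → ℕ) :
    LinearIndependent K (fun m : {m : Below w →₀ ℕ // (schData K w ω μ).IsStd m} =>
      Degen.Data.pm (K := K) (XB K w) m.1) := by
  classical
  -- the chain attached to a standard monomial
  have hex : ∀ m : {m : Below w →₀ ℕ // (schData K w ω μ).IsStd m},
      ∃ c : Σ k : ℕ, (Fin k → Idx d n), Antitone c.2 ∧
        (∀ i, c.2 i ∈ (m.1.mapDomain Subtype.val).support) ∧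
        chainMon K c.2 = monomial (m.1.mapDomain Subtype.val) 1 := by
    intro m
    apply exists_chain_of_finsupp K
    intro a ha b hb
    have ha' := Finsupp.mapDomain_support ha
    have hb' := Finsupp.mapDomain_support hb
    obtain ⟨a', ha'', rfl⟩ := Finset.mem_image.mp ha'
    obtain ⟨b', hb'', rfl⟩ := Finset.mem_image.mp hb'
    exact chain_of_isStd K w ω μ m.2 a' ha'' b' hb''
  choose c hc1 hc2 hc3 using hex
  have hcinj : Function.Injective c := by
    intro m m' h
    have h1 : (monomial (m.1.mapDomain Subtype.val) 1 : PlRing K d n) =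
        monomial (m'.1.mapDomain Subtype.val) 1 := by
      rw [← hc3 m, ← hc3 m', h]
    have h2 := MvPolynomial.monomial_left_injective (R := K) one_ne_zero h1
    exact Subtype.ext (Finsupp.mapDomain_injective Subtype.val_injective h2)
  have hbelow : ∀ m i, (c m).2 i ≤ w := by
    intro m i
    have := Finsupp.mapDomain_support (hc2 m i)
    obtain ⟨a, -, ha⟩ := Finset.mem_image.mp this
    rw [← ha]
    exact a.2
  rw [linearIndependent_iff']
  intro s g hg m₀ hm₀
  have hmem : ∑ m ∈ s, g m • chainMon K (c m).2 ∈ schubertVanishing K d n w := by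
    rw [← Ideal.Quotient.eq_zero_iff_mem, map_sum, ← hg]
    refine Finset.sum_congr rfl fun m _ => ?_
    rw [pm_XB, hc3, ← Ideal.Quotient.mkₐ_eq_mk K, map_smul]
  exact coeff_eq_zero_of_mem_schubertVanishing K hd w s g c (fun m _ => hc1 m)
    (fun m _ m' _ h => hcinj h) hmem m₀ hm₀ (hbelow m₀)

theorem schData_good [Infinite K] (hd : 0 < d) (ω μ : Below w → ℕ)
    (hω : ∀ (r : IncPair w) (q : Below w × Below w), q ∈ (schData K w ω μ).S r →
      ω q.1 + ω q.2 ≤ ω r.1.1 + ω r.1.2)
    (hμ : ∀ (r : IncPair w) (q : Below w × Below w), q ∈ (schData K w ω μ).S r →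
      μ q.1 + μ q.2 < μ r.1.1 + μ r.1.2) :
    (schData K w ω μ).Good (XB K w) where
  rel := schData_rel K w ω μ
  hω := by
    intro r q hq
    show Degen.wt ω (pairMono w q) ≤ Degen.wt ω (pairMono w r.1)
    rw [wt_pairMono, wt_pairMono]
    exact hω r q hq
  hμ := by
    intro r q hq
    show Degen.wt μ (pairMono w q) < Degen.wt μ (pairMono w r.1)
    rw [wt_pairMono, wt_pairMono]
    exact hμ r q hq
  ind := schData_ind K w hd ω μ
  surj := aeval_XB_surjective K w

end Groth.Agent.Lib.Helper95.SMT
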