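import Mathlib
import Groth.Agent.Lib.Helper95.SMTSchData

open MvPolynomial W4bk4grassmannian

namespace Groth.Agent.Lib.Helper95.SMT

universe u

variable (K : Type u) [Field K] {d n : ℕ}

/-- the order-reversing involution of `I(d,n)`. -/
def revIdx (θ : Idx d n) : Idx d n :=
  ⟨fun t => Fin.rev (θ.1 (Fin.rev t)), fun _ _ h =>
    Fin.rev_lt_rev.mpr (θ.2 (Fin.rev_lt_rev.mpr h))⟩

theorem revIdx_revIdx (θ : Idx d n) : revIdx (revIdx θ) = θ := by
  apply Subtype.ext
  funext t
  simp [revIdx]

theorem revIdx_le_revIdx {θ φ : Idx d n} : revIdx θ ≤ revIdx φ ↔ φ ≤ θ := by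
  constructor
  · intro h t
    have := h (Fin.rev t)
    simp only [revIdx, Fin.rev_rev] at this
    exact Fin.rev_le_rev.mp this
  · intro h t
    simp only [revIdx]
    exact Fin.rev_le_rev.mpr (h (Fin.rev t))

theorem revIdx_injective : Function.Injective (revIdx (d := d) (n := n)) := by
  intro a b h
  rw [← revIdx_revIdx a, h, revIdx_revIdx]

/-- the sign of the reversal of `d` rows, in `K`. -/
noncomputable def revSign (d : ℕ) : K :=
  ((Equiv.Perm.sign (Fin.revPerm : Equiv.Perm (Fin d)) : ℤˣ) : ℤ)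

theorem revSign_mul_self (d : ℕ) : revSign K d * revSign K d = 1 := by
  unfold revSign
  rw [← Int.cast_mul, ← Units.val_mul, Int.units_mul_self]
  simp

/-- the automorphism of the Plücker ring induced by reversing the rows. -/
noncomputable def revHom : PlRing K d n →ₐ[K] PlRing K d n :=
  aeval (fun θ => C (revSign K d) * X (revIdx θ))

theorem evalMinors_revHom (A : Matrix (Fin n) (Fin d) K) (f : PlRing K d n) :
    evalMinors K d n A (revHom K f) = evalMinors K d n (A.submatrix Fin.rev id) f := by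
  have h : (evalMinors K d n A).comp (revHom K) = evalMinors K d n (A.submatrix Fin.rev id) := by
    apply MvPolynomial.algHom_ext
    intro θ
    rw [AlgHom.comp_apply]
    unfold revHom evalMinors
    rw [aeval_X, aeval_X, map_mul, aeval_C, aeval_X]
    have h1 : (A.submatrix Fin.rev id).submatrix θ.1 id =
        (A.submatrix (revIdx θ).1 id).submatrix (Fin.revPerm : Equiv.Perm (Fin d)) id := by
      ext s t
      simp [revIdx]
    rw [h1, Matrix.det_permute]
    simp [revSign]
  rw [← h]
  rfl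

theorem revHom_mem_vanishing {f : PlRing K d n} (hf : f ∈ vanishing K d n) :
    revHom K f ∈ vanishing K d n := by
  unfold vanishing at hf ⊢
  rw [Ideal.mem_iInf] at hf ⊢
  intro A
  rw [RingHom.mem_ker]
  show evalMinors K d n A (revHom K f) = 0
  rw [evalMinors_revHom]
  exact hf _

theorem revHom_X_mul_X (α β : Idx d n) :
    revHom K (X α * X β) = X (revIdx α) * X (revIdx β) := by
  unfold revHom
  rw [map_mul, aeval_X, aeval_X]
  calc C (revSign K d) * X (revIdx α) * (C (revSign K d) * X (revIdx β))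
      = C (revSign K d * revSign K d) * (X (revIdx α) * X (revIdx β)) := by
        rw [C_mul]; ring
    _ = _ := by rw [revSign_mul_self, C_1, one_mul]

theorem snd_le_of_strCoeff_ne_zero [Infinite K] (hd : 0 < d) (τ φ : Idx d n)
    (p : Idx d n × Idx d n) (hp : p ∈ stdPairs d n (sig τ + sig φ)) (ha : strCoeff K τ φ p ≠ 0) :
    p.2 ≤ τ ∧ p.2 ≤ φ := by
  have hrel := revHom_mem_vanishing K (strCoeff_spec K τ φ)
  rw [map_sub, revHom_X_mul_X, map_sum] at hrel
  have hterm : ∀ q ∈ stdPairs d n (sig τ + sig φ),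
      revHom K (strCoeff K τ φ q • (X q.1 * X q.2)) =
        strCoeff K τ φ q • (X (revIdx q.2, revIdx q.1).1 * X (revIdx q.2, revIdx q.1).2) := by
    intro q _
    rw [map_smul, revHom_X_mul_X, mul_comm]
  rw [Finset.sum_congr rfl hterm] at hrel
  have h := le_fst_of_quad_rel K hd (revIdx τ) (revIdx φ) (stdPairs d n (sig τ + sig φ))
    (strCoeff K τ φ) (fun q => (revIdx q.2, revIdx q.1))
    (fun q hq => revIdx_le_revIdx.mpr (mem_stdPairs.mp hq).1)
    (fun q _ q' _ h => by
      simp only [Prod.mk.injEq] at h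
      exact Prod.ext (revIdx_injective h.2) (revIdx_injective h.1))
    hrel p hp ha
  exact ⟨revIdx_le_revIdx.mp h.1, revIdx_le_revIdx.mp h.2⟩

theorem sig_sup_add_sig_inf (τ φ : Idx d n) :
    sig (W4bk4grassmannian.sup τ φ) + sig (W4bk4grassmannian.inf τ φ) = sig τ + sig φ := by
  unfold sig sumT
  rw [← Finset.sum_add_distrib, ← Finset.sum_add_distrib]
  refine Finset.sum_congr rfl fun t _ => ?_
  simp only [W4bk4grassmannian.sup, W4bk4grassmannian.inf]
  rcases le_total (τ.1 t) (φ.1 t) with h | h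
  · rw [max_eq_right h, min_eq_left h, add_comm]
  · rw [max_eq_left h, min_eq_right h]

theorem inf_le_sup' (τ φ : Idx d n) :
    W4bk4grassmannian.inf τ φ ≤ W4bk4grassmannian.sup τ φ :=
  fun _ => le_trans (min_le_left _ _) (le_max_left _ _)

theorem le_sup_left' (τ φ : Idx d n) : τ ≤ W4bk4grassmannian.sup τ φ := fun _ => le_max_left _ _
theorem le_sup_right' (τ φ : Idx d n) : φ ≤ W4bk4grassmannian.sup τ φ := fun _ => le_max_right _ _
theorem inf_le_left' (τ φ : Idx d n) : W4bk4grassmannian.inf τ φ ≤ τ := fun _ => min_le_left _ _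
theorem inf_le_right' (τ φ : Idx d n) : W4bk4grassmannian.inf τ φ ≤ φ := fun _ => min_le_right _ _
theorem sup_le' {τ φ α : Idx d n} (h1 : τ ≤ α) (h2 : φ ≤ α) : W4bk4grassmannian.sup τ φ ≤ α :=
  fun t => max_le (h1 t) (h2 t)
theorem le_inf' {τ φ β : Idx d n} (h1 : β ≤ τ) (h2 : β ≤ φ) : β ≤ W4bk4grassmannian.inf τ φ :=
  fun t => le_min (h1 t) (h2 t)

theorem mem_stdPairs_sup_inf (τ φ : Idx d n) :
    (W4bk4grassmannian.sup τ φ, W4bk4grassmannian.inf τ φ) ∈ stdPairs d n (sig τ + sig φ) :=
  mem_stdPairs.mpr ⟨inf_le_sup' τ φ, sig_sup_add_sig_inf τ φ⟩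

theorem strCoeff_shape [Infinite K] (hd : 0 < d) (τ φ : Idx d n)
    (p : Idx d n × Idx d n) (hp : p ∈ stdPairs d n (sig τ + sig φ)) (ha : strCoeff K τ φ p ≠ 0) :
    p = (W4bk4grassmannian.sup τ φ, W4bk4grassmannian.inf τ φ) ∨
      (W4bk4grassmannian.sup τ φ < p.1 ∧ p.2 < W4bk4grassmannian.inf τ φ) := by
  obtain ⟨h1, h2⟩ := le_fst_of_strCoeff_ne_zero K hd τ φ p hp ha
  obtain ⟨h3, h4⟩ := snd_le_of_strCoeff_ne_zero K hd τ φ p hp ha
  have hsup := sup_le' h1 h2
  have hinf := le_inf' h3 h4
  have hsum := (mem_stdPairs.mp hp).2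
  have hsum' := sig_sup_add_sig_inf τ φ
  by_cases hc1 : W4bk4grassmannian.sup τ φ = p.1
  · left
    have : p.2 = W4bk4grassmannian.inf τ φ := by
      apply eq_of_le_of_sig_le hinf
      rw [← hc1] at hsum
      omega
    exact Prod.ext hc1.symm this
  · by_cases hc2 : p.2 = W4bk4grassmannian.inf τ φ
    · exfalso
      apply hc1
      apply eq_of_le_of_sig_le hsup
      rw [hc2] at hsum
      omega
    · right
      exact ⟨lt_of_le_of_ne hsup hc1, lt_of_le_of_ne hinf hc2⟩

theorem chainExpo_pairChain_sup_inf (τ φ : Idx d n) :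
    chainExpo (pairChain (W4bk4grassmannian.sup τ φ, W4bk4grassmannian.inf τ φ)).2 =
      chainExpo (pairChain (τ, φ)).2 := by
  classical
  apply Finsupp.ext
  intro x
  obtain ⟨t, a⟩ := x
  show chainExpo _ (toLex (t, a)) = chainExpo _ (toLex (t, a))
  rw [chainExpo_apply, chainExpo_apply, Finset.card_filter, Finset.card_filter]
  show (∑ k : Fin 2, _) = ∑ k : Fin 2, _
  rw [Fin.sum_univ_two, Fin.sum_univ_two]
  simp only [pairChain, Matrix.cons_val_zero, Matrix.cons_val_one, W4bk4grassmannian.sup,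
    W4bk4grassmannian.inf]
  rcases le_total (τ.1 t) (φ.1 t) with h | h
  · simp only [max_eq_right h, min_eq_left h]
    rw [add_comm]
    congr!
  · simp only [max_eq_left h, min_eq_right h]
    congr!

theorem strCoeff_sup_inf [Infinite K] (hd : 0 < d) (τ φ : Idx d n) :
    strCoeff K τ φ (W4bk4grassmannian.sup τ φ, W4bk4grassmannian.inf τ φ) = 1 := by
  classical
  set v := W4bk4grassmannian.sup τ φ with hv
  set u := W4bk4grassmannian.inf τ φ with hu
  have hrel := vanishing_le_schubertVanishing v (strCoeff_spec K τ φ)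
  have h0 := Psi_eq_zero_of_mem K v _ hrel
  rw [map_sub, sub_eq_zero, map_sum] at h0
  rw [Finset.sum_eq_single (v, u)] at h0
  · rw [map_smul, ← chainMon_pairChain K (τ, φ), ← chainMon_pairChain K (v, u)] at h0
    have hm1 := Psi_chainMon_monic K v (pairChain (τ, φ)).2 (by
      intro k
      simp only [pairChain]
      fin_cases k
      · exact le_sup_left' τ φ
      · exact le_sup_right' τ φ)
    have hm2 := Psi_chainMon_monic K v (pairChain (v, u)).2 (by
      intro k
      simp only [pairChain]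
      fin_cases k
      · exact le_rfl
      · exact inf_le_sup' τ φ)
    have hE : chainExpo (pairChain (v, u)).2 = chainExpo (pairChain (τ, φ)).2 :=
      chainExpo_pairChain_sup_inf τ φ
    have h1 := congrArg (coeff (chainExpo (pairChain (τ, φ)).2)) h0
    rw [coeff_smul] at h1
    have c1 := hm1.1.coeff_degree
    rw [hm1.2] at c1
    have c2 := hm2.1.coeff_degree
    rw [hm2.2, hE] at c2
    rw [c1, c2, smul_eq_mul, mul_one] at h1
    exact h1.symm
  · intro p hp hne
    by_cases ha : strCoeff K τ φ p = 0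
    · rw [ha, zero_smul, map_zero]
    · rcases strCoeff_shape K hd τ φ p hp ha with h | ⟨h, -⟩
      · exact absurd h hne
      · rw [map_smul, map_mul, Psi_X_eq_zero K v p.1 (not_le_of_gt h), zero_mul, smul_zero]
  · intro h
    exact absurd (mem_stdPairs_sup_inf τ φ) h

/-- the shape of the quadratic straightening relations. -/
theorem straightening_shape [Infinite K] (hd : 0 < d) (τ φ : Idx d n) :
    ∃ g ∈ Submodule.span K {f : PlRing K d n | ∃ α β : Idx d n,
        β ≤ α ∧ W4bk4grassmannian.sup τ φ < α ∧ β < W4bk4grassmannian.inf τ φ ∧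
          f = MvPolynomial.X α * MvPolynomial.X β},
      MvPolynomial.X τ * MvPolynomial.X φ -
          MvPolynomial.X (W4bk4grassmannian.sup τ φ) * MvPolynomial.X (W4bk4grassmannian.inf τ φ) - g ∈
        vanishing K d n := by
  classical
  set v := W4bk4grassmannian.sup τ φ with hv
  set u := W4bk4grassmannian.inf τ φ with hu
  refine ⟨∑ p ∈ (stdPairs d n (sig τ + sig φ)).erase (v, u),
    strCoeff K τ φ p • (X p.1 * X p.2), ?_, ?_⟩
  · refine Submodule.sum_mem _ fun p hp => ?_
    obtain ⟨hne, hp'⟩ := Finset.mem_erase.mp hp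
    by_cases ha : strCoeff K τ φ p = 0
    · rw [ha, zero_smul]; exact Submodule.zero_mem _
    · rcases strCoeff_shape K hd τ φ p hp' ha with h | ⟨h1, h2⟩
      · exact absurd h hne
      · exact Submodule.smul_mem _ _ (Submodule.subset_span
          ⟨p.1, p.2, (mem_stdPairs.mp hp').1, h1, h2, rfl⟩)
  · have hspec := strCoeff_spec K τ φ
    rw [← Finset.add_sum_erase _ _ (mem_stdPairs_sup_inf τ φ), strCoeff_sup_inf K hd τ φ,
      one_smul, ← sub_sub] at hspec
    exact hspec

end Groth.Agent.Lib.Helper95.SMT
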