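import Mathlib
import Groth.Agent.Lib.Helper95.SMTCompare
import Groth.Agent.Lib.Helper95.SMTShape
import Groth.Agent.Lib.Helper95.SMTDim

open MvPolynomial W4bk4grassmannian Groth.Agent.Lib.Helper95.SMT Groth.Agent.Lib.Helper95.SMTDim

namespace Groth.Agent.Lib.Helper95.CMSch

universe u

variable {d n : ℕ}

theorem codeg_le_of_le {φ τ : Idx d n} (h : φ ≤ τ) : codeg φ ≤ codeg τ := by
  unfold codeg
  exact Finset.sum_le_sum fun t _ => Nat.sub_le_sub_right (Fin.le_def.mp (h t)) _

theorem codeg_lt_of_lt {φ τ : Idx d n} (h : φ < τ) : codeg φ < codeg τ := by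
  have hle : φ ≤ τ := h.le
  have hne : ∃ t, φ.1 t < τ.1 t := by
    by_contra hcon
    push Not at hcon
    exact h.not_ge (fun t => hcon t)
  obtain ⟨t₀, ht₀⟩ := hne
  unfold codeg
  apply Finset.sum_lt_sum
  · exact fun t _ => Nat.sub_le_sub_right (Fin.le_def.mp (hle t)) _
  · refine ⟨t₀, Finset.mem_univ _, ?_⟩
    have h1 := val_le_val φ t₀
    have h2 := Fin.lt_def.mp ht₀
    omega

theorem codeg_inf_add_codeg_sup (φ ψ : Idx d n) :
    codeg (W4bk4grassmannian.inf φ ψ) + codeg (W4bk4grassmannian.sup φ ψ) = codeg φ + codeg ψ := by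
  unfold codeg
  rw [← Finset.sum_add_distrib, ← Finset.sum_add_distrib]
  refine Finset.sum_congr rfl fun t _ => ?_
  simp only [W4bk4grassmannian.sup, W4bk4grassmannian.inf]
  rcases le_total (φ.1 t) (ψ.1 t) with h | h
  · rw [max_eq_right h, min_eq_left h]
  · rw [max_eq_left h, min_eq_right h, add_comm]

theorem inf_mem_divisors {φ₁ φ₂ τ : Idx d n} (h1 : φ₁ ∈ divisors τ) (h2 : φ₂ ∈ divisors τ)
    (hne : φ₁ ≠ φ₂) : W4bk4grassmannian.inf φ₁ φ₂ ∈ divisors φ₂ := by
  obtain ⟨h1lt, h1c⟩ := h1
  obtain ⟨h2lt, h2c⟩ := h2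
  have hsup_le : W4bk4grassmannian.sup φ₁ φ₂ ≤ τ := sup_le' h1lt.le h2lt.le
  have hφ₁sup : φ₁ < W4bk4grassmannian.sup φ₁ φ₂ := by
    refine lt_of_le_of_ne (le_sup_left' φ₁ φ₂) fun heq => ?_
    have h21 : φ₂ ≤ φ₁ := by
      rw [heq]
      exact le_sup_right' φ₁ φ₂
    rcases eq_or_lt_of_le h21 with h | h
    · exact hne h.symm
    · have := codeg_lt_of_lt h
      omega
  have hc1 := codeg_lt_of_lt hφ₁sup
  have hc2 := codeg_le_of_le hsup_le
  have hc3 := codeg_inf_add_codeg_sup φ₁ φ₂
  have hinf_le : W4bk4grassmannian.inf φ₁ φ₂ ≤ φ₂ := inf_le_right' φ₁ φ₂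
  refine ⟨lt_of_le_of_ne hinf_le fun heq => ?_, by omega⟩
  rw [heq] at hc3
  omega

variable (K : Type u) [Field K]

/-- the ideal of an intersection of a union of Schubert varieties with a Schubert variety. -/
theorem inf_sup_eq [Infinite K] (hd : 0 < d) (T : Finset (Idx d n)) (ψ : Idx d n) :
    (T.inf fun φ => schubertVanishing K d n φ) ⊔ schubertVanishing K d n ψ =
      T.inf fun φ => schubertVanishing K d n (W4bk4grassmannian.inf φ ψ) := by
  classical
  apply le_antisymm
  · apply sup_le
    · apply Finset.le_inf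
      intro φ hφ
      exact (Finset.inf_le hφ).trans (schubertVanishing_mono K (inf_le_left' φ ψ))
    · apply Finset.le_inf
      intro φ _
      exact schubertVanishing_mono K (inf_le_right' φ ψ)
  · intro F hF
    obtain ⟨c, hc⟩ := exists_std_repr K (vanishing K d n)
      (fun i j t _ => shuffleRel_mem_vanishing i j t) F
    set G := ∑ x ∈ c.support, c x • chainMon K x.2.1 with hG
    have hGmem : ∀ φ ∈ T, G ∈ schubertVanishing K d n (W4bk4grassmannian.inf φ ψ) := by
      intro φ hφ
      have hle : (T.inf fun φ => schubertVanishing K d n (W4bk4grassmannian.inf φ ψ)) ≤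
          schubertVanishing K d n (W4bk4grassmannian.inf φ ψ) :=
        Finset.inf_le (f := fun φ => schubertVanishing K d n (W4bk4grassmannian.inf φ ψ)) hφ
      have h1 : F ∈ schubertVanishing K d n (W4bk4grassmannian.inf φ ψ) := hle hF
      have h2 := vanishing_le_schubertVanishing (K := K) (W4bk4grassmannian.inf φ ψ) hc
      have := (schubertVanishing K d n (W4bk4grassmannian.inf φ ψ)).sub_mem h1 h2
      rwa [sub_sub_cancel] at this
    have hterm : ∀ x ∈ c.support, c x • chainMon K x.2.1 ∈
        (T.inf fun φ => schubertVanishing K d n φ) ⊔ schubertVanishing K d n ψ := by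
      intro x hx
      have hnot : ∀ φ ∈ T, ¬ ∀ k, x.2.1 k ≤ W4bk4grassmannian.inf φ ψ := by
        intro φ hφ hbelow
        have h0 := coeff_eq_zero_of_mem_schubertVanishing K hd (W4bk4grassmannian.inf φ ψ)
          c.support (fun x => c x) (fun x => ⟨x.1, x.2.1⟩) (fun x _ => x.2.2)
          (by
            intro x _ y _ hxy
            obtain ⟨m, c, hc⟩ := x
            obtain ⟨m', c', hc'⟩ := y
            simp only [Sigma.mk.injEq] at hxy
            obtain ⟨rfl, h2⟩ := hxy
            have := eq_of_heq h2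
            subst this
            rfl)
          (hGmem φ hφ) x hx hbelow
        exact (Finsupp.mem_support_iff.mp hx) h0
      rw [MvPolynomial.smul_eq_C_mul]
      apply Ideal.mul_mem_left
      by_cases hψ : ∀ k, x.2.1 k ≤ ψ
      · apply Ideal.mem_sup_left
        rw [Submodule.mem_finsetInf]
        intro φ hφ
        apply chainMon_mem_schubertVanishing
        by_contra hcon
        push Not at hcon
        exact hnot φ hφ (fun k => le_inf' (hcon k) (hψ k))
      · apply Ideal.mem_sup_right
        apply chainMon_mem_schubertVanishing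
        push Not at hψ
        exact hψ
    have hGsup : G ∈ (T.inf fun φ => schubertVanishing K d n φ) ⊔ schubertVanishing K d n ψ :=
      Ideal.sum_mem _ hterm
    have hFG : F - G ∈ (T.inf fun φ => schubertVanishing K d n φ) ⊔ schubertVanishing K d n ψ :=
      Ideal.mem_sup_right (vanishing_le_schubertVanishing (K := K) ψ hc)
    have := Ideal.add_mem _ hFG hGsup
    rwa [sub_add_cancel] at this

end Groth.Agent.Lib.Helper95.CMSch
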