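import Mathlib
import Groth.Agent.Lib.Helper95.BTAssemble

open MvPolynomial W4bk4grassmannian Groth.Agent.Lib.Helper95.SMT Groth.Agent.Lib.Helper95.SMTDim

namespace Groth.Agent.Lib.Helper95.SLInv

universe u

variable (K : Type u) [Field K] (d n : ℕ)

/-- the point of the matrix space attached to a matrix. -/
def pt (A : Matrix (Fin n) (Fin d) K) : Fin n × Fin d → K := fun p => A p.1 p.2

theorem eval_minor (A : Matrix (Fin n) (Fin d) K) (a : Fin d → Fin n) :
    eval (pt K d n A) (minor K d n a) = (A.submatrix a id).det := by
  unfold minor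
  rw [RingHom.map_det]
  congr 1
  ext s t
  simp only [RingHom.mapMatrix_apply, Matrix.map_apply, Matrix.of_apply, eval_X, pt,
    Matrix.submatrix_apply, id_eq]

theorem eval_pluckerMap (A : Matrix (Fin n) (Fin d) K) (F : PlRing K d n) :
    eval (pt K d n A) (pluckerMap K d n F) = evalMinors K d n A F := by
  have h : (aeval (pt K d n A) : MatRing K d n →ₐ[K] K).comp (pluckerMap K d n) =
      evalMinors K d n A := by
    apply MvPolynomial.algHom_ext
    intro θ
    unfold pluckerMap evalMinors
    rw [AlgHom.comp_apply, aeval_X, aeval_X]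
    exact eval_minor K d n A θ.1
  exact DFunLike.congr_fun h F

theorem eval_rightTranslate (A : Matrix (Fin n) (Fin d) K)
    (g : Matrix.SpecialLinearGroup (Fin d) K) (f : MatRing K d n) :
    eval (pt K d n A) (rightTranslate K d n g f) =
      eval (pt K d n (A * (g : Matrix (Fin d) (Fin d) K))) f := by
  have h : (aeval (pt K d n A) : MatRing K d n →ₐ[K] K).comp (rightTranslate K d n g) =
      aeval (pt K d n (A * (g : Matrix (Fin d) (Fin d) K))) := by
    apply MvPolynomial.algHom_ext
    intro p
    unfold rightTranslate
    rw [AlgHom.comp_apply, aeval_X, aeval_X, map_sum]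
    simp only [map_mul, aeval_X, aeval_C, pt, Matrix.mul_apply]
    rfl
  exact DFunLike.congr_fun h f

theorem rightTranslate_pluckerMap [Infinite K] (g : Matrix.SpecialLinearGroup (Fin d) K)
    (F : PlRing K d n) :
    rightTranslate K d n g (pluckerMap K d n F) = pluckerMap K d n F := by
  apply MvPolynomial.funext
  intro x
  have hx : x = pt K d n (Matrix.of fun i j => x (i, j)) := by
    funext p
    rfl
  rw [hx, eval_rightTranslate, eval_pluckerMap, eval_pluckerMap]
  congr 1
  unfold evalMinors
  congr 1
  funext θ
  have : ((Matrix.of fun i j => x (i, j)) * (g : Matrix (Fin d) (Fin d) K)).submatrix θ.1 id =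
      ((Matrix.of fun i j => x (i, j)).submatrix θ.1 id) * (g : Matrix (Fin d) (Fin d) K) := by
    ext i j
    simp only [Matrix.submatrix_apply, id_eq, Matrix.mul_apply]
  rw [this, Matrix.det_mul, g.det_coe, mul_one]

theorem adjoin_eq_range :
    Algebra.adjoin K (Set.range fun θ : Idx d n => minor K d n θ.1) = (pluckerMap K d n).range := by
  unfold pluckerMap
  exact Algebra.adjoin_range_eq_range_aeval K _

end Groth.Agent.Lib.Helper95.SLInv
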