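import Mathlib
import Groth.Agent.Lib.Helper95.SLInvA
import Groth.Agent.Lib.Helper95.SMTShape

open MvPolynomial W4bk4grassmannian Groth.Agent.Lib.Helper95.SMT Groth.Agent.Lib.Helper95.SMTDim
open Groth.Agent.Lib.Helper95.BT

namespace Groth.Agent.Lib.Helper95.SLInv

universe u

variable {d r : ℕ}

/-- the unique atom of `I(d, d + r)`. -/
def atom (hr : 0 < r) : Idx d (d + r) :=
  ⟨fun k => ⟨if k.val + 1 = d then d else k.val, by have := k.isLt; split_ifs <;> omega⟩, by
    intro k k' hkk'
    have := Fin.lt_def.mp hkk'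
    have := k'.isLt
    rw [Fin.lt_def]
    simp only
    split_ifs <;> omega⟩

theorem atom_le_iff (hd : 0 < d) (hr : 0 < r) (θ : Idx d (d + r)) :
    atom hr ≤ θ ↔ θ ≠ iota (Nat.le_add_right d r) := by
  constructor
  · rintro h rfl
    have := Fin.le_def.mp (h ⟨d - 1, by omega⟩)
    simp only [atom, iota] at this
    rw [if_pos (by omega)] at this
    omega
  · intro hθ k
    rw [Fin.le_def]
    simp only [atom]
    split_ifs with hk
    · by_contra hlt
      apply hθ
      apply Subtype.ext
      funext j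
      ext
      have h1 := val_le_val θ j
      have hd : 0 < d := Fin.pos k
      have h2 := val_add_le θ j k (by rw [Fin.le_def]; have := j.isLt; omega)
      have := j.isLt
      show (θ.1 j).val = j.val
      omega
    · exact val_le_val θ k

theorem le_revIdx_atom_iff (hd : 0 < d) (hr : 0 < r) (θ : Idx d (d + r)) :
    θ ≤ revIdx (atom hr) ↔ θ ≠ revIdx (iota (Nat.le_add_right d r)) := by
  rw [← revIdx_revIdx θ, revIdx_le_revIdx, atom_le_iff hd hr]
  constructor
  · intro h h'
    exact h (revIdx_injective h')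
  · intro h h'
    exact h (by rw [h'])

variable (K : Type u) [Field K]

theorem revSign_ne_zero (d : ℕ) : revSign K d ≠ 0 := by
  intro h
  have := revSign_mul_self K d
  rw [h, mul_zero] at this
  exact zero_ne_one this

theorem pluckerMap_eq_zero_of_mem_vanishing [Infinite K] {n : ℕ} {F : PlRing K d n}
    (hF : F ∈ vanishing K d n) : pluckerMap K d n F = 0 := by
  apply MvPolynomial.funext
  intro x
  have hx : x = pt K d n (Matrix.of fun i j => x (i, j)) := by
    funext p
    rfl
  rw [hx, eval_pluckerMap, map_zero]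
  unfold vanishing at hF
  rw [Ideal.mem_iInf] at hF
  exact hF _

theorem revHom_chainMon {n k : ℕ} (c : Fin k → Idx d n) :
    revHom K (chainMon K c) =
      C (revSign K d ^ k) * chainMon K (fun i => revIdx (c (Fin.rev i))) := by
  unfold chainMon revHom
  rw [map_prod]
  simp only [aeval_X]
  rw [Finset.prod_mul_distrib, Finset.prod_const, Finset.card_univ, Fintype.card_fin, C_pow]
  congr 1
  exact (Equiv.prod_comp Fin.revPerm (fun i => (X (revIdx (c i)) : PlRing K d n))).symm

theorem minor_iota_ne_zero (hd : 0 < d) :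
    minor K d (d + r) (iota (Nat.le_add_right d r)).1 ≠ 0 := by
  intro h
  have h1 := eval_minor K d (d + r) (cellMat K d r 0) (iota (Nat.le_add_right d r)).1
  rw [h, map_zero, ← eval_cellMinor, cellMinor_iota, map_one] at h1
  exact zero_ne_one h1

theorem mem_range_of_minor_mul [Infinite K] (hd : 0 < d) (hr : 0 < r) (h : MatRing K d (d + r))
    (hh : minor K d (d + r) (iota (Nat.le_add_right d r)).1 * h ∈
      (pluckerMap K d (d + r)).range) :
    h ∈ (pluckerMap K d (d + r)).range := by
  classical
  set ι₀ := iota (Nat.le_add_right d r) with hι₀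
  set δ := minor K d (d + r) ι₀.1 with hδ
  obtain ⟨F, hF⟩ := hh
  obtain ⟨c, hc⟩ := exists_std_repr K (vanishing K d (d + r))
    (fun i j t _ => shuffleRel_mem_vanishing i j t) F
  set S₁ := c.support.filter (fun x => ∃ i, x.2.1 i = ι₀) with hS₁
  set S₂ := c.support.filter (fun x => ¬ ∃ i, x.2.1 i = ι₀) with hS₂
  have hsplit : ∑ x ∈ c.support, c x • chainMon K x.2.1 =
      ∑ x ∈ S₁, c x • chainMon K x.2.1 + ∑ x ∈ S₂, c x • chainMon K x.2.1 :=
    (Finset.sum_filter_add_sum_filter_not _ _ _).symm
  have hfac : ∀ x : (Σ m : ℕ, {c : Fin m → Idx d (d + r) // Antitone c}),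
      (∃ i, x.2.1 i = ι₀) → ∃ M : PlRing K d (d + r), chainMon K x.2.1 = X ι₀ * M := by
    rintro x ⟨i, hi⟩
    refine ⟨∏ j ∈ Finset.univ.erase i, X (x.2.1 j), ?_⟩
    unfold chainMon
    rw [← hi]
    exact (Finset.mul_prod_erase _ (fun j => (X (x.2.1 j) : PlRing K d (d + r)))
      (Finset.mem_univ i)).symm
  choose! Mx hMx using hfac
  set F₁ := ∑ x ∈ S₁, c x • Mx x with hF₁
  set F₂ := ∑ x ∈ S₂, c x • chainMon K x.2.1 with hF₂
  have hF12 : F - (X ι₀ * F₁ + F₂) ∈ vanishing K d (d + r) := by
    have : X ι₀ * F₁ + F₂ = ∑ x ∈ c.support, c x • chainMon K x.2.1 := by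
      rw [hsplit]
      congr 1
      rw [hF₁, Finset.mul_sum]
      refine Finset.sum_congr rfl fun x hx => ?_
      rw [hMx x (Finset.mem_filter.mp hx).2, mul_smul_comm]
    rw [this]
    exact hc
  have h0 := pluckerMap_eq_zero_of_mem_vanishing K hF12
  have hXι : pluckerMap K d (d + r) (X ι₀) = δ := by
    unfold pluckerMap
    rw [aeval_X]
  rw [map_sub, map_add, map_mul, hXι, sub_eq_zero] at h0
  have hF₂' : pluckerMap K d (d + r) F₂ = δ * (h - pluckerMap K d (d + r) F₁) := by
    have hF' : pluckerMap K d (d + r) F = δ * h := hF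
    rw [mul_sub, ← hF', h0]
    ring
  have hvan : ∀ A : Matrix (Fin (d + r)) (Fin d) K, (A.submatrix ι₀.1 id).det = 0 →
      evalMinors K d (d + r) A F₂ = 0 := by
    intro A hA
    rw [← eval_pluckerMap, hF₂', map_mul, hδ, eval_minor, hA, zero_mul]
  have hclaim : ∀ x ∈ S₂, c x = 0 := by
    intro x₀ hx₀
    set w' := revIdx (atom (d := d) hr) with hw'
    have hmem : ∑ x ∈ S₂, (c x * revSign K d ^ x.1) •
        chainMon K (fun i => revIdx (x.2.1 (Fin.rev i))) ∈ schubertVanishing K d (d + r) w' := by
      have hG : ∑ x ∈ S₂, (c x * revSign K d ^ x.1) •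
          chainMon K (fun i => revIdx (x.2.1 (Fin.rev i))) = revHom K F₂ := by
        rw [hF₂, map_sum]
        refine Finset.sum_congr rfl fun x _ => ?_
        rw [map_smul, revHom_chainMon, MvPolynomial.smul_eq_C_mul, MvPolynomial.smul_eq_C_mul,
          C_mul, mul_assoc]
      rw [hG]
      unfold schubertVanishing
      rw [Ideal.mem_iInf]
      intro A
      rw [Ideal.mem_iInf]
      intro hA
      rw [RingHom.mem_ker]
      show evalMinors K d (d + r) A (revHom K F₂) = 0
      rw [evalMinors_revHom]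
      apply hvan
      have h1 := evalMinors_revHom K A (X ι₀)
      unfold revHom evalMinors at h1
      rw [aeval_X, aeval_X, map_mul, aeval_C, aeval_X] at h1
      rw [← h1, hA (revIdx ι₀) (by
        rw [hw', le_revIdx_atom_iff hd hr]
        exact fun h => h rfl), mul_zero]
    have h2 := coeff_eq_zero_of_mem_schubertVanishing K hd w' S₂
      (fun x => c x * revSign K d ^ x.1)
      (fun x => ⟨x.1, fun i => revIdx (x.2.1 (Fin.rev i))⟩)
      (by
        intro x _ i j hij
        exact revIdx_le_revIdx.mpr (x.2.2 (Fin.rev_le_rev.mpr hij)))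
      (by
        rintro ⟨k, cf, hcf⟩ _ ⟨k', cf', hcf'⟩ _ hxy
        simp only at hxy
        obtain ⟨hk, hf⟩ := Sigma.mk.inj_iff.mp hxy
        subst hk
        have hf' := eq_of_heq hf
        have : cf = cf' := by
          funext i
          have := congrFun hf' (Fin.rev i)
          simp only [Fin.rev_rev] at this
          exact revIdx_injective this
        subst this
        rfl)
      hmem x₀ hx₀ (by
        intro k
        simp only
        rw [hw', le_revIdx_atom_iff hd hr]
        intro hk
        have := revIdx_injective hk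
        exact (Finset.mem_filter.mp hx₀).2 ⟨_, this⟩)
    rcases mul_eq_zero.mp h2 with h3 | h3
    · exact h3
    · exact absurd h3 (pow_ne_zero _ (revSign_ne_zero K d))
  have hF₂0 : F₂ = 0 := by
    rw [hF₂]
    refine Finset.sum_eq_zero fun x hx => ?_
    rw [hclaim x hx, zero_smul]
  rw [hF₂0, map_zero] at hF₂'
  have hδ0 : δ ≠ 0 := minor_iota_ne_zero K hd
  have := (mul_eq_zero.mp hF₂'.symm).resolve_left hδ0
  exact ⟨F₁, (sub_eq_zero.mp this).symm⟩

end Groth.Agent.Lib.Helper95.SLInv
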