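import Mathlib
import Groth.Agent.Lib.Helper95.SLInvB

open MvPolynomial W4bk4grassmannian Groth.Agent.Lib.Helper95.SMT Groth.Agent.Lib.Helper95.SMTDim
open Groth.Agent.Lib.Helper95.BT

namespace Groth.Agent.Lib.Helper95.SLInv

universe u

variable (K : Type u) [Field K] (d r : ℕ)

/-- the cell coordinates of a matrix with invertible top block. -/
noncomputable def cellPt (A : Matrix (Fin (d + r)) (Fin d) K) : Fin r × Fin d → K :=
  fun p => (A * (A.submatrix (iota (Nat.le_add_right d r)).1 id)⁻¹) (Fin.natAdd d p.1) p.2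

theorem cellMat_cellPt (A : Matrix (Fin (d + r)) (Fin d) K)
    (hA : (A.submatrix (iota (Nat.le_add_right d r)).1 id).det ≠ 0) :
    cellMat K d r (cellPt K d r A) =
      A * (A.submatrix (iota (Nat.le_add_right d r)).1 id)⁻¹ := by
  set A₀ := A.submatrix (iota (Nat.le_add_right d r)).1 id with hA₀
  have hunit : IsUnit A₀.det := isUnit_iff_ne_zero.mpr hA
  ext i j
  by_cases h : i.val < d
  · rw [cellMat_apply_lt K d r _ i j h]
    have h2 : (A * A₀⁻¹) i j = (A₀ * A₀⁻¹) ⟨i.val, h⟩ j := by
      rw [Matrix.mul_apply, Matrix.mul_apply]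
      refine Finset.sum_congr rfl fun k _ => ?_
      rw [hA₀]
      simp only [Matrix.submatrix_apply, id_eq, iota]
    rw [h2, Matrix.mul_nonsing_inv _ hunit, Matrix.one_apply]
    simp only [Fin.ext_iff]
  · rw [cellMat_apply_ge K d r _ i j h]
    unfold cellPt
    simp only
    have hi : Fin.natAdd d (⟨i.val - d, by have := i.isLt; omega⟩ : Fin r) = i := by
      ext
      simp only [Fin.val_natAdd]
      omega
    rw [hi]

theorem det_cellMat_cellPt (A : Matrix (Fin (d + r)) (Fin d) K)
    (hA : (A.submatrix (iota (Nat.le_add_right d r)).1 id).det ≠ 0) (θ : Idx d (d + r)) :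
    ((cellMat K d r (cellPt K d r A)).submatrix θ.1 id).det =
      ((A.submatrix (iota (Nat.le_add_right d r)).1 id).det)⁻¹ * (A.submatrix θ.1 id).det := by
  rw [cellMat_cellPt K d r A hA]
  set A₀ := A.submatrix (iota (Nat.le_add_right d r)).1 id with hA₀
  have h3 : (A * A₀⁻¹).submatrix θ.1 id = A.submatrix θ.1 id * A₀⁻¹ := by
    ext i j
    simp only [Matrix.submatrix_apply, id_eq, Matrix.mul_apply]
  rw [h3, Matrix.det_mul, Matrix.det_nonsing_inv, Ring.inverse_eq_inv', mul_comm]

theorem exists_X_eq_cellMinor (p : Fin r × Fin d) :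
    ∃ (ε : K) (θ : Idx d (d + r)), (X p : CellRing K d r) = C ε * cellMinor K d r θ := by
  obtain ⟨i, j⟩ := p
  let M : MinorIdx r d := ⟨0, ⟨fun _ => Fin.rev i, fun a b hab => by
    have := a.isLt; have := b.isLt; rw [Fin.lt_def] at hab; omega⟩,
    ⟨fun _ => j, fun a b hab => by
    have := a.isLt; have := b.isLt; rw [Fin.lt_def] at hab; omega⟩⟩
  obtain ⟨ε, -, hε⟩ := minorOf_eq K r d M
  have h1 : minorOf K M = X (Fin.rev i, j) := by
    show Matrix.det ((genMatrix K r d).submatrix (fun _ : Fin 1 => Fin.rev i)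
      (fun _ : Fin 1 => j)) = _
    rw [Matrix.det_fin_one]
    rfl
  rw [h1] at hε
  have h2 := congrArg (rho K r d) hε
  rw [rho_X, Fin.rev_rev, map_mul, rho_C, rho_rho] at h2
  exact ⟨ε, thetaOf M, h2⟩

theorem cellPt_eq (A : Matrix (Fin (d + r)) (Fin d) K)
    (hA : (A.submatrix (iota (Nat.le_add_right d r)).1 id).det ≠ 0)
    (p : Fin r × Fin d) (ε : K) (θ : Idx d (d + r))
    (h : (X p : CellRing K d r) = C ε * cellMinor K d r θ) :
    cellPt K d r A p = ε * (((A.submatrix (iota (Nat.le_add_right d r)).1 id).det)⁻¹ *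
      (A.submatrix θ.1 id).det) := by
  have h1 := congrArg (eval (cellPt K d r A)) h
  rw [eval_X, map_mul, eval_C, eval_cellMinor, det_cellMat_cellPt K d r A hA] at h1
  exact h1

/-- the scaling of the first column. -/
noncomputable def scaleMat (δ : K) : Matrix (Fin d) (Fin d) K :=
  Matrix.diagonal (fun j => if j.val = 0 then δ else 1)

theorem det_scaleMat (hd : 0 < d) (δ : K) : (scaleMat K d δ).det = δ := by
  unfold scaleMat
  rw [Matrix.det_diagonal, Finset.prod_eq_single (⟨0, hd⟩ : Fin d)]
  · simp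
  · intro j _ hj
    rw [if_neg]
    intro h
    exact hj (Fin.ext h)
  · intro h
    exact absurd (Finset.mem_univ _) h

/-- the comorphism of `(Z, δ) ↦ [I; Z] · diag(δ, 1, …, 1)`. -/
noncomputable def muHom : MatRing K d (d + r) →ₐ[K] MvPolynomial (Option (Fin r × Fin d)) K :=
  aeval (fun p : Fin (d + r) × Fin d =>
    rename (some : Fin r × Fin d → Option (Fin r × Fin d)) (cellMatrix K d r p.1 p.2) *
      (if p.2.val = 0 then X none else 1))

theorem eval_muHom (x : Fin r × Fin d → K) (δ : K) (f : MatRing K d (d + r)) :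
    eval (fun o : Option (Fin r × Fin d) => o.elim δ x) (muHom K d r f) =
      eval (pt K d (d + r) (cellMat K d r x * scaleMat K d δ)) f := by
  have h : (aeval (fun o : Option (Fin r × Fin d) => o.elim δ x) :
      MvPolynomial (Option (Fin r × Fin d)) K →ₐ[K] K).comp (muHom K d r) =
      aeval (pt K d (d + r) (cellMat K d r x * scaleMat K d δ)) := by
    apply MvPolynomial.algHom_ext
    intro p
    unfold muHom
    rw [AlgHom.comp_apply, aeval_X, aeval_X, map_mul, aeval_rename]
    unfold pt scaleMat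
    rw [Matrix.mul_diagonal]
    congr 1
    split_ifs
    · rw [aeval_X]
      rfl
    · rw [map_one]
  exact DFunLike.congr_fun h f

theorem evalMinors_X (A : Matrix (Fin (d + r)) (Fin d) K) (θ : Idx d (d + r)) :
    evalMinors K d (d + r) A (X θ) = (A.submatrix θ.1 id).det := by
  unfold evalMinors
  rw [aeval_X]

theorem evalMinors_C (A : Matrix (Fin (d + r)) (Fin d) K) (a : K) :
    evalMinors K d (d + r) A (C a) = a := by
  unfold evalMinors
  rw [aeval_C]
  rfl

theorem exists_homogenize (H : MvPolynomial (Option (Fin r × Fin d)) K) :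
    ∃ (N : ℕ) (G : PlRing K d (d + r)), ∀ A : Matrix (Fin (d + r)) (Fin d) K,
      (A.submatrix (iota (Nat.le_add_right d r)).1 id).det ≠ 0 →
      (A.submatrix (iota (Nat.le_add_right d r)).1 id).det ^ N *
        eval (fun o : Option (Fin r × Fin d) =>
          o.elim (A.submatrix (iota (Nat.le_add_right d r)).1 id).det (cellPt K d r A)) H =
        evalMinors K d (d + r) A G := by
  induction H using MvPolynomial.induction_on with
  | C a =>
    exact ⟨0, C a, fun A _ => by rw [pow_zero, one_mul, eval_C, evalMinors_C]⟩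
  | add p q hp hq =>
    obtain ⟨N1, G1, h1⟩ := hp
    obtain ⟨N2, G2, h2⟩ := hq
    refine ⟨N1 + N2, X (iota (Nat.le_add_right d r)) ^ N2 * G1 +
      X (iota (Nat.le_add_right d r)) ^ N1 * G2, fun A hA => ?_⟩
    rw [map_add, map_add, map_mul, map_mul, map_pow, map_pow, evalMinors_X, ← h1 A hA,
      ← h2 A hA]
    ring
  | mul_X p o hp =>
    obtain ⟨N1, G1, h1⟩ := hp
    cases o with
    | none =>
      refine ⟨N1, G1 * X (iota (Nat.le_add_right d r)), fun A hA => ?_⟩
      rw [map_mul, eval_X, map_mul, evalMinors_X, ← h1 A hA]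
      simp only [Option.elim_none]
      ring
    | some q =>
      obtain ⟨ε, θ, hεθ⟩ := exists_X_eq_cellMinor K d r q
      refine ⟨N1 + 1, G1 * (C ε * X θ), fun A hA => ?_⟩
      rw [map_mul, eval_X, map_mul, map_mul, evalMinors_C, evalMinors_X, ← h1 A hA]
      simp only [Option.elim_some]
      rw [cellPt_eq K d r A hA q ε θ hεθ, pow_succ]
      field_simp

theorem exists_pow_mul_eq [Infinite K] (hd : 0 < d) (f : MatRing K d (d + r))
    (hf : ∀ g : Matrix.SpecialLinearGroup (Fin d) K, rightTranslate K d (d + r) g f = f) :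
    ∃ (N : ℕ) (G : PlRing K d (d + r)),
      minor K d (d + r) (iota (Nat.le_add_right d r)).1 ^ N * f = pluckerMap K d (d + r) G := by
  obtain ⟨N, G, hNG⟩ := exists_homogenize K d r (muHom K d r f)
  refine ⟨N, G, ?_⟩
  set δp := minor K d (d + r) (iota (Nat.le_add_right d r)).1 with hδp
  have key : (δp ^ N * f - pluckerMap K d (d + r) G) * δp = 0 := by
    apply MvPolynomial.funext
    intro x
    set A : Matrix (Fin (d + r)) (Fin d) K := Matrix.of fun i j => x (i, j) with hAdef
    have hx : x = pt K d (d + r) A := rfl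
    rw [hx, map_mul, map_sub, map_mul, map_pow, hδp, eval_minor, eval_pluckerMap, map_zero]
    set A₀ := A.submatrix (iota (Nat.le_add_right d r)).1 id with hA₀
    by_cases hA : A₀.det = 0
    · rw [hA, mul_zero]
    · have h1 : eval (pt K d (d + r) A) f =
          eval (fun o : Option (Fin r × Fin d) => o.elim A₀.det (cellPt K d r A))
            (muHom K d r f) := by
        rw [eval_muHom, cellMat_cellPt K d r A hA]
        have hdet : (A₀⁻¹ * scaleMat K d A₀.det).det = 1 := by
          rw [Matrix.det_mul, Matrix.det_nonsing_inv, det_scaleMat K d hd, Ring.inverse_eq_inv',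
            inv_mul_cancel₀ hA]
        have h2 := eval_rightTranslate K d (d + r) A ⟨A₀⁻¹ * scaleMat K d A₀.det, hdet⟩ f
        rw [hf] at h2
        rw [h2]
        congr 2
        simp only [Matrix.mul_assoc]
        rfl
      rw [h1, hNG A hA, sub_self, zero_mul]
  rcases mul_eq_zero.mp key with h | h
  · exact sub_eq_zero.mp h
  · exact absurd h (minor_iota_ne_zero K hd)

end Groth.Agent.Lib.Helper95.SLInv
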