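import Mathlib
import Groth.Agent.Lib.Helper95.CMSchA
import Groth.Agent.Lib.Helper95.SLInvC
import Groth.Agent.Lib.Helper87.CMCone1

open MvPolynomial W4bk4grassmannian Groth.Agent.Lib.Helper95.SMT Groth.Agent.Lib.Helper95.SMTDim
open Groth.Agent.Lib.Helper87.CMCone

namespace Groth.Agent.Lib.Helper95.CMSch

universe u

variable (K : Type u) [Field K] {d n : ℕ}

attribute [local instance] MvPolynomial.gradedAlgebra

theorem evalMinors_scale (hd : 0 < d) (A : Matrix (Fin n) (Fin d) K) (t : K) (F : PlRing K d n) :
    evalMinors K d n A (scale t F) =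
      evalMinors K d n (A * Groth.Agent.Lib.Helper95.SLInv.scaleMat K d t) F := by
  have h : (evalMinors K d n A).comp (scale t) =
      evalMinors K d n (A * Groth.Agent.Lib.Helper95.SLInv.scaleMat K d t) := by
    apply MvPolynomial.algHom_ext
    intro θ
    unfold scale evalMinors
    rw [AlgHom.comp_apply, aeval_X, aeval_X, map_mul, aeval_C, aeval_X]
    have h3 : (A * Groth.Agent.Lib.Helper95.SLInv.scaleMat K d t).submatrix θ.1 id =
        A.submatrix θ.1 id * Groth.Agent.Lib.Helper95.SLInv.scaleMat K d t := by
      ext i j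
      simp only [Matrix.submatrix_apply, id_eq, Matrix.mul_apply]
    rw [h3, Matrix.det_mul, Groth.Agent.Lib.Helper95.SLInv.det_scaleMat K d hd, mul_comm]
    rfl
  exact DFunLike.congr_fun h F

theorem scale_mem_schubertVanishing (hd : 0 < d) (τ : Idx d n) (t : K) {F : PlRing K d n}
    (hF : F ∈ schubertVanishing K d n τ) : scale t F ∈ schubertVanishing K d n τ := by
  unfold schubertVanishing at hF ⊢
  rw [Ideal.mem_iInf] at hF ⊢
  intro A
  rw [Ideal.mem_iInf]
  intro hA
  rw [RingHom.mem_ker]
  show evalMinors K d n A (scale t F) = 0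
  rw [evalMinors_scale K hd]
  have h1 := hF (A * Groth.Agent.Lib.Helper95.SLInv.scaleMat K d t)
  rw [Ideal.mem_iInf] at h1
  refine h1 (fun φ hφ => ?_)
  have h3 : (A * Groth.Agent.Lib.Helper95.SLInv.scaleMat K d t).submatrix φ.1 id =
      A.submatrix φ.1 id * Groth.Agent.Lib.Helper95.SLInv.scaleMat K d t := by
    ext i j
    simp only [Matrix.submatrix_apply, id_eq, Matrix.mul_apply]
  rw [h3, Matrix.det_mul, hA φ hφ, zero_mul]

theorem isHomogeneous_schubertVanishing [Infinite K] (hd : 0 < d) (τ : Idx d n) :
    (schubertVanishing K d n τ).IsHomogeneous (homogeneousSubmodule (Idx d n) K) := by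
  intro i r hr
  have h1 := homogeneousComponent_mem_of_stable
    ((schubertVanishing K d n τ).restrictScalars K)
    (fun t _ f hf => scale_mem_schubertVanishing K hd τ t hf) hr i
  have h2 : ((DirectSum.decompose (homogeneousSubmodule (Idx d n) K) r i :
      homogeneousSubmodule (Idx d n) K i) : PlRing K d n) = homogeneousComponent i r :=
    decomposition.decompose'_apply r i
  rw [h2]
  exact h1

theorem isHomogeneous_span_X (τ : Idx d n) :
    (Ideal.span {(X τ : PlRing K d n)}).IsHomogeneous (homogeneousSubmodule (Idx d n) K) := by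
  apply Ideal.homogeneous_span
  intro x hx
  rw [Set.mem_singleton_iff] at hx
  rw [hx]
  exact ⟨1, isHomogeneous_X K τ⟩

theorem irrelevant_eq (σ : Type*) :
    (HomogeneousIdeal.irrelevant (homogeneousSubmodule σ K)).toIdeal =
      RingHom.ker (constantCoeff : MvPolynomial σ K →+* K) := by
  ext f
  rw [HomogeneousIdeal.mem_iff, HomogeneousIdeal.mem_irrelevant_iff, RingHom.mem_ker,
    GradedRing.proj_apply]
  have h2 : ((DirectSum.decompose (homogeneousSubmodule σ K) f 0 :
      homogeneousSubmodule σ K 0) : MvPolynomial σ K) = homogeneousComponent 0 f :=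
    decomposition.decompose'_apply f 0
  rw [h2, homogeneousComponent_zero]
  constructor
  · intro h
    have := congrArg constantCoeff h
    rwa [constantCoeff_C, map_zero] at this
  · intro h
    rw [constantCoeff_eq] at h
    rw [h, C_0]

end Groth.Agent.Lib.Helper95.CMSch
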