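import Mathlib
import Groth.Agent.Lib.Helper82.CMPoly
import Groth.Agent.S11272

set_option autoImplicit false
universe u

namespace Groth.Agent.Lib.Helper95.CMWrap

open MvPolynomial Groth.Agent.Lib.Helper29

attribute [local instance] MvPolynomial.gradedAlgebra

theorem ker_constantCoeff_isMaximal (K : Type u) [Field K] (σ : Type*) :
    (RingHom.ker (constantCoeff : MvPolynomial σ K →+* K)).IsMaximal :=
  RingHom.ker_isMaximal_of_surjective _ (fun a => ⟨C a, constantCoeff_C _ a⟩)

theorem vertex_isMaximal (K : Type u) [Field K] (σ : Type*) (I : Ideal (MvPolynomial σ K))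
    (hIm : I ≤ RingHom.ker (constantCoeff : MvPolynomial σ K →+* K)) :
    ((RingHom.ker (constantCoeff : MvPolynomial σ K →+* K)).map (Ideal.Quotient.mk I)).IsMaximal := by
  have := ker_constantCoeff_isMaximal K σ
  apply Ideal.IsMaximal.map_of_surjective_of_ker_le Ideal.Quotient.mk_surjective
  rw [Ideal.mk_ker]
  exact hIm

theorem mem_vertex_iff (K : Type u) [Field K] (σ : Type*) (I : Ideal (MvPolynomial σ K))
    (hIm : I ≤ RingHom.ker (constantCoeff : MvPolynomial σ K →+* K)) (a : MvPolynomial σ K) :
    Ideal.Quotient.mk I a ∈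
      (RingHom.ker (constantCoeff : MvPolynomial σ K →+* K)).map (Ideal.Quotient.mk I) ↔
      constantCoeff a = 0 := by
  rw [Ideal.mem_quotient_iff_mem_sup, sup_of_le_left hIm, RingHom.mem_ker]

/-- a cone over a finite set of variables is Cohen–Macaulay if it is so at its vertex. -/
theorem isCohenMacaulayRing_of_vertex (K : Type u) [Field K] [IsAlgClosed K] {σ : Type} [Fintype σ]
    (I : Ideal (MvPolynomial σ K)) (hI : I.IsHomogeneous (homogeneousSubmodule σ K))
    (hIm : I ≤ RingHom.ker (constantCoeff : MvPolynomial σ K →+* K))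
    [hm : ((RingHom.ker (constantCoeff : MvPolynomial σ K →+* K)).map
      (Ideal.Quotient.mk I)).IsPrime]
    (h : LocCoh.IsCohenMacaulayLocalRing (Localization.AtPrime
      ((RingHom.ker (constantCoeff : MvPolynomial σ K →+* K)).map (Ideal.Quotient.mk I)))) :
    LocCoh.IsCohenMacaulayRing (MvPolynomial σ K ⧸ I) := by
  classical
  set N := Fintype.card σ with hN
  let e : σ ≃ Fin N := Fintype.equivFin σ
  let Φ : MvPolynomial σ K ≃ₐ[K] MvPolynomial (Fin N) K := renameEquiv K e
  set I' : Ideal (MvPolynomial (Fin N) K) := I.map (Φ.toRingEquiv : MvPolynomial σ K →+* _)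
    with hI'
  have hΦcc : ∀ a, constantCoeff (Φ a) = constantCoeff a := by
    intro a
    show constantCoeff (rename e a) = _
    rw [constantCoeff_rename]
  have hI'm : I' ≤ RingHom.ker (constantCoeff : MvPolynomial (Fin N) K →+* K) := by
    rw [hI', Ideal.map_le_iff_le_comap]
    intro a ha
    rw [Ideal.mem_comap, RingHom.mem_ker]
    show constantCoeff (Φ a) = 0
    rw [hΦcc]
    exact hIm ha
  let ē : (MvPolynomial σ K ⧸ I) ≃+* (MvPolynomial (Fin N) K ⧸ I') :=
    Ideal.quotientEquiv I I' Φ.toRingEquiv rfl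
  have hē : ∀ a, ē (Ideal.Quotient.mk I a) = Ideal.Quotient.mk I' (Φ a) := fun a => rfl
  have hm' : ((RingHom.ker (constantCoeff : MvPolynomial (Fin N) K →+* K)).map
      (Ideal.Quotient.mk I')).IsPrime := (vertex_isMaximal K (Fin N) I' hI'm).isPrime
  have hmem : ∀ x : MvPolynomial σ K ⧸ I,
      x ∈ (RingHom.ker (constantCoeff : MvPolynomial σ K →+* K)).map (Ideal.Quotient.mk I) ↔
      ē x ∈ (RingHom.ker (constantCoeff : MvPolynomial (Fin N) K →+* K)).map
        (Ideal.Quotient.mk I') := by
    intro x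
    obtain ⟨a, rfl⟩ := Ideal.Quotient.mk_surjective x
    rw [hē, mem_vertex_iff K σ I hIm, mem_vertex_iff K (Fin N) I' hI'm, hΦcc]
  have H : Submonoid.map ē.toMonoidHom
      ((RingHom.ker (constantCoeff : MvPolynomial σ K →+* K)).map
        (Ideal.Quotient.mk I)).primeCompl =
      ((RingHom.ker (constantCoeff : MvPolynomial (Fin N) K →+* K)).map
        (Ideal.Quotient.mk I')).primeCompl := by
    ext y
    rw [Submonoid.mem_map]
    constructor
    · rintro ⟨x, hx, rfl⟩
      rw [Ideal.mem_primeCompl_iff] at hx ⊢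
      intro hy
      exact hx ((hmem x).mpr hy)
    · intro hy
      refine ⟨ē.symm y, ?_, ē.apply_symm_apply y⟩
      rw [Ideal.mem_primeCompl_iff] at hy ⊢
      intro hx
      apply hy
      have := (hmem (ē.symm y)).mp hx
      rwa [ē.apply_symm_apply] at this
  have h' : LocCoh.IsCohenMacaulayLocalRing (Localization.AtPrime
      ((RingHom.ker (constantCoeff : MvPolynomial (Fin N) K →+* K)).map
        (Ideal.Quotient.mk I'))) :=
    isCohenMacaulayLocalRing_of_ringEquiv (IsLocalization.ringEquivOfRingEquiv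
      (Localization.AtPrime ((RingHom.ker (constantCoeff : MvPolynomial σ K →+* K)).map
        (Ideal.Quotient.mk I)))
      (Localization.AtPrime ((RingHom.ker (constantCoeff : MvPolynomial (Fin N) K →+* K)).map
        (Ideal.Quotient.mk I'))) ē H) h
  -- homogeneous generators
  have hT : ∃ T : Set (MvPolynomial (Fin N) K), (∀ f ∈ T, ∃ k : ℕ, f.IsHomogeneous k) ∧
      I' = Ideal.span T := by
    refine ⟨{g | g ∈ I' ∧ ∃ k : ℕ, g.IsHomogeneous k}, fun f hf => hf.2, ?_⟩
    apply le_antisymm
    · rw [hI', Ideal.map_le_iff_le_comap]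
      intro a ha
      rw [Ideal.mem_comap]
      show Φ a ∈ _
      rw [← sum_homogeneousComponent a, map_sum]
      refine Ideal.sum_mem _ fun k _ => ?_
      apply Ideal.subset_span
      refine ⟨?_, k, ?_⟩
      · exact Ideal.mem_map_of_mem _ ((mem_iff_homogeneousComponent_mem hI a).mp ha k)
      · show (rename e (homogeneousComponent k a)).IsHomogeneous k
        exact (homogeneousComponent_isHomogeneous k a).rename_isHomogeneous
    · rw [Ideal.span_le]
      intro g hg
      exact hg.1
  have hI'top : I' ≠ ⊤ := by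
    intro htop
    have : (1 : MvPolynomial (Fin N) K) ∈ RingHom.ker
        (constantCoeff : MvPolynomial (Fin N) K →+* K) := hI'm (by rw [htop]; trivial)
    rw [RingHom.mem_ker, map_one] at this
    exact one_ne_zero this
  have hcm' : LocCoh.IsCohenMacaulayRing (MvPolynomial (Fin N) K ⧸ I') :=
    (Groth.Agent.S11272.result K N I' hT hI'top).mpr h'
  exact Groth.Agent.Lib.Helper82.CMPoly.isCohenMacaulayRing_of_ringEquiv ē.symm hcm'

end Groth.Agent.Lib.Helper95.CMWrap
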