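import Mathlib
import Groth.Agent.Lib.Helper95.CMSchB
import Groth.Agent.Lib.Helper95.CMLoc
import Groth.Agent.Lib.Helper95.CMWrap
import Groth.Agent.Lib.Helper87.CMVertex4

/-!
# Gluing Cohen–Macaulay cones in a polynomial ring (helper95)
-/

set_option autoImplicit false
universe u

namespace Groth.Agent.Lib.Helper95.CMCore

open MvPolynomial Groth.Agent.Lib.Helper95.CMSch Groth.Agent.Lib.Helper95.CMWrap
open Groth.Agent.Lib.Helper87.CMVertex

attribute [local instance] MvPolynomial.gradedAlgebra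

variable (K : Type u) [Field K] {σ : Type} [Finite σ]

/-- a Cohen–Macaulay cone of dimension `e`. -/
structure Good (I : Ideal (MvPolynomial σ K)) (e : ℕ) : Prop where
  hom : I.IsHomogeneous (homogeneousSubmodule σ K)
  le : I ≤ RingHom.ker (constantCoeff : MvPolynomial σ K →+* K)
  cm : LocCoh.IsCohenMacaulayRing (MvPolynomial σ K ⧸ I)
  dim : ringKrullDim (MvPolynomial σ K ⧸ I) = (e : WithBot ℕ∞)

theorem le_height_vertex (I : Ideal (MvPolynomial σ K))
    (hI : I.IsHomogeneous (homogeneousSubmodule σ K))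
    (hIm : I ≤ RingHom.ker (constantCoeff : MvPolynomial σ K →+* K)) (e : ℕ)
    (hdim : (e : WithBot ℕ∞) ≤ ringKrullDim (MvPolynomial σ K ⧸ I)) :
    (e : ℕ∞) ≤ ((RingHom.ker (constantCoeff : MvPolynomial σ K →+* K)).map
      (Ideal.Quotient.mk I)).height := by
  have hmax : (HomogeneousIdeal.irrelevant (homogeneousSubmodule σ K)).toIdeal.IsMaximal := by
    rw [irrelevant_eq]
    exact ker_constantCoeff_isMaximal K σ
  have hne : I ≠ ⊤ := by
    intro h
    have := ker_constantCoeff_isMaximal K σ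
    exact this.ne_top (top_le_iff.mp (h ▸ hIm))
  have h1 := ringKrullDim_quotient_le_height (homogeneousSubmodule σ K) hmax hI hne
  rw [irrelevant_eq] at h1
  have h2 := hdim.trans h1
  have h3 : ((e : ℕ∞) : WithBot ℕ∞) ≤ ((((RingHom.ker (constantCoeff : MvPolynomial σ K →+* K)).map
      (Ideal.Quotient.mk I)).height : ℕ∞) : WithBot ℕ∞) := by
    exact_mod_cast h2
  exact WithBot.coe_le_coe.mp h3

/-- gluing two Cohen–Macaulay cones of dimension `e` along a Cohen–Macaulay cone of dimension `e - 1`. -/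
theorem Good.inf [IsAlgClosed K] {I J : Ideal (MvPolynomial σ K)} {e : ℕ}
    (hI : Good K I e) (hJ : Good K J e) (hIJ : Good K (I ⊔ J) (e - 1)) : Good K (I ⊓ J) e := by
  have hmax := ker_constantCoeff_isMaximal K σ
  have hle : I ⊓ J ≤ RingHom.ker (constantCoeff : MvPolynomial σ K →+* K) := inf_le_left.trans hI.le
  haveI hm : ((RingHom.ker (constantCoeff : MvPolynomial σ K →+* K)).map
      (Ideal.Quotient.mk (I ⊓ J))).IsPrime := (vertex_isMaximal K σ _ hle).isPrime
  have hhom : (I ⊓ J).IsHomogeneous (homogeneousSubmodule σ K) := hI.hom.inf hJ.hom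
  have main := main_aux (RingHom.ker (constantCoeff : MvPolynomial σ K →+* K)) hmax I J e
    hI.le hJ.le hI.cm hJ.cm hIJ.cm hI.dim.le hJ.dim.le
    (le_height_vertex K I hI.hom hI.le e hI.dim.ge) (le_height_vertex K J hJ.hom hJ.le e hJ.dim.ge)
    (le_height_vertex K (I ⊔ J) hIJ.hom hIJ.le (e - 1) hIJ.dim.ge)
  haveI : Fintype σ := Fintype.ofFinite σ
  refine ⟨hhom, hle, isCohenMacaulayRing_of_vertex K (I ⊓ J) hhom hle main.1, ?_⟩
  apply le_antisymm
  · exact ringKrullDim_quotient_inf_le I J _ hI.dim.le hJ.dim.le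
  · rw [← hI.dim]
    exact ringKrullDim_le_of_surjective (Ideal.Quotient.factor inf_le_left)
      (Ideal.Quotient.factor_surjective _)

/-- a cone that is a domain is Cohen–Macaulay as soon as a hypersurface section of it is. -/
theorem Good.of_regular [IsAlgClosed K] {I : Ideal (MvPolynomial σ K)} {e : ℕ} (he : 1 ≤ e)
    (hhom : I.IsHomogeneous (homogeneousSubmodule σ K))
    (hle : I ≤ RingHom.ker (constantCoeff : MvPolynomial σ K →+* K)) (hprime : I.IsPrime)
    (f : MvPolynomial σ K) (hfI : f ∉ I)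
    (hsup : Good K (I ⊔ Ideal.span {f}) (e - 1))
    (hdim : ringKrullDim (MvPolynomial σ K ⧸ I) = (e : WithBot ℕ∞)) : Good K I e := by
  have hmax := ker_constantCoeff_isMaximal K σ
  have hf : f ∈ RingHom.ker (constantCoeff : MvPolynomial σ K →+* K) :=
    hsup.le (Ideal.mem_sup_right (Ideal.subset_span rfl))
  haveI hm : ((RingHom.ker (constantCoeff : MvPolynomial σ K →+* K)).map
      (Ideal.Quotient.mk I)).IsPrime := (vertex_isMaximal K σ _ hle).isPrime
  have hreg : IsSMulRegular (MvPolynomial σ K ⧸ I) f := by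
    intro x y hxy
    obtain ⟨a, rfl⟩ := Ideal.Quotient.mk_surjective x
    obtain ⟨b, rfl⟩ := Ideal.Quotient.mk_surjective y
    have h1 : Ideal.Quotient.mk I (f * a) = Ideal.Quotient.mk I (f * b) := hxy
    rw [Ideal.Quotient.eq, ← mul_sub] at h1
    rw [Ideal.Quotient.eq]
    exact (hprime.mem_or_mem h1).resolve_left hfI
  have main := Groth.Agent.Lib.Helper95.CMLoc.main_regular
    (RingHom.ker (constantCoeff : MvPolynomial σ K →+* K)) hmax I f e he hle hf hreg hsup.cm hdim.le
    (le_height_vertex K _ hsup.hom hsup.le (e - 1) hsup.dim.ge)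
  haveI : Fintype σ := Fintype.ofFinite σ
  exact ⟨hhom, hle, isCohenMacaulayRing_of_vertex K I hhom hle main.1, hdim⟩

/-- the vertex itself. -/
theorem good_vertex : Good K (RingHom.ker (constantCoeff : MvPolynomial σ K →+* K)) 0 := by
  have hsurj : Function.Surjective (constantCoeff : MvPolynomial σ K →+* K) :=
    fun a => ⟨C a, constantCoeff_C _ a⟩
  let e : (MvPolynomial σ K ⧸ RingHom.ker (constantCoeff : MvPolynomial σ K →+* K)) ≃+* K :=
    RingHom.quotientKerEquivOfSurjective hsurj
  refine ⟨?_, le_rfl, ?_, ?_⟩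
  · rw [← irrelevant_eq]
    exact (HomogeneousIdeal.irrelevant (homogeneousSubmodule σ K)).isHomogeneous
  · exact Groth.Agent.Lib.Helper82.CMPoly.isCohenMacaulayRing_of_ringEquiv e.symm
      (Groth.Agent.Lib.Helper82.CMPoly.isCohenMacaulayRing_of_isRegularRing K)
  · rw [ringKrullDim_eq_of_ringEquiv e, ringKrullDim_eq_zero_of_field]
    rfl

/-- the ideal of the vertex is generated by the variables. -/
theorem ker_constantCoeff_le_span_X :
    RingHom.ker (constantCoeff : MvPolynomial σ K →+* K) ≤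
      Ideal.span (Set.range (X : σ → MvPolynomial σ K)) := by
  intro f hf
  rw [← Set.image_univ, mem_ideal_span_X_image]
  intro m hm
  by_contra hcon
  push Not at hcon
  have hm0 : m = 0 := by
    ext i
    simpa using hcon i (Set.mem_univ i)
  rw [RingHom.mem_ker, constantCoeff_eq] at hf
  rw [hm0, mem_support_iff] at hm
  exact hm hf

end Groth.Agent.Lib.Helper95.CMCore
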