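import Mathlib
import Groth.Agent.Lib.Helper95.CMCore
import Groth.Agent.S11254
import Groth.Agent.S11255
import Groth.Agent.S11268

/-!
# Cohen–Macaulayness of Schubert cones and of unions of Schubert divisors (helper95)
-/

set_option autoImplicit false
universe u

open MvPolynomial W4bk4grassmannian Groth.Agent.Lib.Helper95.SMT Groth.Agent.Lib.Helper95.SMTDim
open Groth.Agent.Lib.Helper95.CMCore

namespace Groth.Agent.Lib.Helper95.CMSch

variable (K : Type u) [Field K] [IsAlgClosed K] {d n : ℕ}

theorem eq_of_le_of_codeg_zero {θ τ : Idx d n} (hτ : codeg τ = 0) (h : θ ≤ τ) : θ = τ := by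
  by_contra hne
  have := codeg_lt_of_lt (lt_of_le_of_ne h hne)
  omega

theorem sup_span_eq_of_codeg_zero (hd : 0 < d) (τ : Idx d n) (hτ : codeg τ = 0) :
    schubertVanishing K d n τ ⊔ Ideal.span {(X τ : PlRing K d n)} =
      RingHom.ker (constantCoeff : PlRing K d n →+* K) := by
  apply le_antisymm
  · refine sup_le (schubertVanishing_le_ker_constantCoeff K hd τ) ?_
    rw [Ideal.span_le]
    rintro _ rfl
    rw [SetLike.mem_coe, RingHom.mem_ker, constantCoeff_X]
  · refine (ker_constantCoeff_le_span_X K).trans ?_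
    rw [Ideal.span_le]
    rintro _ ⟨θ, rfl⟩
    by_cases h : θ = τ
    · rw [h]
      exact Ideal.mem_sup_right (Ideal.subset_span rfl)
    · exact Ideal.mem_sup_left (X_mem_schubertVanishing K τ θ
        (fun hle => h (eq_of_le_of_codeg_zero hτ hle)))

/-- `A_e`: the cone over a Schubert variety of dimension `e` is a Cohen–Macaulay cone. -/
def PA (d n e : ℕ) : Prop :=
  ∀ τ : Idx d n, codeg τ = e → Good K (schubertVanishing K d n τ) (e + 1)

/-- `B_e`: a nonempty union of Schubert divisors in a Schubert variety of dimension `e + 1`. -/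
def PB (d n e : ℕ) : Prop :=
  ∀ τ : Idx d n, codeg τ = e + 1 → ∀ T : Finset (Idx d n), (∀ φ ∈ T, φ ∈ divisors τ) →
    T.Nonempty → Good K (T.inf fun φ => schubertVanishing K d n φ) (e + 1)

theorem PB_of (hd : 0 < d) (e : ℕ) (hA : PA K d n e) (hB : 1 ≤ e → PB K d n (e - 1)) :
    PB K d n e := by
  classical
  haveI : Infinite K := IsAlgClosed.instInfinite
  intro τ hτ T hT hne
  induction hne using Finset.Nonempty.cons_induction with
  | singleton a =>
    rw [Finset.inf_singleton]
    have ha := hT a (Finset.mem_singleton_self a)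
    exact hA a (by have := ha.2; omega)
  | cons ψ s h hs ih =>
    rw [Finset.inf_cons]
    have hψ : ψ ∈ divisors τ := hT ψ (Finset.mem_cons_self ψ s)
    have hs' : ∀ φ ∈ s, φ ∈ divisors τ := fun φ hφ => hT φ (Finset.mem_cons.mpr (Or.inr hφ))
    have hψc : codeg ψ = e := by have := hψ.2; omega
    refine Good.inf K (hA ψ hψc) (ih hs') ?_
    rw [sup_comm, inf_sup_eq K hd s ψ, Nat.add_sub_cancel]
    have hdiv : ∀ φ ∈ s, W4bk4grassmannian.inf φ ψ ∈ divisors ψ := by
      intro φ hφ
      refine inf_mem_divisors (hs' φ hφ) hψ ?_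
      rintro rfl
      exact h hφ
    rcases Nat.eq_zero_or_pos e with he | he
    · exfalso
      obtain ⟨φ, hφ⟩ := hs
      have := (hdiv φ hφ).2
      omega
    · have hB' := hB he
      have h1 := hB' ψ (by omega) (s.image fun φ => W4bk4grassmannian.inf φ ψ)
        (by
          intro x hx
          obtain ⟨φ, hφ, rfl⟩ := Finset.mem_image.mp hx
          exact hdiv φ hφ)
        (hs.image _)
      rw [Finset.inf_image] at h1
      have he' : e - 1 + 1 = e := by omega
      rw [he'] at h1
      exact h1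

theorem PA_zero (hd : 0 < d) (hdn : d < n) : PA K d n 0 := by
  haveI : Infinite K := IsAlgClosed.instInfinite
  intro τ hτ
  refine Good.of_regular K le_rfl (isHomogeneous_schubertVanishing K hd τ)
    (schubertVanishing_le_ker_constantCoeff K hd τ) (isPrime_schubertVanishing K hd τ)
    (X τ) (X_notMem_schubertVanishing K hd τ le_rfl) ?_ ?_
  · rw [sup_span_eq_of_codeg_zero K hd τ hτ]
    exact good_vertex K
  · rw [Groth.Agent.S11255.result K d n hd hdn τ, hτ]

theorem PA_succ (hd : 0 < d) (hdn : d < n) (e : ℕ) (hB : PB K d n e) : PA K d n (e + 1) := by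
  classical
  haveI : Infinite K := IsAlgClosed.instInfinite
  intro τ hτ
  have hlt : iota hdn.le < τ := by
    refine lt_of_le_of_ne (iota_le hdn.le τ) ?_
    intro h
    rw [← h, codeg_iota] at hτ
    omega
  obtain ⟨δ₁, hδ₁, -⟩ := Groth.Agent.S11268.result d n (iota hdn.le) τ hlt
  refine Good.of_regular K (by omega) (isHomogeneous_schubertVanishing K hd τ)
    (schubertVanishing_le_ker_constantCoeff K hd τ) (isPrime_schubertVanishing K hd τ)
    (X τ) (X_notMem_schubertVanishing K hd τ le_rfl) ?_ ?_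
  · rw [Groth.Agent.S11254.result K d n hd hdn τ ⟨_, hlt⟩]
    have hfin : (divisors τ).Finite := Set.toFinite _
    have h1 := hB τ hτ hfin.toFinset (fun φ hφ => hfin.mem_toFinset.mp hφ)
      ⟨δ₁, hfin.mem_toFinset.mpr hδ₁⟩
    have h2 : (hfin.toFinset.inf fun φ => schubertVanishing K d n φ) =
        ⨅ φ ∈ divisors τ, schubertVanishing K d n φ := by
      rw [Finset.inf_eq_iInf]
      simp only [Set.Finite.mem_toFinset]
    rw [h2] at h1
    exact h1
  · rw [Groth.Agent.S11255.result K d n hd hdn τ, hτ]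

theorem PA_PB (hd : 0 < d) (hdn : d < n) (e : ℕ) : PA K d n e ∧ PB K d n e := by
  induction e with
  | zero =>
    have hA := PA_zero K hd hdn
    exact ⟨hA, PB_of K hd 0 hA (fun h => absurd h (by omega))⟩
  | succ e ih =>
    have hA := PA_succ K hd hdn e ih.2
    exact ⟨hA, PB_of K hd (e + 1) hA (fun _ => ih.2)⟩

/-- Schubert cones are Cohen–Macaulay. -/
theorem isCohenMacaulayRing_schubert (hd : 0 < d) (hdn : d < n) (τ : Idx d n) :
    LocCoh.IsCohenMacaulayRing (PlRing K d n ⧸ schubertVanishing K d n τ) :=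
  ((PA_PB K hd hdn (codeg τ)).1 τ rfl).cm

/-- unions of Schubert divisors of a fixed Schubert variety are Cohen–Macaulay. -/
theorem isCohenMacaulayRing_divisors (hd : 0 < d) (hdn : d < n) (τ : Idx d n)
    (T : Finset (Idx d n)) (hT : ∀ φ ∈ T, φ ∈ divisors τ) (hne : T.Nonempty) :
    LocCoh.IsCohenMacaulayRing
      (PlRing K d n ⧸ T.inf fun φ => schubertVanishing K d n φ) := by
  obtain ⟨φ, hφ⟩ := hne
  have h1 := (hT φ hφ).2
  have hτ : codeg τ = (codeg τ - 1) + 1 := by omega
  exact ((PA_PB K hd hdn (codeg τ - 1)).2 τ hτ T hT ⟨φ, hφ⟩).cm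

end Groth.Agent.Lib.Helper95.CMSch
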