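import Mathlib
import Groth.Agent.S0544

set_option autoImplicit false
set_option linter.style.haveILetI false
universe u

namespace Groth.Agent.Lib.Helper95.ComplLift

open AdicCompletion

/-- Compatibility of the evaluation maps of an adic completion with the transition maps. -/
theorem factor_evalₐ {R : Type*} [CommRing R] (J : Ideal R) {m n : ℕ} (hmn : m ≤ n)
    (x : AdicCompletion J R) :
    Ideal.Quotient.factor (Ideal.pow_le_pow_right hmn) (AdicCompletion.evalₐ J n x) =
      AdicCompletion.evalₐ J m x := by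
  obtain ⟨y, rfl⟩ := AdicCompletion.mk_surjective J R x
  simp only [AdicCompletion.evalₐ_mk, Ideal.Quotient.factor_mk]
  rw [Ideal.Quotient.eq]
  have hy := y.2 hmn
  rw [SModEq.sub_mem] at hy
  simp only [smul_eq_mul, Ideal.mul_top] at hy
  rw [← neg_sub]
  exact (J ^ m).neg_mem hy

section

variable {V : Type u} [CommRing V] (I : Ideal V)
  {A : Type u} [CommRing A] [Algebra V A] {C : Type u} [CommRing C] [Algebra V C]

/-- A `V`-algebra map `A → C/K` kills `(IA)^n` when `K ⊇ (IC)^n`... here for the `n`-th level of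
the completion. -/
theorem evalₐ_comp_eq_zero_of_mem_pow
    (g : A →ₐ[V] AdicCompletion (I.map (algebraMap V C)) C) (n : ℕ) (a : A)
    (ha : a ∈ (I.map (algebraMap V A)) ^ n) :
    (((AdicCompletion.evalₐ (I.map (algebraMap V C)) n).restrictScalars V).comp g) a = 0 := by
  set ψ : A →ₐ[V] C ⧸ (I.map (algebraMap V C)) ^ n :=
    ((AdicCompletion.evalₐ (I.map (algebraMap V C)) n).restrictScalars V).comp g with hψ
  have h1 : I.map (algebraMap V A) ≤
      ((I.map (algebraMap V C)).map (Ideal.Quotient.mk ((I.map (algebraMap V C)) ^ n))).comap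
        ψ.toRingHom := by
    rw [Ideal.map_le_iff_le_comap]
    intro i hi
    rw [Ideal.mem_comap, Ideal.mem_comap]
    have : ψ.toRingHom (algebraMap V A i) =
        Ideal.Quotient.mk ((I.map (algebraMap V C)) ^ n) (algebraMap V C i) := by
      show ψ (algebraMap V A i) = _
      rw [ψ.commutes]; rfl
    rw [this]
    exact Ideal.mem_map_of_mem _ (Ideal.mem_map_of_mem _ hi)
  have h2 : (I.map (algebraMap V A)) ^ n ≤ (⊥ : Ideal _).comap ψ.toRingHom := by
    have h3 : ((I.map (algebraMap V C)).map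
        (Ideal.Quotient.mk ((I.map (algebraMap V C)) ^ n))) ^ n = ⊥ := by
      rw [← Ideal.map_pow (Ideal.Quotient.mk ((I.map (algebraMap V C)) ^ n)),
        Ideal.map_quotient_self]
    refine (Ideal.pow_right_mono h1 n).trans ((Ideal.le_comap_pow _ n).trans ?_)
    rw [h3]
  exact h2 ha

/-- The map induced on the `n`-th infinitesimal levels by a `V`-algebra map `A → Ĉ`. -/
noncomputable def levelMap (g : A →ₐ[V] AdicCompletion (I.map (algebraMap V C)) C) (n : ℕ) :
    (A ⧸ (I.map (algebraMap V A)) ^ n) →ₐ[V] (C ⧸ (I.map (algebraMap V C)) ^ n) :=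
  Ideal.Quotient.liftₐ _ (((AdicCompletion.evalₐ (I.map (algebraMap V C)) n).restrictScalars V).comp g)
    (evalₐ_comp_eq_zero_of_mem_pow I g n)

@[simp]
theorem levelMap_mk (g : A →ₐ[V] AdicCompletion (I.map (algebraMap V C)) C) (n : ℕ) (a : A) :
    levelMap I g n (Ideal.Quotient.mk _ a) = AdicCompletion.evalₐ (I.map (algebraMap V C)) n (g a) :=
  rfl

theorem levelMap_compat (g : A →ₐ[V] AdicCompletion (I.map (algebraMap V C)) C) {m n : ℕ}
    (hle : m ≤ n) :
    (Ideal.Quotient.factorₐ V (Ideal.pow_le_pow_right hle)).comp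
      ((levelMap I g n).comp
        ((AdicCompletion.evalₐ (I.map (algebraMap V A)) n).restrictScalars V)) =
      (levelMap I g m).comp
        ((AdicCompletion.evalₐ (I.map (algebraMap V A)) m).restrictScalars V) := by
  ext x
  obtain ⟨a, ha⟩ := Ideal.Quotient.mk_surjective
    (AdicCompletion.evalₐ (I.map (algebraMap V A)) n x)
  have ha' : AdicCompletion.evalₐ (I.map (algebraMap V A)) m x = Ideal.Quotient.mk _ a := by
    rw [← factor_evalₐ _ hle, ← ha, Ideal.Quotient.factor_mk]
  simp only [AlgHom.coe_comp, AlgHom.coe_restrictScalars', Function.comp_apply]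
  rw [← ha, ha', levelMap_mk, levelMap_mk]
  exact factor_evalₐ _ hle _

/-- The extension of a `V`-algebra map `g : A → Ĉ` to the completion `Â → Ĉ`. -/
noncomputable def complLift (g : A →ₐ[V] AdicCompletion (I.map (algebraMap V C)) C) :
    AdicCompletion (I.map (algebraMap V A)) A →ₐ[V] AdicCompletion (I.map (algebraMap V C)) C :=
  AdicCompletion.liftAlgHom (I.map (algebraMap V C))
    (fun n => (levelMap I g n).comp
      ((AdicCompletion.evalₐ (I.map (algebraMap V A)) n).restrictScalars V))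
    (fun hle => levelMap_compat I g hle)

theorem evalₐ_complLift (g : A →ₐ[V] AdicCompletion (I.map (algebraMap V C)) C) (n : ℕ)
    (x : AdicCompletion (I.map (algebraMap V A)) A) :
    AdicCompletion.evalₐ (I.map (algebraMap V C)) n (complLift I g x) =
      levelMap I g n (AdicCompletion.evalₐ (I.map (algebraMap V A)) n x) :=
  AdicCompletion.evalₐ_liftAlgHom _ _ (fun hle => levelMap_compat I g hle) n x

theorem evalOneₐ_complLift (g : A →ₐ[V] AdicCompletion (I.map (algebraMap V C)) C)
    (φ₀ : (A ⧸ I.map (algebraMap V A)) →ₐ[V] (C ⧸ I.map (algebraMap V C)))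
    (hg : ((AdicCompletion.evalOneₐ (I.map (algebraMap V C))).restrictScalars V).comp g =
      φ₀.comp (Ideal.Quotient.mkₐ V (I.map (algebraMap V A))))
    (x : AdicCompletion (I.map (algebraMap V A)) A) :
    AdicCompletion.evalOneₐ (I.map (algebraMap V C)) (complLift I g x) =
      φ₀ (AdicCompletion.evalOneₐ (I.map (algebraMap V A)) x) := by
  obtain ⟨a, ha⟩ := Ideal.Quotient.mk_surjective
    (AdicCompletion.evalₐ (I.map (algebraMap V A)) 1 x)
  rw [← AdicCompletion.factorₐ_evalₐ_one, ← AdicCompletion.factorₐ_evalₐ_one, evalₐ_complLift,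
    ← ha, levelMap_mk, Ideal.Quotient.factor_mk, AdicCompletion.factorₐ_evalₐ_one]
  exact congr($hg a)

local notation "JA" => Ideal.map (algebraMap V A) I
local notation "JC" => Ideal.map (algebraMap V C) I

theorem complLift_finite (hI : I.FG) (g : A →ₐ[V] AdicCompletion (I.map (algebraMap V C)) C)
    (φ₀ : (A ⧸ I.map (algebraMap V A)) →ₐ[V] (C ⧸ I.map (algebraMap V C)))
    (hg : ((AdicCompletion.evalOneₐ (I.map (algebraMap V C))).restrictScalars V).comp g =
      φ₀.comp (Ideal.Quotient.mkₐ V (I.map (algebraMap V A))))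
    (hφ₀ : φ₀.toRingHom.Finite) : (complLift I g).toRingHom.Finite := by
  have hJA : (JA).FG := hI.map _
  have hJC : (JC).FG := hI.map _
  letI algφ : Algebra (AdicCompletion JA A) (AdicCompletion JC C) :=
    (complLift I g).toRingHom.toAlgebra
  have halg : ∀ x : AdicCompletion JA A, algebraMap (AdicCompletion JA A) (AdicCompletion JC C) x =
      complLift I g x := fun _ => rfl
  set 𝔞 : Ideal (AdicCompletion JA A) := (JA).map (algebraMap A (AdicCompletion JA A)) with h𝔞def
  set 𝔠 : Ideal (AdicCompletion JC C) := (JC).map (algebraMap C (AdicCompletion JC C)) with h𝔠def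
  have h𝔞 : 𝔞 = I.map (algebraMap V (AdicCompletion JA A)) := by
    rw [h𝔞def, Ideal.map_map]; rfl
  have h𝔠 : 𝔠 = I.map (algebraMap V (AdicCompletion JC C)) := by
    rw [h𝔠def, Ideal.map_map]; rfl
  have hmap : 𝔞.map (algebraMap (AdicCompletion JA A) (AdicCompletion JC C)) = 𝔠 := by
    rw [h𝔞, h𝔠, Ideal.map_map]
    congr 1
    exact (complLift I g).comp_algebraMap
  haveI : IsAdicComplete 𝔞 (AdicCompletion JA A) := AdicCompletion.isAdicComplete_self JA hJA
  haveI h𝔠c : IsAdicComplete 𝔠 (AdicCompletion JC C) := AdicCompletion.isAdicComplete_self JC hJC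
  haveI : IsAdicComplete 𝔞 (AdicCompletion JC C) := by
    rw [← IsAdicComplete.map_algebraMap_iff (S := AdicCompletion JC C), hmap]
    exact h𝔠c
  show Module.Finite (AdicCompletion JA A) (AdicCompletion JC C)
  apply Groth.Agent.S0544.result (AdicCompletion JA A) 𝔞 (AdicCompletion JC C)
  -- generators
  letI algφ₀ : Algebra (A ⧸ JA) (C ⧸ JC) := φ₀.toRingHom.toAlgebra
  have hfin : Module.Finite (A ⧸ JA) (C ⧸ JC) := hφ₀
  obtain ⟨T, hT⟩ := hfin.fg_top
  have hsurjC := AdicCompletion.evalOneₐ_surjective JC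
  have hsurjA := AdicCompletion.evalOneₐ_surjective JA
  let s : C ⧸ JC → AdicCompletion JC C := Function.surjInv hsurjC
  have hs : ∀ t, AdicCompletion.evalOneₐ JC (s t) = t := Function.surjInv_eq hsurjC
  have key : ∀ z ∈ Submodule.span (A ⧸ JA) (T : Set (C ⧸ JC)),
      ∃ w ∈ Submodule.span (AdicCompletion JA A) (s '' (T : Set (C ⧸ JC))),
        AdicCompletion.evalOneₐ JC w = z := by
    intro z hz
    induction hz using Submodule.span_induction with
    | mem t ht => exact ⟨s t, Submodule.subset_span ⟨t, ht, rfl⟩, hs t⟩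
    | zero => exact ⟨0, Submodule.zero_mem _, map_zero _⟩
    | add z₁ z₂ _ _ ih₁ ih₂ =>
      obtain ⟨w₁, hw₁, e₁⟩ := ih₁
      obtain ⟨w₂, hw₂, e₂⟩ := ih₂
      exact ⟨w₁ + w₂, Submodule.add_mem _ hw₁ hw₂, by rw [map_add, e₁, e₂]⟩
    | smul b z _ ih =>
      obtain ⟨w, hw, e⟩ := ih
      obtain ⟨x, hx⟩ := hsurjA b
      refine ⟨x • w, Submodule.smul_mem _ x hw, ?_⟩
      rw [Algebra.smul_def, map_mul, e, halg, evalOneₐ_complLift I g φ₀ hg x, hx,
        Algebra.smul_def]
      rfl
  have hmem : ∀ y : AdicCompletion JC C, ∃ p ∈ Submodule.span (AdicCompletion JA A)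
      (s '' (T : Set (C ⧸ JC))), y - p ∈ (𝔞 • ⊤ : Submodule (AdicCompletion JA A) (AdicCompletion JC C)) := by
    intro y
    obtain ⟨w, hw, e⟩ := key (AdicCompletion.evalOneₐ JC y) (by rw [hT]; trivial)
    refine ⟨w, hw, ?_⟩
    rw [Ideal.smul_top_eq_map, hmap]
    show y - w ∈ 𝔠
    rw [h𝔠def, ← AdicCompletion.ker_evalOneₐ_eq_map JC hJC, RingHom.mem_ker]
    show AdicCompletion.evalOneₐ JC (y - w) = 0
    rw [map_sub, e, sub_self]
  set P := Submodule.span (AdicCompletion JA A) (s '' (T : Set (C ⧸ JC))) with hP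
  haveI : Module.Finite (AdicCompletion JA A) P :=
    Module.Finite.iff_fg.mpr (Submodule.fg_span (T.finite_toSet.image s))
  refine Module.Finite.of_surjective
    ((𝔞 • ⊤ : Submodule (AdicCompletion JA A) (AdicCompletion JC C)).mkQ ∘ₗ P.subtype) ?_
  intro q
  obtain ⟨y, rfl⟩ := Submodule.mkQ_surjective _ q
  obtain ⟨p, hp, hyp⟩ := hmem y
  refine ⟨⟨p, hp⟩, ?_⟩
  simp only [LinearMap.coe_comp, Function.comp_apply, Submodule.subtype_apply, Submodule.mkQ_apply]
  rw [eq_comm, Submodule.Quotient.eq]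
  exact hyp

end

end Groth.Agent.Lib.Helper95.ComplLift
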