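import Mathlib
import Groth.Agent.Lib.Helper95.BTAssemble
import Groth.Agent.S11250

/-!
# The coordinate ring of a determinantal variety as a dehomogenised Schubert cone (helper95)
-/

set_option autoImplicit false

open MvPolynomial W4bk4grassmannian Groth.Agent.Lib.Helper95.SMT Groth.Agent.Lib.Helper95.SMTDim
open Groth.Agent.Lib.Helper95.BT

namespace Groth.Agent.Lib.Helper95.DetB

universe u

variable (K : Type u) [Field K] {d : ℕ} (r : ℕ)

/-- chains below `w` avoiding `ι` span any quotient of the Plücker ring in which the shuffle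
relations and the `X θ`, `θ ≰ w`, vanish and `X ι = 1`. -/
theorem span_cellChain_eq_top {B : Type*} [CommRing B] [Algebra K B] (w : Idx d (d + r))
    (φ : PlRing K d (d + r) →ₐ[K] B) (hsurj : Function.Surjective φ)
    (hshuffle : ∀ (i j : Idx d (d + r)) (t : Fin d), IsPivot i j t → φ (shuffleRel K i j t) = 0)
    (hι : φ (X (iota (Nat.le_add_right d r))) = 1)
    (hw : ∀ θ : Idx d (d + r), ¬ θ ≤ w → φ (X θ) = 0) :
    Submodule.span K (Set.range fun x : CellChain r w => φ (chainMon K x.1.2)) = ⊤ := by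
  classical
  set ι₀ := iota (Nat.le_add_right d r) with hι₀
  rw [eq_top_iff]
  intro y _
  obtain ⟨f, rfl⟩ := hsurj y
  have hshuffle' : ∀ (i j : Idx d (d + r)) (t : Fin d), IsPivot i j t →
      shuffleRel K i j t ∈ RingHom.ker φ.toRingHom := by
    intro i j t h
    rw [RingHom.mem_ker]
    exact hshuffle i j t h
  obtain ⟨c, hc⟩ := exists_std_repr K (RingHom.ker φ.toRingHom) hshuffle' f
  rw [RingHom.mem_ker, map_sub, sub_eq_zero] at hc
  have hc' : φ f = φ (∑ x ∈ c.support, c x • chainMon K x.2.1) := hc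
  rw [hc', map_sum]
  refine Submodule.sum_mem _ fun x _ => ?_
  rw [map_smul]
  refine Submodule.smul_mem _ _ ?_
  obtain ⟨k, ch, hch⟩ := x
  show φ (chainMon K ch) ∈ _
  by_cases hw' : ∀ i, ch i ≤ w
  · have hsplit : chainFs ch = Finsupp.single ι₀ (chainFs ch ι₀) + (chainFs ch).erase ι₀ :=
      (Finsupp.single_add_erase ι₀ (chainFs ch)).symm
    obtain ⟨c', hc'1, hc'2, hc'3⟩ := exists_chain_of_finsupp K ((chainFs ch).erase ι₀) (by
      intro a ha b hb
      rw [Finsupp.support_erase] at ha hb
      obtain ⟨i, rfl⟩ := (mem_support_chainFs ch a).mp (Finset.mem_of_mem_erase ha)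
      obtain ⟨j, rfl⟩ := (mem_support_chainFs ch b).mp (Finset.mem_of_mem_erase hb)
      rcases le_total i j with h | h
      · exact Or.inr (hch h)
      · exact Or.inl (hch h))
    have hmem : ∀ i, c'.2 i ≤ w ∧ c'.2 i ≠ ι₀ := by
      intro i
      have h1 := hc'2 i
      rw [Finsupp.support_erase] at h1
      obtain ⟨j, hj⟩ := (mem_support_chainFs ch _).mp (Finset.mem_of_mem_erase h1)
      exact ⟨hj ▸ hw' j, Finset.ne_of_mem_erase h1⟩
    have heq : φ (chainMon K ch) = φ (chainMon K c'.2) := by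
      rw [chainMon_eq_monomial, hsplit, ← one_mul (1 : K), ← monomial_mul, hc'3, map_mul]
      have : φ (monomial (Finsupp.single ι₀ (chainFs ch ι₀)) 1) = 1 := by
        rw [← X_pow_eq_monomial, map_pow, hι, one_pow]
      rw [this, one_mul]
    rw [heq]
    exact Submodule.subset_span ⟨⟨c', hc'1, hmem⟩, rfl⟩
  · push Not at hw'
    obtain ⟨i, hi⟩ := hw'
    have h0 : φ (chainMon K ch) = 0 := by
      unfold chainMon
      rw [map_prod]
      exact Finset.prod_eq_zero (Finset.mem_univ i) (hw _ hi)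
    rw [h0]
    exact Submodule.zero_mem _

/-- the kernel of `Plücker ring → cell ring → determinantal ring`. -/
theorem ker_eq [IsAlgClosed K] (hd : 0 < d) (hr : 0 < r) (w : Idx d (d + r))
    (I : Ideal (CellRing K d r))
    (hI : I = Ideal.span {f | ∃ θ : Idx d (d + r), ¬ θ ≤ w ∧ f = cellMinor K d r θ}) :
    RingHom.ker ((Ideal.Quotient.mkₐ K I).comp (cellHom K d r)).toRingHom =
      schubertVanishing K d (d + r) w ⊔
        Ideal.span {(X (iota (Nat.le_add_right d r)) - 1 : PlRing K d (d + r))} := by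
  classical
  haveI : Infinite K := IsAlgClosed.instInfinite
  set ι₀ := iota (Nat.le_add_right d r) with hι₀
  set Φ : PlRing K d (d + r) →ₐ[K] (CellRing K d r ⧸ I) :=
    (Ideal.Quotient.mkₐ K I).comp (cellHom K d r) with hΦ
  set 𝔟 : Ideal (PlRing K d (d + r)) :=
    schubertVanishing K d (d + r) w ⊔ Ideal.span {(X ι₀ - 1 : PlRing K d (d + r))} with h𝔟
  have hΦapp : ∀ f, Φ f = Ideal.Quotient.mk I (cellHom K d r f) := fun f => rfl
  have hle : 𝔟 ≤ RingHom.ker Φ.toRingHom := by
    refine sup_le ?_ ?_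
    · rw [← Groth.Agent.S11250.result K d (d + r) hd (by omega) w]
      unfold plIdeal
      rw [Ideal.span_le]
      rintro f (⟨i, j, t, hp, rfl⟩ | ⟨θ, hθ, rfl⟩)
      · rw [SetLike.mem_coe, RingHom.mem_ker]
        show Φ _ = 0
        rw [hΦapp, cellHom_eq_zero_of_mem_vanishing K d r (shuffleRel_mem_vanishing i j t),
          map_zero]
      · rw [SetLike.mem_coe, RingHom.mem_ker]
        show Φ _ = 0
        rw [hΦapp, Ideal.Quotient.eq_zero_iff_mem, hI]
        refine Ideal.subset_span ⟨θ, hθ, ?_⟩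
        unfold cellHom
        rw [aeval_X]
    · rw [Ideal.span_le]
      rintro _ rfl
      rw [SetLike.mem_coe, RingHom.mem_ker]
      show Φ _ = 0
      rw [hΦapp, map_sub, cellHom_X_iota, map_one, sub_self, map_zero]
  apply le_antisymm _ hle
  intro f hf
  rw [RingHom.mem_ker] at hf
  have hf' : Φ f = 0 := hf
  set π : PlRing K d (d + r) →ₐ[K] (PlRing K d (d + r) ⧸ 𝔟) := Ideal.Quotient.mkₐ K 𝔟 with hπ
  have hπapp : ∀ f, π f = Ideal.Quotient.mk 𝔟 f := fun f => rfl
  have hspan := span_cellChain_eq_top K r w π (Ideal.Quotient.mkₐ_surjective K 𝔟)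
    (by
      intro i j t _
      rw [hπapp, Ideal.Quotient.eq_zero_iff_mem]
      exact Ideal.mem_sup_left (vanishing_le_schubertVanishing w (shuffleRel_mem_vanishing i j t)))
    (by
      have : π (X ι₀ - 1) = 0 := by
        rw [hπapp, Ideal.Quotient.eq_zero_iff_mem]
        exact Ideal.mem_sup_right (Ideal.subset_span rfl)
      rw [map_sub, map_one, sub_eq_zero] at this
      exact this)
    (by
      intro θ hθ
      rw [hπapp, Ideal.Quotient.eq_zero_iff_mem]
      exact Ideal.mem_sup_left (X_mem_schubertVanishing K w θ hθ))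
  have hmem : π f ∈ Submodule.span K
      (Set.range fun x : CellChain r w => π (chainMon K x.1.2)) := by
    rw [hspan]; trivial
  rw [Finsupp.mem_span_range_iff_exists_finsupp] at hmem
  obtain ⟨a, ha⟩ := hmem
  -- the induced map
  let Φbar : (PlRing K d (d + r) ⧸ 𝔟) →ₐ[K] (CellRing K d r ⧸ I) :=
    Ideal.Quotient.liftₐ 𝔟 Φ (fun x hx => by
      have := hle hx
      rw [RingHom.mem_ker] at this
      exact this)
  have hΦbar : ∀ g, Φbar (π g) = Φ g := fun g => rfl
  have h1 := congrArg Φbar ha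
  rw [hΦbar, hf', Finsupp.sum, map_sum] at h1
  have h2 : ∑ x ∈ a.support, a x • Φ (chainMon K x.1.2) = 0 := by
    rw [← h1]
    refine Finset.sum_congr rfl fun x _ => ?_
    rw [map_smul, hΦbar]
  have hli := cell_linearIndependent K r hd w I hI
  rw [linearIndependent_iff'] at hli
  have h3 := hli a.support a h2
  have h4 : a = 0 := by
    ext x
    by_cases hx : x ∈ a.support
    · exact h3 x hx
    · exact Finsupp.notMem_support_iff.mp hx
  rw [h4, Finsupp.sum_zero_index] at ha
  rw [← Ideal.Quotient.eq_zero_iff_mem, ← hπapp, ← ha]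

end Groth.Agent.Lib.Helper95.DetB
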