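import Mathlib
import Groth.Agent.Lib.Helper29.DepthQuot
import Groth.Agent.Lib.Helper55.Catenary

/-!
# Hypersurface sections of Cohen–Macaulay domains (helper95)
-/

set_option autoImplicit false

namespace Groth.Agent.Lib.Helper95.DetC

universe u

open Groth.Agent.Lib.Helper29

/-- a Cohen–Macaulay domain modulo a nonzero element is Cohen–Macaulay. -/
theorem isCohenMacaulayRing_quotient_span_singleton (A : Type u) [CommRing A] [IsDomain A]
    (hA : LocCoh.IsCohenMacaulayRing A) (t : A) (ht : t ≠ 0) :
    LocCoh.IsCohenMacaulayRing (A ⧸ Ideal.span {t}) := by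
  haveI : IsNoetherianRing A := hA.toIsNoetherian
  refine { isCohenMacaulayLocalRing_localization := fun P hP => ?_ }
  obtain ⟨p, hpp, htp, rfl⟩ : ∃ p : Ideal A, p.IsPrime ∧ t ∈ p ∧
      p.map (Ideal.Quotient.mk (Ideal.span {t})) = P := by
    refine ⟨P.comap (Ideal.Quotient.mk (Ideal.span {t})), Ideal.comap_isPrime _ _, ?_,
      Ideal.map_comap_of_surjective _ Ideal.Quotient.mk_surjective P⟩
    rw [Ideal.mem_comap]
    have : Ideal.Quotient.mk (Ideal.span {t}) t = 0 :=
      Ideal.Quotient.eq_zero_iff_mem.mpr (Ideal.subset_span rfl)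
    rw [this]
    exact P.zero_mem
  haveI := hpp
  have hreg : IsSMulRegular (Localization.AtPrime p) (algebraMap A (Localization.AtPrime p) t) := by
    haveI : IsDomain (Localization.AtPrime p) :=
      IsLocalization.isDomain_localization p.primeCompl_le_nonZeroDivisors
    have hne : algebraMap A (Localization.AtPrime p) t ≠ 0 := by
      intro h
      apply ht
      exact (IsLocalization.injective (Localization.AtPrime p) p.primeCompl_le_nonZeroDivisors)
        (h.trans (map_zero _).symm)
    intro x y hxy
    exact mul_left_cancel₀ hne hxy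
  obtain ⟨hd, hh⟩ := depth_and_height_quotient_span_singleton A p t htp hreg
  have hcmA := hA.isCohenMacaulayLocalRing_localization p
  have h1 := hcmA.supportDim_eq_depth
  rw [Module.supportDim_self_eq_ringKrullDim,
    IsLocalization.AtPrime.ringKrullDim_eq_height p (Localization.AtPrime p)] at h1
  have h2 : p.height = LocCoh.depth (Localization.AtPrime p) (Localization.AtPrime p) :=
    WithBot.coe_inj.mp h1
  refine { supportDim_eq_depth := ?_ }
  rw [Module.supportDim_self_eq_ringKrullDim,
    IsLocalization.AtPrime.ringKrullDim_eq_height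
      (p.map (Ideal.Quotient.mk (Ideal.span {t}))) (Localization.AtPrime _)]
  congr 1
  apply ENat.add_left_injective_of_ne_top (n := 1) (by simp)
  show (p.map (Ideal.Quotient.mk (Ideal.span {t}))).height + 1 = _ + 1
  rw [hh, hd, h2]

/-- cancellation of `+ 1` in `WithBot ℕ∞`. -/
theorem eq_of_add_one_eq (x : WithBot ℕ∞) (c : ℕ)
    (h : x + 1 = ((c + 1 : ℕ) : WithBot ℕ∞)) : x = (c : WithBot ℕ∞) := by
  induction x using WithBot.recBotCoe with
  | bot =>
    exfalso
    rw [WithBot.bot_add] at h
    exact WithBot.bot_ne_coe h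
  | coe y =>
    have h' : ((y + 1 : ℕ∞) : WithBot ℕ∞) = (((c + 1 : ℕ) : ℕ∞) : WithBot ℕ∞) := by
      exact_mod_cast h
    have h2 : y + 1 = ((c : ℕ∞) + 1) := by
      have := WithBot.coe_inj.mp h'
      rw [this]
      push_cast
      rfl
    have h3 := ENat.add_left_injective_of_ne_top (n := 1) (by simp) h2
    rw [h3]
    rfl

/-- the dimension of a prime principal hypersurface section of an affine domain. -/
theorem ringKrullDim_quotient_span_singleton_add_one (k A : Type u) [Field k] [CommRing A]
    [IsDomain A] [Algebra k A] [Algebra.FiniteType k A] (t : A) (ht : t ≠ 0)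
    [hp : (Ideal.span {t}).IsPrime] :
    ringKrullDim (A ⧸ Ideal.span {t}) + 1 = ringKrullDim A := by
  haveI : IsNoetherianRing A := Algebra.FiniteType.isNoetherianRing k A
  have h1 := Groth.Agent.Lib.Helper55.ringKrullDim_quotient_add_height k A (Ideal.span {t})
  have hunit : ¬ IsUnit t := by
    intro h
    exact hp.ne_top (Ideal.span_singleton_eq_top.mpr h)
  have h2 : (Ideal.span {t}).height = 1 :=
    Ideal.height_span_singleton_eq_one_of_mem_nonZeroDivisors
      (mem_nonZeroDivisors_of_ne_zero ht) hunit
  rw [h2] at h1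
  exact h1

end Groth.Agent.Lib.Helper95.DetC
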