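import Mathlib
import Groth.Agent.S11266
import Groth.Agent.S11267

/-!
# Determinantal rings are normal domains (helper95)
-/

set_option autoImplicit false

namespace Groth.Agent.Lib.Helper95.DetN

/-- the ring of fixed points of a family of ring endomorphisms of an integrally closed domain
is integrally closed. -/
theorem isIntegrallyClosed_fixed {P : Type*} [CommRing P] [IsDomain P] [IsIntegrallyClosed P]
    {ι : Type*} (G : ι → P →+* P) (T : Subring P) (hT : ∀ x, x ∈ T ↔ ∀ i, G i x = x) :
    IsIntegrallyClosed T := by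
  rw [isIntegrallyClosed_iff (FractionRing T)]
  intro x hx
  obtain ⟨p, q, hq, rfl⟩ := IsFractionRing.div_surjective T x
  have hq0 : q ≠ 0 := nonZeroDivisors.ne_zero hq
  have hq0' : (q : P) ≠ 0 := fun h => hq0 (Subtype.ext h)
  let j : T →+* FractionRing P := (algebraMap P (FractionRing P)).comp T.subtype
  have hj : Function.Injective j :=
    (IsFractionRing.injective P (FractionRing P)).comp Subtype.val_injective
  let ψ : FractionRing T →+* FractionRing P := IsFractionRing.lift hj
  have hψ : ∀ a : T, ψ (algebraMap T (FractionRing T) a) = j a := fun a =>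
    IsFractionRing.lift_algebraMap hj a
  have h1 : IsIntegral P (ψ (algebraMap T (FractionRing T) p / algebraMap T (FractionRing T) q)) := by
    obtain ⟨f, hfm, hf0⟩ := hx
    refine ⟨f.map T.subtype, hfm.map _, ?_⟩
    rw [Polynomial.eval₂_map]
    have : (algebraMap P (FractionRing P)).comp T.subtype =
        ψ.comp (algebraMap T (FractionRing T)) := by
      ext a
      rw [RingHom.comp_apply, RingHom.comp_apply, hψ]
      rfl
    rw [this, ← Polynomial.hom_eval₂, hf0, map_zero]
  obtain ⟨a, ha⟩ := (isIntegrallyClosed_iff (FractionRing P)).mp inferInstance h1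
  have h2 : a * q = p := by
    apply IsFractionRing.injective P (FractionRing P)
    rw [map_mul, ha, map_div₀, hψ, hψ]
    show j p / j q * j q = j p
    rw [div_mul_cancel₀]
    exact (map_ne_zero_iff j hj).mpr hq0
  have h3 : a ∈ T := by
    rw [hT]
    intro i
    have h4 : G i a * q = a * q := by
      calc G i a * q = G i a * G i q := by rw [(hT q).mp q.2 i]
        _ = G i (a * q) := (map_mul _ _ _).symm
        _ = a * q := by rw [h2, (hT p).mp p.2 i]
    exact mul_right_cancel₀ hq0' h4
  refine ⟨⟨a, h3⟩, ?_⟩
  rw [eq_div_iff ((map_ne_zero_iff _ (IsFractionRing.injective T (FractionRing T))).mpr hq0),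
    ← map_mul]
  congr 1
  exact Subtype.ext h2

universe u

open W4bk4grassmannian

theorem minorIdeal_eq_ker (K : Type u) [Field K] [IsAlgClosed K] (m n t : ℕ) (ht : 1 ≤ t) :
    CAlgX.minorIdeal (genMatrix K m n) t = RingHom.ker (pairingMap K (t - 1) m n).toRingHom := by
  rw [Groth.Agent.S11267.result K m (t - 1) n, Nat.sub_add_cancel ht]

theorem isPrime_minorIdeal (K : Type u) [Field K] [IsAlgClosed K] (m n t : ℕ) (ht : 1 ≤ t) :
    (CAlgX.minorIdeal (genMatrix K m n) t).IsPrime := by
  rw [minorIdeal_eq_ker K m n t ht]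
  exact RingHom.ker_isPrime _

theorem isIntegrallyClosed_determinantal (K : Type u) [Field K] [IsAlgClosed K] (m n t : ℕ)
    (ht : 1 ≤ t) :
    IsIntegrallyClosed (MvPolynomial (Fin m × Fin n) K ⧸ CAlgX.minorIdeal (genMatrix K m n) t) := by
  have h1 : IsIntegrallyClosed (pairingMap K (t - 1) m n).toRingHom.range := by
    refine isIntegrallyClosed_fixed
      (fun A : GL (Fin (t - 1)) K => (glTranslate K (t - 1) m n A).toRingHom) _ ?_
    intro x
    rw [RingHom.mem_range]
    have := Groth.Agent.S11266.result K m (t - 1) n x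
    rw [AlgHom.mem_range] at this
    exact this.symm
  let e : (MvPolynomial (Fin m × Fin n) K ⧸ CAlgX.minorIdeal (genMatrix K m n) t) ≃+*
      (pairingMap K (t - 1) m n).toRingHom.range :=
    (Ideal.quotEquivOfEq (minorIdeal_eq_ker K m n t ht)).trans
      (RingHom.quotientKerEquivRange _)
  exact IsIntegrallyClosed.of_equiv e.symm

end Groth.Agent.Lib.Helper95.DetN
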