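import Mathlib
import Groth.Agent.Lib.Helper95.DetB
import Groth.Agent.Lib.Helper95.DetC
import Groth.Agent.Lib.Helper95.DetN
import Groth.Agent.Lib.Helper95.CMSchC

/-!
# Determinantal rings: Cohen–Macaulayness and dimension (helper95)
-/

set_option autoImplicit false

open MvPolynomial W4bk4grassmannian Groth.Agent.Lib.Helper95.SMT Groth.Agent.Lib.Helper95.SMTDim
open Groth.Agent.Lib.Helper95.BT

namespace Groth.Agent.Lib.Helper95.DetD

universe u

theorem sum_range_ite (n t a b : ℕ) (ht : 1 ≤ t) (htn : t ≤ n) :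
    (∑ k ∈ Finset.range n, if k + t ≤ n then a else b) = (n + 1 - t) * a + (t - 1) * b := by
  rw [Finset.sum_ite, Finset.sum_const, Finset.sum_const, smul_eq_mul, smul_eq_mul]
  have h1 : (Finset.range n).filter (fun k => k + t ≤ n) = Finset.range (n + 1 - t) := by
    ext k
    simp only [Finset.mem_filter, Finset.mem_range]
    omega
  have h2 : (Finset.range n).filter (fun k => ¬ k + t ≤ n) = Finset.Ico (n + 1 - t) n := by
    ext k
    simp only [Finset.mem_filter, Finset.mem_range, Finset.mem_Ico]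
    omega
  rw [h1, h2, Finset.card_range, Nat.card_Ico]
  have : n - (n + 1 - t) = t - 1 := by omega
  rw [this]

theorem codeg_wTop (m n t : ℕ) (ht : 1 ≤ t) (htm : t ≤ m + 1) (htn : t ≤ n) :
    codeg (wTop m n t ht htm) = (t - 1) * (m + n - t + 1) := by
  unfold codeg
  have h1 : ∀ k : Fin n, ((wTop m n t ht htm).1 k).val - k.val =
      if k.val + t ≤ n then t - 1 else m := by
    intro k
    unfold wTop
    simp only
    by_cases h : k.val + t ≤ n
    · rw [dif_pos h, if_pos h]
      simp only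
      omega
    · rw [dif_neg h, if_neg h]
      simp only
      omega
  rw [Finset.sum_congr rfl (fun k _ => h1 k),
    Fin.sum_univ_eq_sum_range (fun k => if k + t ≤ n then t - 1 else m) n,
    sum_range_ite n t (t - 1) m ht htn]
  have h2 : m + n - t + 1 = (n + 1 - t) + m := by omega
  rw [h2]
  ring

variable (K : Type u) [Field K] [IsAlgClosed K]

theorem cm_and_dim (m n t : ℕ) (hm : 0 < m) (hn : 0 < n) (ht : 1 ≤ t) (htm : t ≤ m) (htn : t ≤ n) :
    LocCoh.IsCohenMacaulayRing
        (MvPolynomial (Fin m × Fin n) K ⧸ CAlgX.minorIdeal (genMatrix K m n) t) ∧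
      ringKrullDim (MvPolynomial (Fin m × Fin n) K ⧸ CAlgX.minorIdeal (genMatrix K m n) t) =
        (((t - 1) * (m + n - t + 1) : ℕ) : WithBot ℕ∞) := by
  classical
  haveI : Infinite K := IsAlgClosed.instInfinite
  have htm' : t ≤ m + 1 := by omega
  have htn' : t ≤ n + 1 := by omega
  set w := wTop m n t ht htm' with hw
  set I : Ideal (CellRing K n m) := CAlgX.minorIdeal (genMatrix K m n) t with hI
  have hIspan : I = Ideal.span {f | ∃ θ : Idx n (n + m), ¬ θ ≤ w ∧ f = cellMinor K n m θ} :=
    minorIdeal_eq_span K m n t hn ht htm' htn'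
  set ι₀ := iota (Nat.le_add_right n m) with hι₀
  set J := schubertVanishing K n (n + m) w with hJ
  have hJprime : J.IsPrime := isPrime_schubertVanishing K hn w
  have hIprime : I.IsPrime := Groth.Agent.Lib.Helper95.DetN.isPrime_minorIdeal K m n t ht
  -- the surjection and its kernel
  set Φ : PlRing K n (n + m) →ₐ[K] (CellRing K n m ⧸ I) :=
    (Ideal.Quotient.mkₐ K I).comp (cellHom K n m) with hΦ
  have hsurj : Function.Surjective Φ.toRingHom :=
    (Ideal.Quotient.mkₐ_surjective K I).comp (cellHom_surjective K m n)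
  have hker := Groth.Agent.Lib.Helper95.DetB.ker_eq K m hn hm w I hIspan
  let e₁ : (PlRing K n (n + m) ⧸ (J ⊔ Ideal.span {(X ι₀ - 1 : PlRing K n (n + m))})) ≃+*
      (CellRing K n m ⧸ I) :=
    (Ideal.quotEquivOfEq hker.symm).trans (RingHom.quotientKerEquivOfSurjective hsurj)
  -- the Schubert cone
  set tt : PlRing K n (n + m) ⧸ J := Ideal.Quotient.mk J (X ι₀ - 1) with htt
  have hmap : (Ideal.span {(X ι₀ - 1 : PlRing K n (n + m))}).map (Ideal.Quotient.mk J) =
      Ideal.span {tt} := by
    rw [Ideal.map_span, Set.image_singleton]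
  let e₂ : ((PlRing K n (n + m) ⧸ J) ⧸ Ideal.span {tt}) ≃+*
      (PlRing K n (n + m) ⧸ (J ⊔ Ideal.span {(X ι₀ - 1 : PlRing K n (n + m))})) :=
    (Ideal.quotEquivOfEq hmap.symm).trans (DoubleQuot.quotQuotEquivQuotSup J _)
  let e : ((PlRing K n (n + m) ⧸ J) ⧸ Ideal.span {tt}) ≃+* (CellRing K n m ⧸ I) := e₂.trans e₁
  haveI : IsDomain (PlRing K n (n + m) ⧸ J) := Ideal.Quotient.isDomain J
  have htt0 : tt ≠ 0 := by
    rw [htt, Ne, Ideal.Quotient.eq_zero_iff_mem]
    intro hmem
    have := schubertVanishing_le_ker_constantCoeff K hn w hmem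
    rw [RingHom.mem_ker, map_sub, constantCoeff_X, map_one] at this
    simp at this
  haveI : IsDomain (CellRing K n m ⧸ I) := Ideal.Quotient.isDomain I
  haveI hdom : IsDomain ((PlRing K n (n + m) ⧸ J) ⧸ Ideal.span {tt}) :=
    e.injective.isDomain e.toRingHom
  haveI hprime : (Ideal.span {tt}).IsPrime := (Ideal.Quotient.isDomain_iff_prime _).mp hdom
  have hcmA : LocCoh.IsCohenMacaulayRing (PlRing K n (n + m) ⧸ J) :=
    Groth.Agent.Lib.Helper95.CMSch.isCohenMacaulayRing_schubert K hn (by omega) w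
  constructor
  · exact Groth.Agent.Lib.Helper82.CMPoly.isCohenMacaulayRing_of_ringEquiv e
      (Groth.Agent.Lib.Helper95.DetC.isCohenMacaulayRing_quotient_span_singleton _ hcmA tt htt0)
  · have h1 : ringKrullDim ((PlRing K n (n + m) ⧸ J) ⧸ Ideal.span {tt}) =
        ringKrullDim (CellRing K n m ⧸ I) := ringKrullDim_eq_of_ringEquiv e
    rw [← h1, ← codeg_wTop m n t ht htm' htn]
    apply Groth.Agent.Lib.Helper95.DetC.eq_of_add_one_eq
    haveI : Algebra.FiniteType K (PlRing K n (n + m) ⧸ J) :=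
      Algebra.FiniteType.of_surjective (Ideal.Quotient.mkₐ K J) (Ideal.Quotient.mkₐ_surjective K J)
    rw [Groth.Agent.Lib.Helper95.DetC.ringKrullDim_quotient_span_singleton_add_one K _ tt htt0,
      Groth.Agent.S11255.result K n (n + m) hn (by omega) w]

end Groth.Agent.Lib.Helper95.DetD
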