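import Mathlib
import Groth.Agent.Lib.Helper55.KrullDimIntegral
import Groth.Agent.Lib.Helper95.DetD

/-!
# Dimension of generic determinantal rings over an arbitrary field (helper95)
-/

set_option autoImplicit false

open MvPolynomial W4bk4grassmannian TensorProduct

namespace Groth.Agent.Lib.Helper95.DetK

universe u

/-- Krull dimension is invariant under algebraic base field extension. -/
theorem ringKrullDim_tensor_eq' (k : Type u) [Field k] (A : Type u) [CommRing A] [Algebra k A]
    (K : Type u) [Field K] [Algebra k K] [Algebra.IsAlgebraic k K] :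
    ringKrullDim (K ⊗[k] A) = ringKrullDim A := by
  have h1 : ringKrullDim (K ⊗[k] A) = ringKrullDim (A ⊗[k] K) :=
    ringKrullDim_eq_of_ringEquiv (Algebra.TensorProduct.comm k K A).toRingEquiv
  rw [h1]
  have : Algebra.IsIntegral k K := Algebra.IsAlgebraic.isIntegral
  have hinj : Function.Injective (algebraMap A (A ⊗[k] K)) :=
    Algebra.TensorProduct.includeLeft_injective (S := A) (algebraMap k K).injective
  exact Groth.Agent.Lib.Helper55.ringKrullDim_eq_of_isIntegral_of_injective A (A ⊗[k] K) hinj

/-- extension of scalars along an algebraic field extension does not change the dimension of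
a quotient of a polynomial ring. -/
theorem ringKrullDim_quotient_map_eq (k K : Type u) [Field k] [Field K] [Algebra k K]
    [Algebra.IsAlgebraic k K] (σ : Type) (I : Ideal (MvPolynomial σ k)) :
    ringKrullDim (MvPolynomial σ K ⧸ I.map (MvPolynomial.map (algebraMap k K))) =
      ringKrullDim (MvPolynomial σ k ⧸ I) := by
  have h0 := ringKrullDim_tensor_eq' k (MvPolynomial σ k ⧸ I) K
  rw [← h0]
  let e₁ := Algebra.TensorProduct.tensorQuotientEquiv (R := k) K (MvPolynomial σ k) K I
  have hI : I.map (MvPolynomial.map (algebraMap k K)) =
      (I.map (Algebra.TensorProduct.includeRight (R := k) (A := K)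
        (B := MvPolynomial σ k))).map
        ((MvPolynomial.algebraTensorAlgEquiv (σ := σ) k K).toRingEquiv :
          K ⊗[k] MvPolynomial σ k →+* MvPolynomial σ K) := by
    have hkey : ∀ p : MvPolynomial σ k,
        (MvPolynomial.algebraTensorAlgEquiv (σ := σ) k K)
          (Algebra.TensorProduct.includeRight (R := k) (A := K) (B := MvPolynomial σ k) p) =
        MvPolynomial.map (algebraMap k K) p := by
      intro p
      rw [Algebra.TensorProduct.includeRight_apply, MvPolynomial.algebraTensorAlgEquiv_tmul,
        one_smul]
    apply le_antisymm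
    · rw [Ideal.map_le_iff_le_comap]
      intro p hp
      rw [Ideal.mem_comap, ← hkey p]
      exact Ideal.mem_map_of_mem _ (Ideal.mem_map_of_mem _ hp)
    · rw [Ideal.map_le_iff_le_comap, Ideal.map_le_iff_le_comap]
      intro p hp
      rw [Ideal.mem_comap, Ideal.mem_comap]
      show (MvPolynomial.algebraTensorAlgEquiv (σ := σ) k K) _ ∈ _
      rw [hkey p]
      exact Ideal.mem_map_of_mem _ hp
  let e₂ : ((K ⊗[k] MvPolynomial σ k) ⧸ I.map (Algebra.TensorProduct.includeRight (R := k)
      (A := K) (B := MvPolynomial σ k))) ≃+*
      (MvPolynomial σ K ⧸ I.map (MvPolynomial.map (algebraMap k K))) :=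
    Ideal.quotientEquiv _ _ (MvPolynomial.algebraTensorAlgEquiv (σ := σ) k K).toRingEquiv hI
  exact (ringKrullDim_eq_of_ringEquiv (e₁.toRingEquiv.trans e₂)).symm

theorem map_minorIdeal (k K : Type u) [Field k] [Field K] [Algebra k K] (n m t : ℕ) :
    (CAlgX.minorIdeal (genMatrix k n m) t).map (MvPolynomial.map (algebraMap k K)) =
      CAlgX.minorIdeal (genMatrix K n m) t := by
  unfold CAlgX.minorIdeal
  rw [Ideal.map_span, ← Set.range_comp]
  congr 2
  funext fg
  simp only [Function.comp]
  rw [RingHom.map_det]
  congr 1
  ext i j
  simp [genMatrix, MvPolynomial.map_X]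

theorem minorIdeal_eq_bot (k : Type u) [Field k] (n m t : ℕ) (h : n < t ∨ m < t) :
    CAlgX.minorIdeal (genMatrix k n m) t = ⊥ := by
  unfold CAlgX.minorIdeal
  rw [Ideal.span_eq_bot]
  rintro _ ⟨⟨f, g⟩, rfl⟩
  rcases h with h | h
  · have hf : ¬ Function.Injective f := by
      intro hf
      have := Fintype.card_le_of_injective f hf
      simp only [Fintype.card_fin] at this
      omega
    rw [Function.Injective] at hf
    push Not at hf
    obtain ⟨a, a', hfa, hne⟩ := hf
    apply Matrix.det_zero_of_row_eq hne
    ext b
    simp only [Matrix.submatrix_apply, hfa]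
  · have hg : ¬ Function.Injective g := by
      intro hg
      have := Fintype.card_le_of_injective g hg
      simp only [Fintype.card_fin] at this
      omega
    rw [Function.Injective] at hg
    push Not at hg
    obtain ⟨a, a', hga, hne⟩ := hg
    apply Matrix.det_zero_of_column_eq hne
    intro b
    simp only [Matrix.submatrix_apply, hga]

/-- the dimension of the generic determinantal ring over any field. -/
theorem ringKrullDim_genericDeterminantal (k : Type u) [Field k] (n m r : ℕ) (hr : r ≤ min n m) :
    ringKrullDim (MvPolynomial (Fin n × Fin m) k ⧸ CAlgX.minorIdeal (genMatrix k n m) (r + 1)) =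
      ((r * (m + n - r) : ℕ) : WithBot ℕ∞) := by
  rcases Nat.lt_or_ge r (min n m) with hlt | hge
  · have hrn : r < n := lt_of_lt_of_le hlt (min_le_left _ _)
    have hrm : r < m := lt_of_lt_of_le hlt (min_le_right _ _)
    rw [← ringKrullDim_quotient_map_eq k (AlgebraicClosure k), map_minorIdeal,
      (Groth.Agent.Lib.Helper95.DetD.cm_and_dim (AlgebraicClosure k) n m (r + 1) (by omega)
        (by omega) (by omega) (by omega) (by omega)).2]
    have h1 : n + m - (r + 1) + 1 = m + n - r := by omega
    rw [Nat.add_sub_cancel, h1]
  · have hreq : r = min n m := le_antisymm hr hge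
    have hbot : CAlgX.minorIdeal (genMatrix k n m) (r + 1) = ⊥ := by
      apply minorIdeal_eq_bot
      rcases le_total n m with h | h
      · left; rw [hreq, min_eq_left h]; omega
      · right; rw [hreq, min_eq_right h]; omega
    have h2 : ringKrullDim (MvPolynomial (Fin n × Fin m) k ⧸
        CAlgX.minorIdeal (genMatrix k n m) (r + 1)) =
        ringKrullDim (MvPolynomial (Fin n × Fin m) k) := by
      rw [hbot]
      exact ringKrullDim_eq_of_ringEquiv (RingEquiv.quotientBot _)
    rw [h2, MvPolynomial.ringKrullDim_of_isNoetherianRing, ringKrullDim_eq_zero_of_field, zero_add,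
      Nat.card_eq_fintype_card, Fintype.card_prod, Fintype.card_fin, Fintype.card_fin]
    congr 1
    rcases le_total n m with h | h
    · rw [hreq, min_eq_left h]
      have : m + n - n = m := by omega
      rw [this]
    · rw [hreq, min_eq_right h]
      have : m + n - m = n := by omega
      rw [this, mul_comm]

end Groth.Agent.Lib.Helper95.DetK
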