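import Mathlib
import Groth.Prelude.Def_CAlgX

set_option autoImplicit false
universe u

namespace Groth.Agent.Lib.Helper95.DetSm
open MvPolynomial

theorem det_mul_eq_zero {R : Type*} [CommRing R] (r : ℕ) (U : Matrix (Fin (r+1)) (Fin r) R)
    (V : Matrix (Fin r) (Fin (r+1)) R) : (U * V).det = 0 := by
  let U' : Matrix (Fin (r+1)) (Fin (r+1)) R := fun i j => if h : (j:ℕ) < r then U i ⟨j, h⟩ else 0
  let V' : Matrix (Fin (r+1)) (Fin (r+1)) R := fun j l => if h : (j:ℕ) < r then V ⟨j, h⟩ l else 0
  have h1 : U * V = U' * V' := by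
    ext i l
    rw [Matrix.mul_apply, Matrix.mul_apply, Fin.sum_univ_castSucc]
    simp [U', V']
  rw [h1, Matrix.det_mul]
  have : U'.det = 0 := Matrix.det_eq_zero_of_column_eq_zero (Fin.last r) (fun i => by simp [U'])
  rw [this, zero_mul]

section
variable (k : Type u) [Field k] (n m r : ℕ)

/-- the polynomial ring -/
abbrev S := MvPolynomial (Fin n × Fin m) k

/-- the generic matrix -/
noncomputable def Xm : Matrix (Fin n) (Fin m) (S k n m) :=
  Matrix.of fun (i : Fin n) (j : Fin m) => (MvPolynomial.X (i, j) : MvPolynomial (Fin n × Fin m) k)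

variable {n m r} (f : Fin r → Fin n) (g : Fin r → Fin m)

/-- the chosen minor -/
noncomputable def dl : S k n m := ((Xm k n m).submatrix f g).det

abbrev L := Localization.Away (dl k f g)

noncomputable def ιL : S k n m →+* L k f g := algebraMap _ _

noncomputable def Am : Matrix (Fin r) (Fin r) (L k f g) := ((Xm k n m).submatrix f g).map (ιL k f g)

theorem isUnit_det_Am : IsUnit (Am k f g).det := by
  unfold Am
  rw [← RingHom.mapMatrix_apply, ← RingHom.map_det]
  exact IsLocalization.Away.algebraMap_isUnit (dl k f g)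

noncomputable def Um : Matrix (Fin n) (Fin r) (L k f g) := ((Xm k n m).submatrix id g).map (ιL k f g)
noncomputable def Vm : Matrix (Fin r) (Fin m) (L k f g) := ((Xm k n m).submatrix f id).map (ιL k f g)

/-- the rank `r` matrix -/
noncomputable def Ym : Matrix (Fin n) (Fin m) (L k f g) := Um k f g * (Am k f g)⁻¹ * Vm k f g

noncomputable def psi : S k n m →ₐ[k] L k f g := aeval (fun p => Ym k f g p.1 p.2)

theorem map_psi : (Xm k n m).map (psi k f g) = Ym k f g := by
  ext i j
  simp [Xm, psi]

theorem psi_minor (f' : Fin (r + 1) → Fin n) (g' : Fin (r + 1) → Fin m) :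
    psi k f g ((Xm k n m).submatrix f' g').det = 0 := by
  rw [AlgHom.map_det]
  have : (psi k f g).mapMatrix ((Xm k n m).submatrix f' g') = (Ym k f g).submatrix f' g' := by
    rw [← map_psi]; rfl
  rw [this]
  have h2 : (Ym k f g).submatrix f' g' =
      ((Um k f g).submatrix f' id) * ((Am k f g)⁻¹ * (Vm k f g).submatrix id g') := by
    unfold Ym
    rw [Matrix.mul_assoc]
    rfl
  rw [h2]
  exact det_mul_eq_zero r _ _

theorem psi_mem (a : S k n m) (ha : a ∈ CAlgX.minorIdeal (Xm k n m) (r + 1)) : psi k f g a = 0 := by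
  have : CAlgX.minorIdeal (Xm k n m) (r + 1) ≤ RingHom.ker (psi k f g).toRingHom := by
    unfold CAlgX.minorIdeal
    rw [Ideal.span_le]
    rintro _ ⟨fg, rfl⟩
    exact psi_minor k f g fg.1 fg.2
  exact this ha

end


section
variable (k : Type u) [Field k] {n m r : ℕ} (f : Fin r → Fin n) (g : Fin r → Fin m)

theorem Ym_row (a : Fin r) (j : Fin m) : Ym k f g (f a) j = ιL k f g (MvPolynomial.X (f a, j)) := by
  have h1 : (Um k f g).submatrix f id = Am k f g := rfl
  have h2 : (Ym k f g).submatrix f id = Vm k f g := by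
    unfold Ym
    rw [show (Um k f g * (Am k f g)⁻¹ * Vm k f g).submatrix f id =
      (Um k f g).submatrix f id * (Am k f g)⁻¹ * Vm k f g from rfl, h1,
      Matrix.mul_nonsing_inv _ (isUnit_det_Am k f g), Matrix.one_mul]
  have := congrFun (congrFun h2 a) j
  simpa [Vm, Xm] using this

theorem Ym_col (i : Fin n) (b : Fin r) : Ym k f g i (g b) = ιL k f g (MvPolynomial.X (i, g b)) := by
  have h1 : (Vm k f g).submatrix id g = Am k f g := rfl
  have h2 : (Ym k f g).submatrix id g = Um k f g := by
    unfold Ym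
    rw [show (Um k f g * (Am k f g)⁻¹ * Vm k f g).submatrix id g =
      Um k f g * ((Am k f g)⁻¹ * (Vm k f g).submatrix id g) by rw [Matrix.mul_assoc]; rfl, h1,
      Matrix.nonsing_inv_mul _ (isUnit_det_Am k f g), Matrix.mul_one]
  have := congrFun (congrFun h2 i) b
  simpa [Um, Xm] using this

theorem psi_dl : psi k f g (dl k f g) = ιL k f g (dl k f g) := by
  have h1 : psi k f g (dl k f g) = ((Ym k f g).submatrix f g).det := by
    refine (AlgHom.map_det (psi k f g) ((Xm k n m).submatrix f g)).trans ?_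
    congr 1
    rw [← map_psi]
    rfl
  have h2 : (Ym k f g).submatrix f g = Am k f g := by
    ext a b
    rw [Matrix.submatrix_apply, Ym_col]
    simp [Am, Xm]
  have h3 : (Am k f g).det = ιL k f g (dl k f g) :=
    (RingHom.map_det (ιL k f g) ((Xm k n m).submatrix f g)).symm
  rw [h1, h2, h3]

/-- the bordered minor identity -/
theorem sub_mem (i : Fin n) (j : Fin m) :
    ιL k f g (MvPolynomial.X (i, j)) - Ym k f g i j ∈
      (CAlgX.minorIdeal (Xm k n m) (r + 1)).map (ιL k f g) := by
  classical
  -- the bordered matrix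
  let f'' : Fin r ⊕ Unit → Fin n := Sum.elim f (fun _ => i)
  let g'' : Fin r ⊕ Unit → Fin m := Sum.elim g (fun _ => j)
  let e : Fin (r + 1) ≃ Fin r ⊕ Unit := (finSumFinEquiv (m := r) (n := 1)).symm.trans
    (Equiv.sumCongr (Equiv.refl _) (Equiv.equivPUnit _))
  have hmem : ((Xm k n m).submatrix f'' g'').det ∈ CAlgX.minorIdeal (Xm k n m) (r + 1) := by
    have h1 : ((Xm k n m).submatrix f'' g'').det =
        ((Xm k n m).submatrix (f'' ∘ e) (g'' ∘ e)).det := by
      rw [← Matrix.det_submatrix_equiv_self e ((Xm k n m).submatrix f'' g'')]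
      rfl
    rw [h1]
    exact Ideal.subset_span ⟨(f'' ∘ e, g'' ∘ e), rfl⟩
  have hmem' := Ideal.mem_map_of_mem (ιL k f g) hmem
  rw [RingHom.map_det] at hmem'
  let Bm : Matrix (Fin r) Unit (L k f g) := fun a _ => ιL k f g (MvPolynomial.X (f a, j))
  let Cm : Matrix Unit (Fin r) (L k f g) := fun _ b => ιL k f g (MvPolynomial.X (i, g b))
  let Dm : Matrix Unit Unit (L k f g) := fun _ _ => ιL k f g (MvPolynomial.X (i, j))
  have hblock : (ιL k f g).mapMatrix ((Xm k n m).submatrix f'' g'') =
      Matrix.fromBlocks (Am k f g) Bm Cm Dm := by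
    ext (a | a) (b | b) <;> simp [Am, Bm, Cm, Dm, f'', g'', Xm]
  rw [hblock] at hmem'
  haveI : Invertible (Am k f g) := Matrix.invertibleOfIsUnitDet _ (isUnit_det_Am k f g)
  rw [Matrix.det_fromBlocks₁₁, Matrix.det_unique (Dm - Cm * ⅟(Am k f g) * Bm)] at hmem'
  have hentry : (Dm - Cm * ⅟(Am k f g) * Bm) default default =
      ιL k f g (MvPolynomial.X (i, j)) - Ym k f g i j := by
    rw [Matrix.sub_apply]
    congr 1
    rw [Matrix.invOf_eq_nonsing_inv]
    unfold Ym
    rw [Matrix.mul_apply, Matrix.mul_apply]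
    refine Finset.sum_congr rfl fun b _ => ?_
    rw [Matrix.mul_apply, Matrix.mul_apply, Finset.sum_mul, Finset.sum_mul]
    refine Finset.sum_congr rfl fun a _ => ?_
    simp [Cm, Bm, Um, Vm, Xm]
  rw [hentry] at hmem'
  have hu := isUnit_det_Am k f g
  obtain ⟨u, hu'⟩ := hu
  have := Ideal.mul_mem_left _ (↑u⁻¹ : L k f g) hmem'
  rwa [← mul_assoc, ← hu', Units.inv_mul, one_mul] at this

end


section
variable (k : Type u) [Field k] {n m r : ℕ} (f : Fin r → Fin n) (g : Fin r → Fin m)

set_option maxHeartbeats 800000 in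
theorem formallySmooth_away :
    Algebra.FormallySmooth k (Localization.Away
      (Ideal.Quotient.mk (CAlgX.minorIdeal (Xm k n m) (r + 1)) (dl k f g))) := by
  set I := CAlgX.minorIdeal (Xm k n m) (r + 1) with hI
  set Bd := Localization.Away (Ideal.Quotient.mk I (dl k f g)) with hBd
  let q0 : S k n m →ₐ[k] Bd :=
    (IsScalarTower.toAlgHom k (S k n m ⧸ I) Bd).comp (Ideal.Quotient.mkₐ k I)
  have hq0 : ∀ y : Submonoid.powers (dl k f g), IsUnit (q0 y) := by
    rintro ⟨_, t, rfl⟩
    simp only [map_pow]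
    exact (IsLocalization.Away.algebraMap_isUnit (Ideal.Quotient.mk I (dl k f g))).pow t
  let q : L k f g →ₐ[k] Bd := IsLocalization.liftAlgHom (M := Submonoid.powers (dl k f g)) hq0
  have hq_ι : ∀ a : S k n m, q (ιL k f g a) = q0 a := fun a => IsLocalization.lift_eq _ a
  let s0 : (S k n m ⧸ I) →ₐ[k] L k f g := Ideal.Quotient.liftₐ I (psi k f g) (psi_mem k f g)
  have hs0 : ∀ y : Submonoid.powers (Ideal.Quotient.mk I (dl k f g)), IsUnit (s0 y) := by
    rintro ⟨_, t, rfl⟩
    simp only [map_pow]
    refine IsUnit.pow t ?_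
    have : s0 (Ideal.Quotient.mk I (dl k f g)) = psi k f g (dl k f g) := rfl
    rw [this, psi_dl]
    exact IsLocalization.Away.algebraMap_isUnit (dl k f g)
  let s : Bd →ₐ[k] L k f g :=
    IsLocalization.liftAlgHom (M := Submonoid.powers (Ideal.Quotient.mk I (dl k f g))) hs0
  have hs_alg : ∀ b : S k n m ⧸ I, s (algebraMap _ Bd b) = s0 b := fun b => IsLocalization.lift_eq _ b
  have hker : ∀ x ∈ I.map (ιL k f g), q x = 0 := by
    intro x hx
    have : I.map (ιL k f g) ≤ RingHom.ker q.toRingHom := by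
      rw [Ideal.map_le_iff_le_comap]
      intro a ha
      rw [Ideal.mem_comap, RingHom.mem_ker]
      change q (ιL k f g a) = 0
      rw [hq_ι]
      change algebraMap (S k n m ⧸ I) Bd (Ideal.Quotient.mk I a) = 0
      rw [Ideal.Quotient.eq_zero_iff_mem.mpr ha, map_zero]
    exact this hx
  have hqs : ∀ b : Bd, q (s b) = b := by
    have h1 : (q.toRingHom.comp s.toRingHom).comp (algebraMap (S k n m ⧸ I) Bd) =
        (RingHom.id Bd).comp (algebraMap (S k n m ⧸ I) Bd) := by
      apply Ideal.Quotient.ringHom_ext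
      apply MvPolynomial.ringHom_ext
      · intro c
        simp only [RingHom.coe_comp, Function.comp_apply, RingHom.id_apply]
        change q (s (algebraMap _ Bd (Ideal.Quotient.mk I (MvPolynomial.C c)))) = _
        rw [hs_alg]
        change q (psi k f g (MvPolynomial.C c)) = _
        rw [show (MvPolynomial.C c : S k n m) = algebraMap k _ c from rfl, AlgHom.commutes,
          AlgHom.commutes]
        rfl
      · rintro ⟨i, j⟩
        simp only [RingHom.coe_comp, Function.comp_apply, RingHom.id_apply]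
        change q (s (algebraMap _ Bd (Ideal.Quotient.mk I (MvPolynomial.X (i, j))))) = _
        rw [hs_alg]
        change q (psi k f g (MvPolynomial.X (i, j))) = q0 (MvPolynomial.X (i, j))
        rw [← hq_ι]
        have h2 : psi k f g (MvPolynomial.X (i, j)) = Ym k f g i j := by simp [psi]
        rw [h2]
        have := hker _ (sub_mem k f g i j)
        rw [map_sub, sub_eq_zero] at this
        exact this.symm
    have h3 := IsLocalization.ringHom_ext (Submonoid.powers (Ideal.Quotient.mk I (dl k f g))) h1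
    intro b
    exact congrFun (congrArg DFunLike.coe h3) b
  refine Algebra.FormallySmooth.of_split q ((Ideal.Quotient.mkₐ k _).comp s) ?_
  refine AlgHom.ext fun b => ?_
  simp only [AlgHom.coe_comp, Function.comp_apply, Ideal.Quotient.mkₐ_eq_mk, AlgHom.coe_id, id_eq]
  rw [AlgHom.kerSquareLift_mk]
  exact hqs b

end

end Groth.Agent.Lib.Helper95.DetSm
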