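import Mathlib
import Groth.Prelude.Def_CAlgX

set_option autoImplicit false
universe u

namespace Groth.Agent.Lib.Helper95.DetSm

section leibniz
variable {R A M : Type*} [CommRing R] [CommRing A] [Algebra R A] [AddCommGroup M] [Module A M]
  [Module R M] [IsScalarTower R A M] (D : Derivation R A M)

theorem leibniz_prod {ι : Type*} [DecidableEq ι] (s : Finset ι) (f : ι → A) :
    D (∏ i ∈ s, f i) = ∑ i ∈ s, (∏ j ∈ s.erase i, f j) • D (f i) := by
  induction s using Finset.induction_on with
  | empty => simp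
  | insert a s ha ih =>
    rw [Finset.prod_insert ha, D.leibniz, ih, Finset.sum_insert ha, Finset.erase_insert ha,
      Finset.smul_sum, add_comm]
    congr 1
    refine Finset.sum_congr rfl fun i hi => ?_
    have hia : i ≠ a := fun h => ha (h ▸ hi)
    rw [Finset.erase_insert_of_ne (Ne.symm hia), Finset.prod_insert (by simp [ha]), mul_smul]

variable {n : Type*} [Fintype n] [DecidableEq n]

theorem prod_updateRow (N : Matrix n n A) (σ : Equiv.Perm n) (i j : n) :
    ∏ a, (N.updateRow j (Pi.single i 1)) (σ a) a =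
      if σ i = j then ∏ a ∈ Finset.univ.erase i, N (σ a) a else 0 := by
  split_ifs with h
  · rw [← Finset.mul_prod_erase Finset.univ _ (Finset.mem_univ i)]
    have h1 : (N.updateRow j (Pi.single i 1)) (σ i) i = 1 := by
      rw [h, Matrix.updateRow_self, Pi.single_eq_same]
    rw [h1, one_mul]
    refine Finset.prod_congr rfl fun a ha => ?_
    have hai : a ≠ i := Finset.ne_of_mem_erase ha
    have : σ a ≠ j := fun h' => hai (σ.injective (h'.trans h.symm))
    rw [Matrix.updateRow_ne this]
  · refine Finset.prod_eq_zero (Finset.mem_univ (σ.symm j)) ?_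
    rw [Equiv.apply_symm_apply, Matrix.updateRow_self]
    have : σ.symm j ≠ i := fun h' => h (by rw [← h', Equiv.apply_symm_apply])
    rw [Pi.single_eq_of_ne this]

/-- **Jacobi's formula** for derivations. -/
theorem map_det (N : Matrix n n A) :
    D N.det = ∑ i, ∑ j, N.adjugate i j • D (N j i) := by
  have hadj : ∀ i j, N.adjugate i j =
      ∑ σ : Equiv.Perm n, Equiv.Perm.sign σ •
        (if σ i = j then ∏ a ∈ Finset.univ.erase i, N (σ a) a else 0) := by
    intro i j
    rw [Matrix.adjugate_apply, Matrix.det_apply]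
    refine Finset.sum_congr rfl fun σ _ => ?_
    rw [prod_updateRow]
  rw [Matrix.det_apply, map_sum]
  simp_rw [hadj, Finset.sum_smul]
  rw [Finset.sum_comm]
  conv_rhs => enter [2, i]; rw [Finset.sum_comm]
  rw [Finset.sum_comm]
  refine Finset.sum_congr rfl fun σ _ => ?_
  rw [Units.smul_def, map_zsmul, leibniz_prod, Finset.smul_sum, Finset.sum_comm]
  refine Finset.sum_congr rfl fun i _ => ?_
  rw [Finset.sum_eq_single (σ i)]
  · rw [if_pos rfl, Units.smul_def, smul_assoc]
  · intro j _ hj
    rw [if_neg (Ne.symm hj), smul_zero, zero_smul]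
  · intro h; exact absurd (Finset.mem_univ _) h

end leibniz

section minors
variable {A : Type u} [CommRing A] {n' m' : Type} [Fintype n'] [Fintype m'] (X : Matrix n' m' A)

theorem minor_mem {r : ℕ} (f : Fin r → n') (g : Fin r → m') :
    (X.submatrix f g).det ∈ CAlgX.minorIdeal X r :=
  Ideal.subset_span ⟨(f, g), rfl⟩

theorem adjugate_mem {r : ℕ} (f : Fin (r + 1) → n') (g : Fin (r + 1) → m') (i j : Fin (r + 1)) :
    (X.submatrix f g).adjugate i j ∈ CAlgX.minorIdeal X r := by
  rw [Matrix.adjugate_fin_succ_eq_det_submatrix]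
  exact Ideal.mul_mem_left _ _ (minor_mem X (f ∘ j.succAbove) (g ∘ i.succAbove))

theorem minorIdeal_succ_le (r : ℕ) : CAlgX.minorIdeal X (r + 1) ≤ CAlgX.minorIdeal X r := by
  unfold CAlgX.minorIdeal
  rw [Ideal.span_le]
  rintro _ ⟨⟨f, g⟩, rfl⟩
  change (X.submatrix f g).det ∈ CAlgX.minorIdeal X r
  rw [Matrix.det_succ_row_zero]
  refine Ideal.sum_mem _ fun j _ => Ideal.mul_mem_left _ _ ?_
  exact minor_mem X (f ∘ Fin.succ) (g ∘ j.succAbove)

variable {R M : Type*} [CommRing R] [Algebra R A] [AddCommGroup M] [Module A M]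
  [Module R M] [IsScalarTower R A M] (D : Derivation R A M)

theorem D_minor_mem {r : ℕ} (f : Fin (r + 1) → n') (g : Fin (r + 1) → m') :
    D (X.submatrix f g).det ∈ (CAlgX.minorIdeal X r) • (⊤ : Submodule A M) := by
  rw [map_det]
  refine Submodule.sum_mem _ fun i _ => Submodule.sum_mem _ fun j _ => ?_
  exact Submodule.smul_mem_smul (adjugate_mem X f g i j) trivial

theorem D_mem (r : ℕ) (a : A) (ha : a ∈ CAlgX.minorIdeal X (r + 1)) :
    D a ∈ (CAlgX.minorIdeal X r) • (⊤ : Submodule A M) := by
  unfold CAlgX.minorIdeal at ha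
  induction ha using Submodule.span_induction with
  | mem x hx =>
    obtain ⟨⟨f, g⟩, rfl⟩ := hx
    exact D_minor_mem X D f g
  | zero => simp
  | add x y _ _ hx hy => rw [map_add]; exact Submodule.add_mem _ hx hy
  | smul c x hx ih =>
    rw [smul_eq_mul, D.leibniz]
    refine Submodule.add_mem _ (Submodule.smul_mem _ _ ih) ?_
    exact Submodule.smul_mem_smul (minorIdeal_succ_le X r hx) trivial

end minors

end Groth.Agent.Lib.Helper95.DetSm
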