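import Mathlib

set_option autoImplicit false
universe u

namespace Groth.Agent.Lib.Helper95.DetSm
open TensorProduct KaehlerDifferential

section
variable {k S B : Type u} [CommRing k] [CommRing S] [CommRing B] [Algebra k S] [Algebra k B]
  [Algebra S B] [IsScalarTower k S B] [IsNoetherianRing S] [Algebra.FormallySmooth k S]

theorem not_formallySmooth_localization
    (hsurj : Function.Surjective (algebraMap S B)) (P : Ideal B) [P.IsPrime]
    (hD : ∀ a ∈ RingHom.ker (algebraMap S B),
      KaehlerDifferential.D k S a ∈ (P.under S) • (⊤ : Submodule S Ω[S⁄k]))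
    (hne : ∃ a ∈ RingHom.ker (algebraMap S B),
      algebraMap S (Localization.AtPrime (P.under S)) a ≠ 0) :
    ¬ Algebra.FormallySmooth k (Localization.AtPrime P) := by
  intro hsm
  set 𝔓 := P.under S with h𝔓
  set SP := Localization.AtPrime 𝔓 with hSP
  set BP := Localization.AtPrime P with hBP
  let _ : Algebra SP BP := Localization.AtPrime.algebraOfLiesOver 𝔓 P
  have : IsScalarTower k SP BP := inferInstance
  have : Algebra.FormallySmooth S SP := Algebra.FormallySmooth.of_isLocalization 𝔓.primeCompl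
  have : Algebra.FormallySmooth k SP := Algebra.FormallySmooth.comp k S SP
  have hf : Function.Surjective (algebraMap SP BP) :=
    RingHom.surjective_localRingHom_of_surjective (algebraMap S B) hsurj P
  set K := RingHom.ker (algebraMap SP BP) with hK
  have hKmap : K = (RingHom.ker (algebraMap S B)).map (algebraMap S SP) := by
    have hT : Submonoid.map (algebraMap S B) 𝔓.primeCompl = P.primeCompl :=
      Submonoid.map_comap_eq_of_surjective hsurj P.primeCompl
    exact IsLocalization.ker_map (S := SP) BP (algebraMap S B) hT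
  set 𝔪 := IsLocalRing.maximalIdeal SP with h𝔪
  -- step 4
  have hker𝔓 : RingHom.ker (algebraMap S B) ≤ 𝔓 := by
    intro a ha
    rw [h𝔓, Ideal.under_def, Ideal.mem_comap, RingHom.mem_ker.mp ha]
    exact zero_mem _
  have hmap𝔓 : ∀ p ∈ 𝔓, algebraMap S SP p ∈ 𝔪 := by
    intro p hp
    rw [h𝔪, ← Localization.AtPrime.map_eq_maximalIdeal]
    exact Ideal.mem_map_of_mem _ hp
  have hDmap : ∀ ω ∈ 𝔓 • (⊤ : Submodule S Ω[S⁄k]),
      KaehlerDifferential.map k k S SP ω ∈ 𝔪 • (⊤ : Submodule SP Ω[SP⁄k]) := by
    intro ω hω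
    refine Submodule.smul_induction_on hω ?_ ?_
    · intro p hp ω _
      rw [map_smul, algebra_compatible_smul SP p]
      exact Submodule.smul_mem_smul (hmap𝔓 p hp) trivial
    · intro x y hx hy
      rw [map_add]; exact Submodule.add_mem _ hx hy
  let Z : Ideal SP :=
    { carrier := {x | x ∈ 𝔪 ∧ KaehlerDifferential.D k SP x ∈ 𝔪 • (⊤ : Submodule SP Ω[SP⁄k])}
      zero_mem' := ⟨zero_mem _, by simp⟩
      add_mem' := fun {x y} hx hy => ⟨add_mem hx.1 hy.1, by
        rw [map_add]; exact Submodule.add_mem _ hx.2 hy.2⟩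
      smul_mem' := fun c x hx => ⟨Ideal.mul_mem_left _ _ hx.1, by
        rw [smul_eq_mul, Derivation.leibniz]
        exact Submodule.add_mem _ (Submodule.smul_mem _ _ hx.2)
          (Submodule.smul_mem_smul hx.1 trivial)⟩ }
  have hKZ : K ≤ Z := by
    rw [hKmap, Ideal.map_le_iff_le_comap]
    intro a ha
    refine ⟨hmap𝔓 a (hker𝔓 ha), ?_⟩
    rw [← KaehlerDifferential.map_D k k S SP]
    exact hDmap _ (hD a ha)
  obtain ⟨l, hl⟩ :=
    (Algebra.FormallySmooth.iff_split_injection (R := k) (P := SP) (A := BP) hf).mp hsm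
  have hcot : ∀ x : K, K.toCotangent x ∈ 𝔪 • (⊤ : Submodule SP K.Cotangent) := by
    intro x
    have h1 : K.toCotangent x = l ((1 : BP) ⊗ₜ[SP] KaehlerDifferential.D k SP x.1) := by
      rw [← KaehlerDifferential.kerCotangentToTensor_toCotangent]
      exact (LinearMap.congr_fun hl _).symm
    rw [h1]
    have h2 := (hKZ x.2).2
    have h3 : ∀ ω ∈ 𝔪 • (⊤ : Submodule SP Ω[SP⁄k]),
        l ((1 : BP) ⊗ₜ[SP] ω) ∈ 𝔪 • (⊤ : Submodule SP K.Cotangent) := by
      intro ω hω
      refine Submodule.smul_induction_on hω ?_ ?_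
      · intro p hp ω _
        rw [TensorProduct.tmul_smul, map_smul]
        exact Submodule.smul_mem_smul hp trivial
      · intro x y hx hy
        rw [TensorProduct.tmul_add, map_add]; exact Submodule.add_mem _ hx hy
    exact h3 _ h2
  have hNoeth : IsNoetherianRing SP := IsLocalization.isNoetherianRing 𝔓.primeCompl SP inferInstance
  have htop : (⊤ : Submodule SP K.Cotangent) = ⊥ := by
    refine Submodule.eq_bot_of_le_smul_of_le_jacobson_bot 𝔪 ⊤ ?_ ?_ ?_
    · have : Module.Finite SP K := Module.Finite.of_fg (IsNoetherian.noetherian K)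
      have : Module.Finite SP K.Cotangent :=
        Module.Finite.of_surjective K.toCotangent K.toCotangent_surjective
      exact Module.Finite.fg_top
    · intro y _
      obtain ⟨x, rfl⟩ := K.toCotangent_surjective y
      exact hcot x
    · rw [IsLocalRing.jacobson_eq_maximalIdeal ⊥ bot_ne_top]
  have hK2 : K ≤ K • K := by
    intro x hx
    have h0 : K.toCotangent ⟨x, hx⟩ = 0 := by
      have : K.toCotangent ⟨x, hx⟩ ∈ (⊤ : Submodule SP K.Cotangent) := trivial
      rw [htop] at this
      exact this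
    rw [Ideal.toCotangent_eq_zero, pow_two] at h0
    exact h0
  have hKbot : K = ⊥ := by
    refine Submodule.eq_bot_of_le_smul_of_le_jacobson_bot K K (IsNoetherian.noetherian K) hK2 ?_
    rw [IsLocalRing.jacobson_eq_maximalIdeal ⊥ bot_ne_top]
    exact fun x hx => (hKZ hx).1
  obtain ⟨a, ha, hane⟩ := hne
  apply hane
  have : algebraMap S SP a ∈ K := by rw [hKmap]; exact Ideal.mem_map_of_mem _ ha
  rw [hKbot] at this
  exact this

end

end Groth.Agent.Lib.Helper95.DetSm
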