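import Mathlib
import Groth.Prelude.Def_CAlgX
import Groth.Agent.Lib.Helper95.DetSmA
import Groth.Agent.Lib.Helper95.DetSmB
import Groth.Agent.Lib.Helper95.DetSmC

set_option autoImplicit false
universe u

namespace Groth.Agent.Lib.Helper95.DetSm
open MvPolynomial

section
variable (k : Type u) [Field k] (n m r : ℕ)

theorem exists_minor_ne_zero (hr : r ≤ min n m) :
    ∃ (f : Fin r → Fin n) (g : Fin r → Fin m), dl k f g ≠ 0 := by
  have hn : r ≤ n := le_trans hr (min_le_left _ _)
  have hm : r ≤ m := le_trans hr (min_le_right _ _)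
  refine ⟨Fin.castLE hn, Fin.castLE hm, fun h0 => ?_⟩
  let ev : S k n m →+* k := MvPolynomial.eval (fun p => if (p.1 : ℕ) = (p.2 : ℕ) then 1 else 0)
  have h1 := congrArg ev h0
  rw [map_zero] at h1
  unfold dl at h1
  rw [RingHom.map_det] at h1
  have h2 : ev.mapMatrix ((Xm k n m).submatrix (Fin.castLE hn) (Fin.castLE hm)) = 1 := by
    ext a b
    simp [ev, Xm, Matrix.one_apply, Fin.ext_iff]
  rw [h2, Matrix.det_one] at h1
  exact one_ne_zero h1

end

section
variable (k : Type u) [Field k] {n m r : ℕ}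

local notation "I" => CAlgX.minorIdeal (Xm k n m) (r + 1)

theorem smooth_dir (P : PrimeSpectrum (S k n m ⧸ CAlgX.minorIdeal (Xm k n m) (r + 1)))
    (h : ¬ (CAlgX.minorIdeal (Xm k n m) r).map
      (Ideal.Quotient.mk (CAlgX.minorIdeal (Xm k n m) (r + 1))) ≤ P.asIdeal) :
    P ∈ Algebra.smoothLocus k (S k n m ⧸ CAlgX.minorIdeal (Xm k n m) (r + 1)) := by
  have hex : ∃ (f : Fin r → Fin n) (g : Fin r → Fin m),
      Ideal.Quotient.mk I (dl k f g) ∉ P.asIdeal := by
    by_contra hcon
    simp only [not_exists, not_not] at hcon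
    apply h
    rw [Ideal.map_le_iff_le_comap]
    unfold CAlgX.minorIdeal
    rw [Ideal.span_le]
    rintro _ ⟨⟨f, g⟩, rfl⟩
    exact hcon f g
  obtain ⟨f, g, hfg⟩ := hex
  have hFG : Ideal.FG I := IsNoetherian.noetherian I
  have : Algebra.FinitePresentation k (S k n m ⧸ I) :=
    Algebra.FinitePresentation.quotient hFG
  have hsub := (Algebra.basicOpen_subset_smoothLocus_iff (R := k)
    (f := Ideal.Quotient.mk I (dl k f g))).mpr (formallySmooth_away k f g)
  exact hsub (show P ∈ PrimeSpectrum.basicOpen (Ideal.Quotient.mk I (dl k f g)) from hfg)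

theorem singular_dir (hr : r < min n m)
    (P : PrimeSpectrum (S k n m ⧸ CAlgX.minorIdeal (Xm k n m) (r + 1)))
    (h : (CAlgX.minorIdeal (Xm k n m) r).map
      (Ideal.Quotient.mk (CAlgX.minorIdeal (Xm k n m) (r + 1))) ≤ P.asIdeal) :
    P ∉ Algebra.smoothLocus k (S k n m ⧸ CAlgX.minorIdeal (Xm k n m) (r + 1)) := by
  have hsurj : Function.Surjective (algebraMap (S k n m) (S k n m ⧸ I)) :=
    Ideal.Quotient.mk_surjective
  have hJ : CAlgX.minorIdeal (Xm k n m) r ≤ P.asIdeal.under (S k n m) := by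
    rw [Ideal.map_le_iff_le_comap] at h
    exact h
  have hkerI : RingHom.ker (algebraMap (S k n m) (S k n m ⧸ I)) = I := Ideal.mk_ker
  refine not_formallySmooth_localization (k := k) hsurj P.asIdeal ?_ ?_
  · intro a ha
    rw [hkerI] at ha
    exact Submodule.smul_mono_left hJ (D_mem (Xm k n m) (KaehlerDifferential.D k (S k n m)) r a ha)
  · obtain ⟨f, g, hfg⟩ := exists_minor_ne_zero k n m (r + 1) hr
    refine ⟨dl k f g, ?_, ?_⟩
    · rw [hkerI]
      exact minor_mem (Xm k n m) f g
    · intro h0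
      apply hfg
      have hinj : Function.Injective (algebraMap (S k n m)
          (Localization.AtPrime (P.asIdeal.under (S k n m)))) :=
        IsLocalization.injective _ (P.asIdeal.under (S k n m)).primeCompl_le_nonZeroDivisors
      exact hinj (h0.trans (map_zero _).symm)

theorem main (hr : r < min n m)
    (P : PrimeSpectrum (S k n m ⧸ CAlgX.minorIdeal (Xm k n m) (r + 1))) :
    P ∈ Algebra.smoothLocus k (S k n m ⧸ CAlgX.minorIdeal (Xm k n m) (r + 1)) ↔
    ¬ (CAlgX.minorIdeal (Xm k n m) r).map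
      (Ideal.Quotient.mk (CAlgX.minorIdeal (Xm k n m) (r + 1))) ≤ P.asIdeal :=
  ⟨fun h1 h2 => singular_dir k hr P h2 h1, smooth_dir k P⟩

end

end Groth.Agent.Lib.Helper95.DetSm
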