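import Mathlib

set_option autoImplicit false
universe u

namespace Groth.Agent.Lib.Helper95.DetSm
open TensorProduct KaehlerDifferential

section
variable {k S B : Type u} [CommRing k] [CommRing S] [CommRing B] [Algebra k S] [Algebra k B]
  [Algebra S B] [IsScalarTower k S B] [Algebra.FormallySmooth k S]

/-- Necessary condition for smoothness at a prime (Jacobian criterion, one direction):
if `B_P` is formally smooth over `k`, then every `a ∈ I = ker (S → B)` whose differential
vanishes at `P` lies in `𝔪 · I S_𝔓`. -/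
theorem mem_mul_ker_of_formallySmooth
    (hsurj : Function.Surjective (algebraMap S B)) (P : Ideal B) [P.IsPrime]
    (hsm : Algebra.FormallySmooth k (Localization.AtPrime P))
    (a : S) (ha : a ∈ RingHom.ker (algebraMap S B))
    (hD : KaehlerDifferential.D k S a ∈ (P.under S) • (⊤ : Submodule S Ω[S⁄k])) :
    algebraMap S (Localization.AtPrime (P.under S)) a ∈
      IsLocalRing.maximalIdeal (Localization.AtPrime (P.under S)) *
        (RingHom.ker (algebraMap S B)).map (algebraMap S (Localization.AtPrime (P.under S))) := by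
  set 𝔓 := P.under S with h𝔓
  set SP := Localization.AtPrime 𝔓 with hSP
  set BP := Localization.AtPrime P with hBP
  let _ : Algebra SP BP := Localization.AtPrime.algebraOfLiesOver 𝔓 P
  have : IsScalarTower k SP BP := inferInstance
  have : Algebra.FormallySmooth S SP := Algebra.FormallySmooth.of_isLocalization 𝔓.primeCompl
  have : Algebra.FormallySmooth k SP := Algebra.FormallySmooth.comp k S SP
  have hf : Function.Surjective (algebraMap SP BP) :=
    RingHom.surjective_localRingHom_of_surjective (algebraMap S B) hsurj P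
  set K := RingHom.ker (algebraMap SP BP) with hK
  have hKmap : K = (RingHom.ker (algebraMap S B)).map (algebraMap S SP) := by
    have hT : Submonoid.map (algebraMap S B) 𝔓.primeCompl = P.primeCompl :=
      Submonoid.map_comap_eq_of_surjective hsurj P.primeCompl
    exact IsLocalization.ker_map (S := SP) BP (algebraMap S B) hT
  rw [← hKmap]
  set 𝔪 := IsLocalRing.maximalIdeal SP with h𝔪
  have hker𝔓 : RingHom.ker (algebraMap S B) ≤ 𝔓 := by
    intro a ha
    rw [h𝔓, Ideal.under_def, Ideal.mem_comap, RingHom.mem_ker.mp ha]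
    exact zero_mem _
  have hmap𝔓 : ∀ p ∈ 𝔓, algebraMap S SP p ∈ 𝔪 := by
    intro p hp
    rw [h𝔪, ← Localization.AtPrime.map_eq_maximalIdeal]
    exact Ideal.mem_map_of_mem _ hp
  have hK𝔪 : K ≤ 𝔪 := by
    rw [hKmap, Ideal.map_le_iff_le_comap]
    exact fun a ha => hmap𝔓 a (hker𝔓 ha)
  have hDmap : ∀ ω ∈ 𝔓 • (⊤ : Submodule S Ω[S⁄k]),
      KaehlerDifferential.map k k S SP ω ∈ 𝔪 • (⊤ : Submodule SP Ω[SP⁄k]) := by
    intro ω hω
    refine Submodule.smul_induction_on hω ?_ ?_
    · intro p hp ω _
      rw [map_smul, algebra_compatible_smul SP p]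
      exact Submodule.smul_mem_smul (hmap𝔓 p hp) trivial
    · intro x y hx hy
      rw [map_add]; exact Submodule.add_mem _ hx hy
  have hxK : algebraMap S SP a ∈ K := by rw [hKmap]; exact Ideal.mem_map_of_mem _ ha
  have hDx : KaehlerDifferential.D k SP (algebraMap S SP a) ∈ 𝔪 • (⊤ : Submodule SP Ω[SP⁄k]) := by
    rw [← KaehlerDifferential.map_D k k S SP]
    exact hDmap _ hD
  obtain ⟨l, hl⟩ :=
    (Algebra.FormallySmooth.iff_split_injection (R := k) (P := SP) (A := BP) hf).mp hsm
  have hcot : K.toCotangent ⟨algebraMap S SP a, hxK⟩ ∈ 𝔪 • (⊤ : Submodule SP K.Cotangent) := by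
    have h1 : K.toCotangent ⟨algebraMap S SP a, hxK⟩ =
        l ((1 : BP) ⊗ₜ[SP] KaehlerDifferential.D k SP (algebraMap S SP a)) := by
      have h0 := KaehlerDifferential.kerCotangentToTensor_toCotangent k SP BP
        ⟨algebraMap S SP a, hxK⟩
      rw [← h0]
      exact (LinearMap.congr_fun hl _).symm
    rw [h1]
    have h3 : ∀ ω ∈ 𝔪 • (⊤ : Submodule SP Ω[SP⁄k]),
        l ((1 : BP) ⊗ₜ[SP] ω) ∈ 𝔪 • (⊤ : Submodule SP K.Cotangent) := by
      intro ω hω
      refine Submodule.smul_induction_on hω ?_ ?_
      · intro p hp ω _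
        rw [TensorProduct.tmul_smul, map_smul]
        exact Submodule.smul_mem_smul hp trivial
      · intro x y hx hy
        rw [TensorProduct.tmul_add, map_add]; exact Submodule.add_mem _ hx hy
    exact h3 _ hDx
  -- pull back along the surjection `toCotangent`
  have hval : ∀ y ∈ 𝔪 • (⊤ : Submodule SP K), (y : SP) ∈ 𝔪 * K := by
    intro y hy
    refine Submodule.smul_induction_on hy ?_ ?_
    · intro m hm y _
      exact Ideal.mul_mem_mul hm y.2
    · intro x y hx hy
      exact Ideal.add_mem _ hx hy
  have htop : (⊤ : Submodule SP K.Cotangent) = Submodule.map K.toCotangent ⊤ := by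
    rw [Submodule.map_top, LinearMap.range_eq_top.mpr K.toCotangent_surjective]
  rw [htop, ← Submodule.map_smul''] at hcot
  obtain ⟨y, hy, hyx⟩ := hcot
  have h2 : ((y : SP) - algebraMap S SP a) ∈ K ^ 2 := (Ideal.toCotangent_eq K).mp hyx
  have h3 : algebraMap S SP a = (y : SP) - ((y : SP) - algebraMap S SP a) := by ring
  rw [h3]
  refine Ideal.sub_mem _ (hval y hy) ?_
  rw [pow_two] at h2
  exact Ideal.mul_mono_left hK𝔪 h2

end

end Groth.Agent.Lib.Helper95.DetSm
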