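import Mathlib
import Groth.Agent.H76.InjFlat
import Groth.Agent.H76.FlatLocusFP
import Groth.Agent.Lib.Helper73.BE3
import Groth.Agent.Lib.Helper74.FlatKer
import Groth.Agent.Lib.Helper31.ComplexFlat
import Groth.Prelude.Def_EGA4b

/-!
# Fibrewise exactness of a finite free complex is an open condition (helper95)

Tools for Stacks 00RG-type statements: for `R → S` flat of finite type with `R` Noetherian and a
complex of finite free `S`-modules given by matrices, the locus of primes `q` of `S` where the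
complex is exact on the fibre local ring `S_q / pS_q` is open.

* `exact_and_flat_of_lift`, `exists_sub_mem_of_exact_of_flat`, `flat_quot_range_of_exact`:
  module-level steps (Stacks 00MK and its converse), element-level.
* `ker_le_range_map_mk_iff`: matrix-level translation of exactness modulo an ideal.
* `isOpen_ker_le_range`: exactness at the local rings is an open condition (Noetherian).
* `cokerMap`, `flat_localizedModule_coker_iff`: the cokernel of a matrix localizes.
* `isOpen_fibEx`: the main openness statement (used for S9184).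
-/

set_option autoImplicit false
set_option linter.style.haveILetI false
universe u

open Matrix TensorProduct IsLocalRing

namespace Groth.Agent.Lib.Helper95.FibExact

open Groth.Agent.Lib.Helper31.ComplexFlat Groth.Agent.Lib.Helper73.BE

section StepUp

variable {R S : Type*} [CommRing R] [CommRing S] [IsLocalRing R] [IsLocalRing S]
  [IsNoetherianRing S] [Algebra R S] [IsLocalHom (algebraMap R S)]
  {X2 X1 X0 : Type*} [AddCommGroup X2] [AddCommGroup X1] [AddCommGroup X0]
  [Module S X2] [Module S X1] [Module S X0] [Module R X1] [Module R X0]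
  [IsScalarTower R S X1] [IsScalarTower R S X0] [Module.Finite S X1] [Module.Flat R X0]

/-- One step of Stacks 00MK, element-level hypothesis (variant of helper31's
`exact_and_flat_of_lTensor_exact`). -/
theorem exact_and_flat_of_lift (d1 : X2 →ₗ[S] X1) (d0 : X1 →ₗ[S] X0)
    (h0 : d0 ∘ₗ d1 = 0)
    (H : ∀ x : X1, d0 x ∈ (maximalIdeal R).map (algebraMap R S) • (⊤ : Submodule S X0) →
      ∃ y : X2, x - d1 y ∈ (maximalIdeal R).map (algebraMap R S) • (⊤ : Submodule S X1)) :
    Function.Exact d1 d0 ∧ Module.Flat R (X0 ⧸ LinearMap.range d0) := by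
  have hle : LinearMap.range d1 ≤ LinearMap.ker d0 := LinearMap.range_le_ker_iff.2 h0
  let u : (X1 ⧸ LinearMap.range d1) →ₗ[S] X0 := (LinearMap.range d1).liftQ d0 hle
  let uR : (X1 ⧸ LinearMap.range d1) →ₗ[R] X0 := u.restrictScalars R
  have hk : Function.Injective (LinearMap.lTensor (ResidueField R) uR) := by
    refine lTensor_quot_injective_of (maximalIdeal R) uR ?_
    intro q hq
    obtain ⟨x, rfl⟩ := Submodule.Quotient.mk_surjective _ q
    have hq' : d0 x ∈ (maximalIdeal R) • (⊤ : Submodule R X0) := hq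
    rw [← mem_map_smul_top_iff (S := S)] at hq'
    obtain ⟨y, hy⟩ := H x hq'
    rw [mem_map_smul_top_iff] at hy
    have hmk : (Submodule.Quotient.mk x : X1 ⧸ LinearMap.range d1) =
        Submodule.Quotient.mk (x - d1 y) := by
      rw [Submodule.Quotient.mk_sub, (Submodule.Quotient.mk_eq_zero _).2 (LinearMap.mem_range_self d1 y),
        sub_zero]
    rw [hmk]
    have hmap : ((maximalIdeal R) • (⊤ : Submodule R X1)).map
        ((LinearMap.range d1).mkQ.restrictScalars R) ≤
        (maximalIdeal R) • (⊤ : Submodule R (X1 ⧸ LinearMap.range d1)) := by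
      rw [Submodule.map_smul'']
      exact Submodule.smul_mono le_rfl le_top
    exact hmap (Submodule.mem_map_of_mem hy)
  obtain ⟨hinj, hfl⟩ := Groth.Agent.H76.InjFlat.injective_and_flat (S := S) uR hk
  constructor
  · intro x
    constructor
    · intro hx
      have h1 : u (Submodule.Quotient.mk x) = 0 := hx
      have h2 : (Submodule.Quotient.mk x : X1 ⧸ LinearMap.range d1) = 0 :=
        hinj (h1.trans (map_zero uR).symm)
      exact (Submodule.Quotient.mk_eq_zero _).1 h2
    · rintro ⟨y, rfl⟩
      exact LinearMap.congr_fun h0 y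
  · have hr : LinearMap.range uR = (LinearMap.range d0).restrictScalars R := by
      ext z
      constructor
      · rintro ⟨q, rfl⟩
        obtain ⟨x, rfl⟩ := Submodule.Quotient.mk_surjective _ q
        exact ⟨x, rfl⟩
      · rintro ⟨x, rfl⟩
        exact ⟨Submodule.Quotient.mk x, rfl⟩
    rw [hr] at hfl
    exact Module.Flat.of_linearEquiv
      (Submodule.Quotient.restrictScalarsEquiv R (LinearMap.range d0)).symm

end StepUp

section StepDown

variable {R T : Type*} [CommRing R] [CommRing T] [Algebra R T]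
  {X2 X1 X0 : Type*} [AddCommGroup X2] [AddCommGroup X1] [AddCommGroup X0]
  [Module T X2] [Module T X1] [Module T X0] [Module R X1] [Module R X0]
  [IsScalarTower R T X1] [IsScalarTower R T X0]

/-- Converse step: an exact sequence with flat cokernel stays exact modulo any ideal of the
base (element-level form). -/
theorem exists_sub_mem_of_exact_of_flat (d1 : X2 →ₗ[T] X1) (d0 : X1 →ₗ[T] X0)
    (hex : Function.Exact d1 d0) [Module.Flat R (X0 ⧸ LinearMap.range d0)] (I : Ideal R) (x : X1)
    (hx : d0 x ∈ I.map (algebraMap R T) • (⊤ : Submodule T X0)) :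
    ∃ y : X2, x - d1 y ∈ I.map (algebraMap R T) • (⊤ : Submodule T X1) := by
  have hle : LinearMap.range d1 ≤ LinearMap.ker d0 := by
    rw [LinearMap.exact_iff.mp hex]
  let u : (X1 ⧸ LinearMap.range d1) →ₗ[T] X0 := (LinearMap.range d1).liftQ d0 hle
  let uR : (X1 ⧸ LinearMap.range d1) →ₗ[R] X0 := u.restrictScalars R
  have hu : Function.Injective uR := by
    rw [injective_iff_map_eq_zero]
    intro q hq
    obtain ⟨z, rfl⟩ := Submodule.Quotient.mk_surjective _ q
    have h1 : d0 z = 0 := hq
    have h2 : z ∈ LinearMap.range d1 := by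
      rw [← LinearMap.exact_iff.mp hex]
      exact h1
    exact (Submodule.Quotient.mk_eq_zero _).2 h2
  let π : X0 →ₗ[R] X0 ⧸ LinearMap.range d0 := (LinearMap.range d0).mkQ.restrictScalars R
  have hπ : Function.Surjective π := Submodule.mkQ_surjective _
  have hexact : Function.Exact uR π := by
    intro z
    constructor
    · intro hz
      have hz' : z ∈ LinearMap.range d0 := (Submodule.Quotient.mk_eq_zero _).1 hz
      obtain ⟨w, rfl⟩ := hz'
      exact ⟨Submodule.Quotient.mk w, rfl⟩
    · rintro ⟨q, rfl⟩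
      obtain ⟨w, rfl⟩ := Submodule.Quotient.mk_surjective _ q
      exact (Submodule.Quotient.mk_eq_zero _).2 ⟨w, rfl⟩
  have hinj := LinearMap.lTensor_injective_of_exact_of_flat π hπ uR hu hexact (R ⧸ I)
  have h1 : (1 : R ⧸ I) ⊗ₜ[R] (Submodule.Quotient.mk x : X1 ⧸ LinearMap.range d1) = 0 := by
    apply hinj
    have e1 : (LinearMap.lTensor (R ⧸ I) uR)
        ((1 : R ⧸ I) ⊗ₜ[R] (Submodule.Quotient.mk x : X1 ⧸ LinearMap.range d1)) =
        (1 : R ⧸ I) ⊗ₜ[R] (d0 x) := LinearMap.lTensor_tmul _ _ _ _
    rw [e1, (LinearMap.lTensor (R ⧸ I) uR).map_zero, one_tmul_eq_zero_iff]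
    exact (mem_map_smul_top_iff (S := T) I (d0 x)).mp hx
  rw [one_tmul_eq_zero_iff] at h1
  have hmap : ((I • (⊤ : Submodule R X1)).map ((LinearMap.range d1).mkQ.restrictScalars R)) =
      I • (⊤ : Submodule R (X1 ⧸ LinearMap.range d1)) := by
    rw [Submodule.map_smul'', Submodule.map_top]
    congr 1
    exact LinearMap.range_eq_top.mpr (Submodule.mkQ_surjective _)
  rw [← hmap] at h1
  obtain ⟨x'', hx'', hx''eq⟩ := h1
  have h2 : x'' - x ∈ LinearMap.range d1 := (Submodule.Quotient.eq _).mp hx''eq
  obtain ⟨y, hy⟩ := h2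
  refine ⟨-y, ?_⟩
  rw [mem_map_smul_top_iff (S := T)]
  have : x - d1 (-y) = x'' := by rw [map_neg, hy]; abel
  rw [this]
  exact hx''

/-- The next cokernel in an exact complex of flat modules with flat cokernel is flat. -/
theorem flat_quot_range_of_exact {R T : Type u} [CommRing R] [CommRing T] [Algebra R T]
    {X2 X1 X0 : Type u} [AddCommGroup X2] [AddCommGroup X1] [AddCommGroup X0]
    [Module T X2] [Module T X1] [Module T X0] [Module R X1] [Module R X0]
    [IsScalarTower R T X1] [IsScalarTower R T X0]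
    (d1 : X2 →ₗ[T] X1) (d0 : X1 →ₗ[T] X0)
    (hex : Function.Exact d1 d0) [Module.Flat R X0] [Module.Flat R (X0 ⧸ LinearMap.range d0)] :
    Module.Flat R (X1 ⧸ LinearMap.range d1) := by
  have hle : LinearMap.range d1 ≤ LinearMap.ker d0 := by
    rw [LinearMap.exact_iff.mp hex]
  let u : (X1 ⧸ LinearMap.range d1) →ₗ[T] X0 := (LinearMap.range d1).liftQ d0 hle
  let uR : (X1 ⧸ LinearMap.range d1) →ₗ[R] X0 := u.restrictScalars R
  have hu : Function.Injective uR := by
    rw [injective_iff_map_eq_zero]
    intro q hq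
    obtain ⟨z, rfl⟩ := Submodule.Quotient.mk_surjective _ q
    have h1 : d0 z = 0 := hq
    have h2 : z ∈ LinearMap.range d1 := by
      rw [← LinearMap.exact_iff.mp hex]
      exact h1
    exact (Submodule.Quotient.mk_eq_zero _).2 h2
  let π : X0 →ₗ[R] X0 ⧸ LinearMap.range d0 := (LinearMap.range d0).mkQ.restrictScalars R
  have hπ : Function.Surjective π := Submodule.mkQ_surjective _
  have hexact : Function.Exact uR π := by
    intro z
    constructor
    · intro hz
      have hz' : z ∈ LinearMap.range d0 := (Submodule.Quotient.mk_eq_zero _).1 hz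
      obtain ⟨w, rfl⟩ := hz'
      exact ⟨Submodule.Quotient.mk w, rfl⟩
    · rintro ⟨q, rfl⟩
      obtain ⟨w, rfl⟩ := Submodule.Quotient.mk_surjective _ q
      exact (Submodule.Quotient.mk_eq_zero _).2 ⟨w, rfl⟩
  exact Groth.Agent.Lib.Helper74.flat_of_exact_of_flat_of_flat uR π hu hπ hexact

end StepDown

section Mat

variable {T : Type*} [CommRing T]

theorem mk_comp_eq_zero_iff (J : Ideal T) {b : ℕ} (v : Fin b → T) :
    (Ideal.Quotient.mk J) ∘ v = 0 ↔ v ∈ J • (⊤ : Submodule T (Fin b → T)) := by
  rw [Groth.Agent.H76.FlatKernel.mem_smul_top_pi]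
  constructor
  · intro h j
    have := congrFun h j
    simpa [Ideal.Quotient.eq_zero_iff_mem] using this
  · intro h
    funext j
    simpa [Ideal.Quotient.eq_zero_iff_mem] using h j

theorem exists_lift_vec (J : Ideal T) {c : ℕ} (w' : Fin c → T ⧸ J) :
    ∃ w : Fin c → T, Ideal.Quotient.mk J ∘ w = w' := by
  choose w hw using fun j => Ideal.Quotient.mk_surjective (w' j)
  exact ⟨w, funext hw⟩

theorem mk_comp_sub (J : Ideal T) {b : ℕ} (v w : Fin b → T) :
    (Ideal.Quotient.mk J) ∘ (v - w) = (Ideal.Quotient.mk J) ∘ v - (Ideal.Quotient.mk J) ∘ w := by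
  funext j
  simp

/-- Translation between exactness modulo `J` and the lifting property. -/
theorem ker_le_range_map_mk_iff (J : Ideal T) {a b c : ℕ} (B : Matrix (Fin a) (Fin b) T)
    (C : Matrix (Fin b) (Fin c) T) :
    LinearMap.ker (B.map (Ideal.Quotient.mk J)).mulVecLin ≤
        LinearMap.range (C.map (Ideal.Quotient.mk J)).mulVecLin ↔
      ∀ x : Fin b → T, B.mulVecLin x ∈ J • (⊤ : Submodule T (Fin a → T)) →
        ∃ y : Fin c → T, x - C.mulVecLin y ∈ J • (⊤ : Submodule T (Fin b → T)) := by
  constructor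
  · intro h x hx
    rw [Matrix.mulVecLin_apply, ← mk_comp_eq_zero_iff, ← map_mulVec_comp] at hx
    have hx' : (Ideal.Quotient.mk J) ∘ x ∈ LinearMap.ker (B.map (Ideal.Quotient.mk J)).mulVecLin := by
      rw [LinearMap.mem_ker, Matrix.mulVecLin_apply]
      exact hx
    obtain ⟨y', hy'⟩ := h hx'
    obtain ⟨y, rfl⟩ := exists_lift_vec J y'
    refine ⟨y, ?_⟩
    rw [← mk_comp_eq_zero_iff, mk_comp_sub, Matrix.mulVecLin_apply, ← map_mulVec_comp, sub_eq_zero]
    rw [Matrix.mulVecLin_apply] at hy'
    exact hy'.symm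
  · intro h x' hx'
    obtain ⟨x, rfl⟩ := exists_lift_vec J x'
    rw [LinearMap.mem_ker, Matrix.mulVecLin_apply, map_mulVec_comp, mk_comp_eq_zero_iff] at hx'
    obtain ⟨y, hy⟩ := h x hx'
    rw [← mk_comp_eq_zero_iff, mk_comp_sub, Matrix.mulVecLin_apply, ← map_mulVec_comp, sub_eq_zero] at hy
    exact ⟨(Ideal.Quotient.mk J) ∘ y, by rw [Matrix.mulVecLin_apply]; exact hy.symm⟩

theorem range_mulVecLin_fin_zero {b : ℕ} (C : Matrix (Fin b) (Fin 0) T) :
    LinearMap.range C.mulVecLin = ⊥ := by
  rw [eq_bot_iff]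
  rintro _ ⟨y, rfl⟩
  rw [Submodule.mem_bot, Matrix.mulVecLin_apply]
  funext i
  simp [Matrix.mulVec, dotProduct]

theorem injective_iff_ker_le_range_zero {a b : ℕ} (B : Matrix (Fin a) (Fin b) T) :
    Function.Injective B.mulVecLin ↔
      LinearMap.ker B.mulVecLin ≤ LinearMap.range (0 : Matrix (Fin b) (Fin 0) T).mulVecLin := by
  rw [range_mulVecLin_fin_zero, le_bot_iff, LinearMap.ker_eq_bot]

theorem range_le_ker_of_mul_eq_zero' {a b c : ℕ} (B : Matrix (Fin a) (Fin b) T)
    (C : Matrix (Fin b) (Fin c) T) (h : B * C = 0) :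
    LinearMap.range C.mulVecLin ≤ LinearMap.ker B.mulVecLin := by
  rintro _ ⟨y, rfl⟩
  rw [LinearMap.mem_ker, Matrix.mulVecLin_apply, Matrix.mulVecLin_apply, Matrix.mulVec_mulVec, h,
    Matrix.zero_mulVec]

theorem map_mul_eq_zero {T' : Type*} [CommRing T'] (f : T →+* T') {a b c : ℕ}
    (B : Matrix (Fin a) (Fin b) T) (C : Matrix (Fin b) (Fin c) T) (h : B * C = 0) :
    B.map f * C.map f = 0 := by
  rw [← Matrix.map_mul, h]
  ext i j
  simp

end Mat

section Open

variable {S : Type u} [CommRing S] [IsNoetherianRing S]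

theorem comp_smul_vec {T : Type*} [CommRing T] (f : S →+* T) {b : ℕ} (s : S) (v : Fin b → S) :
    f ∘ (s • v) = f s • (f ∘ v) := by
  funext i
  simp

/-- Exactness of a pair of matrices at the local ring of a point is an open condition. -/
theorem isOpen_ker_le_range {a b c : ℕ} (B : Matrix (Fin a) (Fin b) S)
    (C : Matrix (Fin b) (Fin c) S) :
    IsOpen {q : PrimeSpectrum S |
      LinearMap.ker (B.map (algebraMap S (Localization.AtPrime q.asIdeal))).mulVecLin ≤
        LinearMap.range (C.map (algebraMap S (Localization.AtPrime q.asIdeal))).mulVecLin} := by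
  rw [isOpen_iff_forall_mem_open]
  intro q hq
  obtain ⟨r, v, hv⟩ := Submodule.fg_iff_exists_fin_generating_family.mp
    (IsNoetherian.noetherian (LinearMap.ker B.mulVecLin))
  have hs : ∀ k : Fin r, ∃ s ∈ q.asIdeal.primeCompl, s • v k ∈ LinearMap.range C.mulVecLin := by
    intro k
    have hk : v k ∈ LinearMap.ker B.mulVecLin := by
      rw [← hv]
      exact Submodule.subset_span ⟨k, rfl⟩
    exact exists_smul_mem_range q.asIdeal.primeCompl (Localization.AtPrime q.asIdeal) B C hq (v k) hk
  choose s hsq hsv using hs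
  refine ⟨PrimeSpectrum.basicOpen (∏ k, s k), ?_, (PrimeSpectrum.basicOpen (∏ k, s k)).isOpen, ?_⟩
  · intro q' hq'
    have hq'' : (∏ k, s k) ∉ q'.asIdeal := hq'
    have hsk : ∀ k, s k ∈ q'.asIdeal.primeCompl := by
      intro k hk
      apply hq''
      obtain ⟨c, hc⟩ := Finset.dvd_prod_of_mem s (Finset.mem_univ k)
      rw [hc]
      exact Ideal.mul_mem_right _ _ hk
    let K : Matrix (Fin b) (Fin r) S := Matrix.of fun j k => v k j
    have hKcol : K.col = v := by
      funext k j
      rfl
    have hK : LinearMap.ker B.mulVecLin = LinearMap.range K.mulVecLin := by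
      rw [Matrix.range_mulVecLin, hKcol, hv]
    have h1 := ker_eq_range_map q'.asIdeal.primeCompl (Localization.AtPrime q'.asIdeal) B K hK
    show LinearMap.ker (B.map (algebraMap S (Localization.AtPrime q'.asIdeal))).mulVecLin ≤
        LinearMap.range (C.map (algebraMap S (Localization.AtPrime q'.asIdeal))).mulVecLin
    rw [h1, Matrix.range_mulVecLin, Submodule.span_le]
    rintro _ ⟨k, rfl⟩
    set f := algebraMap S (Localization.AtPrime q'.asIdeal) with hf
    have hcol : (K.map f).col k = f ∘ v k := by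
      funext j
      rfl
    rw [hcol]
    obtain ⟨w, hw⟩ := hsv k
    rw [Matrix.mulVecLin_apply] at hw
    obtain ⟨un, hun⟩ := IsLocalization.map_units (Localization.AtPrime q'.asIdeal)
      (⟨s k, hsk k⟩ : q'.asIdeal.primeCompl)
    refine ⟨(↑un⁻¹ : Localization.AtPrime q'.asIdeal) • (f ∘ w), ?_⟩
    rw [Matrix.mulVecLin_apply, Matrix.mulVec_smul, map_mulVec_comp, hw, comp_smul_vec, smul_smul]
    have : (↑un⁻¹ : Localization.AtPrime q'.asIdeal) * f (s k) = 1 := by
      rw [hf, ← hun, Units.inv_mul]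
    rw [this, one_smul]
  · show (∏ k, s k) ∉ q.asIdeal
    intro h
    obtain ⟨k, -, hk⟩ := (Ideal.IsPrime.prod_mem_iff).mp h
    exact hsq k hk

end Open

section CokerLoc

variable {S : Type u} [CommRing S] (W : Submonoid S) (T : Type u) [CommRing T] [Algebra S T]
  [IsLocalization W T]

/-- The comparison map from the cokernel of a matrix to the cokernel of its localization. -/
noncomputable def cokerMap {a b : ℕ} (B : Matrix (Fin a) (Fin b) S) :
    ((Fin a → S) ⧸ LinearMap.range B.mulVecLin) →ₗ[S]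
      ((Fin a → T) ⧸ LinearMap.range (B.map (algebraMap S T)).mulVecLin) :=
  (Submodule.Quotient.restrictScalarsEquiv S
      (LinearMap.range (B.map (algebraMap S T)).mulVecLin)).toLinearMap ∘ₗ
    Submodule.mapQ _ ((LinearMap.range (B.map (algebraMap S T)).mulVecLin).restrictScalars S)
      ((Algebra.linearMap S T).compLeft (Fin a)) (by
        rintro _ ⟨y, rfl⟩
        exact ⟨algebraMap S T ∘ y, map_mulVec_comp (algebraMap S T) B y⟩)

theorem cokerMap_mk {a b : ℕ} (B : Matrix (Fin a) (Fin b) S) (x : Fin a → S) :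
    cokerMap T B (Submodule.Quotient.mk x) = Submodule.Quotient.mk (algebraMap S T ∘ x) := rfl

instance isLocalizedModule_cokerMap {a b : ℕ} (B : Matrix (Fin a) (Fin b) S) :
    IsLocalizedModule W (cokerMap T B) where
  map_units x := by
    rw [Module.End.isUnit_iff]
    obtain ⟨un, hun⟩ := IsLocalization.map_units T x
    have key : ∀ m : (Fin a → T) ⧸ LinearMap.range (B.map (algebraMap S T)).mulVecLin,
        (algebraMap S (Module.End S _) x) m = (un : T) • m := fun m => by
      rw [Module.algebraMap_end_apply, hun, algebraMap_smul]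
    constructor
    · intro m n h
      rw [key, key] at h
      have := congrArg (fun z => (↑un⁻¹ : T) • z) h
      simpa [smul_smul] using this
    · intro m
      exact ⟨(↑un⁻¹ : T) • m, by rw [key, smul_smul, Units.mul_inv, one_smul]⟩
  surj y := by
    obtain ⟨y', rfl⟩ := Submodule.Quotient.mk_surjective _ y
    obtain ⟨s, hs, w, hw⟩ := exists_common_denom W T y'
    refine ⟨⟨Submodule.Quotient.mk w, ⟨s, hs⟩⟩, ?_⟩
    show (⟨s, hs⟩ : W) • Submodule.Quotient.mk y' = cokerMap T B (Submodule.Quotient.mk w)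
    rw [cokerMap_mk, ← hw, Submodule.Quotient.mk_smul, Submonoid.smul_def]
    exact (algebraMap_smul T s _).symm
  exists_of_eq {m n} h := by
    obtain ⟨m, rfl⟩ := Submodule.Quotient.mk_surjective _ m
    obtain ⟨n, rfl⟩ := Submodule.Quotient.mk_surjective _ n
    rw [cokerMap_mk, cokerMap_mk, Submodule.Quotient.eq] at h
    obtain ⟨w', hw'⟩ := h
    rw [Matrix.mulVecLin_apply] at hw'
    obtain ⟨s, hs, w, hw⟩ := exists_common_denom W T w'
    have h2 : algebraMap S T ∘ (s • (m - n) - B.mulVec w) = 0 := by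
      have h3 : algebraMap S T ∘ (s • (m - n) - B.mulVec w) =
          algebraMap S T s • (algebraMap S T ∘ m - algebraMap S T ∘ n) -
            algebraMap S T ∘ (B.mulVec w) := by
        funext i
        simp [Algebra.smul_def]
      rw [h3, ← map_mulVec_comp, ← hw, Matrix.mulVec_smul, hw', sub_self]
    obtain ⟨t, ht, htu⟩ := exists_mul_eq_zero W T _ h2
    refine ⟨⟨t * s, W.mul_mem ht hs⟩, ?_⟩
    show (t * s) • (Submodule.Quotient.mk m : (Fin a → S) ⧸ LinearMap.range B.mulVecLin) =
      (t * s) • Submodule.Quotient.mk n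
    rw [← Submodule.Quotient.mk_smul, ← Submodule.Quotient.mk_smul, Submodule.Quotient.eq]
    rw [smul_sub, sub_eq_zero] at htu
    refine ⟨t • w, ?_⟩
    rw [Matrix.mulVecLin_apply, Matrix.mulVec_smul, ← htu, smul_smul, smul_sub]

variable {R : Type u} [CommRing R] [Algebra R S] [Algebra R T] [IsScalarTower R S T]

/-- Flatness over a base ring of the localized cokernel, in the two presentations. -/
theorem flat_localizedModule_coker_iff {a b : ℕ} (B : Matrix (Fin a) (Fin b) S) :
    Module.Flat R (LocalizedModule W ((Fin a → S) ⧸ LinearMap.range B.mulVecLin)) ↔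
      Module.Flat R ((Fin a → T) ⧸ LinearMap.range (B.map (algebraMap S T)).mulVecLin) := by
  let e := (IsLocalizedModule.iso W (cokerMap T B)).restrictScalars R
  exact ⟨fun _ => Module.Flat.of_linearEquiv e.symm, fun _ => Module.Flat.of_linearEquiv e⟩

end CokerLoc

section MatLocal

theorem flat_pi_fin {A : Type*} [CommRing A] (M : Type*) [AddCommGroup M] [Module A M]
    [Module.Flat A M] (a : ℕ) : Module.Flat A (Fin a → M) :=
  Module.Flat.of_linearEquiv
    (DFinsupp.linearEquivFunOnFintype (R := A) (M := fun _ : Fin a => M)).symm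

theorem mulVecLin_comp_eq_zero {T : Type*} [CommRing T] {a b c : ℕ} (B₀ : Matrix (Fin a) (Fin b) T)
    (C₀ : Matrix (Fin b) (Fin c) T) (h0 : B₀ * C₀ = 0) : B₀.mulVecLin ∘ₗ C₀.mulVecLin = 0 := by
  rw [← Matrix.mulVecLin_mul, h0]
  ext
  simp

/-- Matrix form of Stacks 00MK (one step). -/
theorem ker_le_range_and_flat_of_mod {A B : Type u} [CommRing A] [CommRing B] [IsLocalRing A]
    [IsLocalRing B] [IsNoetherianRing B] [Algebra A B] [IsLocalHom (algebraMap A B)]
    [Module.Flat A B] {a b c : ℕ} (B₀ : Matrix (Fin a) (Fin b) B) (C₀ : Matrix (Fin b) (Fin c) B)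
    (h0 : B₀ * C₀ = 0) (J : Ideal B) (hJ : J = (maximalIdeal A).map (algebraMap A B))
    (h : LinearMap.ker (B₀.map (Ideal.Quotient.mk J)).mulVecLin ≤
      LinearMap.range (C₀.map (Ideal.Quotient.mk J)).mulVecLin) :
    LinearMap.ker B₀.mulVecLin ≤ LinearMap.range C₀.mulVecLin ∧
      Module.Flat A ((Fin a → B) ⧸ LinearMap.range B₀.mulVecLin) := by
  subst hJ
  have H := (ker_le_range_map_mk_iff _ B₀ C₀).mp h
  haveI := flat_pi_fin (A := A) B a
  obtain ⟨hex, hfl⟩ := exact_and_flat_of_lift (R := A) (S := B) C₀.mulVecLin B₀.mulVecLin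
    (mulVecLin_comp_eq_zero B₀ C₀ h0) H
  exact ⟨(LinearMap.exact_iff.mp hex).le, hfl⟩

/-- Matrix form of the converse step. -/
theorem ker_le_range_mod_of_flat {R T : Type u} [CommRing R] [CommRing T] [Algebra R T] {a b c : ℕ}
    (B₀ : Matrix (Fin a) (Fin b) T) (C₀ : Matrix (Fin b) (Fin c) T) (h0 : B₀ * C₀ = 0)
    (hle : LinearMap.ker B₀.mulVecLin ≤ LinearMap.range C₀.mulVecLin)
    [Module.Flat R ((Fin a → T) ⧸ LinearMap.range B₀.mulVecLin)] (I : Ideal R) :
    LinearMap.ker (B₀.map (Ideal.Quotient.mk (I.map (algebraMap R T)))).mulVecLin ≤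
      LinearMap.range (C₀.map (Ideal.Quotient.mk (I.map (algebraMap R T)))).mulVecLin := by
  rw [ker_le_range_map_mk_iff]
  intro x hx
  have hex : Function.Exact C₀.mulVecLin B₀.mulVecLin :=
    LinearMap.exact_iff.mpr (le_antisymm hle (range_le_ker_of_mul_eq_zero' B₀ C₀ h0))
  exact exists_sub_mem_of_exact_of_flat (R := R) C₀.mulVecLin B₀.mulVecLin hex I x hx

theorem flat_coker_next {R T : Type u} [CommRing R] [CommRing T] [Algebra R T] [Module.Flat R T]
    {a b c : ℕ} (B₀ : Matrix (Fin a) (Fin b) T) (C₀ : Matrix (Fin b) (Fin c) T) (h0 : B₀ * C₀ = 0)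
    (hle : LinearMap.ker B₀.mulVecLin ≤ LinearMap.range C₀.mulVecLin)
    [Module.Flat R ((Fin a → T) ⧸ LinearMap.range B₀.mulVecLin)] :
    Module.Flat R ((Fin b → T) ⧸ LinearMap.range C₀.mulVecLin) := by
  haveI := flat_pi_fin (A := R) T a
  have hex : Function.Exact C₀.mulVecLin B₀.mulVecLin :=
    LinearMap.exact_iff.mpr (le_antisymm hle (range_le_ker_of_mul_eq_zero' B₀ C₀ h0))
  exact flat_quot_range_of_exact (R := R) C₀.mulVecLin B₀.mulVecLin hex

end MatLocal

section Main

variable (R S : Type u) [CommRing R] [CommRing S] [Algebra R S]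
  (e : ℕ) (n : ℕ → ℕ) (φ : (i : ℕ) → Matrix (Fin (n i)) (Fin (n (i + 1))) S)

/-- Exactness of the complex over the local ring at `q`, together with flatness over `R` of the
localized cokernel of the last map. -/
def LocEx (q : PrimeSpectrum S) : Prop :=
  (∀ i, i + 2 ≤ e →
    LinearMap.ker ((φ i).map (algebraMap S (Localization.AtPrime q.asIdeal))).mulVecLin ≤
      LinearMap.range ((φ (i + 1)).map (algebraMap S (Localization.AtPrime q.asIdeal))).mulVecLin) ∧
  (1 ≤ e →
    LinearMap.ker ((φ (e - 1)).map (algebraMap S (Localization.AtPrime q.asIdeal))).mulVecLin ≤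
      LinearMap.range (((0 : Matrix (Fin (n (e - 1 + 1))) (Fin 0) S).map
        (algebraMap S (Localization.AtPrime q.asIdeal)))).mulVecLin) ∧
  (1 ≤ e → Module.Flat R (LocalizedModule q.asIdeal.primeCompl
    ((Fin (n 0) → S) ⧸ LinearMap.range (φ 0).mulVecLin)))

theorem isOpen_setOf_imp {X : Type*} [TopologicalSpace X] (p : Prop) (U : Set X) (hU : IsOpen U) :
    IsOpen {x | p → x ∈ U} := by
  by_cases hp : p
  · simpa [hp] using hU
  · simp [hp]

theorem isOpen_locEx [IsNoetherianRing R] [Algebra.FiniteType R S] :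
    IsOpen {q : PrimeSpectrum S | LocEx R S e n φ q} := by
  haveI : IsNoetherianRing S := Algebra.FiniteType.isNoetherianRing R S
  haveI : Algebra.FinitePresentation R S := Algebra.FinitePresentation.of_finiteType.mp inferInstance
  have h1 : IsOpen {q : PrimeSpectrum S | ∀ i, i + 2 ≤ e →
      LinearMap.ker ((φ i).map (algebraMap S (Localization.AtPrime q.asIdeal))).mulVecLin ≤
      LinearMap.range ((φ (i + 1)).map (algebraMap S (Localization.AtPrime q.asIdeal))).mulVecLin} := by
    have : {q : PrimeSpectrum S | ∀ i, i + 2 ≤ e →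
      LinearMap.ker ((φ i).map (algebraMap S (Localization.AtPrime q.asIdeal))).mulVecLin ≤
      LinearMap.range ((φ (i + 1)).map (algebraMap S (Localization.AtPrime q.asIdeal))).mulVecLin} =
        ⋂ i ∈ {i : ℕ | i + 2 ≤ e}, {q : PrimeSpectrum S |
      LinearMap.ker ((φ i).map (algebraMap S (Localization.AtPrime q.asIdeal))).mulVecLin ≤
      LinearMap.range ((φ (i + 1)).map (algebraMap S (Localization.AtPrime q.asIdeal))).mulVecLin} := by
      ext q
      simp
    rw [this]
    refine Set.Finite.isOpen_biInter ?_ (fun i _ => isOpen_ker_le_range _ _)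
    exact (Set.finite_Iic e).subset (fun i (hi : i + 2 ≤ e) => by simp only [Set.mem_Iic]; omega)
  have h2 := isOpen_setOf_imp (1 ≤ e) _
    (isOpen_ker_le_range (φ (e - 1)) (0 : Matrix (Fin (n (e - 1 + 1))) (Fin 0) S))
  haveI : Module.FinitePresentation S ((Fin (n 0) → S) ⧸ LinearMap.range (φ 0).mulVecLin) :=
    Module.finitePresentation_of_finite S _
  have h3 := isOpen_setOf_imp (1 ≤ e) _
    (Groth.Agent.H76.FlatLocusFP.isOpen_flatLocus (R := R) (S := S)
      (M := (Fin (n 0) → S) ⧸ LinearMap.range (φ 0).mulVecLin))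
  exact h1.inter (h2.inter h3)

/-- The predicate of the statement: exactness on the fibre local ring. -/
def FibEx (q : PrimeSpectrum S) : Prop :=
  (∀ i, i + 2 ≤ e →
    LinearMap.ker (Matrix.mulVecLin ((φ i).map (algebraMap S (EGA4.FibLocRing R S q.asIdeal)))) =
      LinearMap.range (Matrix.mulVecLin ((φ (i + 1)).map (algebraMap S (EGA4.FibLocRing R S q.asIdeal))))) ∧
  (1 ≤ e → Function.Injective
    (Matrix.mulVecLin ((φ (e - 1)).map (algebraMap S (EGA4.FibLocRing R S q.asIdeal)))))

theorem fibEx_iff_locEx [IsNoetherianRing R] [Algebra.FiniteType R S] [Module.Flat R S]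
    (hφ : ∀ i, i + 2 ≤ e → φ i * φ (i + 1) = 0) (q : PrimeSpectrum S) :
    FibEx R S e n φ q ↔ LocEx R S e n φ q := by
  haveI : IsNoetherianRing S := Algebra.FiniteType.isNoetherianRing R S
  let T := Localization.AtPrime q.asIdeal
  let p : Ideal R := q.asIdeal.comap (algebraMap R S)
  haveI : q.asIdeal.LiesOver p := ⟨rfl⟩
  letI := Localization.AtPrime.algebraOfLiesOver p q.asIdeal
  let A := Localization.AtPrime p
  let J : Ideal T := p.map (algebraMap R T)
  have hJ : J = (maximalIdeal A).map (algebraMap A T) := by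
    show p.map (algebraMap R T) = _
    rw [← Localization.AtPrime.map_eq_maximalIdeal, Ideal.map_map, ← IsScalarTower.algebraMap_eq]
  have hmap : ∀ {a b : ℕ} (M : Matrix (Fin a) (Fin b) S),
      M.map (algebraMap S (EGA4.FibLocRing R S q.asIdeal)) =
        (M.map (algebraMap S T)).map (Ideal.Quotient.mk J) := by
    intro a b M
    rw [Matrix.map_map]
    rfl
  let ψ : (i : ℕ) → Matrix (Fin (n i)) (Fin (n (i + 1))) T := fun i => (φ i).map (algebraMap S T)
  have hψ : ∀ i, i + 2 ≤ e → ψ i * ψ (i + 1) = 0 :=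
    fun i hi => map_mul_eq_zero (algebraMap S T) _ _ (hφ i hi)
  have hz : ∀ b : ℕ, (0 : Matrix (Fin b) (Fin 0) S).map (algebraMap S T) = 0 :=
    fun b => Matrix.map_zero _ (map_zero _)
  have hz' : ∀ b : ℕ, (0 : Matrix (Fin b) (Fin 0) T).map (Ideal.Quotient.mk J) = 0 :=
    fun b => Matrix.map_zero _ (map_zero _)
  have hRA : ∀ (a b : ℕ) (M : Matrix (Fin a) (Fin b) T),
      Module.Flat A ((Fin a → T) ⧸ LinearMap.range M.mulVecLin) →
        Module.Flat R ((Fin a → T) ⧸ LinearMap.range M.mulVecLin) := fun a b M h =>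
    (Module.flat_iff_of_isLocalization A p.primeCompl _).mp h
  constructor
  · intro h
    have step : ∀ i, i + 2 ≤ e →
        LinearMap.ker (ψ i).mulVecLin ≤ LinearMap.range (ψ (i + 1)).mulVecLin ∧
          Module.Flat A ((Fin (n i) → T) ⧸ LinearMap.range (ψ i).mulVecLin) := by
      intro i hi
      refine ker_le_range_and_flat_of_mod (A := A) (B := T) (ψ i) (ψ (i + 1)) (hψ i hi) J hJ ?_
      have := (h.1 i hi).le
      rw [hmap, hmap] at this
      exact this
    have last : 1 ≤ e →
        LinearMap.ker (ψ (e - 1)).mulVecLin ≤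
          LinearMap.range (0 : Matrix (Fin (n (e - 1 + 1))) (Fin 0) T).mulVecLin ∧
          Module.Flat A ((Fin (n (e - 1)) → T) ⧸ LinearMap.range (ψ (e - 1)).mulVecLin) := by
      intro he
      refine ker_le_range_and_flat_of_mod (A := A) (B := T) (ψ (e - 1)) 0 (by simp) J hJ ?_
      have hinj := h.2 he
      rw [hmap] at hinj
      rw [LinearMap.ker_eq_bot.mpr hinj]
      exact bot_le
    refine ⟨fun i hi => (step i hi).1, fun he => ?_, fun he => ?_⟩
    · rw [hz]
      exact (last he).1
    · rw [flat_localizedModule_coker_iff (R := R) q.asIdeal.primeCompl T (φ 0)]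
      by_cases h2 : 2 ≤ e
      · exact hRA _ _ _ (step 0 (by omega)).2
      · obtain rfl : e = 1 := by omega
        exact hRA _ _ _ (last he).2
  · rintro ⟨h1, h2, h3⟩
    by_cases he : 1 ≤ e
    swap
    · exact ⟨fun i hi => absurd hi (by omega), fun h => absurd h he⟩
    have flat0 : Module.Flat R ((Fin (n 0) → T) ⧸ LinearMap.range (ψ 0).mulVecLin) :=
      (flat_localizedModule_coker_iff (R := R) q.asIdeal.primeCompl T (φ 0)).mp (h3 he)
    haveI : Module.Flat R T := Module.Flat.trans R S T
    have flatAll : ∀ i, i + 1 ≤ e →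
        Module.Flat R ((Fin (n i) → T) ⧸ LinearMap.range (ψ i).mulVecLin) := by
      intro i
      induction i with
      | zero => exact fun _ => flat0
      | succ i ih =>
        intro hi
        haveI := ih (by omega)
        exact flat_coker_next (R := R) (ψ i) (ψ (i + 1)) (hψ i (by omega)) (h1 i (by omega))
    refine ⟨fun i hi => ?_, fun _ => ?_⟩
    · haveI := flatAll i (by omega)
      have hle := ker_le_range_mod_of_flat (R := R) (ψ i) (ψ (i + 1)) (hψ i hi) (h1 i hi) p
      rw [hmap, hmap]
      exact le_antisymm hle (range_le_ker_of_mul_eq_zero' _ _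
        (map_mul_eq_zero (Ideal.Quotient.mk J) _ _ (hψ i hi)))
    · haveI := flatAll (e - 1) (by omega)
      have h2' := h2 he
      rw [hz] at h2'
      have hle := ker_le_range_mod_of_flat (R := R) (ψ (e - 1))
        (0 : Matrix (Fin (n (e - 1 + 1))) (Fin 0) T) (by simp) h2' p
      rw [hmap, ← LinearMap.ker_eq_bot, ← le_bot_iff]
      refine hle.trans ?_
      rw [range_mulVecLin_fin_zero]

/-- Stacks 00RG-type openness: the locus where a finite free complex is exact on the fibre local
rings is open (for `R → S` flat of finite type, `R` Noetherian). -/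
theorem isOpen_fibEx [IsNoetherianRing R] [Algebra.FiniteType R S] [Module.Flat R S]
    (hφ : ∀ i, i + 2 ≤ e → φ i * φ (i + 1) = 0) :
    IsOpen {q : PrimeSpectrum S | FibEx R S e n φ q} := by
  have : {q : PrimeSpectrum S | FibEx R S e n φ q} = {q | LocEx R S e n φ q} := by
    ext q
    exact fibEx_iff_locEx R S e n φ hφ q
  rw [this]
  exact isOpen_locEx R S e n φ

end Main

end Groth.Agent.Lib.Helper95.FibExact
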