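import Groth.Prelude.Def_W4c6eohyperellchar2Gc
import Mathlib

/-! Basic computations in the explicit module `W4c6eohyperellchar2.GcMod`. -/

set_option autoImplicit false
universe u

namespace Groth.Agent.Lib.Helper95

open W4c6eohyperellchar2

section

variable (c : ℕ) (k : Type u) [Field k] [CharP k 2] [PerfectRing k 2]

theorem gc_coefX_X (n m : ℕ) :
    coefX (X c k n) m = if m = n ∧ 1 ≤ m ∧ m ≤ c then 1 else 0 := by
  unfold coefX X
  by_cases h : 1 ≤ m ∧ m ≤ c
  · simp only [h, and_self, ↓reduceDIte, and_true]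
    have : m - 1 + 1 = m := by omega
    simp only [this]
  · simp only [h, ↓reduceDIte]
    rw [if_neg]
    tauto

theorem gc_coefY_X (n m : ℕ) : coefY (X c k n) m = 0 := by
  unfold coefY X
  split_ifs <;> simp

theorem gc_coefX_Y (n m : ℕ) : coefX (Y c k n) m = 0 := by
  unfold coefX Y
  split_ifs <;> simp

theorem gc_coefY_Y (n m : ℕ) :
    coefY (Y c k n) m = if m = n ∧ 1 ≤ m ∧ m ≤ c then 1 else 0 := by
  unfold coefY Y
  by_cases h : 1 ≤ m ∧ m ≤ c
  · simp only [h, and_self, ↓reduceDIte, and_true]
    have : m - 1 + 1 = m := by omega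
    simp only [this]
  · simp only [h, ↓reduceDIte]
    rw [if_neg]
    tauto

theorem gc_F_Y (n : ℕ) : F c k (Y c k n) = 0 := by
  unfold F
  ext i <;> simp [gc_coefX_Y]

theorem gc_F_X_even (n : ℕ) (h1 : 1 ≤ n) (hc : 2 * n ≤ c) : F c k (X c k (2 * n)) = X c k n := by
  unfold F
  ext i
  · simp only [gc_coefX_X]
    show _ = (X c k n).1 i
    unfold X
    simp only
    have hi := i.isLt
    by_cases h : i.val + 1 = n
    · rw [if_pos (by omega), if_pos h]; simp
    · rw [if_neg (by omega), if_neg h]; simp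
  · simp only [gc_coefX_X]
    show _ = (X c k n).2 i
    unfold X
    simp only [Pi.zero_apply]
    rw [if_neg (by omega)]; simp

theorem gc_F_X_odd (m : ℕ) (hc : 2 * m + 1 ≤ c) : F c k (X c k (2 * m + 1)) = Y c k (c - m) := by
  unfold F
  ext i
  · simp only [gc_coefX_X]
    show _ = (Y c k (c - m)).1 i
    unfold Y
    simp only [Pi.zero_apply]
    rw [if_neg (by omega)]; simp
  · simp only [gc_coefX_X]
    show _ = (Y c k (c - m)).2 i
    unfold Y
    simp only
    have hi := i.isLt
    by_cases h : i.val + 1 = c - m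
    · rw [if_pos (by omega), if_pos h]; simp
    · rw [if_neg (by omega), if_neg h]; simp

theorem gc_V_Y (n : ℕ) (h1 : 1 ≤ n) (hc : 2 * n ≤ c) : V c k (Y c k n) = Y c k (2 * n) := by
  unfold V
  ext i
  · show (0 : Fin c → k) i = (Y c k (2 * n)).1 i
    unfold Y; simp
  · show _ = (Y c k (2 * n)).2 i
    simp only [gc_coefY_Y, gc_coefX_Y]
    unfold Y
    simp only
    have hi := i.isLt
    by_cases h : i.val + 1 = 2 * n
    · rw [if_pos (by omega), if_pos (by omega), if_pos h]; simp
    · rw [if_neg h]
      split_ifs with h2 h3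
      · omega
      · simp
      · simp

theorem gc_V_Y_zero (n : ℕ) (hc : c < 2 * n) : V c k (Y c k n) = 0 := by
  unfold V
  ext i
  · rfl
  · simp only [gc_coefY_Y, gc_coefX_Y]
    have hi := i.isLt
    show _ = (0 : k)
    split_ifs with h2 h3
    · omega
    · simp
    · simp

theorem gc_V_X (n : ℕ) (hn : n ≤ c) (hc : c < 2 * n) :
    V c k (X c k n) = Y c k (2 * c - 2 * n + 1) := by
  unfold V
  ext i
  · show (0 : Fin c → k) i = (Y c k (2 * c - 2 * n + 1)).1 i
    unfold Y; simp
  · show _ = (Y c k (2 * c - 2 * n + 1)).2 i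
    simp only [gc_coefY_X, gc_coefX_X]
    unfold Y
    simp only
    have hi := i.isLt
    by_cases h : i.val + 1 = 2 * c - 2 * n + 1
    · rw [if_neg (by omega), if_pos (by omega), if_pos h]; simp
    · rw [if_neg h]
      split_ifs with h2 h3
      · simp
      · omega
      · simp

/-- Decomposition of a vector on the basis `X_1..X_c, Y_1..Y_c`. -/
theorem gc_decomp (v : GcMod c k) :
    v = ∑ i : Fin c, (v.1 i • X c k (i.val + 1) + v.2 i • Y c k (i.val + 1)) := by
  ext j
  · rw [Prod.fst_sum, Finset.sum_apply]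
    simp only [Prod.fst_add, Prod.smul_fst, Pi.add_apply, Pi.smul_apply, smul_eq_mul]
    unfold X Y
    simp only [Pi.zero_apply, mul_zero, add_zero, mul_ite, mul_one]
    rw [Finset.sum_eq_single j]
    · simp
    · intro b _ hb
      rw [if_neg]
      intro h
      exact hb (Fin.ext (by omega)).symm
    · simp
  · rw [Prod.snd_sum, Finset.sum_apply]
    simp only [Prod.snd_add, Prod.smul_snd, Pi.add_apply, Pi.smul_apply, smul_eq_mul]
    unfold X Y
    simp only [Pi.zero_apply, mul_zero, zero_add, mul_ite, mul_one]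
    rw [Finset.sum_eq_single j]
    · simp
    · intro b _ hb
      rw [if_neg]
      intro h
      exact hb (Fin.ext (by omega)).symm
    · simp

end

end Groth.Agent.Lib.Helper95
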