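import Groth.Agent.Lib.Helper95.GcMod
import Mathlib

/-! The nilpotent block `NF`, `NV`, `Nfil` of `W4c6eohyperellchar2`: membership in `Nfil` by
coordinates, `finrank (Nfil i) = i`, additivity/semilinearity of `NV`, values of `NV` on the basis. -/

set_option autoImplicit false
universe u

namespace Groth.Agent.Lib.Helper95

open W4c6eohyperellchar2

section

variable (c : ℕ) (k : Type u) [Field k]

theorem gcN_X_fst (n : ℕ) (j : Fin c) : (X c k n).1 j = if j.val + 1 = n then 1 else 0 := rfl
theorem gcN_X_snd (n : ℕ) (j : Fin c) : (X c k n).2 j = 0 := rfl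
theorem gcN_Y_fst (n : ℕ) (j : Fin c) : (Y c k n).1 j = 0 := rfl
theorem gcN_Y_snd (n : ℕ) (j : Fin c) : (Y c k n).2 j = if j.val + 1 = n then 1 else 0 := rfl

/-- Decomposition of a vector on the basis, valid over any field. -/
theorem gcN_decomp (v : GcMod c k) :
    v = ∑ i : Fin c, (v.1 i • X c k (i.val + 1) + v.2 i • Y c k (i.val + 1)) := by
  ext j
  · rw [Prod.fst_sum, Finset.sum_apply]
    simp only [Prod.fst_add, Prod.smul_fst, Pi.add_apply, Pi.smul_apply, smul_eq_mul,
      gcN_X_fst, gcN_Y_fst, mul_zero, add_zero, mul_ite, mul_one]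
    rw [Finset.sum_eq_single j]
    · simp
    · intro b _ hb
      rw [if_neg]
      intro h
      exact hb (Fin.ext (by omega)).symm
    · simp
  · rw [Prod.snd_sum, Finset.sum_apply]
    simp only [Prod.snd_add, Prod.smul_snd, Pi.add_apply, Pi.smul_apply, smul_eq_mul,
      gcN_X_snd, gcN_Y_snd, mul_zero, zero_add, mul_ite, mul_one]
    rw [Finset.sum_eq_single j]
    · simp
    · intro b _ hb
      rw [if_neg]
      intro h
      exact hb (Fin.ext (by omega)).symm
    · simp

theorem gcN_mem_Nfil_iff (i : ℕ) (v : GcMod c k) :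
    v ∈ Nfil c k i ↔ (∀ j : Fin c, min i c < j.val + 1 → v.2 j = 0) ∧
      (∀ j : Fin c, j.val + 1 ≤ 2 * c - i → v.1 j = 0) := by
  constructor
  · intro hv
    unfold Nfil at hv
    induction hv using Submodule.span_induction with
    | mem x hx =>
      rcases hx with ⟨n, hn, rfl⟩ | ⟨n, hn, rfl⟩
      · refine ⟨fun j hj => ?_, fun j _ => rfl⟩
        rw [gcN_Y_snd, if_neg]
        have := hn.2
        omega
      · refine ⟨fun j _ => rfl, fun j hj => ?_⟩
        rw [gcN_X_fst, if_neg]
        have := hn.1
        omega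
    | zero => exact ⟨fun _ _ => rfl, fun _ _ => rfl⟩
    | add x y _ _ hx hy =>
      refine ⟨fun j hj => ?_, fun j hj => ?_⟩
      · rw [Prod.snd_add, Pi.add_apply, hx.1 j hj, hy.1 j hj, add_zero]
      · rw [Prod.fst_add, Pi.add_apply, hx.2 j hj, hy.2 j hj, add_zero]
    | smul r x _ hx =>
      refine ⟨fun j hj => ?_, fun j hj => ?_⟩
      · rw [Prod.smul_snd, Pi.smul_apply, hx.1 j hj, smul_zero]
      · rw [Prod.smul_fst, Pi.smul_apply, hx.2 j hj, smul_zero]
  · rintro ⟨h2, h1⟩
    rw [gcN_decomp c k v]
    apply Submodule.sum_mem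
    intro j _
    apply Submodule.add_mem
    · by_cases hj : j.val + 1 ≤ 2 * c - i
      · rw [h1 j hj, zero_smul]; exact Submodule.zero_mem _
      · apply Submodule.smul_mem
        apply Submodule.subset_span
        right
        exact ⟨j.val + 1, ⟨by omega, by have := j.isLt; omega⟩, rfl⟩
    · by_cases hj : min i c < j.val + 1
      · rw [h2 j hj, zero_smul]; exact Submodule.zero_mem _
      · apply Submodule.smul_mem
        apply Submodule.subset_span
        left
        exact ⟨j.val + 1, ⟨by omega, by omega⟩, rfl⟩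

end


section

variable (c : ℕ) (k : Type u) [Field k]

/-- the standard family `σ_1..σ_c, λ_1..λ_c` -/
def gcN_fam : Fin c ⊕ Fin c → GcMod c k :=
  Sum.elim (fun j => X c k (j.val + 1)) (fun j => Y c k (j.val + 1))

theorem gcN_fam_linearIndependent : LinearIndependent k (gcN_fam c k) := by
  let b : Module.Basis (Fin c ⊕ Fin c) k ((Fin c → k) × (Fin c → k)) :=
    (Pi.basisFun k (Fin c)).prod (Pi.basisFun k (Fin c))
  have : gcN_fam c k = b := by
    funext x
    rcases x with j | j
    · ext i
      · simp only [gcN_fam, Sum.elim_inl, b, Module.Basis.prod_apply, Sum.elim_inl,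
          LinearMap.coe_inl, Function.comp_apply, Pi.basisFun_apply]
        show (if i.val + 1 = j.val + 1 then (1 : k) else 0) = (Pi.single j (1 : k) : Fin c → k) i
        rw [Pi.single_apply]
        by_cases h : i = j
        · subst h; simp
        · rw [if_neg h, if_neg]
          intro h'
          exact h (Fin.ext (by omega))
      · simp only [gcN_fam, Sum.elim_inl, b, Module.Basis.prod_apply, Sum.elim_inl,
          LinearMap.coe_inl, Function.comp_apply]
        rfl
    · ext i
      · simp only [gcN_fam, Sum.elim_inr, b, Module.Basis.prod_apply, Sum.elim_inr,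
          LinearMap.coe_inr, Function.comp_apply]
        rfl
      · simp only [gcN_fam, Sum.elim_inr, b, Module.Basis.prod_apply, Sum.elim_inr,
          LinearMap.coe_inr, Function.comp_apply, Pi.basisFun_apply]
        show (if i.val + 1 = j.val + 1 then (1 : k) else 0) = (Pi.single j (1 : k) : Fin c → k) i
        rw [Pi.single_apply]
        by_cases h : i = j
        · subst h; simp
        · rw [if_neg h, if_neg]
          intro h'
          exact h (Fin.ext (by omega))
  rw [this]
  exact b.linearIndependent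

theorem gcN_finrank_Nfil (i : ℕ) (hi : i ≤ 2 * c) : Module.finrank k (Nfil c k i) = i := by
  classical
  -- index map
  let e : Fin i → Fin c ⊕ Fin c := fun t =>
    if h : t.val < c then Sum.inr ⟨t.val, h⟩ else Sum.inl ⟨2 * c - t.val - 1, by have := t.isLt; omega⟩
  have he : Function.Injective e := by
    intro t t' h
    apply Fin.ext
    have h1 := t.isLt
    have h2 := t'.isLt
    by_cases h3 : t.val < c <;> by_cases h4 : t'.val < c
    · simp only [e, h3, h4, ↓reduceDIte, Sum.inr.injEq, Fin.mk.injEq] at h
      exact h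
    · simp only [e, h3, h4, ↓reduceDIte, reduceCtorEq] at h
    · simp only [e, h3, h4, ↓reduceDIte, reduceCtorEq] at h
    · simp only [e, h3, h4, ↓reduceDIte, Sum.inl.injEq, Fin.mk.injEq] at h
      omega
  have hli : LinearIndependent k (gcN_fam c k ∘ e) := (gcN_fam_linearIndependent c k).comp e he
  have hspan : Nfil c k i = Submodule.span k (Set.range (gcN_fam c k ∘ e)) := by
    unfold Nfil
    apply le_antisymm
    · rw [Submodule.span_le]
      rintro x (⟨n, hn, rfl⟩ | ⟨n, hn, rfl⟩)
      · apply Submodule.subset_span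
        have hn1 := hn.1
        have hn2 := hn.2
        refine ⟨⟨n - 1, by omega⟩, ?_⟩
        have hlt : n - 1 < c := by omega
        simp only [Function.comp_apply, e, hlt, ↓reduceDIte, gcN_fam, Sum.elim_inr]
        congr 1
        omega
      · apply Submodule.subset_span
        have hn1 := hn.1
        have hn2 := hn.2
        refine ⟨⟨2 * c - n, by omega⟩, ?_⟩
        have hlt : ¬ (2 * c - n < c) := by omega
        simp only [Function.comp_apply, e, hlt, ↓reduceDIte, gcN_fam, Sum.elim_inl]
        congr 1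
        omega
    · rw [Submodule.span_le]
      rintro x ⟨t, rfl⟩
      apply Submodule.subset_span
      have ht := t.isLt
      by_cases hlt : t.val < c
      · left
        refine ⟨t.val + 1, ⟨by omega, by omega⟩, ?_⟩
        simp only [Function.comp_apply, e, hlt, ↓reduceDIte, gcN_fam, Sum.elim_inr]
      · right
        refine ⟨2 * c - t.val, ⟨by omega, by omega⟩, ?_⟩
        simp only [Function.comp_apply, e, hlt, ↓reduceDIte, gcN_fam, Sum.elim_inl]
        congr 1
        omega
  rw [hspan, finrank_span_eq_card hli, Fintype.card_fin]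

end


section

variable (c : ℕ) (k : Type u) [Field k] [CharP k 2] [PerfectRing k 2] (a : ℕ → k)

omit [CharP k 2] [PerfectRing k 2] in
theorem gcN_coefY_add (v w : GcMod c k) (n : ℕ) : coefY (v + w) n = coefY v n + coefY w n := by
  unfold coefY
  split_ifs <;> simp

omit [CharP k 2] [PerfectRing k 2] in
theorem gcN_coefY_smul (r : k) (v : GcMod c k) (n : ℕ) : coefY (r • v) n = r * coefY v n := by
  unfold coefY
  split_ifs <;> simp

theorem gcN_NV_fst (v : GcMod c k) : (NV c k a v).1 = 0 := rfl

theorem gcN_NV_snd (v : GcMod c k) (i : Fin c) : (NV c k a v).2 i =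
    (frobeniusEquiv k 2).symm (coefY v (2 * (i.val + 1))) +
      Finset.univ.sum (fun j : Fin c =>
        if (j.val + 1) % 2 = 1 ∧ (i.val + 1) + j.val / 2 ≤ c then
          (frobeniusEquiv k 2).symm (v.1 j * a ((i.val + 1) + j.val / 2)) else 0) := rfl

theorem gcN_NV_add (v w : GcMod c k) : NV c k a (v + w) = NV c k a v + NV c k a w := by
  ext i
  · simp [gcN_NV_fst]
  · rw [Prod.snd_add, Pi.add_apply, gcN_NV_snd, gcN_NV_snd, gcN_NV_snd, gcN_coefY_add, map_add]
    have : ∀ j : Fin c, (if (j.val + 1) % 2 = 1 ∧ (i.val + 1) + j.val / 2 ≤ c then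
          (frobeniusEquiv k 2).symm ((v + w).1 j * a ((i.val + 1) + j.val / 2)) else 0) =
        (if (j.val + 1) % 2 = 1 ∧ (i.val + 1) + j.val / 2 ≤ c then
          (frobeniusEquiv k 2).symm (v.1 j * a ((i.val + 1) + j.val / 2)) else 0) +
        (if (j.val + 1) % 2 = 1 ∧ (i.val + 1) + j.val / 2 ≤ c then
          (frobeniusEquiv k 2).symm (w.1 j * a ((i.val + 1) + j.val / 2)) else 0) := by
      intro j
      split_ifs
      · rw [Prod.fst_add, Pi.add_apply, add_mul, map_add]
      · simp
    simp only [this, Finset.sum_add_distrib]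
    ring

theorem gcN_NV_smul (r : k) (v : GcMod c k) :
    NV c k a (r • v) = (frobeniusEquiv k 2).symm r • NV c k a v := by
  ext i
  · simp [gcN_NV_fst]
  · rw [Prod.smul_snd, Pi.smul_apply, gcN_NV_snd, gcN_NV_snd, gcN_coefY_smul, map_mul, smul_eq_mul,
      mul_add ((frobeniusEquiv k 2).symm r), Finset.mul_sum]
    congr 1
    apply Finset.sum_congr rfl
    intro j _
    split_ifs
    · rw [Prod.smul_fst, Pi.smul_apply, smul_eq_mul, mul_assoc, map_mul]
    · simp

theorem gcN_NV_Y (m : ℕ) (h1 : 1 ≤ m) (hc : 2 * m ≤ c) : NV c k a (Y c k (2 * m)) = Y c k m := by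
  ext i
  · rfl
  · rw [gcN_NV_snd, gc_coefY_Y]
    have hi := i.isLt
    have hsum : Finset.univ.sum (fun j : Fin c =>
        if (j.val + 1) % 2 = 1 ∧ (i.val + 1) + j.val / 2 ≤ c then
          (frobeniusEquiv k 2).symm ((Y c k (2 * m)).1 j * a ((i.val + 1) + j.val / 2)) else 0) = 0 := by
      apply Finset.sum_eq_zero
      intro j _
      split_ifs
      · show (frobeniusEquiv k 2).symm ((0 : k) * _) = 0
        simp
      · rfl
    rw [hsum, add_zero]
    show _ = if i.val + 1 = m then (1 : k) else 0
    by_cases h : i.val + 1 = m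
    · rw [if_pos (by omega), if_pos h, map_one]
    · rw [if_neg (by omega), if_neg h, map_zero]

theorem gcN_NV_X (n : ℕ) (h1 : 1 ≤ n) (hc : n ≤ c) (hodd : n % 2 = 1) (i : Fin c) :
    (NV c k a (X c k n)).2 i =
      if (i.val + 1) + (n - 1) / 2 ≤ c then (frobeniusEquiv k 2).symm (a ((i.val + 1) + (n - 1) / 2))
      else 0 := by
  rw [gcN_NV_snd, gc_coefY_X, map_zero, zero_add]
  rw [Finset.sum_eq_single (⟨n - 1, by omega⟩ : Fin c)]
  · have e1 : (n - 1 + 1) % 2 = 1 := by
      have : n - 1 + 1 = n := by omega
      rw [this]; exact hodd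
    simp only [e1, true_and]
    split_ifs
    · have : (X c k n).1 ⟨n - 1, by omega⟩ = 1 := by
        show (if n - 1 + 1 = n then (1 : k) else 0) = 1
        rw [if_pos (by omega)]
      rw [this, one_mul]
    · rfl
  · intro j _ hj
    have : (X c k n).1 j = 0 := by
      show (if j.val + 1 = n then (1 : k) else 0) = 0
      rw [if_neg]
      intro h
      apply hj
      apply Fin.ext
      show j.val = n - 1
      omega
    rw [this]
    simp
  · intro h
    exact absurd (Finset.mem_univ _) h

end


end Groth.Agent.Lib.Helper95
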