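import Mathlib

namespace Groth.Agent.Lib.Helper95.HilbSlice

/-! combinatorial core for slices of strongly stable staircases -/

section core

variable (H : ℕ → ℕ → ℕ) (hP1 : ∀ i b, H i (b + 1) ≤ H i b - 1) (hP2 : ∀ i b, H (i + 1) b ≤ H i (b + 1))

include hP1 in
theorem H_le_sub (i b : ℕ) : H i b ≤ H i 0 - b := by
  induction b with
  | zero => simp
  | succ b ih =>
    have := hP1 i b
    omega

include hP1 hP2 in
theorem H_le_sub_add (i b : ℕ) : H i b ≤ H 0 0 - (i + b) := by
  induction i generalizing b with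
  | zero =>
    have := H_le_sub H hP1 0 b
    simpa using this
  | succ i ih =>
    have h1 := hP2 i b
    have h2 := ih (b + 1)
    omega

include hP1 hP2 in
theorem H_eq_zero {N : ℕ} (hN : H 0 0 ≤ N) (i b : ℕ) (h : N ≤ i + b) : H i b = 0 := by
  have := H_le_sub_add H hP1 hP2 i b
  omega

include hP1 hP2 in
theorem a_succ_le (i : ℕ) : H (i + 1) 0 ≤ H i 0 - 1 := by
  have h1 := hP2 i 0
  have h2 := hP1 i 0
  omega

theorem choose_two_succ (n : ℕ) : (n + 1).choose 2 = n + n.choose 2 := by
  have := Nat.choose_succ_succ' n 1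
  simpa [Nat.choose_one_right] using this

theorem choose_three_succ (n : ℕ) : (n + 1).choose 3 = n.choose 2 + n.choose 3 := by
  have := Nat.choose_succ_succ' n 2
  simpa using this

/-- the slice sizes -/
def cs (N i : ℕ) : ℕ := ∑ b ∈ Finset.range N, H i b

theorem sum_range_sub (a : ℕ) : ∑ b ∈ Finset.range a, (a - b) = (a + 1).choose 2 := by
  induction a with
  | zero => simp
  | succ a ih =>
    rw [Finset.sum_range_succ']
    have : ∑ b ∈ Finset.range a, (a + 1 - (b + 1)) = ∑ b ∈ Finset.range a, (a - b) := by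
      apply Finset.sum_congr rfl
      intro b _
      omega
    rw [this, ih, choose_two_succ (a + 1)]
    omega

theorem sum_range_sub_le (a N : ℕ) : ∑ b ∈ Finset.range N, (a - b) ≤ (a + 1).choose 2 := by
  rw [← sum_range_sub a]
  by_cases h : N ≤ a
  · exact Finset.sum_le_sum_of_subset (Finset.range_mono h)
  · push Not at h
    rw [← Finset.sum_range_add_sum_Ico _ h.le]
    have : ∑ b ∈ Finset.Ico a N, (a - b) = 0 := by
      apply Finset.sum_eq_zero
      intro b hb
      rw [Finset.mem_Ico] at hb
      omega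
    omega

include hP1 in
theorem cs_le_choose (N i : ℕ) : cs H N i ≤ (H i 0 + 1).choose 2 := by
  refine le_trans ?_ (sum_range_sub_le (H i 0) N)
  exact Finset.sum_le_sum (fun b _ => H_le_sub H hP1 i b)

include hP1 hP2 in
theorem cs_succ_add_le {N : ℕ} (hN : H 0 0 ≤ N) (i : ℕ) : cs H N (i + 1) + H i 0 ≤ cs H N i := by
  have h0 : H i N = 0 := H_eq_zero H hP1 hP2 hN i N (by omega)
  have h1 : cs H N i = ∑ b ∈ Finset.range (N + 1), H i b := by
    rw [Finset.sum_range_succ, h0, add_zero]
    rfl
  rw [h1, Finset.sum_range_succ']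
  have h2 : cs H N (i + 1) ≤ ∑ b ∈ Finset.range N, H i (b + 1) :=
    Finset.sum_le_sum (fun b _ => hP2 i b)
  omega

theorem choose_two_lt {m n : ℕ} (h : m < n) (hn : 2 ≤ n) : m.choose 2 < n.choose 2 := by
  have h1 : (m + 1).choose 2 ≤ n.choose 2 := Nat.choose_le_choose 2 h
  have h2 := choose_two_succ m
  rcases Nat.eq_zero_or_pos m with rfl | hm
  · simp only [Nat.choose_zero_succ]
    exact Nat.choose_pos hn
  · omega

/-- the model slice size -/
def ts (r i : ℕ) : ℕ := (r - i + 1).choose 2

theorem ts_pred {r i : ℕ} (hi : i + 1 ≤ r) : ts r i = ts r (i + 1) + (r - i) := by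
  unfold ts
  have h1 : r - i + 1 = (r - (i + 1) + 1) + 1 := by omega
  rw [h1, choose_two_succ]
  omega

theorem sumG2 (r : ℕ) : ∑ t ∈ Finset.range r, (t + 2).choose 2 = (r + 2).choose 3 := by
  induction r with
  | zero => simp
  | succ r ih =>
    rw [Finset.sum_range_succ, ih, choose_three_succ (r + 2)]
    omega

theorem sum_ts (r : ℕ) : ∑ i ∈ Finset.range r, ts r i = (r + 2).choose 3 := by
  have h1 : ∑ i ∈ Finset.range r, ts r i = ∑ t ∈ Finset.range r, (t + 2).choose 2 := by
    rw [← Finset.sum_range_reflect]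
    apply Finset.sum_congr rfl
    intro j hj
    rw [Finset.mem_range] at hj
    unfold ts
    congr 1
    omega
  rw [h1, sumG2]

include hP1 hP2 in
/-- if one slice is too big, so are all the earlier ones -/
theorem big_of_big {N r : ℕ} (hN : H 0 0 ≤ N) {j : ℕ} (hj : j < r) (hc : ts r j < cs H N j)
    (e : ℕ) (he : e ≤ j) : ts r (j - e) < cs H N (j - e) ∧ r - (j - e) + 1 ≤ H (j - e) 0 := by
  induction e with
  | zero =>
    simp only [Nat.sub_zero]
    refine ⟨hc, ?_⟩
    by_contra hlt
    push Not at hlt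
    have h1 : (H j 0 + 1).choose 2 ≤ (r - j + 1).choose 2 := Nat.choose_le_choose 2 (by omega)
    have h2 := cs_le_choose H hP1 N j
    unfold ts at hc
    omega
  | succ e ih =>
    obtain ⟨ih1, ih2⟩ := ih (by omega)
    have hidx : j - e = (j - (e + 1)) + 1 := by omega
    have h3 := a_succ_le H hP1 hP2 (j - (e + 1))
    rw [← hidx] at h3
    have h4 := cs_succ_add_le H hP1 hP2 hN (j - (e + 1))
    rw [← hidx] at h4
    have h5 : ts r (j - (e + 1)) = ts r (j - e) + (r - (j - (e + 1))) := by
      rw [hidx]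
      exact ts_pred (by omega)
    constructor
    · omega
    · omega

include hP1 hP2 in
/-- **Claim 1**: tails of the slice sizes are bounded by the tails of the model. -/
theorem tail_le {N M r : ℕ} (hN : H 0 0 ≤ N) (hM : r ≤ M)
    (htot : ∑ i ∈ Finset.range M, cs H N i ≤ (r + 2).choose 3) (j : ℕ) (hj : j ≤ r) :
    ∑ i ∈ Finset.Ico j r, cs H N i ≤ ∑ i ∈ Finset.Ico j r, ts r i := by
  suffices h : ∀ d, d ≤ r → ∑ i ∈ Finset.Ico (r - d) r, cs H N i ≤
      ∑ i ∈ Finset.Ico (r - d) r, ts r i by
    have := h (r - j) (by omega)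
    rwa [show r - (r - j) = j by omega] at this
  intro d
  induction d with
  | zero => intro _; simp
  | succ d ih =>
    intro hd
    have ih' := ih (by omega)
    obtain ⟨j', hj'⟩ : ∃ j', j' = r - (d + 1) := ⟨_, rfl⟩
    have hj1 : r - d = j' + 1 := by omega
    rw [hj1] at ih'
    rw [← hj']
    have hsplit : ∀ f : ℕ → ℕ, ∑ i ∈ Finset.Ico j' r, f i =
        f j' + ∑ i ∈ Finset.Ico (j' + 1) r, f i :=
      fun f => Finset.sum_eq_sum_Ico_succ_bot (by omega) f
    rw [hsplit, hsplit]
    by_contra hcon
    push Not at hcon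
    have hc : ts r j' < cs H N j' := by omega
    have hbig := big_of_big H hP1 hP2 hN (by omega : j' < r) hc
    have h1 : ∑ i ∈ Finset.range j', ts r i ≤ ∑ i ∈ Finset.range j', cs H N i := by
      apply Finset.sum_le_sum
      intro i hi
      rw [Finset.mem_range] at hi
      have := (hbig (j' - i) (by omega)).1
      rw [show j' - (j' - i) = i by omega] at this
      exact this.le
    have h2 : ∑ i ∈ Finset.range r, cs H N i ≤ ∑ i ∈ Finset.range M, cs H N i :=
      Finset.sum_le_sum_of_subset (Finset.range_mono hM)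
    have h3 : ∑ i ∈ Finset.range r, cs H N i =
        ∑ i ∈ Finset.range j', cs H N i + ∑ i ∈ Finset.Ico j' r, cs H N i :=
      (Finset.sum_range_add_sum_Ico _ (by omega)).symm
    have h4 : ∑ i ∈ Finset.range r, ts r i =
        ∑ i ∈ Finset.range j', ts r i + ∑ i ∈ Finset.Ico j' r, ts r i :=
      (Finset.sum_range_add_sum_Ico _ (by omega)).symm
    have h5 := sum_ts r
    rw [hsplit] at h3 h4
    omega

theorem sum_range_sub_eq {a N : ℕ} (h : a ≤ N) :
    ∑ b ∈ Finset.range N, (a - b) = (a + 1).choose 2 := by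
  rw [← sum_range_sub a, ← Finset.sum_range_add_sum_Ico _ h]
  have : ∑ b ∈ Finset.Ico a N, (a - b) = 0 := by
    apply Finset.sum_eq_zero
    intro b hb
    rw [Finset.mem_Ico] at hb
    omega
  omega

include hP1 hP2 in
/-- **Claim 2**: equality of all tails forces the model staircase. -/
theorem H_eq_of_tail_eq {N M r : ℕ} (hN : H 0 0 ≤ N) (hM : r < M)
    (htot : ∑ i ∈ Finset.range M, cs H N i ≤ (r + 2).choose 3)
    (heq : ∀ j, j < r → ∑ i ∈ Finset.Ico j r, cs H N i = ∑ i ∈ Finset.Ico j r, ts r i)
    (i b : ℕ) : H i b = r - i - b := by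
  -- (1) slices agree
  have hsplit : ∀ (f : ℕ → ℕ) (j : ℕ), j < r → ∑ i ∈ Finset.Ico j r, f i =
      f j + ∑ i ∈ Finset.Ico (j + 1) r, f i :=
    fun f j hj => Finset.sum_eq_sum_Ico_succ_bot hj f
  have hc : ∀ j, j < r → cs H N j = ts r j := by
    intro j hj
    have h1 := heq j hj
    rw [hsplit _ j hj, hsplit _ j hj] at h1
    by_cases hj1 : j + 1 < r
    · have h2 := heq (j + 1) hj1
      omega
    · have : j + 1 = r := by omega
      rw [this] at h1
      simpa using h1
  -- (2) total of the first `r` slices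
  have hsum : ∑ i ∈ Finset.range r, cs H N i = (r + 2).choose 3 := by
    rw [← sum_ts r]
    exact Finset.sum_congr rfl (fun j hj => hc j (Finset.mem_range.mp hj))
  -- (3) later slices vanish
  have hlate : ∀ j, r ≤ j → j < M → cs H N j = 0 := by
    intro j hj hjM
    have h1 := Finset.sum_range_add_sum_Ico (fun i => cs H N i) (le_of_lt hM)
    have h2 : ∑ i ∈ Finset.Ico r M, cs H N i = 0 := by omega
    rw [Finset.sum_eq_zero_iff] at h2
    exact h2 j (Finset.mem_Ico.mpr ⟨hj, hjM⟩)
  -- (4) `H r 0 = 0`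
  have hr0 : H r 0 = 0 := by
    rcases Nat.eq_zero_or_pos N with hN0 | hN0
    · have := H_le_sub_add H hP1 hP2 r 0
      omega
    · have h1 := hlate r le_rfl hM
      unfold cs at h1
      rw [Finset.sum_eq_zero_iff] at h1
      exact h1 0 (Finset.mem_range.mpr hN0)
  -- (5) beyond `r`
  have hbeyond : ∀ j, r ≤ j → H j 0 = 0 := by
    intro j hj
    induction j, hj using Nat.le_induction with
    | base => exact hr0
    | succ j _ ih =>
      have := a_succ_le H hP1 hP2 j
      omega
  by_cases hi : r ≤ i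
  · have h1 := H_le_sub H hP1 i b
    have h2 := hbeyond i hi
    omega
  · push Not at hi
    -- (6) `H i 0 = r - i`
    have hcs1 : cs H N (i + 1) = ts r (i + 1) := by
      by_cases hi1 : i + 1 < r
      · exact hc _ hi1
      · have : i + 1 = r := by omega
        rw [this, hlate r le_rfl hM]
        unfold ts
        simp
    have hup : H i 0 ≤ r - i := by
      have h1 := cs_succ_add_le H hP1 hP2 hN i
      have h2 := ts_pred (r := r) (i := i) (by omega)
      have h3 := hc i hi
      omega
    have hlow : r - i ≤ H i 0 := by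
      by_contra hlt
      push Not at hlt
      have h1 := cs_le_choose H hP1 N i
      have h2 : (H i 0 + 1).choose 2 < (r - i + 1).choose 2 :=
        choose_two_lt (by omega) (by omega)
      have h3 := hc i hi
      unfold ts at h3
      omega
    have ha : H i 0 = r - i := le_antisymm hup hlow
    -- (7) termwise
    have haN : H i 0 ≤ N := by
      have := H_le_sub_add H hP1 hP2 i 0
      omega
    by_cases hb : b < N
    · have h1 : ∑ b ∈ Finset.range N, H i b = ∑ b ∈ Finset.range N, (H i 0 - b) := by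
        rw [sum_range_sub_eq haN, ha]
        exact hc i hi
      have h2 := (Finset.sum_eq_sum_iff_of_le (fun b _ => H_le_sub H hP1 i b)).mp h1 b
        (Finset.mem_range.mpr hb)
      rw [h2, ha]
    · push Not at hb
      have h1 := H_eq_zero H hP1 hP2 hN i b (by omega)
      omega

end core

end Groth.Agent.Lib.Helper95.HilbSlice
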