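import Mathlib
import Groth.Prelude.Def_W4c1hilbpnTgt
import Groth.Agent.Lib.Helper95.HilbSliceCore
import Groth.Agent.Lib.Helper68.HilbStair
import Groth.Agent.Lib.Helper68.MonomialIdeal
import Groth.Agent.Lib.Helper92.HilbTgtPow
import Groth.Agent.S13441
import Groth.Agent.S13453

namespace Groth.Agent.Lib.Helper95.HilbSlice

open MvPolynomial W4c1hilbpn Groth.Agent.Lib.Helper68.HilbSocle Groth.Agent.Lib.Helper92.HilbTgt

universe u

section general

variable {σ : Type*} {k : Type*} [Field k]

/-- the colength of a monomial ideal is the number of monomials outside it -/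
theorem finrank_quot_eq_card (J : Ideal (MvPolynomial σ k)) (hJ : IsMonomial J) :
    Module.finrank k (MvPolynomial σ k ⧸ J) = Nat.card {β : σ →₀ ℕ // β ∉ exps J} := by
  classical
  have hli := Groth.Agent.Lib.Helper68.linearIndependent_monomial_not_mem J hJ
  have hspan : ⊤ ≤ Submodule.span k (Set.range (fun β : {β : σ →₀ ℕ // β ∉ exps J} =>
      Ideal.Quotient.mk J (monomial β.1 (1 : k)))) := by
    intro q _
    obtain ⟨p, rfl⟩ := Ideal.Quotient.mk_surjective q
    have hp : Ideal.Quotient.mk J p =
        ∑ β ∈ p.support, Ideal.Quotient.mk J (monomial β (coeff β p)) := by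
      conv_lhs => rw [← support_sum_monomial_coeff p]
      rw [map_sum]
    rw [hp]
    apply Submodule.sum_mem
    intro β _
    have hm : monomial β (coeff β p) = C (coeff β p) * monomial β (1 : k) := by
      rw [C_mul_monomial, mul_one]
    by_cases hβ : β ∈ exps J
    · have : Ideal.Quotient.mk J (monomial β (coeff β p)) = 0 := by
        rw [Ideal.Quotient.eq_zero_iff_mem, hm]
        exact Ideal.mul_mem_left _ _ hβ
      rw [this]
      exact Submodule.zero_mem _
    · have : Ideal.Quotient.mk J (monomial β (coeff β p)) =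
          coeff β p • Ideal.Quotient.mk J (monomial β (1 : k)) := by
        have hm' : monomial β (coeff β p) = coeff β p • monomial β (1 : k) := by
          rw [smul_monomial, smul_eq_mul, mul_one]
        rw [hm']
        exact map_smul (Ideal.Quotient.mkₐ k J) (coeff β p) _
      rw [this]
      exact Submodule.smul_mem _ _ (Submodule.subset_span ⟨⟨β, hβ⟩, rfl⟩)
  exact Module.finrank_eq_nat_card_basis (Module.Basis.mk hli hspan)

/-- monomial ideals with the same monomials are equal -/
theorem ideal_eq_of_exps_eq {I J : Ideal (MvPolynomial σ k)} (hI : IsMonomial I)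
    (hJ : IsMonomial J) (h : exps I = exps J) : I = J := by
  have key : ∀ {I J : Ideal (MvPolynomial σ k)}, IsMonomial I → exps I ⊆ exps J → I ≤ J := by
    intro I J hI hsub p hp
    rw [← support_sum_monomial_coeff p]
    apply Ideal.sum_mem
    intro β hβ
    have hm : monomial β (coeff β p) = C (coeff β p) * monomial β (1 : k) := by
      rw [C_mul_monomial, mul_one]
    rw [hm]
    exact Ideal.mul_mem_left _ _ (hsub (hI p hp β hβ))
  exact le_antisymm (key hI h.le) (key hJ h.ge)

end general

section three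

variable {k : Type u} [Field k] (I : Ideal (MvPolynomial (Fin 3) k))

/-- the staircase function -/
noncomputable def Hst (i b : ℕ) : ℕ := stairZ I i b

variable {I}

theorem Hst_P1 (hI : IsStronglyStable I) [Module.Finite k (MvPolynomial (Fin 3) k ⧸ I)]
    (i b : ℕ) : Hst I i (b + 1) ≤ Hst I i b - 1 := by
  unfold Hst
  rcases Nat.eq_zero_or_pos (stairZ I i (b + 1)) with h0 | hpos
  · omega
  · have h1 : e3 i (b + 1) (stairZ I i (b + 1) - 1) ∉ exps I :=
      (stair_spec hI.1 i (b + 1) _).mpr (by omega)
    have h2 : e3 i b (stairZ I i (b + 1) - 1 + 1) ∉ exps I := by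
      intro hmem
      apply h1
      have := hI.2 _ hmem 1 2 (by decide) (by simp)
      rw [e3_sub_single2, e3_add_single1] at this
      simpa using this
    have h3 := (stair_spec hI.1 i b _).mp h2
    omega

theorem Hst_P2 [Infinite k] (hI : IsStronglyStable I)
    [Module.Finite k (MvPolynomial (Fin 3) k ⧸ I)]
    (i b : ℕ) : Hst I (i + 1) b ≤ Hst I i (b + 1) :=
  (Groth.Agent.S13441.result k I hI i b).1

/-- the monomials outside `I`, counted through the staircase -/
theorem card_compl_exps [Infinite k] (hI : IsStronglyStable I)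
    [Module.Finite k (MvPolynomial (Fin 3) k ⧸ I)] {N M : ℕ} (hN : Hst I 0 0 ≤ N) (hM : N ≤ M) :
    Nat.card {β : Fin 3 →₀ ℕ // β ∉ exps I} = ∑ i ∈ Finset.range M, cs (Hst I) N i := by
  classical
  let F : Finset (Σ _ : ℕ, Σ _ : ℕ, ℕ) := (Finset.range M).sigma
    (fun i => (Finset.range N).sigma (fun b => Finset.range (Hst I i b)))
  have hF : F.card = ∑ i ∈ Finset.range M, cs (Hst I) N i := by
    rw [Finset.card_sigma]
    apply Finset.sum_congr rfl
    intro i _
    rw [Finset.card_sigma]
    unfold cs
    apply Finset.sum_congr rfl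
    intro b _
    rw [Finset.card_range]
  have hzero : ∀ i b, N ≤ i + b → Hst I i b = 0 :=
    fun i b h => H_eq_zero (Hst I) (Hst_P1 hI) (Hst_P2 hI) hN i b h
  let e : {β : Fin 3 →₀ ℕ // β ∉ exps I} ≃ ↥F :=
    { toFun := fun β => ⟨⟨β.1 0, β.1 1, β.1 2⟩, by
        have h1 : β.1 2 < Hst I (β.1 0) (β.1 1) := by
          have := β.2
          rw [e3_self β.1] at this
          exact (stair_spec hI.1 _ _ _).mp this
        have h2 : β.1 0 + β.1 1 < N := by
          by_contra hge
          have := hzero (β.1 0) (β.1 1) (by omega)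
          omega
        simp only [F, Finset.mem_sigma, Finset.mem_range]
        exact ⟨by omega, by omega, h1⟩⟩
      invFun := fun x => ⟨e3 x.1.1 x.1.2.1 x.1.2.2, by
        have := x.2
        simp only [F, Finset.mem_sigma, Finset.mem_range] at this
        exact (stair_spec hI.1 _ _ _).mpr this.2.2⟩
      left_inv := fun β => by
        apply Subtype.ext
        exact (e3_self β.1).symm
      right_inv := fun x => by
        apply Subtype.ext
        rfl }
  rw [Nat.card_congr e, Nat.card_eq_fintype_card, Fintype.card_coe, hF]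

variable (I) in
theorem exps_sliceX (i : ℕ) (γ : Fin 2 →₀ ℕ) :
    γ ∈ exps (sliceX I i) ↔ e3 i (γ 0) (γ 1) ∈ exps I := by
  have h1 : γ.mapDomain Fin.succ + Finsupp.single 0 i = e3 i (γ 0) (γ 1) := by
    apply e3_ext
    · rw [Finsupp.add_apply, Finsupp.single_eq_same,
        Finsupp.mapDomain_of_notMem_range _ _ (by simp [Fin.succ_ne_zero])]
      omega
    · have : (1 : Fin 3) = Fin.succ (0 : Fin 2) := rfl
      rw [Finsupp.add_apply, this, Finsupp.mapDomain_apply (Fin.succ_injective 2)]
      simp
    · have : (2 : Fin 3) = Fin.succ (1 : Fin 2) := rfl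
      rw [Finsupp.add_apply, this, Finsupp.mapDomain_apply (Fin.succ_injective 2)]
      simp
  show monomial γ (1 : k) ∈ sliceX I i ↔ monomial _ (1 : k) ∈ I
  rw [Groth.Agent.S13453.mem_sliceX_iff, Groth.Agent.S13453.monomial_shift, h1]

theorem card_compl_exps_sliceX [Infinite k] (hI : IsStronglyStable I)
    [Module.Finite k (MvPolynomial (Fin 3) k ⧸ I)] {N : ℕ} (hN : Hst I 0 0 ≤ N) (i : ℕ) :
    Nat.card {γ : Fin 2 →₀ ℕ // γ ∉ exps (sliceX I i)} = cs (Hst I) N i := by
  classical
  let F : Finset (Σ _ : ℕ, ℕ) := (Finset.range N).sigma (fun b => Finset.range (Hst I i b))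
  have hF : F.card = cs (Hst I) N i := by
    rw [Finset.card_sigma]
    unfold cs
    apply Finset.sum_congr rfl
    intro b _
    rw [Finset.card_range]
  have hzero : ∀ i b, N ≤ i + b → Hst I i b = 0 :=
    fun i b h => H_eq_zero (Hst I) (Hst_P1 hI) (Hst_P2 hI) hN i b h
  let e : {γ : Fin 2 →₀ ℕ // γ ∉ exps (sliceX I i)} ≃ ↥F :=
    { toFun := fun γ => ⟨⟨γ.1 0, γ.1 1⟩, by
        have h1 : γ.1 1 < Hst I i (γ.1 0) := by
          have := γ.2
          rw [exps_sliceX I] at this
          exact (stair_spec hI.1 _ _ _).mp this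
        have h2 : i + γ.1 0 < N := by
          by_contra hge
          have := hzero i (γ.1 0) (by omega)
          omega
        simp only [F, Finset.mem_sigma, Finset.mem_range]
        exact ⟨by omega, h1⟩⟩
      invFun := fun x => ⟨Finsupp.equivFunOnFinite.symm ![x.1.1, x.1.2], by
        have := x.2
        simp only [F, Finset.mem_sigma, Finset.mem_range] at this
        rw [exps_sliceX I]
        exact (stair_spec hI.1 _ _ _).mpr this.2⟩
      left_inv := fun γ => by
        apply Subtype.ext
        ext m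
        fin_cases m <;> rfl
      right_inv := fun x => by
        apply Subtype.ext
        rfl }
  rw [Nat.card_congr e, Nat.card_eq_fintype_card, Fintype.card_coe, hF]

end three

section main

variable {k : Type u} [Field k] [Infinite k] (r : ℕ)
  (I : Ideal (MvPolynomial (Fin 3) k)) (hI : IsStronglyStable I)
  [Module.Finite k (MvPolynomial (Fin 3) k ⧸ I)]
  (hd : Module.finrank k (MvPolynomial (Fin 3) k ⧸ I) ≤ Nat.choose (r + 2) 3)

include hI hd in
theorem slices_main :
    (∀ j, j ≤ r → ∑ i ∈ Finset.Ico j r, Module.finrank k (MvPolynomial (Fin 2) k ⧸ sliceX I i) ≤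
        ∑ i ∈ Finset.Ico j r, Nat.choose (r - i + 1) 2) ∧
    ((∀ j, j < r → ∑ i ∈ Finset.Ico j r, Module.finrank k (MvPolynomial (Fin 2) k ⧸ sliceX I i) =
        ∑ i ∈ Finset.Ico j r, Nat.choose (r - i + 1) 2) →
      I = (Ideal.span (Set.range (MvPolynomial.X : Fin 3 → MvPolynomial (Fin 3) k))) ^ r) := by
  classical
  have hP1 := Hst_P1 hI
  have hP2 := Hst_P2 hI
  obtain ⟨N, hN⟩ : ∃ N, N = Hst I 0 0 := ⟨_, rfl⟩
  have hN' : Hst I 0 0 ≤ N := hN.ge
  have hslice : ∀ i, Module.finrank k (MvPolynomial (Fin 2) k ⧸ sliceX I i) = cs (Hst I) N i := by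
    intro i
    rw [finrank_quot_eq_card _ (Groth.Agent.S13453.result k I hI i).1.1,
      card_compl_exps_sliceX hI hN' i]
  have htot : ∑ i ∈ Finset.range (N + r + 1), cs (Hst I) N i ≤ (r + 2).choose 3 := by
    rw [← card_compl_exps hI hN' (by omega), ← finrank_quot_eq_card I hI.1]
    exact hd
  constructor
  · intro j hj
    simp_rw [hslice]
    exact tail_le (Hst I) hP1 hP2 hN' (by omega) htot j hj
  · intro heq
    simp_rw [hslice] at heq
    have hH := H_eq_of_tail_eq (Hst I) hP1 hP2 hN' (by omega : r < N + r + 1) htot heq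
    apply ideal_eq_of_exps_eq hI.1 (Groth.Agent.Lib.Helper92.HilbTgtPow.isMonomial_pow r)
    ext β
    rw [Groth.Agent.Lib.Helper92.HilbTgtPow.mem_exps_pow, Finsupp.degree_eq_sum,
      Fin.sum_univ_three]
    have h1 : β ∉ exps I ↔ β 2 < Hst I (β 0) (β 1) := by
      conv_lhs => rw [e3_self β]
      exact stair_spec hI.1 _ _ _
    rw [hH] at h1
    constructor
    · intro hβ
      by_contra hlt
      exact (h1.mpr (by omega)) hβ
    · intro hle
      by_contra hβ
      have := h1.mp hβ
      omega

end main

end Groth.Agent.Lib.Helper95.HilbSlice
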