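import Mathlib
import Groth.Agent.Lib.Helper95.DetSmE

set_option autoImplicit false
universe u

namespace Groth.Agent.Lib.Helper95.HypFq
open MvPolynomial AlgebraicGeometry CategoryTheory

theorem formallySmooth_atPrime_of_smooth_away {k B : Type u} [CommRing k] [CommRing B] [Algebra k B]
    (f : B) (P : Ideal B) [P.IsPrime] (hf : f ∉ P)
    (h : Smooth (Spec.map (CommRingCat.ofHom (algebraMap k (Localization.Away f))))) :
    Algebra.FormallySmooth k (Localization.AtPrime P) := by
  have h1 : (algebraMap k (Localization.Away f)).Smooth := by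
    have := (HasRingHomProperty.Spec_iff (P := @Smooth)).mp h
    simpa using this
  have h2 : Algebra.Smooth k (Localization.Away f) := RingHom.smooth_algebraMap.mp h1
  have h3 : Algebra.smoothLocus k (Localization.Away f) = Set.univ := Algebra.smoothLocus_eq_univ
  have h4 := Algebra.smoothLocus_comap_of_isLocalization (R := k) (A := B)
    (Af := Localization.Away f) f
  have hP : (⟨P, inferInstance⟩ : PrimeSpectrum B) ∈
      Set.range (PrimeSpectrum.comap (algebraMap B (Localization.Away f))) := by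
    rw [PrimeSpectrum.localization_away_comap_range (Localization.Away f) f]
    exact hf
  obtain ⟨𝔮, h𝔮⟩ := hP
  have h5 : 𝔮 ∈ PrimeSpectrum.comap (algebraMap B (Localization.Away f)) ⁻¹'
      Algebra.smoothLocus k B := by
    rw [h4, h3]; trivial
  have h6 : (⟨P, inferInstance⟩ : PrimeSpectrum B) ∈ Algebra.smoothLocus k B := by
    rw [← h𝔮]; exact h5
  exact h6


theorem map_span_pair {A B : Type*} [CommRing A] [CommRing B] (ι : A →+* B) (a b : A) :
    (Ideal.span {a, b}).map ι = Ideal.span {ι a} ⊔ Ideal.span {ι b} := by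
  rw [Ideal.map_span, Set.image_pair, Ideal.span_insert]

section
variable {k : Type u} [Field k] {σ : Type*} [Fintype σ] [DecidableEq σ]

theorem prime_linear (c : σ → k) (hc : c ≠ 0) (x : σ → k)
    (hx : eval x (∑ v, C (c v) * X v) = 0) :
    Prime (∑ v, C (c v) * X v : MvPolynomial σ k) := by
  classical
  set L : MvPolynomial σ k := ∑ v, C (c v) * X v with hL
  obtain ⟨v0, hv0⟩ : ∃ v, c v ≠ 0 := by
    by_contra h
    simp only [not_exists, not_not] at h
    exact hc (funext h)
  have hcoeff : L.coeff (Finsupp.single v0 1) = c v0 := by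
    rw [hL, coeff_sum]
    rw [Finset.sum_eq_single v0]
    · rw [coeff_C_mul, coeff_X', if_pos rfl, mul_one]
    · intro v _ hv
      rw [coeff_C_mul, coeff_X', if_neg, mul_zero]
      intro h
      exact hv ((Finsupp.single_left_inj one_ne_zero).mp h)
    · intro h; exact absurd (Finset.mem_univ _) h
  have hL0 : L ≠ 0 := by
    intro h
    rw [h, coeff_zero] at hcoeff
    exact hv0 hcoeff.symm
  have hdeg : L.totalDegree ≤ 1 := by
    rw [hL]
    refine (totalDegree_finset_sum _ _).trans ?_
    refine Finset.sup_le fun v _ => ?_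
    refine (totalDegree_mul _ _).trans ?_
    rw [totalDegree_C, zero_add]
    rw [totalDegree_X]
  have hnu : ¬ IsUnit L := by
    intro hu
    have := hu.map (eval x)
    rw [hx] at this
    exact not_isUnit_zero this
  have hirr : Irreducible L := by
    refine ⟨hnu, fun a b hab => ?_⟩
    have ha0 : a ≠ 0 := fun h => hL0 (by rw [hab, h, zero_mul])
    have hb0 : b ≠ 0 := fun h => hL0 (by rw [hab, h, mul_zero])
    have hd : a.totalDegree + b.totalDegree ≤ 1 := by
      rw [← totalDegree_mul_of_isDomain ha0 hb0, ← hab]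
      exact hdeg
    have hunit : ∀ f : MvPolynomial σ k, f ≠ 0 → f.totalDegree = 0 → IsUnit f := by
      intro f hf0 hf
      rw [totalDegree_eq_zero_iff_eq_C] at hf
      rw [hf]
      refine (IsUnit.mk0 _ ?_).map C
      intro h
      rw [h, map_zero] at hf
      exact hf0 hf
    rcases Nat.eq_zero_or_pos a.totalDegree with h | h
    · exact Or.inl (hunit a ha0 h)
    · exact Or.inr (hunit b hb0 (by omega))
  exact UniqueFactorizationMonoid.irreducible_iff_prime.mp hirr

end


section
variable (k : Type u) [Field k] [Fintype k] (n : ℕ)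

abbrev σ := Fin (n + 1) ⊕ Fin (n + 1)
abbrev S := MvPolynomial (σ n) k

noncomputable def Fq : S k n :=
  ∑ i : Fin (n + 1), (X (Sum.inl i) * X (Sum.inr i) ^ Fintype.card k -
      X (Sum.inr i) * X (Sum.inl i) ^ Fintype.card k)

variable {k n}

noncomputable def Lc (c : σ n → k) : S k n := ∑ v, C (c v) * X v

def pt (c : σ n → k) : σ n → k := Sum.elim (fun i => - c (Sum.inr i)) (fun i => c (Sum.inl i))

theorem eval_Fq (x : σ n → k) : eval x (Fq k n) = 0 := by
  unfold Fq
  rw [map_sum]
  refine Finset.sum_eq_zero fun i _ => ?_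
  simp only [map_sub, map_mul, map_pow, eval_X, FiniteField.pow_card]
  ring

theorem eval_Lc (c : σ n → k) : eval (pt c) (Lc c) = 0 := by
  unfold Lc
  rw [map_sum, Fintype.sum_sum_type]
  simp only [map_mul, eval_C, eval_X, pt, Sum.elim_inl, Sum.elim_inr]
  rw [← Finset.sum_add_distrib]
  refine Finset.sum_eq_zero fun i _ => ?_
  ring

theorem D_Fq_sub_Lc_mem (c : σ n → k) :
    KaehlerDifferential.D k (S k n) (Fq k n - Lc c) ∈
      (RingHom.ker (eval (pt c))) • (⊤ : Submodule (S k n) (Ω[S k n⁄k])) := by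
  set D := KaehlerDifferential.D k (S k n) with hD
  have hq : ∀ (a : S k n), D (a ^ Fintype.card k) = 0 := by
    intro a
    rw [Derivation.leibniz_pow, ← Nat.cast_smul_eq_nsmul k, Nat.cast_card_eq_zero, zero_smul]
  have hC : ∀ r : k, D (C r) = 0 := fun r => D.map_algebraMap r
  have h1 : Fq k n - Lc c = ∑ i : Fin (n + 1),
      ((X (Sum.inl i) * X (Sum.inr i) ^ Fintype.card k - X (Sum.inr i) * X (Sum.inl i) ^ Fintype.card k)
        - (C (c (Sum.inl i)) * X (Sum.inl i) + C (c (Sum.inr i)) * X (Sum.inr i))) := by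
    unfold Fq Lc
    rw [Fintype.sum_sum_type, ← Finset.sum_add_distrib, ← Finset.sum_sub_distrib]
  rw [h1, map_sum]
  refine Submodule.sum_mem _ fun i _ => ?_
  have h2 : D ((X (Sum.inl i) * X (Sum.inr i) ^ Fintype.card k - X (Sum.inr i) * X (Sum.inl i) ^ Fintype.card k)
        - (C (c (Sum.inl i)) * X (Sum.inl i) + C (c (Sum.inr i)) * X (Sum.inr i))) =
      ((X (Sum.inr i) ^ Fintype.card k - C (c (Sum.inl i)) : S k n)) • D (X (Sum.inl i)) +
      ((- X (Sum.inl i) ^ Fintype.card k - C (c (Sum.inr i)) : S k n)) • D (X (Sum.inr i)) := by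
    simp only [map_sub, map_add, Derivation.leibniz, hq, hC, smul_zero, zero_add, add_zero]
    module
  rw [h2]
  refine Submodule.add_mem _ (Submodule.smul_mem_smul ?_ trivial) (Submodule.smul_mem_smul ?_ trivial)
  · rw [RingHom.mem_ker]
    simp [pt, FiniteField.pow_card]
  · rw [RingHom.mem_ker]
    simp only [map_sub, map_neg, map_pow, eval_X, eval_C, pt, Sum.elim_inl, FiniteField.pow_card]
    ring

/-- the test curve -/
noncomputable def uc (c : σ n → k) (j : Fin (n + 1)) (v0 : σ n) : σ n → Polynomial k := fun v =>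
  (if v = Sum.inl j then 1 else 0) + (if v = Sum.inr j then Polynomial.X else 0) +
    (if v = v0 then (- Polynomial.C (c v0)⁻¹ *
      (Polynomial.C (c (Sum.inl j)) + Polynomial.C (c (Sum.inr j)) * Polynomial.X)) else 0)

theorem aeval_uc_Lc (c : σ n → k) (j : Fin (n + 1)) (v0 : σ n) (hv0 : c v0 ≠ 0) :
    aeval (uc c j v0) (Lc c) = 0 := by
  classical
  unfold Lc
  rw [map_sum]
  simp only [map_mul, aeval_C, aeval_X, uc, mul_add, Finset.sum_add_distrib,
    mul_ite, mul_zero, mul_one, Finset.sum_ite_eq', Finset.mem_univ, if_true,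
    Polynomial.algebraMap_eq]
  have hcc : Polynomial.C (c v0) * Polynomial.C (c v0)⁻¹ = 1 := by
    rw [← Polynomial.C_mul, mul_inv_cancel₀ hv0, Polynomial.C_1]
  linear_combination (-(Polynomial.C (c (Sum.inl j)) + Polynomial.C (c (Sum.inr j)) * Polynomial.X)) * hcc

theorem aeval_uc_Fq (c : σ n → k) (j : Fin (n + 1)) (v0 : σ n)
    (h1 : v0 ≠ Sum.inl j) (h2 : v0 ≠ Sum.inr j) :
    aeval (uc c j v0) (Fq k n) = Polynomial.X ^ Fintype.card k - Polynomial.X := by
  classical
  unfold Fq
  rw [map_sum]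
  have hq : Fintype.card k ≠ 0 := Fintype.card_ne_zero
  rw [Finset.sum_eq_single j]
  · simp only [map_sub, map_mul, map_pow, aeval_X, uc, if_true, if_neg (Ne.symm h1),
      if_neg (Ne.symm h2), reduceCtorEq, if_false]
    ring
  · intro i _ hij
    have e1 : (Sum.inl i : σ n) ≠ Sum.inl j := by simpa using hij
    have e2 : (Sum.inr i : σ n) ≠ Sum.inr j := by simpa using hij
    simp only [map_sub, map_mul, map_pow, aeval_X, uc, if_neg e1, if_neg e2, reduceCtorEq,
      if_false, zero_add]
    by_cases hv : v0 = Sum.inl i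
    · have : (Sum.inr i : σ n) ≠ v0 := by rw [hv]; simp
      rw [if_neg this]
      simp [hq]
    · rw [if_neg (Ne.symm hv)]
      simp [hq]
  · intro h; exact absurd (Finset.mem_univ _) h

theorem not_dvd (hn : 1 ≤ n) (c : σ n → k) (hc : c ≠ 0) : ¬ Lc c ∣ Fq k n := by
  classical
  rintro ⟨G, hG⟩
  obtain ⟨v0, hv0⟩ : ∃ v, c v ≠ 0 := by
    by_contra h
    simp only [not_exists, not_not] at h
    exact hc (funext h)
  -- the index of v0
  let i0 : Fin (n + 1) := Sum.elim id id v0
  obtain ⟨j, hj⟩ : ∃ j : Fin (n + 1), j ≠ i0 := by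
    by_cases h : i0 = 0
    · refine ⟨⟨1, by omega⟩, ?_⟩
      rw [h]
      intro h'
      have := congrArg Fin.val h'
      simp at this
    · exact ⟨0, fun h' => h h'.symm⟩
  have h1 : v0 ≠ Sum.inl j := by
    intro h; apply hj; simp [i0, h]
  have h2 : v0 ≠ Sum.inr j := by
    intro h; apply hj; simp [i0, h]
  have h3 := congrArg (aeval (uc c j v0)) hG
  rw [map_mul, aeval_uc_Lc c j v0 hv0, zero_mul, aeval_uc_Fq c j v0 h1 h2] at h3
  exact FiniteField.X_pow_card_sub_X_ne_zero k Fintype.one_lt_card h3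


theorem main (hn : 1 ≤ n) (c : σ n → k) (hc : c ≠ 0) :
    ¬ ∀ w : σ n, Smooth (Spec.map (CommRingCat.ofHom (algebraMap k
        (Localization.Away (Ideal.Quotient.mk (Ideal.span {Fq k n, Lc c}) (X w)))))) := by
  classical
  intro hall
  have hI : ∀ a ∈ Ideal.span {Fq k n, Lc c}, (aeval (pt c) : S k n →ₐ[k] k) a = 0 := by
    have : Ideal.span {Fq k n, Lc c} ≤ RingHom.ker (aeval (pt c) : S k n →ₐ[k] k).toRingHom := by
      rw [Ideal.span_le]
      rintro a (rfl | rfl)
      · exact eval_Fq (pt c)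
      · exact eval_Lc c
    exact fun a ha => this ha
  let φ : (S k n ⧸ Ideal.span {Fq k n, Lc c}) →ₐ[k] k := Ideal.Quotient.liftₐ _ (aeval (pt c)) hI
  have hφ : ∀ a : S k n, φ (Ideal.Quotient.mk _ a) = eval (pt c) a := fun a => rfl
  let P : Ideal (S k n ⧸ Ideal.span {Fq k n, Lc c}) := RingHom.ker φ.toRingHom
  have hPprime : P.IsPrime := RingHom.ker_isPrime _
  have hunder : P.under (S k n) = RingHom.ker (eval (pt c)) := by
    ext a
    rw [Ideal.under_def, Ideal.mem_comap, RingHom.mem_ker]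
    exact Iff.rfl
  obtain ⟨w, hw⟩ : ∃ w, pt c w ≠ 0 := by
    by_contra h
    simp only [not_exists, not_not] at h
    apply hc
    funext v
    rcases v with i | i
    · simpa [pt] using h (Sum.inr i)
    · simpa [pt] using h (Sum.inl i)
  have hXw : Ideal.Quotient.mk (Ideal.span {Fq k n, Lc c}) (X w) ∉ P := by
    intro h
    have : φ (Ideal.Quotient.mk _ (X w)) = 0 := h
    rw [hφ, eval_X] at this
    exact hw this
  have hsm := formallySmooth_atPrime_of_smooth_away (k := k) _ P hXw (hall w)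
  have hsurj : Function.Surjective (algebraMap (S k n) (S k n ⧸ Ideal.span {Fq k n, Lc c})) :=
    Ideal.Quotient.mk_surjective
  have hker : RingHom.ker (algebraMap (S k n) (S k n ⧸ Ideal.span {Fq k n, Lc c})) =
      Ideal.span {Fq k n, Lc c} := Ideal.mk_ker
  have hFI : Fq k n ∈ Ideal.span {Fq k n, Lc c} := Ideal.subset_span (by simp)
  have hLI : Lc c ∈ Ideal.span {Fq k n, Lc c} := Ideal.subset_span (by simp)
  have hmem := DetSm.mem_mul_ker_of_formallySmooth (k := k) hsurj P hsm (Fq k n - Lc c)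
    (by rw [hker]; exact Ideal.sub_mem _ hFI hLI) (by rw [hunder]; exact D_Fq_sub_Lc_mem c)
  rw [hker] at hmem
  set SP := Localization.AtPrime (P.under (S k n)) with hSP
  set ι := algebraMap (S k n) SP with hι
  have hmap : (Ideal.span {Fq k n, Lc c}).map ι = Ideal.span {ι (Fq k n)} ⊔ Ideal.span {ι (Lc c)} :=
    map_span_pair ι _ _
  rw [hmap, Ideal.mul_sup] at hmem
  obtain ⟨y, hy, z, hz, hyz⟩ := Submodule.mem_sup.mp hmem
  obtain ⟨α, hα, rfl⟩ := Ideal.mem_mul_span_singleton.mp hy
  obtain ⟨β, hβ, rfl⟩ := Ideal.mem_mul_span_singleton.mp hz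
  rw [map_sub] at hyz
  obtain ⟨u, hu⟩ : IsUnit (1 - α) := IsLocalRing.isUnit_one_sub_self_of_mem_nonunits α hα
  have hFL : ι (Fq k n) ∈ Ideal.span {ι (Lc c)} := by
    rw [Ideal.mem_span_singleton']
    refine ⟨↑u⁻¹ * (1 + β), ?_⟩
    have e1 : (u : SP) * ι (Fq k n) = (1 + β) * ι (Lc c) := by rw [hu]; linear_combination -hyz
    calc ↑u⁻¹ * (1 + β) * ι (Lc c) = ↑u⁻¹ * ((u : SP) * ι (Fq k n)) := by
          rw [e1]; ring
      _ = ι (Fq k n) := by
          rw [← mul_assoc, Units.inv_mul, one_mul]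
  have hFL' : ι (Fq k n) ∈ (Ideal.span {Lc c}).map ι := by
    rw [Ideal.map_span, Set.image_singleton]; exact hFL
  obtain ⟨⟨⟨i, hi⟩, ⟨s, hs⟩⟩, h⟩ :=
    (IsLocalization.mem_map_algebraMap_iff (P.under (S k n)).primeCompl SP).mp hFL'
  have hinj : Function.Injective ι :=
    IsLocalization.injective _ (P.under (S k n)).primeCompl_le_nonZeroDivisors
  have h' : Fq k n * s = i := hinj (by simpa using h)
  have hdvd : Lc c ∣ Fq k n * s := by rw [h']; exact Ideal.mem_span_singleton.mp hi
  have hprime : Prime (Lc c) := prime_linear c hc (pt c) (eval_Lc c)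
  rcases hprime.dvd_or_dvd hdvd with h1 | h1
  · exact not_dvd hn c hc h1
  · apply hs
    change s ∈ P.under (S k n)
    rw [hunder, RingHom.mem_ker]
    obtain ⟨t, rfl⟩ := h1
    rw [map_mul, eval_Lc, zero_mul]

end

end Groth.Agent.Lib.Helper95.HypFq
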