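import Mathlib

/-! Jacobian criterion for a hypersurface `R[X₁..Xₙ]/(g)`: if some partial derivative of `g`
is a unit in the quotient, the quotient is a (standard) smooth `R`-algebra. -/

set_option autoImplicit false
universe u

namespace Groth.Agent.Lib.Helper95

open MvPolynomial

section

variable {R : Type u} [CommRing R] {n : ℕ}

/-- The presubmersive presentation of `R[X]/(g)` with one relation `g`, differentiated along `i`. -/
noncomputable def hypersurfacePre (g : MvPolynomial (Fin n) R) (i : Fin n) :
    Algebra.PreSubmersivePresentation R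
      (MvPolynomial (Fin n) R ⧸ Ideal.span (Set.range fun _ : Unit => g)) (Fin n) Unit where
  toPresentation := Algebra.Presentation.naive (v := fun _ : Unit => g)
  map := fun _ => i
  map_inj := fun _ _ _ => rfl

theorem hypersurfacePre_jacobian (g : MvPolynomial (Fin n) R) (i : Fin n) :
    (hypersurfacePre g i).jacobian =
      Ideal.Quotient.mk (Ideal.span (Set.range fun _ : Unit => g)) (pderiv i g) := by
  classical
  rw [Algebra.PreSubmersivePresentation.jacobian_eq_jacobiMatrix_det]
  rw [Matrix.det_unique, Algebra.PreSubmersivePresentation.jacobiMatrix_apply]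
  rfl

theorem smooth_quotient_range_of_isUnit_pderiv (g : MvPolynomial (Fin n) R) (i : Fin n)
    (h : IsUnit (Ideal.Quotient.mk (Ideal.span (Set.range fun _ : Unit => g)) (pderiv i g))) :
    Algebra.Smooth R (MvPolynomial (Fin n) R ⧸ Ideal.span (Set.range fun _ : Unit => g)) := by
  let P : Algebra.SubmersivePresentation R
      (MvPolynomial (Fin n) R ⧸ Ideal.span (Set.range fun _ : Unit => g)) (Fin n) Unit :=
    { toPreSubmersivePresentation := hypersurfacePre g i
      jacobian_isUnit := by rw [hypersurfacePre_jacobian]; exact h }
  have : Algebra.IsStandardSmooth R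
      (MvPolynomial (Fin n) R ⧸ Ideal.span (Set.range fun _ : Unit => g)) := P.isStandardSmooth
  infer_instance

/-- **Jacobian criterion, one equation.** If `∂g/∂Xᵢ` is a unit modulo `g`, then `R[X]/(g)` is
smooth over `R`. -/
theorem smooth_quotient_of_isUnit_pderiv (g : MvPolynomial (Fin n) R) (i : Fin n)
    (h : IsUnit (Ideal.Quotient.mk (Ideal.span ({g} : Set (MvPolynomial (Fin n) R))) (pderiv i g))) :
    Algebra.Smooth R (MvPolynomial (Fin n) R ⧸ Ideal.span ({g} : Set (MvPolynomial (Fin n) R))) := by
  have e : (Set.range fun _ : Unit => g) = {g} := Set.range_const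
  have key := smooth_quotient_range_of_isUnit_pderiv g i
  rw [e] at key
  exact key h

end

end Groth.Agent.Lib.Helper95
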