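import Groth.Prelude.Def_GSzMilK
import Mathlib

/-! Small API for the prelude's Milnor K-groups `MilK.K`. -/

set_option autoImplicit false
universe u v w

namespace Groth.Agent.Lib.Helper95

open MilK

/-- Two additive maps out of a Milnor K-group that agree on symbols are equal. -/
theorem milK_hom_ext {F : Type u} [Field F] {M : Type w} [AddCommGroup M] {n : ℕ}
    (f g : MilK.K F n →+ M) (h : ∀ x : Fin n → Fˣ, f (MilK.symbol x) = g (MilK.symbol x)) :
    f = g := by
  ext x
  obtain ⟨t, rfl⟩ := MilK.mk_surjective F n x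
  induction t using PiTensorProduct.induction_on with
  | smul_tprod r x =>
    rw [map_zsmul, map_zsmul, map_zsmul]
    congr 1
    exact h fun i => (x i).toMul
  | add a b ha hb =>
    rw [map_add, map_add, map_add, ha, hb]

/-- Multiplicativity of the symbol in its first entry. -/
theorem milK_symbol_cons_mul {F : Type u} [Field F] {n : ℕ} (a b : Fˣ) (x : Fin n → Fˣ) :
    MilK.symbol (Fin.cons (a * b) x : Fin (n + 1) → Fˣ) =
      MilK.symbol (Fin.cons a x : Fin (n + 1) → Fˣ) + MilK.symbol (Fin.cons b x : Fin (n + 1) → Fˣ) := by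
  unfold MilK.symbol
  rw [← map_add]
  congr 1
  have key := (PiTensorProduct.tprod ℤ (s := fun _ : Fin (n + 1) => Additive Fˣ)).cons_add
    (fun i => Additive.ofMul (x i)) (Additive.ofMul a) (Additive.ofMul b)
  have e : ∀ c : Fˣ, (fun i => Additive.ofMul ((Fin.cons c x : Fin (n + 1) → Fˣ) i)) =
      (Fin.cons (Additive.ofMul c) (fun i => Additive.ofMul (x i)) : Fin (n + 1) → Additive Fˣ) := by
    intro c
    funext i
    refine Fin.cases ?_ (fun j => ?_) i <;> simp
  rw [e, e, e, ofMul_mul]
  exact key

end Groth.Agent.Lib.Helper95
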