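import Groth.Agent.Lib.Helper39.MilnorK
import Groth.Agent.Lib.Helper95.MilK
import Mathlib

/-!
# Generators of the Milnor K-groups of the fraction field of a discrete valuation ring

For a DVR `A` with fraction field `L` and a uniformizer `ϖ`, the group `K_{n+1}(L)` is generated by
the symbols `{ϖ, u₁, …, uₙ}` and `{u₀, …, uₙ}` with the `uᵢ` units of `A`
(`milK_closure_gens_eq_top`), hence two additive maps out of `K_{n+1}(L)` agreeing on those are equal
(`milK_tame_hom_ext`).  Also: a tame symbol kills the symbols of units
(`milK_tame_unit_symbol_eq_zero`).  Uses helper39's `MilnorK` library.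
-/

set_option autoImplicit false
universe u v w

namespace Groth.Agent.Lib.Helper95

open MilK Groth.Agent.Lib.Helper39

section

variable (A : Type u) [CommRing A] [IsDomain A] [IsDiscreteValuationRing A]
  (L : Type v) [Field L] [Algebra A L] [IsFractionRing A L]

/-- A tame symbol vanishes on symbols of units. -/
theorem milK_tame_unit_symbol_eq_zero (n : ℕ)
    (d : MilK.K L (n + 1) →+ MilK.K (IsLocalRing.ResidueField A) n) (hd : MilK.IsTameSymbol A L n d)
    (u : Fin (n + 1) → Aˣ) : d (MilK.symbol fun i => MilK.unitToFrac A L (u i)) = 0 := by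
  obtain ⟨ϖ, hϖ⟩ := IsDiscreteValuationRing.exists_irreducible A
  have hϖ' : Irreducible (ϖ * (u 0 : A)) := (irreducible_mul_units (u 0)).mpr hϖ
  have h1 := hd ϖ hϖ (fun i => u i.succ)
  have h2 := hd (ϖ * (u 0 : A)) hϖ' (fun i => u i.succ)
  have e1 : MilK.unitFrac A L (ϖ * (u 0 : A)) hϖ'.ne_zero =
      MilK.unitFrac A L ϖ hϖ.ne_zero * MilK.unitToFrac A L (u 0) := by
    ext
    simp [MilK.unitToFrac]
  rw [e1, milK_symbol_cons_mul, map_add, h1] at h2
  have e2 : (fun i => MilK.unitToFrac A L (u i)) =
      (Fin.cons (MilK.unitToFrac A L (u 0)) (fun i => MilK.unitToFrac A L (u i.succ)) :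
        Fin (n + 1) → Lˣ) := by
    funext i
    refine Fin.cases ?_ (fun j => ?_) i <;> simp
  rw [e2]
  exact add_left_cancel (a := MilK.symbol fun i => MilK.unitResidue A (u i.succ)) (by rw [h2, add_zero])

/-- Every unit of the fraction field is a power of the uniformizer times a unit of `A`. -/
theorem milK_exists_zpow_mul_unit (ϖ : A) (hϖ : Irreducible ϖ) (x : Lˣ) :
    ∃ (e : ℤ) (u : Aˣ), x = MilK.unitFrac A L ϖ hϖ.ne_zero ^ e * MilK.unitToFrac A L u := by
  obtain ⟨a, b, hb, hab⟩ := IsFractionRing.div_surjective (A := A) (x : L)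
  have hb0 : b ≠ 0 := nonZeroDivisors.ne_zero hb
  have ha0 : a ≠ 0 := by
    rintro rfl
    rw [map_zero, zero_div] at hab
    exact x.ne_zero hab.symm
  obtain ⟨m, ua, hua⟩ := IsDiscreteValuationRing.eq_unit_mul_pow_irreducible ha0 hϖ
  obtain ⟨m', ub, hub⟩ := IsDiscreteValuationRing.eq_unit_mul_pow_irreducible hb0 hϖ
  refine ⟨(m : ℤ) - m', ua * ub⁻¹, ?_⟩
  apply Units.ext
  have hp0 : algebraMap A L ϖ ≠ 0 :=
    mt (IsFractionRing.to_map_eq_zero_iff (K := L)).mp hϖ.ne_zero
  have hub0 : algebraMap A L (ub : A) ≠ 0 :=
    mt (IsFractionRing.to_map_eq_zero_iff (K := L)).mp ub.ne_zero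
  have hinv : algebraMap A L ((ub⁻¹ : Aˣ) : A) = (algebraMap A L (ub : A))⁻¹ := by
    apply eq_inv_of_mul_eq_one_right
    rw [← map_mul]
    simp
  rw [← hab, hua, hub]
  simp only [Units.val_mul, Units.val_zpow_eq_zpow_val, MilK.coe_unitFrac, MilK.unitToFrac,
    Units.coe_map, MonoidHom.coe_coe, map_mul, map_pow, hinv]
  rw [zpow_sub₀ hp0, zpow_natCast, zpow_natCast]
  field_simp

variable {L}

/-- Integer powers in one entry of a symbol. -/
theorem milK_symbol_update_zpow {n : ℕ} (z : Fin n → Lˣ) (i : Fin n) (x : Lˣ) (e : ℤ) :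
    MilK.symbol (Function.update z i (x ^ e)) = e • MilK.symbol (Function.update z i x) := by
  let f : Additive Lˣ →+ MilK.K L n :=
    AddMonoidHom.mk' (fun a => MilK.symbol (Function.update z i a.toMul))
      (fun a b => symbol_update_mul z i a.toMul b.toMul)
  have h := map_zsmul f e (Additive.ofMul x)
  rw [← ofMul_zpow] at h
  exact h

variable (L)

/-- The generating set: symbols `{pi, u₁, …, uₙ}` and `{u₀, …, uₙ}`. -/
def milKGens (pi : Lˣ) (n : ℕ) : Set (MilK.K L (n + 1)) :=
  {s | ∃ u : Fin n → Aˣ, s = MilK.symbol (Fin.cons pi fun i => MilK.unitToFrac A L (u i))} ∪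
  {s | ∃ u : Fin (n + 1) → Aˣ, s = MilK.symbol fun i => MilK.unitToFrac A L (u i)}

omit [IsDomain A] [IsDiscreteValuationRing A] in
theorem milK_stepB (pi : Lˣ) (n : ℕ) :
    ∀ (r : ℕ) (P : Finset (Fin (n + 1))) (u : Fin (n + 1) → Aˣ), P.card = r →
      MilK.symbol (fun i => if i ∈ P then pi
        else MilK.unitToFrac A L (u i)) ∈ AddSubgroup.closure (milKGens A L pi n) := by
  classical
  intro r
  induction r with
  | zero =>
    intro P u hP
    rw [Finset.card_eq_zero] at hP
    subst hP
    apply AddSubgroup.subset_closure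
    right
    exact ⟨u, by simp⟩
  | succ r ih =>
    intro P u hP
    rcases r with _ | r
    · -- exactly one position
      obtain ⟨p, rfl⟩ := Finset.card_eq_one.mp hP
      by_cases hp : p = 0
      · subst hp
        apply AddSubgroup.subset_closure
        left
        refine ⟨fun i => u i.succ, ?_⟩
        congr 1
        funext i
        refine Fin.cases ?_ (fun j => ?_) i
        · simp
        · have : (Fin.succ j) ∉ ({0} : Finset (Fin (n + 1))) := by
            simp [Fin.succ_ne_zero]
          simp [this]
      · have hswap := symbol_comp_swap (fun i => if i ∈ ({p} : Finset (Fin (n + 1))) then pi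
          else MilK.unitToFrac A L (u i)) 0 p (Ne.symm hp)
        have hz' : MilK.symbol (fun i => if i ∈ ({p} : Finset (Fin (n + 1))) then pi
            else MilK.unitToFrac A L (u i)) =
            - MilK.symbol ((fun i => if i ∈ ({p} : Finset (Fin (n + 1))) then pi
              else MilK.unitToFrac A L (u i)) ∘ Equiv.swap 0 p) := by
          rw [hswap, neg_neg]
        rw [hz']
        apply AddSubgroup.neg_mem
        apply AddSubgroup.subset_closure
        left
        refine ⟨fun i => u (Equiv.swap 0 p i.succ), ?_⟩
        congr 1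
        funext i
        refine Fin.cases ?_ (fun j => ?_) i
        · simp
        · have hne : Equiv.swap 0 p (Fin.succ j) ≠ p := by
            intro h
            have := congrArg (Equiv.swap 0 p) h
            rw [Equiv.swap_apply_self, Equiv.swap_apply_right] at this
            exact Fin.succ_ne_zero j this
          simp [hne]
    · -- at least two positions
      have h2 : 1 < P.card := by omega
      obtain ⟨p', hp', q', hq', hpq'⟩ := Finset.one_lt_card.mp h2
      obtain ⟨p, q, hp, hq, hpq⟩ : ∃ p q, p ∈ P ∧ q ∈ P ∧ p < q := by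
        rcases lt_or_gt_of_ne hpq' with h | h
        · exact ⟨p', q', hp', hq', h⟩
        · exact ⟨q', p', hq', hp', h⟩
      obtain ⟨z, hz⟩ : ∃ z : Fin (n + 1) → Lˣ,
          z = fun i => if i ∈ P then pi else MilK.unitToFrac A L (u i) := ⟨_, rfl⟩
      rw [← hz]
      have hB := isSteinbergPairing_symbol z p q hpq
      have hzp : z p = pi := by simp [hz, hp]
      have hzq : z q = pi := by simp [hz, hq]
      have hu1 : Function.update z p pi = z := by
        rw [← hzp]
        exact Function.update_eq_self p z
      have hu2 : Function.update z q pi = z := by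
        rw [← hzq]
        exact Function.update_eq_self q z
      have e1 : MilK.symbol z =
          MilK.symbol (Function.update (Function.update z p pi) q pi) := by
        rw [hu1, hu2]
      have e2 : MilK.symbol (Function.update (Function.update z p pi) q pi) =
          - MilK.symbol (Function.update (Function.update z p pi) q (-1)) := by
        have h0 := hB.neg_self pi
        have hneg : -pi = (-1) * pi := by simp
        rw [hneg, hB.mul_right] at h0
        exact eq_neg_of_add_eq_zero_right h0
      have e3 : Function.update (Function.update z p pi) q (-1) =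
          fun i => if i ∈ P.erase q then pi
            else MilK.unitToFrac A L ((Function.update u q (-1)) i) := by
        rw [hu1]
        funext i
        by_cases hi : i = q
        · subst hi
          have : MilK.unitToFrac A L (-1 : Aˣ) = -1 := by
            apply Units.ext
            simp [MilK.unitToFrac]
          simp [this]
        · rw [Function.update_of_ne hi, Function.update_of_ne hi]
          have : i ∈ P.erase q ↔ i ∈ P := by simp [hi]
          simp only [hz, this]
      rw [e1, e2, e3]
      apply AddSubgroup.neg_mem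
      apply ih
      rw [Finset.card_erase_of_mem hq, hP]
      rfl

omit [IsDomain A] [IsDiscreteValuationRing A] in
theorem milK_closure_gens_eq_top' (pi : Lˣ)
    (hdec : ∀ x : Lˣ, ∃ (e : ℤ) (u : Aˣ), x = pi ^ e * MilK.unitToFrac A L u) (n : ℕ) :
    AddSubgroup.closure (milKGens A L pi n) = ⊤ := by
  classical
  let good : Lˣ → Prop := fun x => x = pi ∨ ∃ u : Aˣ, x = MilK.unitToFrac A L u
  have stepA : ∀ k : ℕ, ∀ z : Fin (n + 1) → Lˣ, (∀ i : Fin (n + 1), k ≤ i.val → good (z i)) →
      MilK.symbol z ∈ AddSubgroup.closure (milKGens A L pi n) := by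
    intro k
    induction k with
    | zero =>
      intro z hz
      let P : Finset (Fin (n + 1)) := Finset.univ.filter (fun i => z i = pi)
      let u : Fin (n + 1) → Aˣ := fun i =>
        if h : ∃ u : Aˣ, z i = MilK.unitToFrac A L u then h.choose else 1
      have hzu : z = fun i => if i ∈ P then pi else MilK.unitToFrac A L (u i) := by
        funext i
        by_cases hi : z i = pi
        · have : i ∈ P := by simp [P, hi]
          simp [this, hi]
        · have : i ∉ P := by simp [P, hi]
          have hex : ∃ u : Aˣ, z i = MilK.unitToFrac A L u :=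
            (hz i (Nat.zero_le _)).resolve_left hi
          simp only [this, if_false, u, dif_pos hex]
          exact hex.choose_spec
      rw [hzu]
      exact milK_stepB A L pi n P.card P u rfl
    | succ k ih =>
      intro z hz
      by_cases hk : k < n + 1
      · let i₀ : Fin (n + 1) := ⟨k, hk⟩
        obtain ⟨e, u, hzi⟩ := hdec (z i₀)
        have e1 : z = Function.update z i₀ (pi ^ e * MilK.unitToFrac A L u) := by
          rw [← hzi, Function.update_eq_self]
        rw [e1, symbol_update_mul, milK_symbol_update_zpow]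
        have hgood : ∀ (y : Lˣ), good y → ∀ i : Fin (n + 1), k ≤ i.val →
            good (Function.update z i₀ y i) := by
          intro y hy i hi
          by_cases hii : i = i₀
          · subst hii
            rw [Function.update_self]
            exact hy
          · rw [Function.update_of_ne hii]
            apply hz
            have : i.val ≠ k := fun h => hii (Fin.ext h)
            omega
        apply AddSubgroup.add_mem
        · apply AddSubgroup.zsmul_mem
          exact ih _ (hgood pi (Or.inl rfl))
        · exact ih _ (hgood _ (Or.inr ⟨u, rfl⟩))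
      · apply ih
        intro i hi
        have := i.isLt
        omega
  rw [eq_top_iff]
  intro x _
  refine K_induction (P := fun x => x ∈ AddSubgroup.closure (milKGens A L pi n)) ?_
    (AddSubgroup.zero_mem _)
    (fun _ _ hx hy => AddSubgroup.add_mem _ hx hy) (fun _ hx => AddSubgroup.neg_mem _ hx) x
  intro z
  apply stepA (n + 1) z
  intro i hi
  have := i.isLt
  omega

theorem milK_closure_gens_eq_top (ϖ : A) (hϖ : Irreducible ϖ) (n : ℕ) :
    AddSubgroup.closure (milKGens A L (MilK.unitFrac A L ϖ hϖ.ne_zero) n) = ⊤ :=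
  milK_closure_gens_eq_top' A L _ (milK_exists_zpow_mul_unit A L ϖ hϖ) n

/-- Two additive maps out of `K_{n+1}(L)` that agree on the symbols `{ϖ, u₁, …, uₙ}` and on the
symbols of units are equal. -/
theorem milK_tame_hom_ext {M : Type w} [AddCommGroup M] (ϖ : A) (hϖ : Irreducible ϖ) (n : ℕ)
    (f g : MilK.K L (n + 1) →+ M)
    (h1 : ∀ u : Fin n → Aˣ,
      f (MilK.symbol (Fin.cons (MilK.unitFrac A L ϖ hϖ.ne_zero) fun i => MilK.unitToFrac A L (u i))) =
      g (MilK.symbol (Fin.cons (MilK.unitFrac A L ϖ hϖ.ne_zero) fun i => MilK.unitToFrac A L (u i))))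
    (h2 : ∀ u : Fin (n + 1) → Aˣ,
      f (MilK.symbol fun i => MilK.unitToFrac A L (u i)) =
      g (MilK.symbol fun i => MilK.unitToFrac A L (u i))) : f = g := by
  have hle : AddSubgroup.closure (milKGens A L (MilK.unitFrac A L ϖ hϖ.ne_zero) n) ≤
      AddMonoidHom.eqLocus f g := by
    rw [AddSubgroup.closure_le]
    rintro s (⟨u, rfl⟩ | ⟨u, rfl⟩)
    · exact h1 u
    · exact h2 u
  rw [milK_closure_gens_eq_top A L ϖ hϖ n] at hle
  ext x
  exact hle (AddSubgroup.mem_top x)

end

section More

open MilK Groth.Agent.Lib.Helper39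

theorem milK_cast_mul_symbol_one {F : Type v} [Field F] {m : ℕ} (a : Fˣ) (b : Fin m → Fˣ) :
    MilK.cast F (Nat.add_comm 1 m) (MilK.mul F 1 m (MilK.symbol ![a]) (MilK.symbol b)) =
      MilK.symbol (Fin.cons a b : Fin (m + 1) → Fˣ) := by
  rw [MilK.mul_symbol_symbol, MilK.cast_symbol, Fin.append_left_eq_cons]
  congr 1

theorem milK_cons_comp {α β : Type*} (f : α → β) {m : ℕ} (a : α) (b : Fin m → α) :
    (Fin.cons (f a) (fun i => f (b i)) : Fin (m + 1) → β) =
      fun i => f ((Fin.cons a b : Fin (m + 1) → α) i) := by
  funext i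
  refine Fin.cases ?_ (fun j => ?_) i <;> simp

/-- `{x, …, -x, …} = 0` and `{-x, …, x, …} = 0`: a symbol with first entry `-x` and some later
entry `x` vanishes. -/
theorem milK_symbol_cons_neg_update_self {F : Type v} [Field F] {m : ℕ} (x : Fˣ) (g : Fin m → Fˣ)
    (i : Fin m) :
    MilK.symbol (Function.update (Fin.cons (-x) g : Fin (m + 1) → Fˣ) i.succ x) = 0 := by
  have hB := isSteinbergPairing_symbol (Fin.cons (-x) g : Fin (m + 1) → Fˣ) 0 i.succ (Fin.succ_pos i)
  have h := hB.neg_self (-x)
  rw [neg_neg] at h
  have e : Function.update (Fin.cons (-x) g : Fin (m + 1) → Fˣ) 0 (-x) = Fin.cons (-x) g := by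
    rw [Fin.update_cons_zero]
  rw [e] at h
  exact h

end More


end Groth.Agent.Lib.Helper95
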