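import Mathlib

/-!
# A normality criterion: `A[1/x]` normal and `A/x` reduced (helper95)
-/

set_option autoImplicit false

namespace Groth.Agent.Lib.Helper95.NormA

/-- Let `A` be a domain, `x ≠ 0` with `(x)` radical, and `η : A → Q` an injective map into an
integrally closed domain such that every element of `Q` becomes an image after multiplication by a
power of `η x`.  Then `A` is integrally closed. -/
theorem isIntegrallyClosed_of_radical {A Q : Type*} [CommRing A] [IsDomain A] [CommRing Q]
    [IsDomain Q] [IsIntegrallyClosed Q] (x : A) (hx : x ≠ 0) (hrad : (Ideal.span {x}).IsRadical)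
    (η : A →+* Q) (hη : Function.Injective η)
    (hsurj : ∀ q : Q, ∃ (a : A) (k : ℕ), η a = q * η x ^ k) : IsIntegrallyClosed A := by
  rw [isIntegrallyClosed_iff (FractionRing A)]
  intro z hz
  let j : A →+* FractionRing Q := (algebraMap Q (FractionRing Q)).comp η
  have hj : Function.Injective j := (IsFractionRing.injective Q (FractionRing Q)).comp hη
  let ψ : FractionRing A →+* FractionRing Q := IsFractionRing.lift hj
  have hψ : ∀ a : A, ψ (algebraMap A (FractionRing A) a) = j a := fun a =>
    IsFractionRing.lift_algebraMap hj a
  have hψinj : Function.Injective ψ := RingHom.injective ψ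
  have hxF : algebraMap A (FractionRing A) x ≠ 0 :=
    (map_ne_zero_iff _ (IsFractionRing.injective A (FractionRing A))).mpr hx
  -- the image of `z` lies in `Q`
  have h1 : IsIntegral Q (ψ z) := by
    obtain ⟨f, hfm, hf0⟩ := hz
    refine ⟨f.map η, hfm.map _, ?_⟩
    rw [Polynomial.eval₂_map]
    have : (algebraMap Q (FractionRing Q)).comp η = ψ.comp (algebraMap A (FractionRing A)) := by
      ext a
      rw [RingHom.comp_apply, RingHom.comp_apply, hψ]
      rfl
    rw [this, ← Polynomial.hom_eval₂, hf0, map_zero]
  obtain ⟨q, hq⟩ := (isIntegrallyClosed_iff (FractionRing Q)).mp inferInstance h1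
  obtain ⟨a, k, hak⟩ := hsurj q
  have h2 : z * algebraMap A (FractionRing A) x ^ k = algebraMap A (FractionRing A) a := by
    apply hψinj
    rw [map_mul, map_pow, hψ, hψ, ← hq]
    show algebraMap Q (FractionRing Q) q * (algebraMap Q (FractionRing Q) (η x)) ^ k =
      algebraMap Q (FractionRing Q) (η a)
    rw [hak, map_mul, map_pow]
  -- descent
  have key : ∀ (k : ℕ) (a : A),
      z * algebraMap A (FractionRing A) x ^ k = algebraMap A (FractionRing A) a →
      ∃ b : A, algebraMap A (FractionRing A) b = z := by
    intro k
    induction k with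
    | zero =>
      intro a ha
      rw [pow_zero, mul_one] at ha
      exact ⟨a, ha.symm⟩
    | succ k ih =>
      intro a ha
      set u := z * algebraMap A (FractionRing A) x ^ k with hu
      have hu_int : IsIntegral A u := hz.mul (isIntegral_algebraMap.pow k)
      have hux : algebraMap A (FractionRing A) x * u = algebraMap A (FractionRing A) a := by
        rw [← ha, hu, pow_succ]
        ring
      obtain ⟨p, hpm, hp0⟩ := hu_int
      have hdvd := Polynomial.dvd_pow_natDegree_of_eval₂_eq_zero
        (IsFractionRing.injective A (FractionRing A)) hpm x a u hp0 hux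
      have hmem : a ∈ Ideal.span {x} :=
        hrad ⟨p.natDegree, Ideal.mem_span_singleton.mpr hdvd⟩
      obtain ⟨a', rfl⟩ := Ideal.mem_span_singleton.mp hmem
      apply ih a'
      rw [map_mul] at hux
      exact mul_left_cancel₀ hxF hux
  exact key k a h2

end Groth.Agent.Lib.Helper95.NormA
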