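import Mathlib
import Groth.Agent.Lib.Helper95.SMTPrime
import Groth.Agent.Lib.Helper27.Plucker

/-!
# The big cell of a Schubert cone: echelon matrices (helper95)
-/

set_option autoImplicit false

open MvPolynomial W4bk4grassmannian Groth.Agent.Lib.Helper95.SMT

namespace Groth.Agent.Lib.Helper95.NormB

universe u

section Generic

variable (K : Type u) [Field K] {d n : ℕ}

/-- evaluation of a signed coordinate at the minors of a matrix over a `K`-algebra. -/
theorem aeval_coord {R : Type*} [CommRing R] [Algebra K R] (M : Matrix (Fin n) (Fin d) R)
    (a : Fin d → Fin n) :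
    aeval (fun θ : Idx d n => (M.submatrix θ.1 id).det) (coord K d n a) =
      (M.submatrix a id).det := by
  by_cases h : (Finset.univ.image a).card = d
  · obtain ⟨σ, hσ⟩ := Groth.Agent.Lib.Helper27.Plucker.exists_perm a h
    have hsign := Groth.Agent.Lib.Helper27.Plucker.sign_eq_pow_invCount (K := K) a h σ hσ
    have hsignR : ((Equiv.Perm.sign σ : ℤ) : R) = (-1) ^ invCount d n a := by
      have := congrArg (algebraMap K R) hsign
      rwa [map_intCast, map_pow, map_neg, map_one] at this
    unfold coord
    rw [dif_pos h, map_mul, map_pow, map_neg, map_one, aeval_X, ← hsignR]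
    have : M.submatrix a id = (M.submatrix (sortIdx d n a h).1 id).submatrix σ id := by
      ext i j
      simp [hσ]
    rw [this, Matrix.det_permute]
  · unfold coord
    rw [dif_neg h, map_zero]
    have hninj : ¬ Function.Injective a :=
      fun hi => h ((Groth.Agent.Lib.Helper27.Plucker.card_image_eq_iff a).mpr hi)
    rw [Function.Injective] at hninj
    push Not at hninj
    obtain ⟨p, p', hpp, hne⟩ := hninj
    symm
    apply Matrix.det_zero_of_row_eq hne
    ext c
    simp [Matrix.submatrix_apply, hpp]

theorem det_updateRow_one {R : Type*} [CommRing R] (c : Fin d) (v : Fin d → R) :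
    (Matrix.updateRow (1 : Matrix (Fin d) (Fin d) R) c v).det = v c := by
  rw [← Matrix.cramer_transpose_apply, Matrix.transpose_one, Matrix.cramer_one]
  rfl

/-- if the rows `τ` of `M` form the identity, the entries of `M` are minors. -/
theorem det_submatrix_update {R : Type*} [CommRing R] (τ : Idx d n) (M : Matrix (Fin n) (Fin d) R)
    (hM : M.submatrix τ.1 id = 1) (k : Fin d) (i : Fin n) :
    (M.submatrix (Function.update τ.1 k i) id).det = M i k := by
  have h : M.submatrix (Function.update τ.1 k i) id =
      Matrix.updateRow (1 : Matrix (Fin d) (Fin d) R) k (M i) := by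
    ext j c
    by_cases hj : j = k
    · subst hj
      simp [Matrix.submatrix_apply, Matrix.updateRow_self]
    · rw [Matrix.updateRow_ne hj, Matrix.submatrix_apply, Function.update_of_ne hj, ← hM]
      rfl
  rw [h, det_updateRow_one]

end Generic

end Groth.Agent.Lib.Helper95.NormB
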