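import Mathlib
import Groth.Agent.Lib.Helper95.NormB

/-!
# The big cell of a Schubert cone: the echelon parametrisation (helper95)
-/

set_option autoImplicit false

open MvPolynomial W4bk4grassmannian Groth.Agent.Lib.Helper95.SMT

namespace Groth.Agent.Lib.Helper95.NormB

universe u

variable (K : Type u) [Field K] {d n : ℕ} (τ : Idx d n)

/-- free positions of the echelon form attached to `τ`. -/
def IsFree (i : Fin n) (k : Fin d) : Prop := i < τ.1 k ∧ ∀ j, τ.1 j ≠ i

/-- the variables of the cell. -/
abbrev Free : Type := {p : Fin n × Fin d // IsFree τ p.1 p.2}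

/-- the coordinate ring of (cell) × (line). -/
abbrev CellQ : Type u := MvPolynomial (Option (Free τ)) K

open Classical in
/-- the generic echelon matrix. -/
noncomputable def E0 : Matrix (Fin n) (Fin d) (CellQ K τ) :=
  Matrix.of fun i k => if h : IsFree τ i k then X (some ⟨(i, k), h⟩)
    else if i = τ.1 k then 1 else 0

open Classical in
theorem E0_apply (i : Fin n) (k : Fin d) :
    E0 K τ i k = if h : IsFree τ i k then X (some ⟨(i, k), h⟩)
      else if i = τ.1 k then 1 else 0 := rfl

theorem not_isFree_top (j k : Fin d) : ¬ IsFree τ (τ.1 j) k := fun h => h.2 j rfl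

theorem E0_submatrix_top : (E0 K τ).submatrix τ.1 id = 1 := by
  ext j k
  rw [Matrix.submatrix_apply, id, E0_apply, dif_neg (not_isFree_top τ j k), Matrix.one_apply]
  by_cases h : j = k
  · rw [if_pos h, if_pos (by rw [h])]
  · rw [if_neg h, if_neg (fun h' => h (τ.2.injective h'))]

theorem E0_staircase (i : Fin n) (k : Fin d) (h : τ.1 k < i) : E0 K τ i k = 0 := by
  rw [E0_apply, dif_neg (fun hf => absurd hf.1 (not_lt.mpr h.le)), if_neg (ne_of_gt h)]

open Classical in
/-- the scaling vector `(T, 1, …, 1)`. -/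
noncomputable def cvec (hd : 0 < d) : Fin d → CellQ K τ :=
  fun k => if k = ⟨0, hd⟩ then X none else 1

theorem prod_cvec (hd : 0 < d) : ∏ k, cvec K τ hd k = X none := by
  classical
  unfold cvec
  rw [Finset.prod_ite_eq' Finset.univ (⟨0, hd⟩ : Fin d) (fun _ => (X none : CellQ K τ))]
  simp

/-- the generic echelon matrix with first column scaled by `T`. -/
noncomputable def E (hd : 0 < d) : Matrix (Fin n) (Fin d) (CellQ K τ) :=
  E0 K τ * Matrix.diagonal (cvec K τ hd)

theorem E_apply (hd : 0 < d) (i : Fin n) (k : Fin d) :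
    E K τ hd i k = E0 K τ i k * cvec K τ hd k := by
  unfold E
  rw [Matrix.mul_diagonal]

theorem E_staircase (hd : 0 < d) (i : Fin n) (k : Fin d) (h : τ.1 k < i) : E K τ hd i k = 0 := by
  rw [E_apply, E0_staircase K τ i k h, zero_mul]

theorem det_E_submatrix (hd : 0 < d) (a : Fin d → Fin n) :
    ((E K τ hd).submatrix a id).det = ((E0 K τ).submatrix a id).det * X none := by
  have h : (E K τ hd).submatrix a id =
      (E0 K τ).submatrix a id * Matrix.diagonal (cvec K τ hd) := by
    ext j k
    rw [Matrix.submatrix_apply, E_apply, Matrix.mul_diagonal]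
    rfl
  rw [h, Matrix.det_mul, Matrix.det_diagonal, prod_cvec]

/-- the comorphism of the echelon parametrisation. -/
noncomputable def eta (hd : 0 < d) : PlRing K d n →ₐ[K] CellQ K τ :=
  aeval fun θ : Idx d n => ((E K τ hd).submatrix θ.1 id).det

theorem eta_X (hd : 0 < d) (θ : Idx d n) :
    eta K τ hd (X θ) = ((E K τ hd).submatrix θ.1 id).det := by
  unfold eta
  rw [aeval_X]

theorem eta_X_top (hd : 0 < d) : eta K τ hd (X τ) = X none := by
  rw [eta_X, det_E_submatrix, E0_submatrix_top, Matrix.det_one, one_mul]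

theorem eta_coord (hd : 0 < d) (a : Fin d → Fin n) :
    eta K τ hd (coord K d n a) = ((E0 K τ).submatrix a id).det * X none := by
  unfold eta
  rw [aeval_coord, det_E_submatrix]

theorem eta_coord_update (hd : 0 < d) (p : Free τ) :
    eta K τ hd (coord K d n (Function.update τ.1 p.1.2 p.1.1)) = X (some p) * X none := by
  rw [eta_coord, det_submatrix_update τ (E0 K τ) (E0_submatrix_top K τ), E0_apply,
    dif_pos p.2]

theorem eval_eta (hd : 0 < d) (x : Option (Free τ) → K) (f : PlRing K d n) :
    eval x (eta K τ hd f) = evalMinors K d n ((E K τ hd).map (eval x)) f := by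
  have h : (MvPolynomial.aeval x : CellQ K τ →ₐ[K] K).comp (eta K τ hd) =
      evalMinors K d n ((E K τ hd).map (eval x)) := by
    apply MvPolynomial.algHom_ext
    intro θ
    rw [AlgHom.comp_apply, eta_X]
    unfold evalMinors
    rw [aeval_X, aeval_def, Algebra.algebraMap_self]
    change eval x _ = _
    rw [RingHom.map_det, RingHom.mapMatrix_apply, Matrix.submatrix_map]
  have h2 := congrArg (fun g => g f) h
  simp only [AlgHom.comp_apply] at h2
  rw [← h2, aeval_def, Algebra.algebraMap_self]
  rfl

theorem eta_eq_zero_of_mem [Infinite K] (hd : 0 < d) (f : PlRing K d n)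
    (hf : f ∈ schubertVanishing K d n τ) : eta K τ hd f = 0 := by
  apply MvPolynomial.funext
  intro x
  rw [eval_eta, map_zero]
  unfold schubertVanishing at hf
  rw [Ideal.mem_iInf] at hf
  have h1 := hf ((E K τ hd).map (eval x))
  rw [Ideal.mem_iInf] at h1
  have h2 := h1 (by
    intro φ hφ
    apply det_submatrix_eq_zero_of_staircase τ _ _ φ hφ
    intro a t hat
    rw [Matrix.map_apply, E_staircase K τ hd a t hat, map_zero])
  exact RingHom.mem_ker.mp h2

/-- every element of the cell ring is an image up to a power of `T`. -/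
theorem exists_eta_eq (hd : 0 < d) (q : CellQ K τ) :
    ∃ (a : PlRing K d n) (k : ℕ), eta K τ hd a = q * eta K τ hd (X τ) ^ k := by
  rw [eta_X_top]
  induction q using MvPolynomial.induction_on with
  | C c => exact ⟨C c, 0, by rw [pow_zero, mul_one]; exact (eta K τ hd).commutes c⟩
  | add q₁ q₂ h₁ h₂ =>
    obtain ⟨a₁, k₁, h₁⟩ := h₁
    obtain ⟨a₂, k₂, h₂⟩ := h₂
    refine ⟨a₁ * X τ ^ k₂ + a₂ * X τ ^ k₁, k₁ + k₂, ?_⟩
    rw [map_add, map_mul, map_mul, map_pow, map_pow, eta_X_top, h₁, h₂]
    ring
  | mul_X q v h =>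
    obtain ⟨a, k, h⟩ := h
    cases v with
    | none =>
      refine ⟨a * X τ, k, ?_⟩
      rw [map_mul, eta_X_top, h]
      ring
    | some p =>
      refine ⟨a * coord K d n (Function.update τ.1 p.1.2 p.1.1), k + 1, ?_⟩
      rw [map_mul, eta_coord_update, h]
      ring

end Groth.Agent.Lib.Helper95.NormB
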