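import Mathlib
import Groth.Agent.Lib.Helper95.NormC

/-!
# The echelon parametrisation of a Schubert cone is dominant (helper95)
-/

set_option autoImplicit false

open MvPolynomial W4bk4grassmannian Groth.Agent.Lib.Helper95.SMT

namespace Groth.Agent.Lib.Helper95.NormB

universe u

section Comb

variable {d n : ℕ}

theorem sum_sortIdx (a : Fin d → Fin n) (h : (Finset.univ.image a).card = d) :
    ∑ j, ((sortIdx d n a h).1 j).val = ∑ j, (a j).val := by
  have hinj : Function.Injective a := (Groth.Agent.Lib.Helper27.Plucker.card_image_eq_iff a).mp h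
  have h1 : ∑ j, ((sortIdx d n a h).1 j).val =
      ∑ x ∈ Finset.univ.image (sortIdx d n a h).1, x.val := by
    rw [Finset.sum_image]
    intro x _ y _ hxy
    exact (sortIdx d n a h).2.injective hxy
  have h2 : ∑ j, (a j).val = ∑ x ∈ Finset.univ.image a, x.val := by
    rw [Finset.sum_image]
    intro x _ y _ hxy
    exact hinj hxy
  rw [h1, h2, Groth.Agent.Lib.Helper27.Plucker.image_sortIdx]

theorem sortIdx_update_not_le (τ : Idx d n) (k : Fin d) (i : Fin n) (hi : τ.1 k < i)
    (h : (Finset.univ.image (Function.update τ.1 k i)).card = d) :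
    ¬ sortIdx d n (Function.update τ.1 k i) h ≤ τ := by
  intro hle
  have h1 : ∑ j, ((sortIdx d n (Function.update τ.1 k i) h).1 j).val ≤ ∑ j, (τ.1 j).val :=
    Finset.sum_le_sum fun j _ => Fin.le_def.mp (hle j)
  rw [sum_sortIdx] at h1
  have h2 : ∑ j, (Function.update τ.1 k i j).val =
      i.val + ∑ j ∈ Finset.univ.erase k, (τ.1 j).val := by
    rw [← Finset.add_sum_erase Finset.univ _ (Finset.mem_univ k), Function.update_self]
    congr 1
    refine Finset.sum_congr rfl fun j hj => ?_
    rw [Function.update_of_ne (Finset.ne_of_mem_erase hj)]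
  have h3 : ∑ j, (τ.1 j).val = (τ.1 k).val + ∑ j ∈ Finset.univ.erase k, (τ.1 j).val :=
    (Finset.add_sum_erase Finset.univ _ (Finset.mem_univ k)).symm
  rw [h2, h3] at h1
  have := Fin.lt_def.mp hi
  omega

end Comb

variable (K : Type u) [Field K] {d n : ℕ} (τ : Idx d n)

/-- a matrix whose rows `τ` form the identity and which satisfies the Schubert conditions of `τ`
is in echelon form. -/
theorem entry_eq_zero_of_schubert (N : Matrix (Fin n) (Fin d) K) (hN1 : N.submatrix τ.1 id = 1)
    (hN : ∀ φ : Idx d n, ¬ φ ≤ τ → (N.submatrix φ.1 id).det = 0) (i : Fin n) (k : Fin d)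
    (hi : τ.1 k < i) : N i k = 0 := by
  rw [← det_submatrix_update τ N hN1 k i, ← evalMinors_coord N (Function.update τ.1 k i)]
  unfold coord
  by_cases h : (Finset.univ.image (Function.update τ.1 k i)).card = d
  · rw [dif_pos h, map_mul]
    have : evalMinors K d n N (X (sortIdx d n (Function.update τ.1 k i) h)) = 0 := by
      unfold evalMinors
      rw [aeval_X]
      exact hN _ (sortIdx_update_not_le τ k i hi h)
    rw [this, mul_zero]
  · rw [dif_neg h, map_zero]

theorem submatrix_mul_right (N : Matrix (Fin n) (Fin d) K) (g : Matrix (Fin d) (Fin d) K)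
    (a : Fin d → Fin n) : (N * g).submatrix a id = N.submatrix a id * g := by
  ext j c
  simp [Matrix.mul_apply]

open Classical in
/-- the kernel of the echelon parametrisation is the Schubert ideal. -/
theorem ker_eta_le [Infinite K] (hd : 0 < d) :
    RingHom.ker (eta K τ hd).toRingHom ≤ schubertVanishing K d n τ := by
  intro f hf
  rw [RingHom.mem_ker] at hf
  have hf' : eta K τ hd f = 0 := hf
  have hprime := isPrime_schubertVanishing K hd τ
  suffices h : f * X τ ∈ schubertVanishing K d n τ from
    (hprime.mem_or_mem h).resolve_right (X_notMem_schubertVanishing K hd τ le_rfl)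
  unfold schubertVanishing
  rw [Ideal.mem_iInf]
  intro N
  rw [Ideal.mem_iInf]
  intro hN
  rw [RingHom.mem_ker]
  show evalMinors K d n N (f * X τ) = 0
  rw [map_mul]
  have hXτ : evalMinors K d n N (X τ) = (N.submatrix τ.1 id).det := by
    unfold evalMinors
    rw [aeval_X]
  rw [hXτ]
  set δ := (N.submatrix τ.1 id).det with hδ
  by_cases hδ0 : δ = 0
  · rw [hδ0, mul_zero]
  have hunit : IsUnit (N.submatrix τ.1 id).det := IsUnit.mk0 _ hδ0
  set g₁ := (N.submatrix τ.1 id)⁻¹ with hg₁
  set N'' := N * g₁ with hN''
  have hN''1 : N''.submatrix τ.1 id = 1 := by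
    rw [hN'', submatrix_mul_right, hg₁, Matrix.mul_nonsing_inv _ hunit]
  have hN''S : ∀ φ : Idx d n, ¬ φ ≤ τ → (N''.submatrix φ.1 id).det = 0 := by
    intro φ hφ
    rw [hN'', submatrix_mul_right, Matrix.det_mul, hN φ hφ, zero_mul]
  set c' : Fin d → K := fun k => if k = ⟨0, hd⟩ then δ else 1 with hc'
  set x : Option (Free τ) → K := fun o => Option.elim o δ (fun p => N'' p.1.1 p.1.2) with hx
  have hE : (E K τ hd).map (eval x) = N'' * Matrix.diagonal c' := by
    ext i k
    rw [Matrix.map_apply, E_apply, map_mul, Matrix.mul_diagonal]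
    have h1 : eval x (cvec K τ hd k) = c' k := by
      unfold cvec
      rw [hc']
      simp only
      split_ifs
      · rw [eval_X]
        rfl
      · rw [map_one]
    have h2 : eval x (E0 K τ i k) = N'' i k := by
      rw [E0_apply]
      by_cases hfree : IsFree τ i k
      · rw [dif_pos hfree, eval_X]
        rfl
      · rw [dif_neg hfree]
        by_cases hik : i = τ.1 k
        · rw [if_pos hik, map_one, hik]
          have := congrFun (congrFun hN''1 k) k
          rw [Matrix.submatrix_apply, Matrix.one_apply_eq] at this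
          exact this.symm
        · rw [if_neg hik, map_zero]
          symm
          by_cases hrange : ∃ j, τ.1 j = i
          · obtain ⟨j, rfl⟩ := hrange
            have hjk : j ≠ k := fun h => hik (by rw [h])
            have := congrFun (congrFun hN''1 j) k
            rw [Matrix.submatrix_apply, Matrix.one_apply_ne hjk] at this
            exact this
          · push Not at hrange
            have hlt : τ.1 k < i := by
              rcases lt_trichotomy i (τ.1 k) with h | h | h
              · exact absurd ⟨h, hrange⟩ hfree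
              · exact absurd h hik
              · exact h
            exact entry_eq_zero_of_schubert K τ N'' hN''1 hN''S i k hlt
    rw [h1, h2]
  have hdet : (g₁ * Matrix.diagonal c').det = 1 := by
    rw [Matrix.det_mul, hg₁, Matrix.det_nonsing_inv, Matrix.det_diagonal, hc',
      Finset.prod_ite_eq' Finset.univ (⟨0, hd⟩ : Fin d) (fun _ => δ)]
    simp only [Finset.mem_univ, if_true]
    rw [Ring.inverse_eq_inv', inv_mul_cancel₀ hδ0]
  have hminors : (fun θ : Idx d n => (((E K τ hd).map (eval x)).submatrix θ.1 id).det) =
      fun θ : Idx d n => (N.submatrix θ.1 id).det := by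
    funext θ
    rw [hE, hN'', Matrix.mul_assoc, submatrix_mul_right, Matrix.det_mul, hdet, mul_one]
  have hfinal : evalMinors K d n N f = 0 := by
    have h1 := eval_eta K τ hd x f
    rw [hf', map_zero] at h1
    unfold evalMinors at h1 ⊢
    rw [hminors] at h1
    exact h1.symm
  rw [hfinal, zero_mul]

end Groth.Agent.Lib.Helper95.NormB
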