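import Mathlib
import Groth.Agent.Lib.Helper95.NormA
import Groth.Agent.Lib.Helper95.NormD
import Groth.Agent.Lib.Helper95.CMSchC

/-!
# Schubert cones are normal (helper95)
-/

set_option autoImplicit false

open MvPolynomial W4bk4grassmannian Groth.Agent.Lib.Helper95.SMT Groth.Agent.Lib.Helper95.SMTDim

namespace Groth.Agent.Lib.Helper95.NormB

universe u

variable (K : Type u) [Field K] [IsAlgClosed K] {d n : ℕ}

theorem isRadical_sup_span (hd : 0 < d) (hdn : d < n) (τ : Idx d n) :
    (schubertVanishing K d n τ ⊔ Ideal.span {(X τ : PlRing K d n)}).IsRadical := by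
  haveI : Infinite K := IsAlgClosed.instInfinite
  by_cases hτ : ∃ φ : Idx d n, φ < τ
  · rw [Groth.Agent.S11254.result K d n hd hdn τ hτ]
    rintro a ⟨N, ha⟩
    rw [Ideal.mem_iInf] at ha ⊢
    intro φ
    have h1 := ha φ
    rw [Ideal.mem_iInf] at h1 ⊢
    intro hφ
    exact (isPrime_schubertVanishing K hd φ).mem_of_pow_mem N (h1 hφ)
  · push Not at hτ
    rw [Groth.Agent.Lib.Helper95.CMSch.sup_span_eq_of_codeg_zero K hd τ
      (codeg_eq_zero_of_forall_not_lt hdn.le τ hτ)]
    exact (Groth.Agent.Lib.Helper95.CMWrap.ker_constantCoeff_isMaximal K (Idx d n)).isPrime.isRadical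

theorem isIntegrallyClosed_schubert (hd : 0 < d) (hdn : d < n) (τ : Idx d n) :
    IsIntegrallyClosed (PlRing K d n ⧸ schubertVanishing K d n τ) := by
  haveI : Infinite K := IsAlgClosed.instInfinite
  set J := schubertVanishing K d n τ with hJ
  haveI hprime : J.IsPrime := isPrime_schubertVanishing K hd τ
  haveI : IsDomain (PlRing K d n ⧸ J) := Ideal.Quotient.isDomain J
  set x : PlRing K d n ⧸ J := Ideal.Quotient.mk J (X τ) with hx
  have hx0 : x ≠ 0 := by
    rw [hx, Ne, Ideal.Quotient.eq_zero_iff_mem]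
    exact X_notMem_schubertVanishing K hd τ le_rfl
  have hspan : Ideal.span {x} = (Ideal.span {(X τ : PlRing K d n)}).map (Ideal.Quotient.mk J) := by
    rw [Ideal.map_span, Set.image_singleton]
  have hrad : (Ideal.span {x}).IsRadical := by
    rintro a ⟨N, ha⟩
    obtain ⟨b, rfl⟩ := Ideal.Quotient.mk_surjective a
    rw [hspan, ← map_pow, Ideal.mem_quotient_iff_mem_sup] at ha
    rw [hspan, Ideal.mem_quotient_iff_mem_sup]
    rw [sup_comm] at ha ⊢
    exact isRadical_sup_span K hd hdn τ ⟨N, ha⟩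
  let ηbar : (PlRing K d n ⧸ J) →+* CellQ K τ :=
    Ideal.Quotient.lift J (eta K τ hd).toRingHom (fun f hf => eta_eq_zero_of_mem K τ hd f hf)
  have hηbar : ∀ b, ηbar (Ideal.Quotient.mk J b) = eta K τ hd b := fun b => rfl
  have hinj : Function.Injective ηbar := by
    rw [injective_iff_map_eq_zero]
    intro a ha
    obtain ⟨b, rfl⟩ := Ideal.Quotient.mk_surjective a
    rw [hηbar] at ha
    rw [Ideal.Quotient.eq_zero_iff_mem]
    exact ker_eta_le K τ hd (RingHom.mem_ker.mpr ha)
  refine Groth.Agent.Lib.Helper95.NormA.isIntegrallyClosed_of_radical x hx0 hrad ηbar hinj ?_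
  intro q
  obtain ⟨b, k, hb⟩ := exists_eta_eq K τ hd q
  exact ⟨Ideal.Quotient.mk J b, k, by rw [hηbar, hx, hηbar, hb]⟩

end Groth.Agent.Lib.Helper95.NormB
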