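import Mathlib
import Groth.Prelude.Def_W4c3degenlocivbPfaff

set_option autoImplicit false

namespace Groth.Agent.Lib.Helper95.PfaffA
open W4c3degenlocivb

theorem pf_succ_succ {R : Type*} [CommRing R] (n : ℕ) (T : Matrix (Fin (n+2)) (Fin (n+2)) R) :
    pf (n+2) T = ∑ j : Fin (n + 1),
      (-1) ^ ((j : ℕ) + 1) * T (Fin.last (n + 1)) (Fin.castSucc j) *
        pf n (T.submatrix (Fin.castSucc ∘ j.succAbove) (Fin.castSucc ∘ j.succAbove)) := by
  rw [pf]

theorem pf_map {R S : Type*} [CommRing R] [CommRing S] (φ : R →+* S) :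
    ∀ (n : ℕ) (T : Matrix (Fin n) (Fin n) R), pf n (T.map φ) = φ (pf n T)
  | 0, _ => by simp [pf]
  | 1, _ => by simp [pf]
  | n + 2, T => by
      rw [pf_succ_succ, pf_succ_succ, map_sum]
      refine Finset.sum_congr rfl fun j _ => ?_
      rw [map_mul, map_mul, map_pow, map_neg, map_one]
      have := pf_map φ n (T.submatrix (Fin.castSucc ∘ j.succAbove) (Fin.castSucc ∘ j.succAbove))
      rw [← this]
      rfl

theorem pf_isHomogeneous {σ R : Type*} [CommRing R] :
    ∀ (n : ℕ) (T : Matrix (Fin n) (Fin n) (MvPolynomial σ R)), (∀ a b, (T a b).IsHomogeneous 1) →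
      (pf n T).IsHomogeneous (n / 2)
  | 0, _, _ => by simpa [pf] using MvPolynomial.isHomogeneous_one σ R
  | 1, _, _ => by simpa [pf] using MvPolynomial.isHomogeneous_zero σ R 0
  | n + 2, T, h => by
      rw [pf_succ_succ]
      have hn : (n + 2) / 2 = (0 + 1) + n / 2 := by omega
      rw [hn]
      refine MvPolynomial.IsHomogeneous.sum _ _ _ fun j _ => ?_
      refine MvPolynomial.IsHomogeneous.mul ?_ (pf_isHomogeneous n _ fun a b => h _ _)
      have : ((-1 : MvPolynomial σ R) ^ ((j : ℕ) + 1)) = MvPolynomial.C ((-1) ^ ((j : ℕ) + 1)) := by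
        simp
      rw [this]
      exact (MvPolynomial.isHomogeneous_C σ _).mul (h _ _)

section Path
variable {S : Type*} [CommRing S] (ℓ : ℕ → S)

/-- entries of the infinite "path" alternating matrix -/
def Pmat (u v : ℕ) : S := if v = u + 1 then ℓ u else if u = v + 1 then - ℓ v else 0

theorem pf_path_consec (n : ℕ) (hn : Even n) (f : Fin (n + 2) → ℕ) (hf : StrictMono f)
    (hc : f (Fin.last (n + 1)) = f (Fin.castSucc (Fin.last n)) + 1) :
    pf (n + 2) (Matrix.of fun a b => Pmat ℓ (f a) (f b)) =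
      ℓ (f (Fin.castSucc (Fin.last n))) *
        pf n (Matrix.of fun a b => Pmat ℓ (f (Fin.castSucc (Fin.castSucc a)))
          (f (Fin.castSucc (Fin.castSucc b)))) := by
  rw [pf_succ_succ, Finset.sum_eq_single (Fin.last n)]
  · rw [Fin.succAbove_last]
    simp only [Matrix.of_apply, Fin.val_last]
    have h1 : Pmat ℓ (f (Fin.last (n + 1))) (f (Fin.castSucc (Fin.last n))) =
        - ℓ (f (Fin.castSucc (Fin.last n))) := by
      unfold Pmat
      rw [if_neg (by omega), if_pos hc]
    rw [h1, pow_succ, Even.neg_one_pow hn, one_mul, neg_one_mul, neg_neg]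
    rfl
  · intro j _ hj
    have hlt : j < Fin.last n := lt_of_le_of_ne (Fin.le_last j) hj
    have h1 : f (Fin.castSucc j) < f (Fin.castSucc (Fin.last n)) := hf (Fin.castSucc_lt_castSucc_iff.mpr hlt)
    have h2 : Pmat ℓ (f (Fin.last (n + 1))) (f (Fin.castSucc j)) = 0 := by
      unfold Pmat
      rw [if_neg (by omega), if_neg (by omega)]
    simp only [Matrix.of_apply]
    rw [h2, mul_zero, zero_mul]
  · intro h; exact absurd (Finset.mem_univ _) h

theorem pf_path_gap (n : ℕ) (f : Fin (n + 2) → ℕ) (hf : StrictMono f)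
    (hc : f (Fin.last (n + 1)) ≠ f (Fin.castSucc (Fin.last n)) + 1) :
    pf (n + 2) (Matrix.of fun a b => Pmat ℓ (f a) (f b)) = 0 := by
  rw [pf_succ_succ]
  refine Finset.sum_eq_zero fun j _ => ?_
  have h1 : f (Fin.castSucc j) ≤ f (Fin.castSucc (Fin.last n)) :=
    hf.monotone (Fin.castSucc_le_castSucc_iff.mpr (Fin.le_last j))
  have h3 : f (Fin.castSucc (Fin.last n)) < f (Fin.last (n + 1)) := hf (Fin.castSucc_lt_last _)
  have h2 : Pmat ℓ (f (Fin.last (n + 1))) (f (Fin.castSucc j)) = 0 := by
    unfold Pmat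
    rw [if_neg (by omega), if_neg (by omega)]
  simp only [Matrix.of_apply]
  rw [h2, mul_zero, zero_mul]

/-- skip the vertex `i` -/
def gfun (i a : ℕ) : ℕ := if a < i then a else a + 1

theorem gfun_strictMono (i : ℕ) : StrictMono (gfun i) := by
  intro a b hab
  unfold gfun
  split_ifs <;> omega

/-- the path matrix with vertex `i` removed, of size `m` -/
def Mm (i m : ℕ) : Matrix (Fin m) (Fin m) S :=
  Matrix.of fun a b => Pmat ℓ (gfun i (a : ℕ)) (gfun i (b : ℕ))

variable (y0 y1 : S)

def ell (u : ℕ) : S := if u % 2 = 0 then y0 else y1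

theorem pf_Mm_large : ∀ (r i : ℕ), 2 * r ≤ i → pf (2 * r) (Mm (ell y0 y1) i (2 * r)) = y0 ^ r
  | 0, i, _ => by simp [pf]
  | r + 1, i, hi => by
      change pf (2 * r + 2) (Matrix.of fun a b : Fin (2 * r + 2) =>
        Pmat (ell y0 y1) (gfun i (a : ℕ)) (gfun i (b : ℕ))) = _
      have hf : StrictMono (fun a : Fin (2 * r + 2) => gfun i (a : ℕ)) :=
        (gfun_strictMono i).comp Fin.val_strictMono
      rw [pf_path_consec (ell y0 y1) (2 * r) (even_two_mul r) _ hf]
      · have h1 : gfun i ((Fin.castSucc (Fin.last (2 * r)) : Fin (2 * r + 2)) : ℕ) = 2 * r := by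
          simp only [Fin.val_castSucc, Fin.val_last]
          unfold gfun
          rw [if_pos (by omega)]
        rw [h1]
        have h2 : ell y0 y1 (2 * r) = y0 := by
          unfold ell
          rw [if_pos (by omega)]
        rw [h2]
        have := pf_Mm_large r i (by omega)
        change pf (2 * r) (Mm (ell y0 y1) i (2 * r)) = _ at this
        rw [pow_succ, mul_comm, ← this]
        rfl
      · simp only [Fin.val_castSucc, Fin.val_last]
        unfold gfun
        rw [if_pos (by omega), if_pos (by omega)]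

theorem pf_Mm_even (t : ℕ) : ∀ (r : ℕ), t ≤ r →
    pf (2 * r) (Mm (ell y0 y1) (2 * t) (2 * r)) = y0 ^ t * y1 ^ (r - t) := by
  intro r hr
  induction r, hr using Nat.le_induction with
  | base => rw [pf_Mm_large y0 y1 t (2 * t) le_rfl]; simp
  | succ r hr ih =>
      change pf (2 * r + 2) (Matrix.of fun a b : Fin (2 * r + 2) =>
        Pmat (ell y0 y1) (gfun (2 * t) (a : ℕ)) (gfun (2 * t) (b : ℕ))) = _
      have hf : StrictMono (fun a : Fin (2 * r + 2) => gfun (2 * t) (a : ℕ)) :=
        (gfun_strictMono (2 * t)).comp Fin.val_strictMono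
      rw [pf_path_consec (ell y0 y1) (2 * r) (even_two_mul r) _ hf]
      · have h1 : gfun (2 * t) ((Fin.castSucc (Fin.last (2 * r)) : Fin (2 * r + 2)) : ℕ) = 2 * r + 1 := by
          simp only [Fin.val_castSucc, Fin.val_last]
          unfold gfun
          rw [if_neg (by omega)]
        rw [h1]
        have h2 : ell y0 y1 (2 * r + 1) = y1 := by
          unfold ell
          rw [if_neg (by omega)]
        rw [h2]
        change pf (2 * r) (Mm (ell y0 y1) (2 * t) (2 * r)) = _ at ih
        have h3 : r + 1 - t = (r - t) + 1 := by omega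
        rw [h3, pow_succ, ← mul_assoc, mul_comm, ← ih]
        rfl
      · simp only [Fin.val_castSucc, Fin.val_last]
        unfold gfun
        rw [if_neg (by omega), if_neg (by omega)]

theorem val_succAbove {n : ℕ} (i : Fin (n + 1)) (a : Fin n) :
    ((i.succAbove a : Fin (n + 1)) : ℕ) = gfun (i : ℕ) (a : ℕ) := by
  unfold gfun
  by_cases h : (a : ℕ) < (i : ℕ)
  · rw [if_pos h, Fin.succAbove_of_castSucc_lt _ _ (by simpa [Fin.lt_def] using h)]
    simp
  · rw [if_neg h, Fin.succAbove_of_le_castSucc _ _ (by simpa [Fin.le_def] using not_lt.mp h)]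
    simp

end Path

end Groth.Agent.Lib.Helper95.PfaffA
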