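import Mathlib
import Groth.Agent.Lib.Helper95.PfaffA

set_option autoImplicit false
universe u
open W4c3degenlocivb Groth.Agent.Lib.Helper95.PfaffA MvPolynomial

namespace Groth.Agent.Lib.Helper95.PfaffB

variable {k : Type u} [Field k]

/-- coefficients of the path example -/
def cc (u v w : ℕ) : k :=
  if v = u + 1 then (if w = u % 2 then 1 else 0)
  else if u = v + 1 then (if w = v % 2 then -1 else 0) else 0

theorem cc_antisymm (u v w : ℕ) : (cc v u w : k) = - cc u v w := by
  unfold cc
  by_cases h1 : v = u + 1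
  · rw [if_pos h1, if_neg (by omega), if_pos h1]
    split_ifs <;> simp
  · rw [if_neg h1]
    by_cases h2 : u = v + 1
    · rw [if_pos h2, if_pos h2]
      split_ifs <;> simp
    · rw [if_neg h2, if_neg h2, if_neg h1]; simp

theorem sum_cc (u v : ℕ) :
    (∑ l : Fin 2, C (cc u v (l : ℕ) : k) * X l : MvPolynomial (Fin 2) k) =
      Pmat (ell (X 0 : MvPolynomial (Fin 2) k) (X 1)) u v := by
  rw [Fin.sum_univ_two]
  unfold Pmat cc ell
  have h2 : u % 2 = 0 ∨ u % 2 = 1 := by omega
  have h3 : v % 2 = 0 ∨ v % 2 = 1 := by omega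
  by_cases h1 : v = u + 1
  · simp only [if_pos h1]
    rcases h2 with h | h <;> simp [h]
  · simp only [if_neg h1]
    by_cases h4 : u = v + 1
    · simp only [if_pos h4]
      rcases h3 with h | h <;> simp [h]
    · simp [if_neg h4]

/-- the monomial exponents of degree `r` in two variables -/
noncomputable def mon (r : ℕ) (s : Fin (r + 1)) : Fin 2 →₀ ℕ :=
  Finsupp.single 0 (s : ℕ) + Finsupp.single 1 (r - s)

theorem mon_injective (r : ℕ) : Function.Injective (mon r) := by
  intro s t h
  have := DFunLike.congr_fun h 0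
  simp [mon] at this
  exact Fin.ext this

theorem eq_sum_of_isHomogeneous (r : ℕ) (p : MvPolynomial (Fin 2) k) (hp : p.IsHomogeneous r) :
    p = ∑ s : Fin (r + 1), coeff (mon r s) p • monomial (mon r s) (1 : k) := by
  ext d
  rw [coeff_sum]
  simp only [coeff_smul, coeff_monomial, smul_eq_mul, mul_ite, mul_one, mul_zero]
  by_cases hd : coeff d p = 0
  · rw [hd]
    symm
    refine Finset.sum_eq_zero fun s _ => ?_
    split_ifs with h
    · rw [h]; exact hd
    · rfl
  · have hdeg := hp hd
    rw [Finsupp.weight_apply, Finsupp.sum_fintype _ _ (by simp), Fin.sum_univ_two] at hdeg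
    simp only [Pi.one_apply, smul_eq_mul, mul_one] at hdeg
    have hlt : d 0 < r + 1 := by omega
    have hmon : mon r ⟨d 0, hlt⟩ = d := by
      ext i
      fin_cases i
      · simp [mon]
      · simp [mon]; omega
    rw [Finset.sum_eq_single ⟨d 0, hlt⟩]
    · rw [if_pos hmon, hmon]
    · intro s _ hs
      rw [if_neg]
      intro h
      apply hs
      apply mon_injective r
      rw [h, hmon]
    · intro h; exact absurd (Finset.mem_univ _) h


section Main
variable (k)

/-- the matrix of linear forms with coefficient array `c` -/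
noncomputable def Nmat (n : ℕ) (c : Fin n → Fin n → Fin 2 → k) :
    Matrix (Fin n) (Fin n) (MvPolynomial (Fin 2) k) :=
  Matrix.of fun a b => ∑ l : Fin 2, C (c a b l) * X l

/-- the generic matrix of linear forms -/
noncomputable def Gmat (n : ℕ) :
    Matrix (Fin n) (Fin n) (MvPolynomial (Fin 2) (MvPolynomial (Fin n × Fin n × Fin 2) k)) :=
  Matrix.of fun a b => ∑ l : Fin 2, C (X (a, b, l)) * X l

theorem Gmat_map (n : ℕ) (c : Fin n → Fin n → Fin 2 → k) :
    (Gmat k n).map (MvPolynomial.map (MvPolynomial.eval fun p : Fin n × Fin n × Fin 2 => c p.1 p.2.1 p.2.2)) =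
      Nmat k n c := by
  ext a b : 2
  simp [Gmat, Nmat]

theorem Nmat_isHomogeneous (n : ℕ) (c : Fin n → Fin n → Fin 2 → k) (a b : Fin n) :
    (Nmat k n c a b).IsHomogeneous 1 := by
  unfold Nmat
  simp only [Matrix.of_apply]
  refine IsHomogeneous.sum _ _ _ fun l _ => ?_
  exact isHomogeneous_C_mul_X _ _

/-- the generic sub-Pfaffians -/
noncomputable def Pgen (r : ℕ) (i : Fin (2 * r + 1)) :
    MvPolynomial (Fin 2) (MvPolynomial (Fin (2 * r + 1) × Fin (2 * r + 1) × Fin 2) k) :=
  pf (2 * r) ((Gmat k (2 * r + 1)).submatrix i.succAbove i.succAbove)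

theorem pf_Nmat (r : ℕ) (c : Fin (2 * r + 1) → Fin (2 * r + 1) → Fin 2 → k) (i : Fin (2 * r + 1)) :
    pf (2 * r) ((Nmat k (2 * r + 1) c).submatrix i.succAbove i.succAbove) =
      MvPolynomial.map (MvPolynomial.eval fun p : Fin (2 * r + 1) × Fin (2 * r + 1) × Fin 2 => c p.1 p.2.1 p.2.2)
        (Pgen k r i) := by
  unfold Pgen
  rw [← pf_map, ← Gmat_map]
  rfl

/-- the chosen rows -/
def idx (r : ℕ) (t : Fin (r + 1)) : Fin (2 * r + 1) := ⟨2 * (t : ℕ), by omega⟩

/-- the generic coefficient matrix -/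
noncomputable def Kmat (r : ℕ) :
    Matrix (Fin (r + 1)) (Fin (r + 1)) (MvPolynomial (Fin (2 * r + 1) × Fin (2 * r + 1) × Fin 2) k) :=
  Matrix.of fun t s => coeff (mon r s) (Pgen k r (idx r t))

theorem eval_det_Kmat (r : ℕ) (c : Fin (2 * r + 1) → Fin (2 * r + 1) → Fin 2 → k) :
    MvPolynomial.eval (fun p : Fin (2 * r + 1) × Fin (2 * r + 1) × Fin 2 => c p.1 p.2.1 p.2.2) (Kmat k r).det =
      (Matrix.of fun t s : Fin (r + 1) => coeff (mon r s)
        (pf (2 * r) ((Nmat k (2 * r + 1) c).submatrix (idx r t).succAbove (idx r t).succAbove))).det := by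
  rw [RingHom.map_det]
  congr 1
  ext t s
  simp only [RingHom.mapMatrix_apply, Matrix.map_apply, Matrix.of_apply, Kmat]
  rw [pf_Nmat, coeff_map]

/-- the example coefficient array -/
def c0 (r : ℕ) : Fin (2 * r + 1) → Fin (2 * r + 1) → Fin 2 → k :=
  fun a b l => cc (a : ℕ) (b : ℕ) (l : ℕ)

theorem pf_c0 (r : ℕ) (t : Fin (r + 1)) :
    pf (2 * r) ((Nmat k (2 * r + 1) (c0 k r)).submatrix (idx r t).succAbove (idx r t).succAbove) =
      monomial (mon r t) (1 : k) := by
  have h1 : (Nmat k (2 * r + 1) (c0 k r)).submatrix (idx r t).succAbove (idx r t).succAbove =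
      Mm (ell (X 0 : MvPolynomial (Fin 2) k) (X 1)) (2 * (t : ℕ)) (2 * r) := by
    ext a b : 2
    simp only [Matrix.submatrix_apply, Nmat, Matrix.of_apply, c0, Mm]
    rw [sum_cc, val_succAbove, val_succAbove]
    rfl
  rw [h1, pf_Mm_even _ _ _ _ (by omega)]
  unfold mon
  rw [monomial_single_add, X_pow_eq_monomial (n := (1 : Fin 2))]

theorem det_c0 (r : ℕ) :
    MvPolynomial.eval (fun p : Fin (2 * r + 1) × Fin (2 * r + 1) × Fin 2 => c0 k r p.1 p.2.1 p.2.2)
      (Kmat k r).det ≠ 0 := by
  rw [eval_det_Kmat]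
  have : (Matrix.of fun t s : Fin (r + 1) => coeff (mon r s)
        (pf (2 * r) ((Nmat k (2 * r + 1) (c0 k r)).submatrix (idx r t).succAbove (idx r t).succAbove))) =
      (1 : Matrix (Fin (r + 1)) (Fin (r + 1)) k) := by
    ext t s
    rw [Matrix.of_apply, pf_c0, coeff_monomial, Matrix.one_apply]
    by_cases h : t = s
    · rw [if_pos h, if_pos (by rw [h])]
    · rw [if_neg h, if_neg (fun h' => h (mon_injective r h'))]
  rw [this, Matrix.det_one]
  exact one_ne_zero

theorem span_eq (r : ℕ) (c : Fin (2 * r + 1) → Fin (2 * r + 1) → Fin 2 → k)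
    (hc : MvPolynomial.eval (fun p : Fin (2 * r + 1) × Fin (2 * r + 1) × Fin 2 => c p.1 p.2.1 p.2.2)
      (Kmat k r).det ≠ 0) :
    Submodule.span k (Set.range fun i : Fin (2 * r + 1) =>
        pf (2 * r) ((Nmat k (2 * r + 1) c).submatrix i.succAbove i.succAbove)) =
      MvPolynomial.homogeneousSubmodule (Fin 2) k r := by
  classical
  rw [eval_det_Kmat] at hc
  set p : Fin (2 * r + 1) → MvPolynomial (Fin 2) k := fun i =>
    pf (2 * r) ((Nmat k (2 * r + 1) c).submatrix i.succAbove i.succAbove) with hp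
  have hhom : ∀ i, (p i).IsHomogeneous r := by
    intro i
    have := pf_isHomogeneous (2 * r) ((Nmat k (2 * r + 1) c).submatrix i.succAbove i.succAbove)
      (fun a b => Nmat_isHomogeneous k _ c _ _)
    rwa [Nat.mul_div_cancel_left r (by norm_num : 0 < 2)] at this
  set Kc : Matrix (Fin (r + 1)) (Fin (r + 1)) k :=
    Matrix.of fun t s : Fin (r + 1) => coeff (mon r s) (p (idx r t)) with hKc
  have hunit : IsUnit Kc.det := isUnit_iff_ne_zero.mpr hc
  apply le_antisymm
  · rw [Submodule.span_le]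
    rintro _ ⟨i, rfl⟩
    exact (mem_homogeneousSubmodule _ _).mpr (hhom i)
  · intro q hq
    have hq' : q.IsHomogeneous r := (mem_homogeneousSubmodule _ _).mp hq
    rw [eq_sum_of_isHomogeneous r q hq']
    refine Submodule.sum_mem _ fun s _ => Submodule.smul_mem _ _ ?_
    -- the monomial `mon r s` is a combination of the `p (idx r t)`
    have hps : ∀ t, p (idx r t) = ∑ u, Kc t u • monomial (mon r u) (1 : k) := fun t =>
      eq_sum_of_isHomogeneous r _ (hhom _)
    have hinv : monomial (mon r s) (1 : k) = ∑ t, (Kc⁻¹) s t • p (idx r t) := by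
      simp_rw [hps, Finset.smul_sum, smul_smul]
      rw [Finset.sum_comm]
      simp_rw [← Finset.sum_smul]
      have : ∀ u, ∑ t, (Kc⁻¹) s t * Kc t u = (1 : Matrix _ _ k) s u := by
        intro u
        rw [← Matrix.mul_apply, Matrix.nonsing_inv_mul _ hunit]
      simp_rw [this, Matrix.one_apply]
      simp
    rw [hinv]
    refine Submodule.sum_mem _ fun t _ => Submodule.smul_mem _ _ ?_
    exact Submodule.subset_span ⟨idx r t, rfl⟩

end Main

end Groth.Agent.Lib.Helper95.PfaffB
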