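import Mathlib

/-! van Dantzig-type lemma: in a Hausdorff locally compact totally disconnected topological abelian
group, every open neighbourhood of `0` contains an open subgroup. -/

set_option autoImplicit false
universe u

namespace Groth.Agent.Lib.Helper95

open Topology Pointwise

theorem exists_open_addSubgroup_subset
    {B : Type u} [AddCommGroup B] [TopologicalSpace B] [IsTopologicalAddGroup B]
    [T2Space B] [LocallyCompactSpace B] [TotallyDisconnectedSpace B]
    (U : Set B) (hU : IsOpen U) (h0 : (0 : B) ∈ U) :
    ∃ H : AddSubgroup B, IsOpen (H : Set B) ∧ (H : Set B) ⊆ U := by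
  -- a compact neighbourhood inside U
  obtain ⟨C, hC, h0C, hCU⟩ := exists_compact_subset hU h0
  -- a clopen neighbourhood inside the interior of C
  obtain ⟨W, hWclopen, h0W, hWC⟩ :=
    (loc_compact_Haus_tot_disc_of_zero_dim (H := B)).exists_subset_of_mem_open h0C isOpen_interior
  have hWcompact : IsCompact W := hC.of_isClosed_subset hWclopen.1 (hWC.trans interior_subset)
  obtain ⟨T, hT, hWT⟩ := compact_open_separated_add_right hWcompact hWclopen.2 subset_rfl
  have hadd : ∀ w ∈ W, ∀ t ∈ T, w + t ∈ W := fun w hw t ht => hWT (Set.add_mem_add hw ht)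
  -- the stabiliser of W
  let H : AddSubgroup B :=
    { carrier := {x | ∀ w, w + x ∈ W ↔ w ∈ W}
      zero_mem' := by intro w; simp
      add_mem' := by
        intro x y hx hy w
        rw [← add_assoc, hy (w + x), hx w]
      neg_mem' := by
        intro x hx w
        have := hx (w + -x)
        rw [neg_add_cancel_right] at this
        exact this.symm }
  have hHW : (H : Set B) ⊆ W := by
    intro x hx
    have := (hx 0).2 h0W
    simpa using this
  have hVH : T ∩ -T ⊆ (H : Set B) := by
    rintro x ⟨hx1, hx2⟩ w
    constructor
    · intro hw
      have := hadd _ hw (-x) hx2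
      simpa using this
    · intro hw
      exact hadd w hw x hx1
  refine ⟨H, ?_, hHW.trans ((hWC.trans interior_subset).trans hCU)⟩
  apply AddSubgroup.isOpen_of_mem_nhds
  refine Filter.mem_of_superset (Filter.inter_mem hT ?_) hVH
  have : Filter.Tendsto (fun x : B => -x) (𝓝 0) (𝓝 0) := by
    have := (continuous_neg (G := B)).tendsto 0
    simpa using this
  exact this hT

end Groth.Agent.Lib.Helper95
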