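import Mathlib

namespace Groth.Agent.Lib.Helper95
open Polynomial

section transport
variable (k : Type*) [Field k]

/-- the embedding of `k[X₀,X₁]` into `k(X)(Y)`, `X₀ ↦ X`, `X₁ ↦ Y`. -/
noncomputable def twoVarHom : MvPolynomial (Fin 2) k →+* RatFunc (RatFunc k) :=
  (algebraMap (Polynomial (RatFunc k)) (RatFunc (RatFunc k))).comp
    ((Polynomial.mapRingHom
        (MvPolynomial.aeval (R := k) (fun _ : Fin 1 => (RatFunc.X : RatFunc k))).toRingHom).comp
      ((MvPolynomial.finSuccEquiv k 1).toAlgHom.toRingHom.comp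
        (MvPolynomial.rename (R := k) (Equiv.swap (0 : Fin 2) 1)).toRingHom))

theorem twoVarHom_injective : Function.Injective (twoVarHom k) := by
  unfold twoVarHom
  simp only [RingHom.coe_comp]
  refine (IsFractionRing.injective _ _).comp (Function.Injective.comp ?_ (Function.Injective.comp ?_ ?_))
  · apply Polynomial.map_injective
    have : AlgebraicIndependent k (fun _ : Fin 1 => (RatFunc.X : RatFunc k)) :=
      algebraicIndependent_unique_type_iff.mpr RatFunc.transcendental_X
    exact this
  · exact (MvPolynomial.finSuccEquiv k 1).injective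
  · exact MvPolynomial.rename_injective _ (Equiv.injective _)

theorem twoVarHom_X0 : twoVarHom k (MvPolynomial.X 0) =
    algebraMap (RatFunc k) (RatFunc (RatFunc k)) RatFunc.X := by
  unfold twoVarHom
  simp only [RingHom.coe_comp, Function.comp_apply, AlgHom.toRingHom_eq_coe, RingHom.coe_coe,
    MvPolynomial.rename_X, Equiv.swap_apply_left]
  have : (MvPolynomial.finSuccEquiv k 1) (MvPolynomial.X 1) =
      Polynomial.C (MvPolynomial.X 0) := by
    have := MvPolynomial.finSuccEquiv_X_succ (R := k) (n := 1) (j := 0)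
    simpa using this
  erw [this]
  simp [RatFunc.algebraMap_C]

theorem twoVarHom_X1 : twoVarHom k (MvPolynomial.X 1) = RatFunc.X := by
  unfold twoVarHom
  simp only [RingHom.coe_comp, Function.comp_apply, AlgHom.toRingHom_eq_coe, RingHom.coe_coe,
    MvPolynomial.rename_X, Equiv.swap_apply_right]
  erw [MvPolynomial.finSuccEquiv_X_zero]
  simp

theorem twoVarHom_C (c : k) : twoVarHom k (MvPolynomial.C c) =
    algebraMap k (RatFunc (RatFunc k)) c := by
  unfold twoVarHom
  simp only [RingHom.coe_comp, Function.comp_apply, AlgHom.toRingHom_eq_coe, RingHom.coe_coe,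
    MvPolynomial.rename_C]
  have : (MvPolynomial.finSuccEquiv k 1) (MvPolynomial.C c) =
      Polynomial.C (MvPolynomial.C c) := by
    simp [MvPolynomial.finSuccEquiv_apply]
  erw [this]
  simp [RatFunc.algebraMap_C, IsScalarTower.algebraMap_apply k (RatFunc k) (RatFunc (RatFunc k))]

end transport

section evalmap
universe u
variable {k L L' : Type u} [Field k] [Field L] [Field L']

theorem map_ratFunc_eval (φ : L →+* L') (ι : k →+* L) (ι' : k →+* L') (hφ : φ.comp ι = ι')
    (z : L) (F : RatFunc k) : φ (RatFunc.eval ι z F) = RatFunc.eval ι' (φ z) F := by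
  unfold RatFunc.eval
  rw [map_div₀, Polynomial.hom_eval₂, Polynomial.hom_eval₂, hφ]

end evalmap

section inM
variable {k : Type*} [Field k]

local notation "M" => RatFunc k
local notation "L'" => RatFunc (RatFunc k)

theorem algebraMap_comp_eq :
    (algebraMap (Polynomial M) L').comp ((C : M →+* Polynomial M).comp (algebraMap k M)) =
      algebraMap k L' := by
  ext c
  simp [RatFunc.algebraMap_C, IsScalarTower.algebraMap_apply k M L']

theorem eval₂_algebraMap_poly (p : Polynomial k) (w : Polynomial M) :
    p.eval₂ (algebraMap k L') (algebraMap (Polynomial M) L' w) =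
      algebraMap (Polynomial M) L' ((p.map (algebraMap k M)).comp w) := by
  rw [Polynomial.comp, Polynomial.eval₂_map, Polynomial.hom_eval₂, algebraMap_comp_eq]

theorem algebraMap_poly_C (c : M) :
    algebraMap (Polynomial M) L' (C c) = algebraMap M L' c := by
  rw [RatFunc.algebraMap_C, RatFunc.algebraMap_eq_C]

theorem eval_x' (F : RatFunc k) :
    RatFunc.eval (algebraMap k L') (algebraMap M L' RatFunc.X) F = algebraMap M L' F := by
  unfold RatFunc.eval
  rw [← algebraMap_poly_C, eval₂_algebraMap_poly, eval₂_algebraMap_poly, Polynomial.comp_C,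
    Polynomial.comp_C, Polynomial.eval_map, Polynomial.eval_map, ← Polynomial.aeval_def,
    ← Polynomial.aeval_def, RatFunc.aeval_X_left_eq_algebraMap, RatFunc.aeval_X_left_eq_algebraMap,
    algebraMap_poly_C, algebraMap_poly_C, ← map_div₀, RatFunc.num_div_denom]

end inM

section fe
variable {k : Type} [Field k]

local notation "M" => RatFunc k
local notation "L'" => RatFunc (RatFunc k)

/-- The functional equation transported to `k(X)(Y)`. -/
theorem fe_transport (F : RatFunc k)
    (hFE : RatFunc.eval (algebraMap k (FractionRing (MvPolynomial (Fin 2) k)))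
        (algebraMap (MvPolynomial (Fin 2) k) (FractionRing (MvPolynomial (Fin 2) k)) (MvPolynomial.X 0) +
          algebraMap (MvPolynomial (Fin 2) k) (FractionRing (MvPolynomial (Fin 2) k)) (MvPolynomial.X 1) *
            RatFunc.eval (algebraMap k (FractionRing (MvPolynomial (Fin 2) k)))
              (algebraMap (MvPolynomial (Fin 2) k) (FractionRing (MvPolynomial (Fin 2) k)) (MvPolynomial.X 0)) F) F =
      RatFunc.eval (algebraMap k (FractionRing (MvPolynomial (Fin 2) k)))
          (algebraMap (MvPolynomial (Fin 2) k) (FractionRing (MvPolynomial (Fin 2) k)) (MvPolynomial.X 0)) F *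
        RatFunc.eval (algebraMap k (FractionRing (MvPolynomial (Fin 2) k)))
          (algebraMap (MvPolynomial (Fin 2) k) (FractionRing (MvPolynomial (Fin 2) k)) (MvPolynomial.X 1)) F) :
    RatFunc.eval (algebraMap k L')
        (algebraMap (Polynomial M) L' (C F * X + C RatFunc.X)) F =
      algebraMap M L' F * RatFunc.eval (algebraMap k L') (algebraMap (Polynomial M) L' X) F := by
  set φ : FractionRing (MvPolynomial (Fin 2) k) →+* L' :=
    IsFractionRing.lift (twoVarHom_injective k) with hφ
  have hφa : ∀ p, φ (algebraMap (MvPolynomial (Fin 2) k) _ p) = twoVarHom k p := fun p =>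
    IsFractionRing.lift_algebraMap _ p
  have hcomp : φ.comp (algebraMap k (FractionRing (MvPolynomial (Fin 2) k))) = algebraMap k L' := by
    ext c
    rw [RingHom.comp_apply,
      IsScalarTower.algebraMap_apply k (MvPolynomial (Fin 2) k) (FractionRing (MvPolynomial (Fin 2) k)),
      hφa, MvPolynomial.algebraMap_eq, twoVarHom_C]
  have h := congrArg φ hFE
  rw [map_mul, map_ratFunc_eval φ _ _ hcomp, map_ratFunc_eval φ _ _ hcomp,
    map_ratFunc_eval φ _ _ hcomp, map_add, map_mul, map_ratFunc_eval φ _ _ hcomp, hφa, hφa,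
    twoVarHom_X0, twoVarHom_X1, eval_x'] at h
  have e1 : algebraMap (Polynomial M) L' (C F * X + C RatFunc.X) =
      algebraMap M L' RatFunc.X + RatFunc.X * algebraMap M L' F := by
    rw [map_add, map_mul, algebraMap_poly_C, algebraMap_poly_C, RatFunc.algebraMap_X]
    ring
  rw [e1, RatFunc.algebraMap_X]
  exact h

theorem natDegree_lin (F : RatFunc k) (hF : F ≠ 0) :
    (C F * X + C (RatFunc.X : M) : Polynomial M).natDegree = 1 :=
  Polynomial.natDegree_linear hF

theorem comp_lin_ne_zero (F : RatFunc k) (hF : F ≠ 0) (p : Polynomial M) (hp : p ≠ 0) :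
    p.comp (C F * X + C (RatFunc.X : M)) ≠ 0 := by
  intro h
  have := Polynomial.leadingCoeff_comp (p := p) (q := C F * X + C (RatFunc.X : M))
    (by rw [natDegree_lin F hF]; exact one_ne_zero)
  rw [h, leadingCoeff_zero] at this
  have h2 : (C F * X + C (RatFunc.X : M) : Polynomial M).leadingCoeff ≠ 0 := by
    rw [Polynomial.leadingCoeff_linear hF]; exact hF
  exact mul_ne_zero (leadingCoeff_ne_zero.mpr hp) (pow_ne_zero _ h2) this.symm

/-- The functional equation as a polynomial identity over `k(X)`. -/
theorem fe_poly (F : RatFunc k) (hF : F ≠ 0)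
    (h : RatFunc.eval (algebraMap k L')
        (algebraMap (Polynomial M) L' (C F * X + C RatFunc.X)) F =
      algebraMap M L' F * RatFunc.eval (algebraMap k L') (algebraMap (Polynomial M) L' X) F) :
    (F.num.map (algebraMap k M)).comp (C F * X + C RatFunc.X) * F.denom.map (algebraMap k M) =
      C F * F.num.map (algebraMap k M) * (F.denom.map (algebraMap k M)).comp (C F * X + C RatFunc.X) := by
  unfold RatFunc.eval at h
  rw [eval₂_algebraMap_poly, eval₂_algebraMap_poly, eval₂_algebraMap_poly, eval₂_algebraMap_poly,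
    Polynomial.comp_X, Polynomial.comp_X, ← algebraMap_poly_C] at h
  have hQ : F.denom.map (algebraMap k M) ≠ 0 := by
    rw [Ne, Polynomial.map_eq_zero]; exact RatFunc.denom_ne_zero F
  have hinj := IsFractionRing.injective (Polynomial M) L'
  have h1 : algebraMap (Polynomial M) L' (F.denom.map (algebraMap k M)) ≠ 0 := by
    rw [Ne, map_eq_zero_iff _ hinj]; exact hQ
  have h2 : algebraMap (Polynomial M) L'
      ((F.denom.map (algebraMap k M)).comp (C F * X + C RatFunc.X)) ≠ 0 := by
    rw [Ne, map_eq_zero_iff _ hinj]; exact comp_lin_ne_zero F hF _ hQ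
  apply hinj
  rw [map_mul, map_mul, map_mul]
  field_simp at h
  linear_combination h

/-- If `p(Y)` divides `p(F·Y + X)` over `k(X)` then `p(X) = F ^ deg p · p(0)`. -/
theorem comp_lin_of_dvd (F : RatFunc k) (hF : F ≠ 0) (p : Polynomial k) (hp : p ≠ 0)
    (hdvd : p.map (algebraMap k M) ∣ (p.map (algebraMap k M)).comp (C F * X + C RatFunc.X)) :
    algebraMap (Polynomial k) M p = F ^ p.natDegree * algebraMap k M (p.eval 0) := by
  set pM := p.map (algebraMap k M) with hpM
  have hpM0 : pM ≠ 0 := by rw [hpM, Ne, Polynomial.map_eq_zero]; exact hp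
  have hA0 := comp_lin_ne_zero F hF pM hpM0
  obtain ⟨R, hR⟩ := hdvd
  have hR0 : R ≠ 0 := by rintro rfl; rw [mul_zero] at hR; exact hA0 hR
  have hdeg : (pM.comp (C F * X + C RatFunc.X)).natDegree = pM.natDegree := by
    rw [Polynomial.natDegree_comp, natDegree_lin F hF, mul_one]
  have hRdeg : R.natDegree = 0 := by
    have := congrArg Polynomial.natDegree hR
    rw [hdeg, Polynomial.natDegree_mul hpM0 hR0] at this
    omega
  obtain ⟨c, rfl⟩ : ∃ c, R = C c := ⟨R.coeff 0, Polynomial.eq_C_of_natDegree_eq_zero hRdeg⟩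
  -- leading coefficients
  have hlc := congrArg Polynomial.leadingCoeff hR
  rw [Polynomial.leadingCoeff_comp (by rw [natDegree_lin F hF]; exact one_ne_zero),
    Polynomial.leadingCoeff_linear hF, Polynomial.leadingCoeff_mul, Polynomial.leadingCoeff_C] at hlc
  have hc : c = F ^ pM.natDegree :=
    (mul_left_cancel₀ (leadingCoeff_ne_zero.mpr hpM0) hlc).symm
  -- evaluate at 0
  have hev := congrArg (Polynomial.eval 0) hR
  rw [Polynomial.eval_comp, Polynomial.eval_mul, Polynomial.eval_C] at hev
  simp only [Polynomial.eval_add, Polynomial.eval_mul, Polynomial.eval_C, Polynomial.eval_X,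
    mul_zero, zero_add] at hev
  rw [hpM, Polynomial.eval_map, Polynomial.eval_map, ← Polynomial.aeval_def,
    RatFunc.aeval_X_left_eq_algebraMap, Polynomial.eval₂_at_zero] at hev
  rw [hev, hc, hpM, Polynomial.natDegree_map, Polynomial.coeff_zero_eq_eval_zero]
  ring

theorem fe_relations (F : RatFunc k) (hF : F ≠ 0)
    (hid : (F.num.map (algebraMap k M)).comp (C F * X + C RatFunc.X) * F.denom.map (algebraMap k M) =
      C F * F.num.map (algebraMap k M) * (F.denom.map (algebraMap k M)).comp (C F * X + C RatFunc.X)) :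
    algebraMap (Polynomial k) M F.num = F ^ F.num.natDegree * algebraMap k M (F.num.eval 0) ∧
    algebraMap (Polynomial k) M F.denom = F ^ F.denom.natDegree * algebraMap k M (F.denom.eval 0) := by
  have hcop : IsCoprime (F.num.map (algebraMap k M)) (F.denom.map (algebraMap k M)) :=
    (RatFunc.isCoprime_num_denom F).map (Polynomial.mapRingHom (algebraMap k M))
  have hnum0 : F.num ≠ 0 := by rwa [Ne, RatFunc.num_eq_zero_iff]
  constructor
  · apply comp_lin_of_dvd F hF _ hnum0
    apply hcop.dvd_of_dvd_mul_right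
    rw [hid]
    exact Dvd.dvd.mul_right (Dvd.intro_left (C F) rfl) _
  · apply comp_lin_of_dvd F hF _ (RatFunc.denom_ne_zero F)
    have hunit : IsUnit (C F : Polynomial M) := Polynomial.isUnit_C.mpr (isUnit_iff_ne_zero.mpr hF)
    have hcop' : IsCoprime (F.denom.map (algebraMap k M)) (C F * F.num.map (algebraMap k M)) :=
      (isCoprime_mul_unit_left_right hunit _ _).mpr hcop.symm
    apply hcop'.dvd_of_dvd_mul_left
    rw [← hid]
    exact Dvd.intro_left _ rfl

theorem fe_final (F : RatFunc k) (h0 : F.denom.eval 0 ≠ 0) (h1 : F.num.eval 0 = F.denom.eval 0)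
    (hP : algebraMap (Polynomial k) M F.num = F ^ F.num.natDegree * algebraMap k M (F.num.eval 0))
    (hQ : algebraMap (Polynomial k) M F.denom =
      F ^ F.denom.natDegree * algebraMap k M (F.denom.eval 0)) :
    ∃ a : k, F = 1 + RatFunc.C a * RatFunc.X := by
  have hinj := RatFunc.algebraMap_injective k
  have haQ : algebraMap (Polynomial k) M F.denom ≠ 0 := by
    rw [Ne, map_eq_zero_iff _ hinj]; exact RatFunc.denom_ne_zero F
  have hFdiv := RatFunc.num_div_denom F
  have hcC : ∀ c : k, algebraMap k M c = algebraMap (Polynomial k) M (C c) := fun c => by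
    rw [RatFunc.algebraMap_C, RatFunc.algebraMap_eq_C]
  -- Q^(q+1) = P^q * C Q0
  have e1 : F.denom ^ (F.denom.natDegree + 1) = F.num ^ F.denom.natDegree * C (F.denom.eval 0) := by
    apply hinj
    rw [map_pow, map_mul, map_pow, ← hcC, pow_succ]
    have key : ∀ (Fv aP aQ c : M) (q : ℕ), aQ ≠ 0 → aP / aQ = Fv → aQ = Fv ^ q * c →
        aQ ^ q * aQ = aP ^ q * c := by
      intro Fv aP aQ c q h0 hF hQ
      subst hF
      rw [div_pow] at hQ
      have hq : aQ ^ q ≠ 0 := pow_ne_zero _ h0
      calc aQ ^ q * aQ = aQ ^ q * (aP ^ q / aQ ^ q * c) := by rw [← hQ]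
        _ = aP ^ q * c := by field_simp
    exact key F _ _ _ _ haQ hFdiv hQ
  have hcop : IsCoprime F.denom (F.num ^ F.denom.natDegree) :=
    (RatFunc.isCoprime_num_denom F).symm.pow_right
  have hdvd : F.denom ∣ C (F.denom.eval 0) := by
    apply hcop.dvd_of_dvd_mul_left
    rw [← e1]
    exact Dvd.intro_left _ (pow_succ _ _).symm
  have hunit : IsUnit F.denom :=
    isUnit_of_dvd_unit hdvd (Polynomial.isUnit_C.mpr (isUnit_iff_ne_zero.mpr h0))
  have hQ1 : F.denom = 1 :=
    Polynomial.Monic.eq_one_of_isUnit (RatFunc.monic_denom F) hunit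
  have hF : F = algebraMap (Polynomial k) M F.num := by
    have := hFdiv
    rw [hQ1, map_one, div_one] at this
    exact this.symm
  have hP0 : F.num.eval 0 = 1 := by rw [h1, hQ1, Polynomial.eval_one]
  -- P = P^p
  have e2 : F.num = F.num ^ F.num.natDegree := by
    apply hinj
    rw [map_pow]
    have := hP
    rw [hP0, map_one, mul_one] at this
    rw [← hF]
    rw [← hF] at this
    exact this
  have hnum0 : F.num ≠ 0 := by
    intro h
    rw [h, Polynomial.eval_zero] at hP0
    exact zero_ne_one hP0
  have hdeg : F.num.natDegree ≤ 1 := by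
    have := congrArg Polynomial.natDegree e2
    rw [Polynomial.natDegree_pow] at this
    nlinarith
  obtain ⟨a, b, hab⟩ := Polynomial.exists_eq_X_add_C_of_natDegree_le_one hdeg
  have hb : b = 1 := by
    rw [hab] at hP0
    simpa using hP0
  refine ⟨a, ?_⟩
  rw [hF, hab, hb, map_add, map_mul, RatFunc.algebraMap_C, RatFunc.algebraMap_C, RatFunc.algebraMap_X,
    map_one]
  ring

end fe

end Groth.Agent.Lib.Helper95
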