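import Mathlib
import Groth.Agent.Lib.Helper95.SMTPrime
import Groth.Agent.Lib.Helper95.SMTDim

/-!
# Band matrices: standard monomials on `X(τ) ∩ X^{opp}(v)` (helper95)
-/

set_option autoImplicit false

open MvPolynomial W4bk4grassmannian MonomialOrder Groth.Agent.Lib.Helper95.SMT

namespace Groth.Agent.Lib.Helper95.Rich

section Band

variable (K : Type*) [Field K] {d n : ℕ} (v τ : Idx d n)

/-- the generic band matrix between `v` and `τ`. -/
noncomputable def Bmat : Matrix (Fin n) (Fin d) (MvPolynomial (Lex (Fin d × Fin n)) K) :=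
  Matrix.of fun a t => if v.1 t ≤ a ∧ a ≤ τ.1 t then X (toLex (t, a)) else 0

theorem Bmat_apply (a : Fin n) (t : Fin d) :
    Bmat K v τ a t = if v.1 t ≤ a ∧ a ≤ τ.1 t then X (toLex (t, a)) else 0 := rfl

theorem Bmat_staircase (a : Fin n) (t : Fin d) (h : τ.1 t < a) : Bmat K v τ a t = 0 := by
  rw [Bmat_apply, if_neg (fun h' => absurd h'.2 (not_le.mpr h))]

theorem Bmat_low (a : Fin n) (t : Fin d) (h : a < v.1 t) : Bmat K v τ a t = 0 := by
  rw [Bmat_apply, if_neg (fun h' => absurd h'.1 (not_le.mpr h))]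

/-- Plücker coordinates restricted to the generic band matrix. -/
noncomputable def PsiB : PlRing K d n →ₐ[K] MvPolynomial (Lex (Fin d × Fin n)) K :=
  aeval fun θ : Idx d n => ((Bmat K v τ).submatrix θ.1 id).det

theorem PsiB_X (θ : Idx d n) : PsiB K v τ (X θ) = ((Bmat K v τ).submatrix θ.1 id).det := by
  unfold PsiB
  rw [aeval_X]

theorem PsiB_X_eq_zero (θ : Idx d n) (h : ¬ θ ≤ τ) : PsiB K v τ (X θ) = 0 := by
  rw [PsiB_X]
  exact det_submatrix_eq_zero_of_staircase τ _ (Bmat_staircase K v τ) θ h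

theorem eval_PsiB (z : Lex (Fin d × Fin n) → K) (p : PlRing K d n) :
    eval z (PsiB K v τ p) = evalMinors K d n ((Bmat K v τ).map (eval z)) p := by
  have h : (MvPolynomial.aeval z : MvPolynomial (Lex (Fin d × Fin n)) K →ₐ[K] K).comp
      (PsiB K v τ) = evalMinors K d n ((Bmat K v τ).map (eval z)) := by
    apply MvPolynomial.algHom_ext
    intro θ
    rw [AlgHom.comp_apply, PsiB_X]
    unfold evalMinors
    rw [aeval_X, aeval_def, Algebra.algebraMap_self]
    change eval z _ = _
    rw [RingHom.map_det, RingHom.mapMatrix_apply, Matrix.submatrix_map]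
  have h2 := congrArg (fun f => f p) h
  simp only [AlgHom.comp_apply] at h2
  rw [← h2, aeval_def, Algebra.algebraMap_self]
  rfl

theorem PsiB_eq_zero_of_mem [Infinite K] (p : PlRing K d n)
    (hp : p ∈ schubertVanishing K d n τ) : PsiB K v τ p = 0 := by
  apply MvPolynomial.funext
  intro z
  rw [eval_PsiB, map_zero]
  unfold schubertVanishing at hp
  rw [Ideal.mem_iInf] at hp
  have h1 := hp ((Bmat K v τ).map (eval z))
  rw [Ideal.mem_iInf] at h1
  have h2 := h1 (by
    intro φ hφ
    apply det_submatrix_eq_zero_of_staircase τ _ _ φ hφ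
    intro a t hat
    rw [Matrix.map_apply, Bmat_staircase K v τ a t hat, map_zero])
  exact RingHom.mem_ker.mp h2

/-- the term of `σ` in the determinant of the band submatrix. -/
noncomputable def detTermB (θ : Idx d n) (σ : Equiv.Perm (Fin d)) :
    MvPolynomial (Lex (Fin d × Fin n)) K :=
  Equiv.Perm.sign σ • ∏ t : Fin d, ((Bmat K v τ).submatrix θ.1 id) (σ t) t

theorem det_eq_sum_detTermB (θ : Idx d n) :
    ((Bmat K v τ).submatrix θ.1 id).det = ∑ σ : Equiv.Perm (Fin d), detTermB K v τ θ σ := by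
  rw [Matrix.det_apply]
  rfl

theorem detTermB_one (θ : Idx d n) (hv : v ≤ θ) (hθ : θ ≤ τ) :
    detTermB K v τ θ 1 = monomial (expo θ 1) 1 := by
  unfold detTermB expo
  rw [Equiv.Perm.sign_one, one_smul, monomial_sum_one]
  refine Finset.prod_congr rfl fun t _ => ?_
  rw [Matrix.submatrix_apply, id_eq, Equiv.Perm.one_apply, Bmat_apply, if_pos ⟨hv t, hθ t⟩]
  rfl

theorem support_detTermB (θ : Idx d n) (σ : Equiv.Perm (Fin d)) :
    (detTermB K v τ θ σ).support ⊆ {expo θ σ} := by
  classical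
  unfold detTermB
  refine (support_smul).trans ?_
  by_cases h : ∀ t, v.1 t ≤ θ.1 (σ t) ∧ θ.1 (σ t) ≤ τ.1 t
  · have : ∏ t : Fin d, ((Bmat K v τ).submatrix θ.1 id) (σ t) t = monomial (expo θ σ) 1 := by
      unfold expo
      rw [monomial_sum_one]
      refine Finset.prod_congr rfl fun t _ => ?_
      rw [Matrix.submatrix_apply, id_eq, Bmat_apply, if_pos (h t)]
      rfl
    rw [this]
    exact support_monomial_subset
  · push Not at h
    obtain ⟨t, ht⟩ := h
    have : ∏ t : Fin d, ((Bmat K v τ).submatrix θ.1 id) (σ t) t = 0 := by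
      apply Finset.prod_eq_zero (Finset.mem_univ t)
      rw [Matrix.submatrix_apply, id_eq, Bmat_apply, if_neg]
      intro h'
      exact absurd h'.2 (not_le.mpr (ht h'.1))
    rw [this, support_zero]
    exact Finset.empty_subset _

theorem det_B_monic (θ : Idx d n) (hv : v ≤ θ) (hθ : θ ≤ τ) :
    (MonomialOrder.lex (σ := Lex (Fin d × Fin n))).Monic ((Bmat K v τ).submatrix θ.1 id).det ∧
    (MonomialOrder.lex (σ := Lex (Fin d × Fin n))).degree ((Bmat K v τ).submatrix θ.1 id).det =
      expo θ 1 := by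
  classical
  apply monic_and_degree_of_eq_add _ (expo θ 1) _
    (∑ σ ∈ Finset.univ.erase (1 : Equiv.Perm (Fin d)), detTermB K v τ θ σ)
  · rw [det_eq_sum_detTermB, ← Finset.add_sum_erase _ _ (Finset.mem_univ (1 : Equiv.Perm (Fin d))),
      detTermB_one K v τ θ hv hθ]
  · intro c hc
    have h1 := support_sum hc
    rw [Finset.mem_biUnion] at h1
    obtain ⟨σ, hσ, hcσ⟩ := h1
    have h2 := support_detTermB K v τ θ σ hcσ
    rw [Finset.mem_singleton] at h2
    rw [h2, MonomialOrder.lex_lt_iff]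
    exact expo_lt θ σ (Finset.mem_erase.mp hσ).1

theorem PsiB_chainMon {m : ℕ} (c : Fin m → Idx d n) :
    PsiB K v τ (chainMon K c) = ∏ k : Fin m, ((Bmat K v τ).submatrix (c k).1 id).det := by
  unfold chainMon
  rw [map_prod]
  exact Finset.prod_congr rfl fun k _ => PsiB_X K v τ (c k)

theorem PsiB_chainMon_monic {m : ℕ} (c : Fin m → Idx d n) (hc : ∀ k, v ≤ c k ∧ c k ≤ τ) :
    (MonomialOrder.lex (σ := Lex (Fin d × Fin n))).Monic (PsiB K v τ (chainMon K c)) ∧
    (MonomialOrder.lex (σ := Lex (Fin d × Fin n))).degree (PsiB K v τ (chainMon K c)) =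
      chainExpo c := by
  rw [PsiB_chainMon]
  refine ⟨MonomialOrder.Monic.prod fun k _ => (det_B_monic K v τ (c k) (hc k).1 (hc k).2).1, ?_⟩
  rw [MonomialOrder.degree_prod_of_regular]
  · unfold chainExpo
    exact Finset.sum_congr rfl fun k _ => (det_B_monic K v τ (c k) (hc k).1 (hc k).2).2
  · intro k _
    rw [(det_B_monic K v τ (c k) (hc k).1 (hc k).2).1.leadingCoeff_eq_one]
    exact isRegular_one

/-- chains between `v` and `τ`. -/
abbrev ChainBetween : Type :=
  {x : Σ m : ℕ, (Fin m → Idx d n) // Antitone x.2 ∧ ∀ k, v ≤ x.2 k ∧ x.2 k ≤ τ}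

theorem linearIndependent_PsiB (hd : 0 < d) :
    LinearIndependent K (fun x : ChainBetween v τ => PsiB K v τ (chainMon K x.1.2)) := by
  apply linearIndependent_of_monic_of_degree_injective
    (MonomialOrder.lex (σ := Lex (Fin d × Fin n)))
  · intro x
    exact (PsiB_chainMon_monic K v τ x.1.2 x.2.2).1
  · intro x y hxy
    simp only at hxy
    rw [(PsiB_chainMon_monic K v τ x.1.2 x.2.2).2,
      (PsiB_chainMon_monic K v τ y.1.2 y.2.2).2] at hxy
    exact Subtype.ext (sigma_eq_of_chainExpo_eq hd x.1 y.1 x.2.1 y.2.1 hxy)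

end Band

end Groth.Agent.Lib.Helper95.Rich
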