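import Mathlib
import Groth.Agent.Lib.Helper95.RichA
import Groth.Agent.Lib.Helper95.BTTop

/-!
# The least Plücker coordinate is prime on every Schubert cone (helper95)
-/

set_option autoImplicit false

open MvPolynomial W4bk4grassmannian MonomialOrder Groth.Agent.Lib.Helper95.SMT
open Groth.Agent.Lib.Helper95.SMTDim

namespace Groth.Agent.Lib.Helper95.Rich

section Atom

variable {d n : ℕ}

/-- the unique atom `(0, 1, …, d - 2, d)` of `I(d,n)`. -/
def atom (hdn : d < n) : Idx d n :=
  ⟨fun t => if t.val + 1 = d then ⟨d, hdn⟩ else ⟨t.val, lt_trans t.isLt hdn⟩, by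
    intro a b hab
    have hab' : a.val < b.val := hab
    have := b.isLt
    beta_reduce
    split_ifs with h1 h2 h2
    · omega
    · omega
    · rw [Fin.lt_def]; simp only; omega
    · rw [Fin.lt_def]; simp only; omega⟩

theorem atom_apply (hdn : d < n) (t : Fin d) :
    ((atom hdn).1 t).val = if t.val + 1 = d then d else t.val := by
  unfold atom
  simp only
  split_ifs <;> rfl

theorem atom_le_of_ne_iota (hdn : d < n) (θ : Idx d n) (h : θ ≠ iota hdn.le) : atom hdn ≤ θ := by
  have hex : ∃ t, t.val < (θ.1 t).val := by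
    by_contra hcon
    push Not at hcon
    apply h
    apply Subtype.ext
    funext t
    apply Fin.ext
    have := val_le_val θ t
    have := hcon t
    show (θ.1 t).val = t.val
    omega
  obtain ⟨t₀, ht₀⟩ := hex
  intro t
  rw [Fin.le_def, atom_apply]
  split_ifs with ht
  · have h1 := Groth.Agent.Lib.Helper95.BT.val_add_le θ t₀ t (by
      rw [Fin.le_def]; have := t₀.isLt; omega)
    have := t₀.isLt
    omega
  · exact val_le_val θ t

theorem eq_iota_of_not_atom_le (hdn : d < n) (θ : Idx d n) (h : ¬ atom hdn ≤ θ) :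
    θ = iota hdn.le := by
  by_contra hne
  exact h (atom_le_of_ne_iota hdn θ hne)

end Atom

variable (K : Type*) [Field K] {d n : ℕ}

theorem PsiB_X_iota (hd : 0 < d) (hdn : d < n) (τ : Idx d n) :
    PsiB K (atom hdn) τ (X (iota hdn.le)) = 0 := by
  rw [PsiB_X]
  apply Matrix.det_eq_zero_of_column_eq_zero (⟨d - 1, by omega⟩ : Fin d)
  intro s
  rw [Matrix.submatrix_apply, id_eq]
  apply Bmat_low
  rw [Fin.lt_def, atom_apply, if_pos (by simp only; omega)]
  have := s.isLt
  show s.val < d
  omega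

/-- a combination of standard monomials killed by `PsiB` has zero coefficients on the chains
between the atom and `τ`. -/
theorem coeff_eq_zero_of_PsiB_eq_zero (hd : 0 < d) (hdn : d < n) (τ : Idx d n)
    {ι : Type*} (s : Finset ι) (g : ι → K) (c : ι → Σ m : ℕ, (Fin m → Idx d n))
    (hanti : ∀ x ∈ s, Antitone (c x).2) (hinj : Set.InjOn c s)
    (h1 : PsiB K (atom hdn) τ (∑ x ∈ s, g x • chainMon K (c x).2) = 0)
    (x₀ : ι) (hx₀ : x₀ ∈ s) (hgood : ∀ k, atom hdn ≤ (c x₀).2 k ∧ (c x₀).2 k ≤ τ) :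
    g x₀ = 0 := by
  classical
  rw [map_sum] at h1
  simp only [map_smul] at h1
  rw [← Finset.sum_filter_add_sum_filter_not s
    (fun x => ∀ k, atom hdn ≤ (c x).2 k ∧ (c x).2 k ≤ τ)] at h1
  have h2 : ∑ x ∈ s.filter (fun x => ¬ ∀ k, atom hdn ≤ (c x).2 k ∧ (c x).2 k ≤ τ),
      g x • PsiB K (atom hdn) τ (chainMon K (c x).2) = 0 := by
    refine Finset.sum_eq_zero fun x hx => ?_
    have := (Finset.mem_filter.mp hx).2
    push Not at this
    obtain ⟨k, hk⟩ := this
    have h0 : PsiB K (atom hdn) τ (chainMon K (c x).2) = 0 := by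
      unfold chainMon
      rw [map_prod]
      apply Finset.prod_eq_zero (Finset.mem_univ k)
      by_cases hle : (c x).2 k ≤ τ
      · have hna : ¬ atom hdn ≤ (c x).2 k := fun h => hk h hle
        rw [eq_iota_of_not_atom_le hdn _ hna]
        exact PsiB_X_iota K hd hdn τ
      · exact PsiB_X_eq_zero K (atom hdn) τ _ hle
    rw [h0, smul_zero]
  rw [h2, add_zero] at h1
  set s₁ := s.filter (fun x => ∀ k, atom hdn ≤ (c x).2 k ∧ (c x).2 k ≤ τ) with hs₁
  have hx₀' : x₀ ∈ s₁ := Finset.mem_filter.mpr ⟨hx₀, hgood⟩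
  let e : {x // x ∈ s₁} → ChainBetween (atom hdn) τ := fun x =>
    ⟨c x.1, hanti x.1 (Finset.mem_filter.mp x.2).1, (Finset.mem_filter.mp x.2).2⟩
  have he : Function.Injective e := by
    intro x y hxy
    have := congrArg Subtype.val hxy
    simp only [e] at this
    exact Subtype.ext (hinj (Finset.mem_filter.mp x.2).1 (Finset.mem_filter.mp y.2).1 this)
  have hli := (linearIndependent_PsiB K (atom hdn) τ hd).comp e he
  rw [Fintype.linearIndependent_iff] at hli
  have h3 := hli (fun x => g x.1) (by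
    rw [← h1, ← Finset.sum_coe_sort s₁]
    rfl)
  exact h3 ⟨x₀, hx₀'⟩

theorem ker_PsiB [Infinite K] (hd : 0 < d) (hdn : d < n) (τ : Idx d n) :
    RingHom.ker (PsiB K (atom hdn) τ).toRingHom =
      schubertVanishing K d n τ ⊔ Ideal.span {(X (iota hdn.le) : PlRing K d n)} := by
  classical
  set 𝔭 : Ideal (PlRing K d n) :=
    schubertVanishing K d n τ ⊔ Ideal.span {(X (iota hdn.le) : PlRing K d n)} with h𝔭
  have hle : 𝔭 ≤ RingHom.ker (PsiB K (atom hdn) τ).toRingHom := by
    refine sup_le ?_ ?_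
    · intro p hp
      rw [RingHom.mem_ker]
      exact PsiB_eq_zero_of_mem K (atom hdn) τ p hp
    · rw [Ideal.span_le]
      rintro _ rfl
      rw [SetLike.mem_coe, RingHom.mem_ker]
      exact PsiB_X_iota K hd hdn τ
  apply le_antisymm _ hle
  intro p hp
  rw [RingHom.mem_ker] at hp
  have hp' : PsiB K (atom hdn) τ p = 0 := hp
  obtain ⟨c, hc⟩ := exists_std_repr K 𝔭
    (fun i j r _ => Ideal.mem_sup_left (shuffleRel_mem_schubertVanishing K τ i j r)) p
  set q : PlRing K d n := ∑ x ∈ c.support, c x • chainMon K x.2.1 with hq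
  have hPq : PsiB K (atom hdn) τ q = 0 := by
    have h0 := hle hc
    rw [RingHom.mem_ker] at h0
    have h0' : PsiB K (atom hdn) τ (p - q) = 0 := h0
    rw [map_sub, hp', zero_sub, neg_eq_zero] at h0'
    exact h0'
  suffices hqJ : q ∈ 𝔭 by
    have := 𝔭.add_mem hc hqJ
    rwa [sub_add_cancel] at this
  rw [hq]
  refine Ideal.sum_mem _ fun x hx => ?_
  rw [MvPolynomial.smul_eq_C_mul]
  refine Ideal.mul_mem_left _ _ ?_
  by_cases hgood : ∀ k, atom hdn ≤ x.2.1 k ∧ x.2.1 k ≤ τ
  · exfalso
    have h0 := coeff_eq_zero_of_PsiB_eq_zero K hd hdn τ c.support (fun x => c x)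
      (fun x => ⟨x.1, x.2.1⟩) (fun x _ => x.2.2)
      (by
        intro x _ y _ hxy
        obtain ⟨m, c, hc⟩ := x
        obtain ⟨m', c', hc'⟩ := y
        simp only [Sigma.mk.injEq] at hxy
        obtain ⟨rfl, h2⟩ := hxy
        have := eq_of_heq h2
        subst this
        rfl)
      hPq x hx hgood
    exact (Finsupp.mem_support_iff.mp hx) h0
  · push Not at hgood
    obtain ⟨k, hk⟩ := hgood
    by_cases hle' : x.2.1 k ≤ τ
    · have hna : ¬ atom hdn ≤ x.2.1 k := fun h => hk h hle'
      have hk' := eq_iota_of_not_atom_le hdn _ hna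
      apply Ideal.mem_sup_right
      unfold chainMon
      refine Ideal.mem_of_dvd _ (Finset.dvd_prod_of_mem _ (Finset.mem_univ k)) ?_
      rw [hk']
      exact Ideal.subset_span rfl
    · exact Ideal.mem_sup_left (chainMon_mem_schubertVanishing K τ _ ⟨k, hle'⟩)

theorem prime_mk_X_iota [Infinite K] (hd : 0 < d) (hdn : d < n) (τ : Idx d n) :
    Prime (Ideal.Quotient.mk (schubertVanishing K d n τ) (X (iota hdn.le))) := by
  set J := schubertVanishing K d n τ with hJ
  have hx0 : Ideal.Quotient.mk J (X (iota hdn.le)) ≠ 0 := by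
    rw [Ne, Ideal.Quotient.eq_zero_iff_mem]
    exact X_notMem_schubertVanishing K hd τ (iota_le hdn.le τ)
  rw [← Ideal.span_singleton_prime hx0]
  have hspan : Ideal.span {Ideal.Quotient.mk J (X (iota hdn.le))} =
      (Ideal.span {(X (iota hdn.le) : PlRing K d n)}).map (Ideal.Quotient.mk J) := by
    rw [Ideal.map_span, Set.image_singleton]
  have hP : (J ⊔ Ideal.span {(X (iota hdn.le) : PlRing K d n)}).IsPrime := by
    rw [← ker_PsiB K hd hdn τ]
    exact RingHom.ker_isPrime _
  have h1 := Ideal.map_isPrime_of_surjective (f := Ideal.Quotient.mk J)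
    Ideal.Quotient.mk_surjective (I := J ⊔ Ideal.span {(X (iota hdn.le) : PlRing K d n)})
    (by rw [Ideal.mk_ker]; exact le_sup_left)
  rw [Ideal.map_sup, Ideal.map_quotient_self, bot_sup_eq, ← hspan] at h1
  exact h1

end Groth.Agent.Lib.Helper95.Rich
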