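import Mathlib
import Groth.Agent.S0543
import Groth.Agent.Lib.Helper71.FlatCompletion

/-!
# Ring maps between adic completions (helper95)

General facts on `AdicCompletion K L` for a ring `L` with a finitely generated ideal `K`:
completeness for the extended ideal, uniqueness and existence of ring maps out of / between
completions compatible with maps of the underlying rings.
-/

set_option autoImplicit false
universe u

namespace Groth.Agent.Lib.Helper95.Rig

open Groth.Agent.Lib.Helper71.FlatCompletion

section compl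

variable {L : Type u} [CommRing L] (K : Ideal L)

theorem isAdicComplete_map (hK : K.FG) :
    IsAdicComplete (K.map (algebraMap L (AdicCompletion K L))) (AdicCompletion K L) :=
  (IsAdicComplete.map_algebraMap_iff (I := K) (S := AdicCompletion K L)
    (M := AdicCompletion K L)).mpr (AdicCompletion.isAdicComplete (M := L) hK)

theorem map_le_jacobson (hK : K.FG) :
    K.map (algebraMap L (AdicCompletion K L)) ≤ Ideal.jacobson ⊥ := by
  haveI := isAdicComplete_map K hK
  exact IsAdicComplete.le_jacobson_bot _

/-- image of `(K^n) L^` under a ring map `ψ` lies in `J^n` as soon as `ψ (K) ⊆ J`. -/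
theorem map_mem_pow {T : Type*} [CommRing T] (J : Ideal T)
    (ψ : AdicCompletion K L →+* T)
    (hJ : K.map (ψ.comp (algebraMap L (AdicCompletion K L))) ≤ J) (n : ℕ)
    (y : AdicCompletion K L) (hy : y ∈ (K ^ n).map (algebraMap L (AdicCompletion K L))) :
    ψ y ∈ J ^ n := by
  have h1 : ((K ^ n).map (algebraMap L (AdicCompletion K L))).map ψ ≤ J ^ n := by
    rw [Ideal.map_map, Ideal.map_pow]
    exact Ideal.pow_right_mono hJ n
  exact h1 (Ideal.mem_map_of_mem ψ hy)

/-- Two ring maps out of a completion into a separated ring agreeing on `L` are equal. -/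
theorem ringHom_ext_of_isHausdorff (hK : K.FG) {T : Type*} [CommRing T] (J : Ideal T)
    [IsHausdorff J T] (ψ₁ ψ₂ : AdicCompletion K L →+* T)
    (h : ψ₁.comp (algebraMap L (AdicCompletion K L)) =
      ψ₂.comp (algebraMap L (AdicCompletion K L)))
    (hJ : K.map (ψ₁.comp (algebraMap L (AdicCompletion K L))) ≤ J) : ψ₁ = ψ₂ := by
  ext x
  rw [← sub_eq_zero]
  apply IsHausdorff.haus' (I := J)
  intro n
  rw [SModEq.zero, smul_eq_mul, Ideal.mul_top]
  obtain ⟨r, hr⟩ := exists_sub_mem_map_pow K hK n x
  have hr' : ψ₁ (algebraMap L _ r) = ψ₂ (algebraMap L _ r) := RingHom.congr_fun h r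
  have h1 : ψ₁ x - ψ₂ x = ψ₁ (x - algebraMap L _ r) - ψ₂ (x - algebraMap L _ r) := by
    rw [map_sub, map_sub, hr']; ring
  rw [h1]
  exact Ideal.sub_mem _ (map_mem_pow K J ψ₁ hJ n _ hr) (map_mem_pow K J ψ₂ (h ▸ hJ) n _ hr)

/-- Existence of the completed map. -/
theorem exists_map {L' : Type u} [CommRing L'] (K' : Ideal L') (φ : L →+* L')
    (h : K.map φ ≤ K') :
    ∃ ψ : AdicCompletion K L →+* AdicCompletion K' L',
      ψ.comp (algebraMap L (AdicCompletion K L)) =
        (algebraMap L' (AdicCompletion K' L')).comp φ := by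
  have hle : ∀ n : ℕ, K ^ n ≤ (K' ^ n).comap φ := fun n => by
    rw [← Ideal.map_le_iff_le_comap, Ideal.map_pow]
    exact Ideal.pow_right_mono h n
  let f : (n : ℕ) → AdicCompletion K L →+* L' ⧸ K' ^ n := fun n =>
    (Ideal.quotientMap (K' ^ n) φ (hle n)).comp (AdicCompletion.evalₐ K n).toRingHom
  have hf : ∀ {m n : ℕ} (hmn : m ≤ n),
      (Ideal.Quotient.factorPow K' hmn).comp (f n) = f m := by
    intro m n hmn
    ext x
    obtain ⟨a, rfl⟩ := AdicCompletion.mk_surjective K L x
    simp only [f, RingHom.coe_comp, Function.comp_apply, AlgHom.toRingHom_eq_coe, RingHom.coe_coe,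
      AdicCompletion.evalₐ_mk, Ideal.quotientMap_mk, Ideal.Quotient.factor_mk]
    have h1 := AdicCompletion.Ideal.mk_eq_mk K hmn a
    rw [Ideal.Quotient.eq] at h1
    rw [Ideal.Quotient.eq, ← map_sub]
    exact hle m h1
  refine ⟨AdicCompletion.liftRingHom K' f hf, ?_⟩
  refine RingHom.ext fun r => ?_
  apply AdicCompletion.ext_evalₐ
  intro n
  simp only [RingHom.coe_comp, Function.comp_apply, AdicCompletion.evalₐ_liftRingHom]
  simp [f, AdicCompletion.algebraMap_apply]

end compl

end Groth.Agent.Lib.Helper95.Rig
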