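import Mathlib
import Groth.Agent.Lib.Helper7.FlatDescent

/-!
# Rig-closed primes and flatness at localizations (helper95)
-/

set_option autoImplicit false
universe u

namespace Groth.Agent.Lib.Helper95.Rig

section rig

variable {S : Type*} [CommRing S]

/-- `q` is rig-closed for `J`: `J ⊄ q` and `q` is maximal among primes not containing `J`. -/
def RigClosed (J : Ideal S) (q : PrimeSpectrum S) : Prop :=
  ¬ J ≤ q.asIdeal ∧ ∀ y : PrimeSpectrum S, q ≤ y → ¬ J ≤ y.asIdeal → y = q

theorem exists_rigClosed_ge [IsNoetherianRing S] (J : Ideal S) (p : PrimeSpectrum S)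
    (hp : ¬ J ≤ p.asIdeal) : ∃ q : PrimeSpectrum S, RigClosed J q ∧ p ≤ q := by
  let 𝒮 : Set (Ideal S) := {y | y.IsPrime ∧ p.asIdeal ≤ y ∧ ¬ J ≤ y}
  have hne : 𝒮.Nonempty := ⟨p.asIdeal, p.isPrime, le_rfl, hp⟩
  obtain ⟨m, hm, hmax⟩ := set_has_maximal_iff_noetherian.mpr (inferInstance : IsNoetherian S S) 𝒮 hne
  obtain ⟨hm1, hm2, hm3⟩ := hm
  refine ⟨⟨m, hm1⟩, ⟨hm3, fun y hy hJy => ?_⟩, hm2⟩
  have hy' : m ≤ y.asIdeal := hy
  have hyS : y.asIdeal ∈ 𝒮 := ⟨y.isPrime, le_trans hm2 hy', hJy⟩
  have h1 : ¬ m < y.asIdeal := hmax _ hyS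
  have h2 : y.asIdeal = m := by
    by_contra hne
    exact h1 (lt_of_le_of_ne hy' (Ne.symm hne))
  exact PrimeSpectrum.ext h2

end rig

section flat

variable {R S T : Type*} [CommRing R] [CommRing S] [CommRing T]

/-- Flatness at a prime passes to smaller primes. -/
theorem flat_atPrime_of_le (ψ : R →+* S) (q q' : Ideal S) [q.IsPrime] [q'.IsPrime] (hle : q ≤ q')
    (h : ((algebraMap S (Localization.AtPrime q')).comp ψ).Flat) :
    ((algebraMap S (Localization.AtPrime q)).comp ψ).Flat := by
  have hle' : q'.primeCompl ≤ q.primeCompl := fun x hx hxq => hx (hle hxq)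
  let g : Localization.AtPrime q' →+* Localization.AtPrime q :=
    IsLocalization.lift (M := q'.primeCompl) (g := algebraMap S (Localization.AtPrime q))
      (fun y => IsLocalization.map_units (M := q.primeCompl) _ ⟨y.1, hle' y.2⟩)
  have hg : g.comp (algebraMap S (Localization.AtPrime q')) = algebraMap S _ :=
    IsLocalization.lift_comp _
  letI : Algebra (Localization.AtPrime q') (Localization.AtPrime q) := g.toAlgebra
  haveI : IsScalarTower S (Localization.AtPrime q') (Localization.AtPrime q) :=
    IsScalarTower.of_algebraMap_eq (fun x => (RingHom.congr_fun hg x).symm)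
  haveI := IsLocalization.isLocalization_of_submonoid_le (Localization.AtPrime q')
    (Localization.AtPrime q) q'.primeCompl q.primeCompl hle'
  have hgf : g.Flat :=
    IsLocalization.flat (Localization.AtPrime q)
      (q.primeCompl.map (algebraMap S (Localization.AtPrime q')))
  have e : (algebraMap S (Localization.AtPrime q)).comp ψ =
      g.comp ((algebraMap S (Localization.AtPrime q')).comp ψ) := by
    rw [← RingHom.comp_assoc, hg]
  rw [e]
  exact RingHom.Flat.comp h hgf

/-- Flat at all rig-closed primes implies flat at all primes not containing `J`. -/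
theorem flat_atPrime_of_forall_rigClosed [IsNoetherianRing S] (ψ : R →+* S) (J : Ideal S)
    (h : ∀ q : PrimeSpectrum S, RigClosed J q →
      ((algebraMap S (Localization.AtPrime q.asIdeal)).comp ψ).Flat)
    (p : Ideal S) [p.IsPrime] (hp : ¬ J ≤ p) :
    ((algebraMap S (Localization.AtPrime p)).comp ψ).Flat := by
  obtain ⟨q, hq, hpq⟩ := exists_rigClosed_ge J ⟨p, inferInstance⟩ hp
  exact flat_atPrime_of_le ψ p q.asIdeal hpq (h q hq)

/-- Composition: `R → S_p` flat and `S → T_q` flat with `p = χ⁻¹ q` imply `R → T_q` flat. -/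
theorem flat_atPrime_comp (ψ : R →+* S) (χ : S →+* T) (q : Ideal T) [q.IsPrime]
    (h1 : ((algebraMap S (Localization.AtPrime (q.comap χ))).comp ψ).Flat)
    (h2 : ((algebraMap T (Localization.AtPrime q)).comp χ).Flat) :
    ((algebraMap T (Localization.AtPrime q)).comp (χ.comp ψ)).Flat := by
  let g : Localization.AtPrime (q.comap χ) →+* Localization.AtPrime q :=
    Localization.localRingHom (q.comap χ) q χ rfl
  have hg : g.comp (algebraMap S (Localization.AtPrime (q.comap χ))) =
      (algebraMap T (Localization.AtPrime q)).comp χ :=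
    RingHom.ext fun x => Localization.localRingHom_to_map _ _ _ rfl x
  have hgf : g.Flat := by
    let _ : Algebra S (Localization.AtPrime q) :=
      ((algebraMap T (Localization.AtPrime q)).comp χ).toAlgebra
    let _ : Algebra (Localization.AtPrime (q.comap χ)) (Localization.AtPrime q) := g.toAlgebra
    have : IsScalarTower S (Localization.AtPrime (q.comap χ)) (Localization.AtPrime q) :=
      IsScalarTower.of_algebraMap_eq (fun x => (RingHom.congr_fun hg x).symm)
    have h2' : Module.Flat S (Localization.AtPrime q) := h2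
    exact (Module.flat_iff_of_isLocalization (Localization.AtPrime (q.comap χ))
      (q.comap χ).primeCompl (Localization.AtPrime q)).mpr h2'
  have e : (algebraMap T (Localization.AtPrime q)).comp (χ.comp ψ) =
      g.comp ((algebraMap S (Localization.AtPrime (q.comap χ))).comp ψ) := by
    rw [← RingHom.comp_assoc, ← RingHom.comp_assoc, hg]
  rw [e]
  exact RingHom.Flat.comp h1 hgf

/-- Descent: if `χ : S → T` is flat and `R → T_q` is flat then `R → S_p` is flat, `p = χ⁻¹ q`. -/
theorem flat_atPrime_descent (ψ : R →+* S) (χ : S →+* T) (hχ : χ.Flat) (q : Ideal T) [q.IsPrime]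
    (h : ((algebraMap T (Localization.AtPrime q)).comp (χ.comp ψ)).Flat) :
    ((algebraMap S (Localization.AtPrime (q.comap χ))).comp ψ).Flat := by
  let g : Localization.AtPrime (q.comap χ) →+* Localization.AtPrime q :=
    Localization.localRingHom (q.comap χ) q χ rfl
  have hg : g.comp (algebraMap S (Localization.AtPrime (q.comap χ))) =
      (algebraMap T (Localization.AtPrime q)).comp χ :=
    RingHom.ext fun x => Localization.localRingHom_to_map _ _ _ rfl x
  have hgf : g.Flat := RingHom.Flat.localRingHom hχ q (q.comap χ) rfl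
  have hgff : g.FaithfullyFlat := by
    let _ : Algebra (Localization.AtPrime (q.comap χ)) (Localization.AtPrime q) := g.toAlgebra
    have : Module.Flat (Localization.AtPrime (q.comap χ)) (Localization.AtPrime q) := hgf
    have : IsLocalHom (algebraMap (Localization.AtPrime (q.comap χ)) (Localization.AtPrime q)) :=
      Localization.isLocalHom_localRingHom (q.comap χ) q χ rfl
    exact Module.FaithfullyFlat.of_flat_of_isLocalHom
  apply Groth.Agent.Lib.Helper7.ringHom_flat_of_comp_of_faithfullyFlat _ g hgff
  rw [← RingHom.comp_assoc, hg, RingHom.comp_assoc]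
  exact h

end flat

end Groth.Agent.Lib.Helper95.Rig
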