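import Mathlib
import Groth.Agent.Lib.Helper95.RigA
import Groth.Agent.Lib.Helper95.RigB

/-!
# Rig-flatness of maps of completions: composition (helper95)
-/

set_option autoImplicit false
universe u

namespace Groth.Agent.Lib.Helper95.Rig

section

variable {L L' : Type u} [CommRing L] [CommRing L']

/-- Rig-flatness of the completed map over `φ : L → L'` (for the ideals `K`, `K'`):
every compatible map of completions is flat at all rig-closed primes of the target. -/
def RigFlatAt (K : Ideal L) (K' : Ideal L') (φ : L →+* L') : Prop :=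
  ∀ ψ : AdicCompletion K L →+* AdicCompletion K' L',
    ψ.comp (algebraMap L (AdicCompletion K L)) = (algebraMap L' (AdicCompletion K' L')).comp φ →
    ∀ q : PrimeSpectrum (AdicCompletion K' L'),
      (¬ (K'.map (algebraMap L' (AdicCompletion K' L'))) ≤ q.asIdeal ∧
        ∀ y : PrimeSpectrum (AdicCompletion K' L'), q ≤ y →
          ¬ (K'.map (algebraMap L' (AdicCompletion K' L'))) ≤ y.asIdeal → y = q) →
      ((algebraMap (AdicCompletion K' L') (Localization.AtPrime q.asIdeal)).comp ψ).Flat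

/-- A rig-flat completed map is flat at every prime not containing the ideal of definition. -/
theorem RigFlatAt.flat_atPrime [IsNoetherianRing L'] {K : Ideal L} {K' : Ideal L'} {φ : L →+* L'}
    (H : RigFlatAt K K' φ) (ψ : AdicCompletion K L →+* AdicCompletion K' L')
    (hψ : ψ.comp (algebraMap L (AdicCompletion K L)) =
      (algebraMap L' (AdicCompletion K' L')).comp φ)
    (p : Ideal (AdicCompletion K' L')) [p.IsPrime]
    (hp : ¬ K'.map (algebraMap L' (AdicCompletion K' L')) ≤ p) :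
    ((algebraMap (AdicCompletion K' L') (Localization.AtPrime p)).comp ψ).Flat := by
  haveI : IsNoetherianRing (AdicCompletion K' L') := Groth.Agent.S0543.result L' K'
  exact flat_atPrime_of_forall_rigClosed ψ _ (fun q hq => H ψ hψ q hq) p hp

end

section comp

variable {L₁ L₂ L₃ : Type u} [CommRing L₁] [CommRing L₂] [CommRing L₃]

theorem rigFlatAt_comp [IsNoetherianRing L₂] (K₁ : Ideal L₁) (K₂ : Ideal L₂) (K₃ : Ideal L₃)
    (hK₁ : K₁.FG) (hK₃ : K₃.FG) (φ₁₂ : L₁ →+* L₂) (φ₂₃ : L₂ →+* L₃)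
    (h12 : K₁.map φ₁₂ ≤ K₂) (h23 : K₂.map φ₂₃ = K₃)
    (H12 : RigFlatAt K₁ K₂ φ₁₂) (H23 : RigFlatAt K₂ K₃ φ₂₃) :
    RigFlatAt K₁ K₃ (φ₂₃.comp φ₁₂) := by
  subst h23
  intro ψ hψ q hq
  obtain ⟨ψ₁₂, hψ₁₂⟩ := exists_map K₁ K₂ φ₁₂ h12
  obtain ⟨ψ₂₃, hψ₂₃⟩ := exists_map K₂ (K₂.map φ₂₃) φ₂₃ le_rfl
  haveI := isAdicComplete_map (K₂.map φ₂₃) hK₃
  have hcomp : (ψ₂₃.comp ψ₁₂).comp (algebraMap L₁ (AdicCompletion K₁ L₁)) =
      (algebraMap L₃ (AdicCompletion (K₂.map φ₂₃) L₃)).comp (φ₂₃.comp φ₁₂) := by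
    rw [RingHom.comp_assoc, hψ₁₂, ← RingHom.comp_assoc, hψ₂₃, RingHom.comp_assoc]
  have hψeq : ψ = ψ₂₃.comp ψ₁₂ := by
    refine ringHom_ext_of_isHausdorff K₁ hK₁
      ((K₂.map φ₂₃).map (algebraMap L₃ (AdicCompletion (K₂.map φ₂₃) L₃)))
      ψ (ψ₂₃.comp ψ₁₂) (hψ.trans hcomp.symm) ?_
    rw [hψ, ← Ideal.map_map]
    apply Ideal.map_mono
    rw [← Ideal.map_map]
    exact Ideal.map_mono h12
  subst hψeq
  have hp : ¬ K₂.map (algebraMap L₂ (AdicCompletion K₂ L₂)) ≤ q.asIdeal.comap ψ₂₃ := by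
    intro hle
    apply hq.1
    rw [Ideal.map_map, ← hψ₂₃, ← Ideal.map_map]
    exact Ideal.map_le_iff_le_comap.mpr hle
  have h1 := H12.flat_atPrime ψ₁₂ hψ₁₂ (q.asIdeal.comap ψ₂₃) hp
  have h2 := H23 ψ₂₃ hψ₂₃ q hq
  exact flat_atPrime_comp ψ₁₂ ψ₂₃ q.asIdeal h1 h2

end comp

section transport

/-- Transport of a rig-flatness statement along equalities of the element inverted and the
ideal of definition. -/
theorem rigFlatAt_transport {L : Type u} [CommRing L] (K : Ideal L) {B C : Type u} [CommRing B]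
    [CommRing C] (β : B →+* L) (γ : B →+* C)
    (c c' : C) (hc : c' = c) (J J' : Ideal C) (hJ : J' = J)
    (φ' : L →+* Localization.Away c')
    (hφ' : φ'.comp β = (algebraMap C (Localization.Away c')).comp γ)
    (H : RigFlatAt K (J'.map (algebraMap C (Localization.Away c'))) φ') :
    ∃ φ : L →+* Localization.Away c, φ.comp β = (algebraMap C (Localization.Away c)).comp γ ∧
      RigFlatAt K (J.map (algebraMap C (Localization.Away c))) φ := by
  subst hc
  subst hJ
  exact ⟨φ', hφ', H⟩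

end transport

end Groth.Agent.Lib.Helper95.Rig
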