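import Mathlib
import Groth.Agent.Lib.Helper95.RigC

/-!
# Rig-flatness of maps of completions: faithfully flat descent (helper95)
-/

set_option autoImplicit false
universe u

namespace Groth.Agent.Lib.Helper95.Rig

open Groth.Agent.Lib.Helper71.FlatCompletion

section ff

variable {L L' : Type u} [CommRing L] [CommRing L'] [IsNoetherianRing L] [IsNoetherianRing L']

/-- The completion of a flat map which is "surjective on the closed fibre" is faithfully flat. -/
theorem faithfullyFlat_completion_map (K : Ideal L) (K' : Ideal L') (β : L →+* L') (hβ : β.Flat)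
    (hK : K.map β ≤ K')
    (hβs : ∀ m₀ : Ideal L, m₀.IsPrime → K ≤ m₀ →
      ∃ n₀ : Ideal L', n₀ ≠ ⊤ ∧ K' ≤ n₀ ∧ m₀.map β ≤ n₀)
    (ψ : AdicCompletion K L →+* AdicCompletion K' L')
    (hψ : ψ.comp (algebraMap L (AdicCompletion K L)) =
      (algebraMap L' (AdicCompletion K' L')).comp β) : ψ.FaithfullyFlat := by
  have hKfg : K.FG := IsNoetherian.noetherian K
  have hflat : ψ.Flat := flat_of_completion_map K K' β hβ hK ψ hψ
  let _ : Algebra (AdicCompletion K L) (AdicCompletion K' L') := ψ.toAlgebra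
  change Module.FaithfullyFlat (AdicCompletion K L) (AdicCompletion K' L')
  have hflat' : Module.Flat (AdicCompletion K L) (AdicCompletion K' L') := hflat
  refine ⟨fun m hm htop => ?_⟩
  have hKm : K.map (algebraMap L (AdicCompletion K L)) ≤ m :=
    le_trans (map_le_jacobson K hKfg) (sInf_le ⟨bot_le, hm⟩)
  obtain ⟨n₀, hn₀, hK'n₀, hmn₀⟩ := hβs (m.comap (algebraMap L (AdicCompletion K L)))
    (Ideal.comap_isPrime _ _) (Ideal.map_le_iff_le_comap.mp hKm)
  let χ : AdicCompletion K' L' →+* L' ⧸ n₀ :=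
    (Ideal.Quotient.factor hK'n₀).comp (AdicCompletion.evalOneₐ K').toRingHom
  have hχι : ∀ x : L', χ (algebraMap L' (AdicCompletion K' L') x) = Ideal.Quotient.mk n₀ x := by
    intro x
    simp [χ, AdicCompletion.algebraMap_apply]
  have hχK : K'.map (algebraMap L' (AdicCompletion K' L')) ≤ RingHom.ker χ := by
    rw [Ideal.map_le_iff_le_comap]
    intro k hk
    rw [Ideal.mem_comap, RingHom.mem_ker, hχι, Ideal.Quotient.eq_zero_iff_mem]
    exact hK'n₀ hk
  have hJ : K.map (ψ.comp (algebraMap L (AdicCompletion K L))) ≤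
      K'.map (algebraMap L' (AdicCompletion K' L')) := by
    rw [hψ, ← Ideal.map_map]
    exact Ideal.map_mono hK
  have key : ∀ x ∈ m, χ (ψ x) = 0 := by
    intro x hx
    obtain ⟨r, hr⟩ := exists_sub_mem_map_pow K hKfg 1 x
    have hr1 : ψ (x - algebraMap L _ r) ∈ K'.map (algebraMap L' (AdicCompletion K' L')) := by
      have := map_mem_pow K _ ψ hJ 1 _ hr
      rwa [pow_one] at this
    rw [pow_one] at hr
    have hιr : algebraMap L (AdicCompletion K L) r ∈ m := by
      have : algebraMap L (AdicCompletion K L) r = x - (x - algebraMap L _ r) := by ring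
      rw [this]
      exact Ideal.sub_mem _ hx (hKm hr)
    have hβr : β r ∈ n₀ := hmn₀ (Ideal.mem_map_of_mem β hιr)
    have h1 : ψ x = algebraMap L' (AdicCompletion K' L') (β r) + ψ (x - algebraMap L _ r) := by
      have : ψ (algebraMap L _ r) = algebraMap L' (AdicCompletion K' L') (β r) :=
        RingHom.congr_fun hψ r
      rw [← this, ← map_add]
      congr 1
      ring
    rw [h1, map_add, hχι, Ideal.Quotient.eq_zero_iff_mem.mpr hβr, zero_add]
    exact hχK hr1
  have hle : m • (⊤ : Submodule (AdicCompletion K L) (AdicCompletion K' L')) ≤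
      (RingHom.ker χ).restrictScalars (AdicCompletion K L) := by
    rw [Submodule.smul_le]
    intro r hr x _
    show r • x ∈ RingHom.ker χ
    rw [Algebra.smul_def, RingHom.mem_ker, map_mul]
    have : χ (algebraMap (AdicCompletion K L) (AdicCompletion K' L') r) = 0 := key r hr
    rw [this, zero_mul]
  have h1 : (1 : AdicCompletion K' L') ∈
      (RingHom.ker χ).restrictScalars (AdicCompletion K L) := by
    apply hle
    rw [htop]
    exact Submodule.mem_top
  have h2 : χ 1 = 0 := h1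
  rw [map_one] at h2
  haveI : Nontrivial (L' ⧸ n₀) := Ideal.Quotient.nontrivial_iff.mpr hn₀
  exact one_ne_zero h2

end ff

section descent

variable {L₁ L₂ L₁' L₂' : Type u} [CommRing L₁] [CommRing L₂] [CommRing L₁'] [CommRing L₂']
  [IsNoetherianRing L₁] [IsNoetherianRing L₂] [IsNoetherianRing L₁'] [IsNoetherianRing L₂']

theorem rigFlatAt_descent (K₁ : Ideal L₁) (K₂ : Ideal L₂) (K₁' : Ideal L₁') (K₂' : Ideal L₂')
    (φ : L₁ →+* L₂) (φ' : L₁' →+* L₂') (α : L₁ →+* L₁') (β : L₂ →+* L₂')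
    (hsq : β.comp φ = φ'.comp α)
    (hα : α.Flat) (hβ : β.Flat)
    (hβs : ∀ m₀ : Ideal L₂, m₀.IsPrime → K₂ ≤ m₀ →
      ∃ n₀ : Ideal L₂', n₀ ≠ ⊤ ∧ K₂' ≤ n₀ ∧ m₀.map β ≤ n₀)
    (hKα : K₁.map α ≤ K₁') (hKβ : K₂.map β = K₂') (hKφ : K₁.map φ ≤ K₂)
    (hKφ' : K₁'.map φ' ≤ K₂')
    (H : RigFlatAt K₁' K₂' φ') : RigFlatAt K₁ K₂ φ := by
  intro ψ hψ q hq
  have hfg₁ : K₁.FG := IsNoetherian.noetherian K₁
  have hfg₂' : K₂'.FG := IsNoetherian.noetherian K₂'
  obtain ⟨ψα, hψα⟩ := exists_map K₁ K₁' α hKα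
  obtain ⟨ψβ, hψβ⟩ := exists_map K₂ K₂' β hKβ.le
  obtain ⟨ψ', hψ'⟩ := exists_map K₁' K₂' φ' hKφ'
  have hαf : ψα.Flat := flat_of_completion_map K₁ K₁' α hα hKα ψα hψα
  have hβf : ψβ.FaithfullyFlat :=
    faithfullyFlat_completion_map K₂ K₂' β hβ hKβ.le hβs ψβ hψβ
  have := isAdicComplete_map K₂' hfg₂'
  -- the square of completions commutes
  have hsq' : ψβ.comp ψ = ψ'.comp ψα := by
    have e1 : (ψβ.comp ψ).comp (algebraMap L₁ (AdicCompletion K₁ L₁)) =
        (algebraMap L₂' (AdicCompletion K₂' L₂')).comp (β.comp φ) := by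
      rw [RingHom.comp_assoc, hψ, ← RingHom.comp_assoc, hψβ, RingHom.comp_assoc]
    have e2 : (ψ'.comp ψα).comp (algebraMap L₁ (AdicCompletion K₁ L₁)) =
        (algebraMap L₂' (AdicCompletion K₂' L₂')).comp (β.comp φ) := by
      rw [RingHom.comp_assoc, hψα, ← RingHom.comp_assoc, hψ', RingHom.comp_assoc, hsq]
    refine ringHom_ext_of_isHausdorff K₁ hfg₁
      (K₂'.map (algebraMap L₂' (AdicCompletion K₂' L₂'))) _ _ (e1.trans e2.symm) ?_
    rw [e1, ← Ideal.map_map]
    apply Ideal.map_mono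
    rw [← Ideal.map_map, ← hKβ]
    exact Ideal.map_mono hKφ
  -- lift the prime `q`
  obtain ⟨q', hq'⟩ : ∃ q' : PrimeSpectrum (AdicCompletion K₂' L₂'),
      q'.asIdeal.comap ψβ = q.asIdeal := by
    let _ : Algebra (AdicCompletion K₂ L₂) (AdicCompletion K₂' L₂') := ψβ.toAlgebra
    have : Module.FaithfullyFlat (AdicCompletion K₂ L₂) (AdicCompletion K₂' L₂') := hβf
    obtain ⟨q', hq'⟩ := PrimeSpectrum.comap_surjective_of_faithfullyFlat
      (A := AdicCompletion K₂ L₂) (B := AdicCompletion K₂' L₂') q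
    exact ⟨q', congrArg PrimeSpectrum.asIdeal hq'⟩
  have hq'K : ¬ K₂'.map (algebraMap L₂' (AdicCompletion K₂' L₂')) ≤ q'.asIdeal := by
    intro hle
    apply hq.1
    rw [← hq', ← Ideal.map_le_iff_le_comap, Ideal.map_map, hψβ, ← Ideal.map_map, hKβ]
    exact hle
  have h1 := H.flat_atPrime ψ' hψ' q'.asIdeal hq'K
  have h2 : ((algebraMap (AdicCompletion K₂' L₂') (Localization.AtPrime q'.asIdeal)).comp
      (ψβ.comp ψ)).Flat := by
    rw [hsq', ← RingHom.comp_assoc]
    exact RingHom.Flat.comp hαf h1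
  have h3 := flat_atPrime_descent ψ ψβ hβf.flat q'.asIdeal h2
  obtain ⟨qi, hqi⟩ := q
  change q'.asIdeal.comap ψβ = qi at hq'
  subst hq'
  exact h3

end descent

section away

/-- A ring map out of a localization is flat as soon as its restriction to the base is. -/
theorem flat_of_comp_isLocalization {R S T : Type*} [CommRing R] [CommRing S] [CommRing T]
    [Algebra R S] (M : Submonoid R) [IsLocalization M S] (g : S →+* T)
    (h : (g.comp (algebraMap R S)).Flat) : g.Flat := by
  let _ : Algebra S T := g.toAlgebra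
  let _ : Algebra R T := (g.comp (algebraMap R S)).toAlgebra
  have : IsScalarTower R S T := IsScalarTower.of_algebraMap_eq (fun _ => rfl)
  have h' : Module.Flat R T := h
  exact (Module.flat_iff_of_isLocalization S M T).mpr h'

/-- Primes of `B_b` extend to proper ideals of `B'_{b'}` when `B → B'` is faithfully flat. -/
theorem away_map_ne_top {B B' : Type*} [CommRing B] [CommRing B'] [Algebra B B']
    [Module.FaithfullyFlat B B'] (b : B) (b' : B') (hb : algebraMap B B' b = b')
    (β : Localization.Away b →+* Localization.Away b')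
    (hβ : β.comp (algebraMap B (Localization.Away b)) =
      (algebraMap B' (Localization.Away b')).comp (algebraMap B B'))
    (m₀ : Ideal (Localization.Away b)) (hm₀ : m₀.IsPrime) :
    ∃ n₀ : Ideal (Localization.Away b'), n₀ ≠ ⊤ ∧ m₀.map β ≤ n₀ := by
  set p₀ : Ideal B := m₀.comap (algebraMap B (Localization.Away b)) with hp₀
  haveI : p₀.IsPrime := Ideal.comap_isPrime _ _
  obtain ⟨P₀, hP₀, hover⟩ := Ideal.exists_isPrime_liesOver_of_faithfullyFlat (B := B') p₀
  have hP₀' : p₀ = P₀.comap (algebraMap B B') := hover.over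
  refine ⟨P₀.map (algebraMap B' (Localization.Away b')), ?_, ?_⟩
  · rw [IsLocalization.map_algebraMap_ne_top_iff_disjoint (Submonoid.powers b')]
    rw [Set.disjoint_left]
    rintro x ⟨k, rfl⟩ hx
    have hb'P : b' ∈ P₀ := hP₀.mem_of_pow_mem k hx
    have hbp : b ∈ p₀ := by
      rw [hP₀', Ideal.mem_comap, hb]
      exact hb'P
    have hu : IsUnit (algebraMap B (Localization.Away b) b) :=
      IsLocalization.Away.algebraMap_isUnit b
    exact hm₀.ne_top (Ideal.eq_top_of_isUnit_mem _ hbp hu)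
  · have h1 : m₀ = p₀.map (algebraMap B (Localization.Away b)) :=
      (IsLocalization.map_comap (Submonoid.powers b) _ m₀).symm
    rw [h1, Ideal.map_map, hβ, ← Ideal.map_map]
    apply Ideal.map_mono
    rw [Ideal.map_le_iff_le_comap, hP₀']

end away

end Groth.Agent.Lib.Helper95.Rig
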