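import Mathlib
import Groth.Agent.Lib.Helper95.RigA
import Groth.Agent.Lib.Helper44.ComplLoc

/-!
# Completed principal localizations `R⟨r⟩` (helper95)

For a Noetherian ring `R`, an ideal `J` and `r : R`, the completed principal localization is
`CLoc R J r = AdicCompletion (J R_r) R_r`.  Basic structure: Noetherian, complete, `R`-flat,
topologically of finite type over `R`, and `R/𝔞 ≃ R⟨r⟩/𝔞R⟨r⟩` whenever `r` is a unit modulo `𝔞`
(generalizing helper44's `quotientMap_completedLocalization_bijective` from primes to ideals).
-/

set_option autoImplicit false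
universe u

namespace Groth.Agent.Lib.Helper95.Rig

open Groth.Agent.Lib.Helper71.FlatCompletion Groth.Agent.Lib.Helper44

section cloc

variable (R : Type u) [CommRing R] (J : Ideal R) (r : R)

/-- The completed principal localization `R⟨r⟩`. -/
abbrev CLoc : Type u :=
  AdicCompletion (J.map (algebraMap R (Localization.Away r))) (Localization.Away r)

theorem algebraMap_cloc_eq : algebraMap R (CLoc R J r) =
    (algebraMap (Localization.Away r) (CLoc R J r)).comp (algebraMap R (Localization.Away r)) :=
  rfl

theorem map_cloc (𝔞 : Ideal R) : 𝔞.map (algebraMap R (CLoc R J r)) =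
    (𝔞.map (algebraMap R (Localization.Away r))).map
      (algebraMap (Localization.Away r) (CLoc R J r)) := by
  rw [Ideal.map_map]
  rfl

theorem isUnit_cloc : IsUnit (algebraMap R (CLoc R J r) r) :=
  (IsLocalization.Away.algebraMap_isUnit r).map (algebraMap (Localization.Away r) (CLoc R J r))

variable [IsNoetherianRing R]

theorem isNoetherianRing_away : IsNoetherianRing (Localization.Away r) :=
  IsLocalization.isNoetherianRing (Submonoid.powers r) _ inferInstance

theorem isNoetherianRing_cloc : IsNoetherianRing (CLoc R J r) :=
  haveI := isNoetherianRing_away R r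
  Groth.Agent.S0543.result _ _

theorem isAdicComplete_cloc : IsAdicComplete (J.map (algebraMap R (CLoc R J r))) (CLoc R J r) := by
  rw [map_cloc]
  have := isNoetherianRing_away R r
  exact isAdicComplete_map _ (IsNoetherian.noetherian _)

theorem flat_cloc : Module.Flat R (CLoc R J r) := by
  have := isNoetherianRing_away R r
  have : Module.Flat R (Localization.Away r) := IsLocalization.flat _ (Submonoid.powers r)
  have : Module.Flat (Localization.Away r) (CLoc R J r) := AdicCompletion.flat_of_isNoetherian _
  exact Module.Flat.trans R (Localization.Away r) (CLoc R J r)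

/-- approximation of elements of `R⟨r⟩` by elements of `R_r` modulo `J`. -/
theorem exists_away_sub_mem (x : CLoc R J r) : ∃ l : Localization.Away r,
    x - algebraMap (Localization.Away r) (CLoc R J r) l ∈ J.map (algebraMap R (CLoc R J r)) := by
  have := isNoetherianRing_away R r
  obtain ⟨l, hl⟩ := exists_sub_mem_map_pow (J.map (algebraMap R (Localization.Away r)))
    (IsNoetherian.noetherian _) 1 x
  rw [pow_one] at hl
  exact ⟨l, by rw [map_cloc]; exact hl⟩

theorem finiteType_cloc :
    Algebra.FiniteType R (CLoc R J r ⧸ J.map (algebraMap R (CLoc R J r))) := by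
  have : Algebra.FiniteType R (Localization.Away r) :=
    IsLocalization.finiteType_of_monoid_fg (Submonoid.powers r) _
  let g : Localization.Away r →ₐ[R] (CLoc R J r ⧸ J.map (algebraMap R (CLoc R J r))) :=
    (Ideal.Quotient.mkₐ R _).comp (IsScalarTower.toAlgHom R (Localization.Away r) (CLoc R J r))
  refine Algebra.FiniteType.of_surjective g ?_
  intro y
  obtain ⟨x, rfl⟩ := Ideal.Quotient.mk_surjective y
  obtain ⟨l, hl⟩ := exists_away_sub_mem R J r x
  refine ⟨l, ?_⟩
  show Ideal.Quotient.mk _ (algebraMap (Localization.Away r) (CLoc R J r) l) = _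
  rw [eq_comm, Ideal.Quotient.eq]
  exact hl

end cloc

section quot

variable (A : Type u) [CommRing A] [IsNoetherianRing A] (I : Ideal A) [IsAdicComplete I A]
  (p : Ideal A) (f : A) (hf : IsUnit (Ideal.Quotient.mk p f))

include hf in
/-- helper44's `quotientMap_completedLocalization_bijective`, without primality of `p`. -/
theorem quotientMap_cloc_bijective :
    Function.Bijective (Ideal.quotientMap (p.map (algebraMap A (CLoc A I f)))
      (algebraMap A (CLoc A I f)) Ideal.le_comap_map) := by
  let _ : Algebra (Localization.Away f) (A ⧸ p) := (awayQuot p f hf).toAlgebra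
  have : IsScalarTower A (Localization.Away f) (A ⧸ p) :=
    IsScalarTower.of_algebraMap_eq (fun a => (awayQuot_algebraMap p f hf a).symm)
  set J := I.map (algebraMap A (Localization.Away f)) with hJ
  set P := p.map (algebraMap A (Localization.Away f)) with hP
  have : IsNoetherianRing (Localization.Away f) :=
    IsLocalization.isNoetherianRing (Submonoid.powers f) _ inferInstance
  have hcomp : IsAdicComplete J (A ⧸ p) :=
    (IsAdicComplete.map_algebraMap_iff I (A ⧸ p)).mpr (isAdicComplete_quotient_module I p)
  let q : Localization.Away f →ₗ[Localization.Away f] (A ⧸ p) :=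
    Algebra.linearMap (Localization.Away f) (A ⧸ p)
  have hqapp : ∀ r, q r = awayQuot p f hf r := fun r => rfl
  have hq : Function.Surjective q := awayQuot_surjective p f hf
  have hker : LinearMap.ker q = P := by
    ext x
    rw [LinearMap.mem_ker, hqapp, hP, ← ker_awayQuot p f hf, RingHom.mem_ker]
  have hmap : p.map (algebraMap A (AdicCompletion J (Localization.Away f))) =
      P.map (algebraMap (Localization.Away f) (AdicCompletion J (Localization.Away f))) := by
    rw [hP, Ideal.map_map]
    congr 1
  have hφ : ∀ a : A, AdicCompletion.map J q (algebraMap A (AdicCompletion J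
      (Localization.Away f)) a) = AdicCompletion.of J (A ⧸ p) (Ideal.Quotient.mk p a) := by
    intro a
    rw [AdicCompletion.algebraMap_apply, AdicCompletion.map_of, hqapp, awayQuot_algebraMap]
  have hofbij := AdicCompletion.of_bijective J (A ⧸ p)
  constructor
  · apply Ideal.quotientMap_injective'
    intro a ha
    rw [Ideal.mem_comap, hmap, mem_map_iff_map_eq_zero J P q hq hker, hφ] at ha
    have : Ideal.Quotient.mk p a = 0 := hofbij.1 (by rw [ha, map_zero])
    exact Ideal.Quotient.eq_zero_iff_mem.mp this
  · intro y
    obtain ⟨x, rfl⟩ := Ideal.Quotient.mk_surjective y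
    obtain ⟨z, hz⟩ := hofbij.2 (AdicCompletion.map J q x)
    obtain ⟨a, rfl⟩ := Ideal.Quotient.mk_surjective z
    refine ⟨Ideal.Quotient.mk p a, ?_⟩
    rw [Ideal.quotientMap_mk, Ideal.Quotient.eq, hmap,
      mem_map_iff_map_eq_zero J P q hq hker, map_sub, hφ, hz, sub_self]

include hf in
/-- approximation of elements of `A⟨f⟩` by elements of `A` modulo `p A⟨f⟩`. -/
theorem exists_sub_mem_map_of_isUnit (x : CLoc A I f) :
    ∃ a : A, x - algebraMap A (CLoc A I f) a ∈ p.map (algebraMap A (CLoc A I f)) := by
  obtain ⟨y, hy⟩ := (quotientMap_cloc_bijective A I p f hf).2 (Ideal.Quotient.mk _ x)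
  obtain ⟨a, rfl⟩ := Ideal.Quotient.mk_surjective y
  refine ⟨a, ?_⟩
  rw [Ideal.quotientMap_mk, eq_comm, Ideal.Quotient.eq] at hy
  exact hy

end quot

end Groth.Agent.Lib.Helper95.Rig
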