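import Mathlib
import Groth.Agent.Lib.Helper95.RigE

/-!
# Flatness over a completed localization from flatness over the base (helper95)
-/

set_option autoImplicit false
universe u

namespace Groth.Agent.Lib.Helper95.Rig

section crit

/-- Local criterion: let `A → R → S` with `R`, `S` Noetherian, `p ⊆ A` an ideal with
`p S ⊆ rad S`, such that `A → R/p^n R` is surjective for all `n`. If `S` is flat over `A`
then `S` is flat over `R`. -/
theorem flat_of_flat_of_approx {A R S : Type u} [CommRing A] [CommRing R] [CommRing S]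
    [IsNoetherianRing R] [IsNoetherianRing S] (α : A →+* R) (θ : R →+* S) (p : Ideal A)
    (happrox : ∀ n : ℕ, ∀ x : R, ∃ a : A, x - α a ∈ (p ^ (n + 1)).map α)
    (hpS : (p.map α).map θ ≤ Ideal.jacobson ⊥)
    (hflat : (θ.comp α).Flat) : θ.Flat := by
  let _ : Algebra A R := α.toAlgebra
  let _ : Algebra R S := θ.toAlgebra
  let _ : Algebra A S := (θ.comp α).toAlgebra
  have : IsScalarTower A R S := IsScalarTower.of_algebraMap_eq (fun _ => rfl)
  have hfl : Module.Flat A S := hflat
  change Module.Flat R S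
  refine Groth.Agent.Lib.Helper71.LocalCritNoeth.flat_of_relative_flat_pow
    (p.map (algebraMap A R)) (B := S) S hpS ?_
  intro n N' N _ _ _ _ t1 t2 f hf
  rw [← Ideal.map_pow] at t1 t2
  exact Groth.Agent.Lib.Helper71.FlatApprox.rTensor_injective_of_approx (p ^ (n + 1))
    (happrox n) S t1 t2 f hf

end crit

section units

variable {A : Type*} [CommRing A]

/-- A unit modulo `p` is a unit modulo every power of `p`. -/
theorem isUnit_mk_pow_of_isUnit_mk (p : Ideal A) (f : A) (hf : IsUnit (Ideal.Quotient.mk p f))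
    (n : ℕ) : IsUnit (Ideal.Quotient.mk (p ^ n) f) := by
  obtain ⟨y, hy⟩ := hf.exists_right_inv
  obtain ⟨g, rfl⟩ := Ideal.Quotient.mk_surjective y
  rw [← map_mul, ← map_one (Ideal.Quotient.mk p), Ideal.Quotient.eq] at hy
  -- `x = 1 - f g ∈ p`
  set x : A := 1 - f * g with hx
  have hxp : x ∈ p := by
    have : x = -(f * g - 1) := by rw [hx]; ring
    rw [this]
    exact p.neg_mem hy
  have hxn : x ^ n ∈ p ^ n := Ideal.pow_mem_pow hxp n
  have hgeom : f * (g * ∑ i ∈ Finset.range n, x ^ i) = 1 - x ^ n := by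
    have h1 : (1 - x) * ∑ i ∈ Finset.range n, x ^ i = 1 - x ^ n := by
      have := mul_neg_geom_sum x n
      linear_combination this
    have h2 : f * g = 1 - x := by rw [hx]; ring
    rw [← mul_assoc, h2, h1]
  refine IsUnit.of_mul_eq_one (Ideal.Quotient.mk (p ^ n) (g * ∑ i ∈ Finset.range n, x ^ i)) ?_
  rw [← map_mul, hgeom, ← map_one (Ideal.Quotient.mk (p ^ n)), Ideal.Quotient.eq]
  have : 1 - x ^ n - 1 = -(x ^ n) := by ring
  rw [this]
  exact (p ^ n).neg_mem hxn

/-- If a unit is the sum of an element of the Jacobson radical and an element of a proper ideal,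
contradiction. -/
theorem not_isUnit_add_of_mem_jacobson (q : Ideal A) (hq : q ≠ ⊤) (a b : A)
    (ha : a ∈ Ideal.jacobson (⊥ : Ideal A)) (hb : b ∈ q) : ¬ IsUnit (a + b) := by
  intro hu
  obtain ⟨v, hv⟩ := hu.exists_right_inv
  -- `b v = 1 - a v` is a unit
  have hna : -a ∈ Ideal.jacobson (⊥ : Ideal A) := neg_mem ha
  have h1 : IsUnit (-a * v + 1) := (Ideal.mem_jacobson_bot.mp hna) v
  have h2 : b * v = -a * v + 1 := by linear_combination hv
  rw [← h2] at h1
  exact hq (Ideal.eq_top_of_isUnit_mem _ (q.mul_mem_right v hb) h1)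

end units

end Groth.Agent.Lib.Helper95.Rig
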