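import Mathlib
import Groth.Agent.Lib.Helper95.RigF
import Groth.Agent.Lib.Helper44.RigFinite

/-!
# Units modulo rig-closed primes (helper95)
-/

set_option autoImplicit false
universe u

namespace Groth.Agent.Lib.Helper95.Rig

open Groth.Agent.Lib.Helper44

/-- If `p` is rig-closed in `A`, `γ : A → T` maps `f` to a unit and `I` into the radical, and
`p` is contained in the contraction of a proper ideal of `T`, then `f` is a unit modulo `p`. -/
theorem isUnit_mk_of_rigClosed {A : Type u} {T : Type*} [CommRing A] [IsNoetherianRing A]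
    (I : Ideal A) [IsAdicComplete I A] [CommRing T] (p : PrimeSpectrum A)
    (hp : Groth.Agent.Lib.Helper44.RigClosed I p) (γ : A →+* T) (f : A) (hf : IsUnit (γ f))
    (hI : I.map γ ≤ Ideal.jacobson ⊥) (q' : Ideal T) (hq' : q' ≠ ⊤)
    (hpq : p.asIdeal ≤ q'.comap γ) : IsUnit (Ideal.Quotient.mk p.asIdeal f) := by
  obtain ⟨-, hmax, -⟩ := (rigClosed_iff_local I p).mp hp
  by_contra hnu
  obtain ⟨m, hm, hfm⟩ := exists_max_ideal_of_mem_nonunits hnu
  rw [hmax m hm] at hfm
  obtain ⟨k, hk⟩ := hfm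
  rw [← map_pow] at hk
  have hsurj : Function.Surjective (Ideal.Quotient.mk p.asIdeal) := Ideal.Quotient.mk_surjective
  have hk' : f ^ k ∈ (I.map (Ideal.Quotient.mk p.asIdeal)).comap (Ideal.Quotient.mk p.asIdeal) := hk
  rw [Ideal.comap_map_of_surjective' _ hsurj, Ideal.mk_ker] at hk'
  obtain ⟨i, hi, x, hx, hix⟩ := Submodule.mem_sup.mp hk'
  have hu : IsUnit (γ i + γ x) := by
    rw [← map_add, hix, map_pow]
    exact hf.pow k
  exact not_isUnit_add_of_mem_jacobson q' hq' (γ i) (γ x) (hI (Ideal.mem_map_of_mem γ hi))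
    (hpq hx) hu

end Groth.Agent.Lib.Helper95.Rig
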