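import Mathlib

/-!
# Fields of finite type over a ring become integral after inverting one element (helper95)
-/

set_option autoImplicit false
universe u

namespace Groth.Agent.Lib.Helper95.Rig

open Polynomial

/-- Let `K` be a field of finite type over `A` (via `φ`). Then there is `f : A` with `φ f ≠ 0`
such that `K` is integral over `A_f`. -/
theorem exists_away_isIntegral {A K : Type u} [CommRing A] [Field K] (φ : A →+* K)
    (hφ : φ.FiniteType) :
    ∃ f : A, ∃ hf : IsUnit (φ f),
      (IsLocalization.Away.lift (S := Localization.Away f) f hf).IsIntegral := by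
  classical
  haveI : (RingHom.ker φ).IsPrime := RingHom.ker_isPrime φ
  let φ' : A ⧸ RingHom.ker φ →+* K := RingHom.kerLift φ
  have hinj : Function.Injective φ' := RingHom.kerLift_injective φ
  let Φ : FractionRing (A ⧸ RingHom.ker φ) →+* K := IsFractionRing.lift hinj
  let _ : Algebra A K := φ.toAlgebra
  let _ : Algebra (A ⧸ RingHom.ker φ) K := φ'.toAlgebra
  let _ : Algebra (FractionRing (A ⧸ RingHom.ker φ)) K := Φ.toAlgebra
  have : IsScalarTower A (A ⧸ RingHom.ker φ) K := IsScalarTower.of_algebraMap_eq (fun _ => rfl)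
  have : IsScalarTower (A ⧸ RingHom.ker φ) (FractionRing (A ⧸ RingHom.ker φ)) K :=
    IsScalarTower.of_algebraMap_eq (fun x => (IsFractionRing.lift_algebraMap hinj x).symm)
  have hft0 : Algebra.FiniteType A K := hφ
  have : Algebra.FiniteType (A ⧸ RingHom.ker φ) K :=
    Algebra.FiniteType.of_restrictScalars_finiteType A _ K
  have : Algebra.FiniteType (FractionRing (A ⧸ RingHom.ker φ)) K :=
    Algebra.FiniteType.of_restrictScalars_finiteType (A ⧸ RingHom.ker φ) _ K
  have : Module.Finite (FractionRing (A ⧸ RingHom.ker φ)) K :=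
    finite_of_finite_type_of_isJacobsonRing _ K
  have : Algebra.IsIntegral (FractionRing (A ⧸ RingHom.ker φ)) K := Algebra.IsIntegral.of_finite _ K
  obtain ⟨s, hs⟩ := (Algebra.FiniteType.out : (⊤ : Subalgebra (A ⧸ RingHom.ker φ) K).FG)
  have hmul : ∀ x : K, ∃ m : nonZeroDivisors (A ⧸ RingHom.ker φ),
      IsIntegral (A ⧸ RingHom.ker φ) (m • x) := fun x =>
    IsIntegral.exists_multiple_integral_of_isLocalization (nonZeroDivisors (A ⧸ RingHom.ker φ))
      (Rₘ := FractionRing (A ⧸ RingHom.ker φ)) x (Algebra.IsIntegral.isIntegral x)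
  choose m hm using hmul
  let g : A ⧸ RingHom.ker φ := ∏ x ∈ s, (m x : A ⧸ RingHom.ker φ)
  have hg0 : g ≠ 0 := Finset.prod_ne_zero_iff.mpr (fun x _ => nonZeroDivisors.coe_ne_zero (m x))
  obtain ⟨f, hfg⟩ := Ideal.Quotient.mk_surjective g
  have hφf : φ f = φ' g := by rw [← hfg]; rfl
  have hu : IsUnit (φ f) := by
    rw [hφf]
    exact IsUnit.mk0 _ (fun h => hg0 (hinj (by rw [h, map_zero])))
  refine ⟨f, hu, ?_⟩
  let φf : Localization.Away f →+* K := IsLocalization.Away.lift (S := Localization.Away f) f hu
  let _ : Algebra (Localization.Away f) K := φf.toAlgebra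
  have : IsScalarTower A (Localization.Away f) K :=
    IsScalarTower.of_algebraMap_eq (fun x => (IsLocalization.Away.lift_eq f hu x).symm)
  have : Algebra.IsIntegral A (A ⧸ RingHom.ker φ) :=
    Algebra.isIntegral_of_surjective Ideal.Quotient.mk_surjective
  -- generators are integral over `A_f`
  have hgen : ∀ x ∈ s, IsIntegral (Localization.Away f) x := by
    intro x hx
    have h1 : IsIntegral (A ⧸ RingHom.ker φ) (g • x) := by
      have hgx : g • x = (∏ y ∈ s.erase x, (m y : A ⧸ RingHom.ker φ)) • (m x • x) := by
        rw [Submonoid.smul_def, smul_smul, Finset.prod_erase_mul s _ hx]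
      rw [hgx]
      exact (hm x).smul _
    have h2 : IsIntegral A (g • x) := isIntegral_trans (A := A ⧸ RingHom.ker φ) _ h1
    have h3 : IsIntegral (Localization.Away f) (g • x) := h2.tower_top
    have h4 : x = algebraMap (Localization.Away f) K (IsLocalization.Away.invSelf f) * (g • x) := by
      have hgx : g • x = algebraMap (Localization.Away f) K (algebraMap A _ f) * x := by
        rw [← IsScalarTower.algebraMap_apply A (Localization.Away f) K, Algebra.smul_def]
        show φ' g * x = φ f * x
        rw [hφf]
      rw [hgx, ← mul_assoc, ← map_mul, mul_comm (IsLocalization.Away.invSelf f),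
        IsLocalization.Away.mul_invSelf, map_one, one_mul]
    rw [h4]
    exact isIntegral_algebraMap.mul h3
  intro y
  show IsIntegral (Localization.Away f) y
  have hy : y ∈ Algebra.adjoin (A ⧸ RingHom.ker φ) (s : Set K) := by rw [hs]; trivial
  induction hy using Algebra.adjoin_induction with
  | mem x hx => exact hgen x hx
  | algebraMap r =>
    obtain ⟨a, rfl⟩ := Ideal.Quotient.mk_surjective r
    have : algebraMap (A ⧸ RingHom.ker φ) K (Ideal.Quotient.mk _ a) =
        algebraMap (Localization.Away f) K (algebraMap A _ a) := by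
      rw [← IsScalarTower.algebraMap_apply A (Localization.Away f) K]
      rfl
    rw [this]
    exact isIntegral_algebraMap
  | add x y _ _ hx hy => exact hx.add hy
  | mul x y _ _ hx hy => exact hx.mul hy

end Groth.Agent.Lib.Helper95.Rig
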