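import Mathlib
import Groth.Agent.Lib.Helper95.RigG
import Groth.Agent.Lib.Helper95.RigH

/-!
# Rig-closed primes after completed localization (helper95)
-/

set_option autoImplicit false
universe u

namespace Groth.Agent.Lib.Helper95.Rig

open Groth.Agent.Lib.Helper44

section local_structure

variable {R : Type u} [CommRing R] [IsNoetherianRing R] (J : Ideal R) [IsAdicComplete J R]

/-- There is only one maximal ideal over a rig-closed prime. -/
theorem maximal_unique_of_rigClosed (q : PrimeSpectrum R)
    (hq : Groth.Agent.Lib.Helper44.RigClosed J q) (m₁ m₂ : Ideal R) (h₁ : m₁.IsMaximal)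
    (h₂ : m₂.IsMaximal) (hq₁ : q.asIdeal ≤ m₁) (hq₂ : q.asIdeal ≤ m₂) : m₁ = m₂ := by
  obtain ⟨-, hmax, -⟩ := (rigClosed_iff_local J q).mp hq
  have hsurj : Function.Surjective (Ideal.Quotient.mk q.asIdeal) := Ideal.Quotient.mk_surjective
  have key : ∀ N : Ideal R, N.IsMaximal → q.asIdeal ≤ N →
      N = ((J.map (Ideal.Quotient.mk q.asIdeal)).radical).comap (Ideal.Quotient.mk q.asIdeal) := by
    intro N hN hqN
    have hker : RingHom.ker (Ideal.Quotient.mk q.asIdeal) ≤ N := by rw [Ideal.mk_ker]; exact hqN
    have h1 : (N.map (Ideal.Quotient.mk q.asIdeal)).IsMaximal := by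
      rcases Ideal.map_eq_top_or_isMaximal_of_surjective _ hsurj hN with h | h
      · exfalso
        have := congrArg (Ideal.comap (Ideal.Quotient.mk q.asIdeal)) h
        rw [Ideal.comap_map_of_surjective' _ hsurj, sup_eq_left.mpr hker, Ideal.comap_top] at this
        exact hN.ne_top this
      · exact h
    rw [← hmax _ h1, Ideal.comap_map_of_surjective' _ hsurj, sup_eq_left.mpr hker]
  rw [key m₁ h₁ hq₁, ← key m₂ h₂ hq₂]

/-- Elements outside the maximal ideal over a rig-closed prime `q` are units modulo `q`. -/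
theorem isUnit_mk_of_notMem_maximal (q : PrimeSpectrum R)
    (hq : Groth.Agent.Lib.Helper44.RigClosed J q) (m : Ideal R) (hm : m.IsMaximal)
    (hqm : q.asIdeal ≤ m) (b : R) (hb : b ∉ m) : IsUnit (Ideal.Quotient.mk q.asIdeal b) := by
  by_contra hnu
  obtain ⟨M, hM, hbM⟩ := exists_max_ideal_of_mem_nonunits hnu
  have hsurj : Function.Surjective (Ideal.Quotient.mk q.asIdeal) := Ideal.Quotient.mk_surjective
  have hMc : (M.comap (Ideal.Quotient.mk q.asIdeal)).IsMaximal :=
    Ideal.comap_isMaximal_of_surjective _ hsurj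
  have hqM : q.asIdeal ≤ M.comap (Ideal.Quotient.mk q.asIdeal) := by
    intro x hx
    rw [Ideal.mem_comap, Ideal.Quotient.eq_zero_iff_mem.mpr hx]
    exact M.zero_mem
  have := maximal_unique_of_rigClosed J q hq _ m hMc hm hqM hqm
  apply hb
  rw [← this]
  exact hbM

end local_structure

section main

variable (A : Type u) [CommRing A] [IsNoetherianRing A] (I : Ideal A) [IsAdicComplete I A]
  (B : Type u) [CommRing B] [Algebra A B] [IsNoetherianRing B]
  [IsAdicComplete (I.map (algebraMap A B)) B]

/-- compatibility of a completed map with the base rings -/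
theorem comp_algebraMap_cloc (f : A)
    (ψ : CLoc A I f →+* CLoc B (I.map (algebraMap A B)) (algebraMap A B f))
    (hψ : ψ.comp (algebraMap (Localization.Away f) (CLoc A I f)) =
      (algebraMap (Localization.Away (algebraMap A B f))
        (CLoc B (I.map (algebraMap A B)) (algebraMap A B f))).comp
        (Localization.awayMap (algebraMap A B) f)) :
    ψ.comp (algebraMap A (CLoc A I f)) =
      (algebraMap B (CLoc B (I.map (algebraMap A B)) (algebraMap A B f))).comp
        (algebraMap A B) := by
  rw [algebraMap_cloc_eq, ← RingHom.comp_assoc, hψ, RingHom.comp_assoc]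
  have : (Localization.awayMap (algebraMap A B) f).comp (algebraMap A (Localization.Away f)) =
      (algebraMap B (Localization.Away (algebraMap A B f))).comp (algebraMap A B) :=
    IsLocalization.map_comp _
  rw [this, ← RingHom.comp_assoc]
  rfl

theorem finite_residue_cloc (hft : Algebra.FiniteType A (B ⧸ I.map (algebraMap A B)))
    (q : PrimeSpectrum B) (hq : Groth.Agent.Lib.Helper44.RigClosed (I.map (algebraMap A B)) q)
    (mB : Ideal B) (hmB : mB.IsMaximal) (hqm : q.asIdeal ≤ mB) (f : A)
    (hu : IsUnit (((Ideal.Quotient.mk mB).comp (algebraMap A B)) f))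
    (hint : (IsLocalization.Away.lift (S := Localization.Away f) f hu).IsIntegral)
    (ψ : CLoc A I f →+* CLoc B (I.map (algebraMap A B)) (algebraMap A B f))
    (hψ : ψ.comp (algebraMap (Localization.Away f) (CLoc A I f)) =
      (algebraMap (Localization.Away (algebraMap A B f))
        (CLoc B (I.map (algebraMap A B)) (algebraMap A B f))).comp
        (Localization.awayMap (algebraMap A B) f))
    (hunitq : IsUnit (Ideal.Quotient.mk q.asIdeal (algebraMap A B f)))
    (m : Ideal (CLoc B (I.map (algebraMap A B)) (algebraMap A B f))) (hm : m.IsMaximal)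
    (hq'm : q.asIdeal.map
      (algebraMap B (CLoc B (I.map (algebraMap A B)) (algebraMap A B f))) ≤ m) :
    ((Ideal.Quotient.mk m).comp ψ).Finite := by
  haveI hqprime : q.asIdeal.IsPrime := q.isPrime
  have hCB : IsAdicComplete ((I.map (algebraMap A B)).map
      (algebraMap B (CLoc B (I.map (algebraMap A B)) (algebraMap A B f))))
      (CLoc B (I.map (algebraMap A B)) (algebraMap A B f)) := isAdicComplete_cloc B _ _
  have hbij := quotientMap_completedLocalization_bijective B (I.map (algebraMap A B)) q.asIdeal
    (algebraMap A B f) hunitq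
  have hcomp := comp_algebraMap_cloc A I B f ψ hψ
  -- `K : B → B⟨f⟩/m` is surjective
  set K : B →+* (CLoc B (I.map (algebraMap A B)) (algebraMap A B f)) ⧸ m :=
    (Ideal.Quotient.mk m).comp
      (algebraMap B (CLoc B (I.map (algebraMap A B)) (algebraMap A B f))) with hK
  have hKsurj : Function.Surjective K := by
    intro z
    obtain ⟨x, rfl⟩ := Ideal.Quotient.mk_surjective z
    obtain ⟨y, hy⟩ := hbij.2 (Ideal.Quotient.mk _ x)
    obtain ⟨b, rfl⟩ := Ideal.Quotient.mk_surjective y
    refine ⟨b, ?_⟩
    rw [Ideal.quotientMap_mk, Ideal.Quotient.eq] at hy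
    rw [hK, RingHom.comp_apply, Ideal.Quotient.eq]
    exact hq'm hy
  -- the contraction of `m` is `mB`
  letI := Ideal.Quotient.field m
  have hm₁ : (m.comap
      (algebraMap B (CLoc B (I.map (algebraMap A B)) (algebraMap A B f)))).IsMaximal := by
    have h1 : (Ideal.comap K ⊥).IsMaximal :=
      Ideal.comap_isMaximal_of_surjective K hKsurj (K := ⊥) (H := Ideal.bot_isMaximal)
    have h2 : Ideal.comap K ⊥ =
        m.comap (algebraMap B (CLoc B (I.map (algebraMap A B)) (algebraMap A B f))) := by
      rw [hK, ← Ideal.comap_comap, ← RingHom.ker_eq_comap_bot, Ideal.mk_ker]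
    rw [← h2]
    exact h1
  have hqm₁ : q.asIdeal ≤
      m.comap (algebraMap B (CLoc B (I.map (algebraMap A B)) (algebraMap A B f))) :=
    Ideal.map_le_iff_le_comap.mp hq'm
  have hmeq : m.comap (algebraMap B (CLoc B (I.map (algebraMap A B)) (algebraMap A B f))) = mB :=
    maximal_unique_of_rigClosed _ q hq _ _ hm₁ hmB hqm₁ hqm
  have hKmB : ∀ b ∈ mB, K b = 0 := by
    intro b hb
    rw [← hmeq] at hb
    exact Ideal.Quotient.eq_zero_iff_mem.mpr hb
  -- finite type
  have hIBm : I.map (algebraMap A B) ≤ mB :=
    le_of_isMaximal_of_isAdicComplete _ mB hmB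
  have hft1 : (K.comp (algebraMap A B)).FiniteType := by
    let K' : B ⧸ I.map (algebraMap A B) →+* _ :=
      Ideal.Quotient.lift (I.map (algebraMap A B)) K (fun b hb => hKmB b (hIBm hb))
    have hK' : K'.comp (Ideal.Quotient.mk _) = K := Ideal.Quotient.lift_comp_mk _ _ _
    have hK'surj : Function.Surjective K' := by
      intro z
      obtain ⟨b, rfl⟩ := hKsurj z
      exact ⟨Ideal.Quotient.mk _ b, by rw [← hK']; rfl⟩
    have h1 : (algebraMap A (B ⧸ I.map (algebraMap A B))).FiniteType :=
      RingHom.finiteType_algebraMap.mpr hft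
    have h2 : K.comp (algebraMap A B) = K'.comp (algebraMap A (B ⧸ I.map (algebraMap A B))) := by
      rw [← hK', RingHom.comp_assoc]
      rfl
    rw [h2]
    exact (RingHom.FiniteType.of_surjective K' hK'surj).comp h1
  have hθA : ((Ideal.Quotient.mk m).comp ψ).comp (algebraMap A (CLoc A I f)) =
      K.comp (algebraMap A B) := by
    rw [RingHom.comp_assoc, hcomp, ← RingHom.comp_assoc]
  have hft2 : ((Ideal.Quotient.mk m).comp ψ).FiniteType := by
    apply RingHom.FiniteType.of_comp_finiteType (f := algebraMap A (CLoc A I f))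
    rw [hθA]
    exact hft1
  -- integral
  let ιm : B ⧸ mB →+* _ := Ideal.Quotient.lift mB K hKmB
  have hιsurj : Function.Surjective ιm := by
    intro z
    obtain ⟨b, rfl⟩ := hKsurj z
    exact ⟨Ideal.Quotient.mk _ b, rfl⟩
  have hθf : ((Ideal.Quotient.mk m).comp ψ).comp (algebraMap (Localization.Away f) (CLoc A I f)) =
      ιm.comp (IsLocalization.Away.lift (S := Localization.Away f) f hu) := by
    apply IsLocalization.ringHom_ext (Submonoid.powers f)
    have e1 : (((Ideal.Quotient.mk m).comp ψ).comp
        (algebraMap (Localization.Away f) (CLoc A I f))).comp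
        (algebraMap A (Localization.Away f)) = K.comp (algebraMap A B) := by
      rw [RingHom.comp_assoc, ← algebraMap_cloc_eq, hθA]
    have e2 : (ιm.comp (IsLocalization.Away.lift (S := Localization.Away f) f hu)).comp
        (algebraMap A (Localization.Away f)) = K.comp (algebraMap A B) := by
      rw [RingHom.comp_assoc, IsLocalization.Away.lift_comp, ← RingHom.comp_assoc]
      rfl
    rw [e1, e2]
  have hint2 : ((Ideal.Quotient.mk m).comp ψ).IsIntegral := by
    apply RingHom.IsIntegral.tower_top (algebraMap (Localization.Away f) (CLoc A I f))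
    rw [hθf]
    exact RingHom.IsIntegral.trans _ _ hint (RingHom.isIntegral_of_surjective _ hιsurj)
  exact RingHom.IsIntegral.to_finite hint2 hft2

theorem rigClosed_comap_cloc (hft : Algebra.FiniteType A (B ⧸ I.map (algebraMap A B)))
    (q : PrimeSpectrum B) (hq : Groth.Agent.Lib.Helper44.RigClosed (I.map (algebraMap A B)) q)
    (mB : Ideal B) (hmB : mB.IsMaximal) (hqm : q.asIdeal ≤ mB) (f : A)
    (hu : IsUnit (((Ideal.Quotient.mk mB).comp (algebraMap A B)) f))
    (hint : (IsLocalization.Away.lift (S := Localization.Away f) f hu).IsIntegral)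
    (ψ : CLoc A I f →+* CLoc B (I.map (algebraMap A B)) (algebraMap A B f))
    (hψ : ψ.comp (algebraMap (Localization.Away f) (CLoc A I f)) =
      (algebraMap (Localization.Away (algebraMap A B f))
        (CLoc B (I.map (algebraMap A B)) (algebraMap A B f))).comp
        (Localization.awayMap (algebraMap A B) f)) :
    IsUnit (Ideal.Quotient.mk q.asIdeal (algebraMap A B f)) ∧
    ((q.asIdeal.map (algebraMap B (CLoc B (I.map (algebraMap A B)) (algebraMap A B f)))).comap
      ψ).IsPrime ∧
    ¬ I.map (algebraMap A (CLoc A I f)) ≤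
      (q.asIdeal.map (algebraMap B (CLoc B (I.map (algebraMap A B)) (algebraMap A B f)))).comap
        ψ ∧
    ∀ y : PrimeSpectrum (CLoc A I f),
      (q.asIdeal.map (algebraMap B (CLoc B (I.map (algebraMap A B)) (algebraMap A B f)))).comap
        ψ ≤ y.asIdeal → ¬ I.map (algebraMap A (CLoc A I f)) ≤ y.asIdeal →
      y.asIdeal =
        (q.asIdeal.map (algebraMap B (CLoc B (I.map (algebraMap A B)) (algebraMap A B f)))).comap
          ψ := by
  have hfm : algebraMap A B f ∉ mB := by
    intro h
    have : ((Ideal.Quotient.mk mB).comp (algebraMap A B)) f = 0 :=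
      Ideal.Quotient.eq_zero_iff_mem.mpr h
    rw [this] at hu
    haveI : Nontrivial (B ⧸ mB) := Ideal.Quotient.nontrivial_iff.mpr hmB.ne_top
    exact not_isUnit_zero hu
  have hunitq : IsUnit (Ideal.Quotient.mk q.asIdeal (algebraMap A B f)) :=
    isUnit_mk_of_notMem_maximal _ q hq mB hmB hqm _ hfm
  refine ⟨hunitq, ?_⟩
  haveI hNB : IsNoetherianRing (CLoc B (I.map (algebraMap A B)) (algebraMap A B f)) :=
    isNoetherianRing_cloc B _ _
  haveI hNA : IsNoetherianRing (CLoc A I f) := isNoetherianRing_cloc A I f
  haveI hCA : IsAdicComplete (I.map (algebraMap A (CLoc A I f))) (CLoc A I f) :=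
    isAdicComplete_cloc A I f
  have hCB : IsAdicComplete ((I.map (algebraMap A B)).map
      (algebraMap B (CLoc B (I.map (algebraMap A B)) (algebraMap A B f))))
      (CLoc B (I.map (algebraMap A B)) (algebraMap A B f)) := isAdicComplete_cloc B _ _
  haveI hqprime : q.asIdeal.IsPrime := q.isPrime
  have hq'prime := isPrime_map_completedLocalization B (I.map (algebraMap A B)) q.asIdeal
    (algebraMap A B f) hunitq
  have hbij := quotientMap_completedLocalization_bijective B (I.map (algebraMap A B)) q.asIdeal
    (algebraMap A B f) hunitq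
  have hcomp := comp_algebraMap_cloc A I B f ψ hψ
  let _ : Algebra (CLoc A I f) (CLoc B (I.map (algebraMap A B)) (algebraMap A B f)) := ψ.toAlgebra
  have hIeq : (I.map (algebraMap A (CLoc A I f))).map
      (algebraMap (CLoc A I f) (CLoc B (I.map (algebraMap A B)) (algebraMap A B f))) =
      (I.map (algebraMap A B)).map
        (algebraMap B (CLoc B (I.map (algebraMap A B)) (algebraMap A B f))) := by
    show (I.map (algebraMap A (CLoc A I f))).map ψ = _
    rw [Ideal.map_map (algebraMap A (CLoc A I f)) ψ, hcomp]
    exact (Ideal.map_map _ _).symm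
  haveI : IsAdicComplete ((I.map (algebraMap A (CLoc A I f))).map
      (algebraMap (CLoc A I f) (CLoc B (I.map (algebraMap A B)) (algebraMap A B f))))
      (CLoc B (I.map (algebraMap A B)) (algebraMap A B f)) := by
    rw [hIeq]; exact hCB
  let q' : PrimeSpectrum (CLoc B (I.map (algebraMap A B)) (algebraMap A B f)) :=
    ⟨q.asIdeal.map (algebraMap B (CLoc B (I.map (algebraMap A B)) (algebraMap A B f))), hq'prime⟩
  have hq'rig : Groth.Agent.Lib.Helper44.RigClosed ((I.map (algebraMap A (CLoc A I f))).map
      (algebraMap (CLoc A I f) (CLoc B (I.map (algebraMap A B)) (algebraMap A B f)))) q' := by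
    rw [rigClosed_iff_dim]
    constructor
    · have e := RingEquiv.ofBijective _ hbij
      rw [← ringKrullDim_eq_of_ringEquiv e]
      exact ((rigClosed_iff_dim _ q).mp hq).1
    · rw [hIeq]
      intro hle
      apply hq.1
      intro b hb
      have h1 : algebraMap B (CLoc B (I.map (algebraMap A B)) (algebraMap A B f)) b ∈
          q'.asIdeal := hle (Ideal.mem_map_of_mem _ hb)
      have h2 : Ideal.quotientMap (q.asIdeal.map (algebraMap B
          (CLoc B (I.map (algebraMap A B)) (algebraMap A B f)))) (algebraMap B _)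
          Ideal.le_comap_map (Ideal.Quotient.mk q.asIdeal b) = 0 := by
        rw [Ideal.quotientMap_mk]
        exact Ideal.Quotient.eq_zero_iff_mem.mpr h1
      have h3 := hbij.1 (h2.trans (map_zero _).symm)
      exact Ideal.Quotient.eq_zero_iff_mem.mp h3
  have hfin : Module.Finite (CLoc A I f)
      (CLoc B (I.map (algebraMap A B)) (algebraMap A B f) ⧸ q'.asIdeal) := by
    refine finite_quotient_of_finite_residue _ q' hq'rig ?_
    intro m hm hq'm
    have := finite_residue_cloc A I B hft q hq mB hmB hqm f hu hint ψ hψ hunitq m hm hq'm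
    exact RingHom.finite_algebraMap.mp this
  have hrig := rigClosed_comap_of_finite _ q' hq'rig hfin
  refine ⟨Ideal.comap_isPrime ψ q'.asIdeal, hrig.1, fun y hy hIy => ?_⟩
  exact congrArg PrimeSpectrum.asIdeal (hrig.2 y hy hIy)

end main

end Groth.Agent.Lib.Helper95.Rig
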