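import Mathlib
import Groth.Agent.Lib.Helper95.RigA
import Groth.Agent.Lib.Helper44.ComplLoc
import Groth.Agent.Lib.Helper44.RigFinite

/-!
# Completions of finite type algebras over an adic ring and rig-closed points (helper95)

`Compl A I L = AdicCompletion (I L) L` for a Noetherian finite type `A`-algebra `L` (e.g. the
restricted power series ring `A{x₁,…,xₙ}` for `L = A[x₁,…,xₙ]`).  Main result
`localRingHom_compl_compare`: at a rig-closed prime `q` of the completion lying over a rig-closed
prime of `A`, the local homomorphism `L_{q ∩ L} → (L^)_q` is an isomorphism modulo all powers of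
the maximal ideals.
-/

set_option autoImplicit false
universe u

namespace Groth.Agent.Lib.Helper95.Rig

open Groth.Agent.Lib.Helper71.FlatCompletion Groth.Agent.Lib.Helper44

section general_quotient

variable {R : Type u} [CommRing R] [IsNoetherianRing R] (J : Ideal R)

/-- If `R/𝔞` is `J`-adically complete, then `R/𝔞 → R^/𝔞R^` is bijective. -/
theorem quotientMap_completion_bijective (𝔞 : Ideal R) [IsAdicComplete J (R ⧸ 𝔞)] :
    Function.Bijective (Ideal.quotientMap (𝔞.map (algebraMap R (AdicCompletion J R)))
      (algebraMap R (AdicCompletion J R)) Ideal.le_comap_map) := by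
  let q : R →ₗ[R] (R ⧸ 𝔞) := Algebra.linearMap R (R ⧸ 𝔞)
  have hqapp : ∀ r, q r = Ideal.Quotient.mk 𝔞 r := fun r => rfl
  have hq : Function.Surjective q := Ideal.Quotient.mk_surjective
  have hker : LinearMap.ker q = 𝔞 := by
    ext x
    rw [LinearMap.mem_ker, hqapp, Ideal.Quotient.eq_zero_iff_mem]
  have hφ : ∀ a : R, AdicCompletion.map J q (algebraMap R (AdicCompletion J R) a) =
      AdicCompletion.of J (R ⧸ 𝔞) (Ideal.Quotient.mk 𝔞 a) := by
    intro a
    rw [AdicCompletion.algebraMap_apply, Algebra.algebraMap_self_apply, AdicCompletion.map_of, hqapp]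
  have hofbij := AdicCompletion.of_bijective J (R ⧸ 𝔞)
  constructor
  · apply Ideal.quotientMap_injective'
    intro a ha
    rw [Ideal.mem_comap, mem_map_iff_map_eq_zero J 𝔞 q hq hker, hφ] at ha
    have : Ideal.Quotient.mk 𝔞 a = 0 := hofbij.1 (by rw [ha, map_zero])
    exact Ideal.Quotient.eq_zero_iff_mem.mp this
  · intro y
    obtain ⟨x, rfl⟩ := Ideal.Quotient.mk_surjective y
    obtain ⟨z, hz⟩ := hofbij.2 (AdicCompletion.map J q x)
    obtain ⟨a, rfl⟩ := Ideal.Quotient.mk_surjective z
    refine ⟨Ideal.Quotient.mk 𝔞 a, ?_⟩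
    rw [Ideal.quotientMap_mk, Ideal.Quotient.eq,
      mem_map_iff_map_eq_zero J 𝔞 q hq hker, map_sub, hφ, hz, sub_self]

end general_quotient

section finite_complete

open AdicCompletion TensorProduct in
/-- finite modules over a complete Noetherian ring are complete -/
theorem isAdicComplete_of_finite_of_noetherian (A : Type u) [CommRing A] [IsNoetherianRing A]
    (J : Ideal A) [IsAdicComplete J A] (M : Type u) [AddCommGroup M] [Module A M]
    [Module.Finite A M] : IsAdicComplete J M := by
  rw [← AdicCompletion.of_bijective_iff]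
  have h1 := AdicCompletion.ofTensorProduct_bijective_of_finite_of_isNoetherian J M
  have h2 := AdicCompletion.of_bijective J A
  let e : A ≃ₗ[A] AdicCompletion J A := LinearEquiv.ofBijective (of J A) h2
  let e2 : M ≃ₗ[A] AdicCompletion J A ⊗[A] M :=
    (TensorProduct.lid A M).symm ≪≫ₗ (LinearEquiv.rTensor M e)
  have : (of J M : M → AdicCompletion J M) = (ofTensorProduct J M) ∘ e2 := by
    ext m
    simp [e2, e]
    exact (one_smul _ _).symm
  rw [this]
  exact h1.comp e2.bijective

end finite_complete

section compl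

variable (A : Type u) [CommRing A] (I : Ideal A) (L : Type u) [CommRing L] [Algebra A L]

/-- The `I`-adic completion of an `A`-algebra `L`. -/
abbrev Compl : Type u := AdicCompletion (I.map (algebraMap A L)) L

theorem map_compl (𝔞 : Ideal A) : 𝔞.map (algebraMap A (Compl A I L)) =
    (𝔞.map (algebraMap A L)).map (algebraMap L (Compl A I L)) := by
  rw [Ideal.map_map (algebraMap A L) (algebraMap L (Compl A I L))]
  rfl

variable [IsNoetherianRing L]

theorem isNoetherianRing_compl : IsNoetherianRing (Compl A I L) :=
  Groth.Agent.S0543.result _ _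

theorem isAdicComplete_compl :
    IsAdicComplete (I.map (algebraMap A (Compl A I L))) (Compl A I L) := by
  rw [map_compl]
  exact isAdicComplete_map _ (IsNoetherian.noetherian _)

theorem exists_sub_mem_compl (x : Compl A I L) : ∃ l : L,
    x - algebraMap L (Compl A I L) l ∈ I.map (algebraMap A (Compl A I L)) := by
  obtain ⟨l, hl⟩ := exists_sub_mem_map_pow (I.map (algebraMap A L))
    (IsNoetherian.noetherian _) 1 x
  rw [pow_one] at hl
  exact ⟨l, by rw [map_compl]; exact hl⟩

theorem finiteType_compl [Algebra.FiniteType A L] :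
    Algebra.FiniteType A (Compl A I L ⧸ I.map (algebraMap A (Compl A I L))) := by
  let g : L →ₐ[A] (Compl A I L ⧸ I.map (algebraMap A (Compl A I L))) :=
    (Ideal.Quotient.mkₐ A _).comp (IsScalarTower.toAlgHom A L (Compl A I L))
  refine Algebra.FiniteType.of_surjective g ?_
  intro y
  obtain ⟨x, rfl⟩ := Ideal.Quotient.mk_surjective y
  obtain ⟨l, hl⟩ := exists_sub_mem_compl A I L x
  refine ⟨l, ?_⟩
  show Ideal.Quotient.mk _ (algebraMap L (Compl A I L) l) = _
  rw [eq_comm, Ideal.Quotient.eq]
  exact hl

end compl

end Groth.Agent.Lib.Helper95.Rig
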