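import Mathlib
import Groth.Agent.Lib.Helper95.RigJ

/-!
# Comparison of local rings of `L` and of its completion at rig-closed points (helper95)
-/

set_option autoImplicit false
universe u

namespace Groth.Agent.Lib.Helper95.Rig

open Groth.Agent.Lib.Helper44 IsLocalRing

section local_compare

variable {P Ph : Type*} [CommRing P] [CommRing Ph]

/-- Let `ι : P → P^` be flat, `Q` a prime of `P^` with `P → P^/Q` surjective and `Q = (Q ∩ P) P^`.
Then `P_{Q ∩ P} → (P^)_Q` is an isomorphism modulo all powers of the maximal ideals. -/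
theorem localRingHom_compare (ι : P →+* Ph) (hι : ι.Flat) (Q : Ideal Ph) [Q.IsPrime]
    (happ : ∀ y : Ph, ∃ x : P, y - ι x ∈ Q) (hQ : (Q.comap ι).map ι = Q) (m : ℕ) :
    (∀ x : Localization.AtPrime (Q.comap ι),
      Localization.localRingHom (Q.comap ι) Q ι rfl x ∈
        maximalIdeal (Localization.AtPrime Q) ^ m →
      x ∈ maximalIdeal (Localization.AtPrime (Q.comap ι)) ^ m) ∧
    (∀ y : Localization.AtPrime Q, ∃ x : Localization.AtPrime (Q.comap ι),
      y - Localization.localRingHom (Q.comap ι) Q ι rfl x ∈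
        maximalIdeal (Localization.AtPrime Q) ^ m) := by
  set φ := Localization.localRingHom (Q.comap ι) Q ι rfl with hφ
  have hφc : φ.comp (algebraMap P (Localization.AtPrime (Q.comap ι))) =
      (algebraMap Ph (Localization.AtPrime Q)).comp ι :=
    RingHom.ext fun x => Localization.localRingHom_to_map _ _ _ rfl x
  have hmax : (maximalIdeal (Localization.AtPrime (Q.comap ι))).map φ =
      maximalIdeal (Localization.AtPrime Q) := by
    rw [← Localization.AtPrime.map_eq_maximalIdeal, ← Localization.AtPrime.map_eq_maximalIdeal,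
      Ideal.map_map, hφc, ← Ideal.map_map, hQ]
  have hpow : ∀ k : ℕ, (maximalIdeal (Localization.AtPrime (Q.comap ι)) ^ k).map φ =
      maximalIdeal (Localization.AtPrime Q) ^ k := fun k => by rw [Ideal.map_pow, hmax]
  constructor
  · -- injectivity: faithfully flat
    have hφf : φ.Flat := RingHom.Flat.localRingHom hι Q (Q.comap ι) rfl
    let _ : Algebra (Localization.AtPrime (Q.comap ι)) (Localization.AtPrime Q) := φ.toAlgebra
    have : Module.Flat (Localization.AtPrime (Q.comap ι)) (Localization.AtPrime Q) := hφf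
    have : IsLocalHom (algebraMap (Localization.AtPrime (Q.comap ι)) (Localization.AtPrime Q)) :=
      Localization.isLocalHom_localRingHom (Q.comap ι) Q ι rfl
    have hff : Module.FaithfullyFlat (Localization.AtPrime (Q.comap ι))
        (Localization.AtPrime Q) := Module.FaithfullyFlat.of_flat_of_isLocalHom
    intro x hx
    rw [← hpow m] at hx
    have := Ideal.comap_map_eq_self_of_faithfullyFlat (B := Localization.AtPrime Q)
      (maximalIdeal (Localization.AtPrime (Q.comap ι)) ^ m)
    rw [← this]
    exact hx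
  · -- surjectivity
    have hC1 : ∀ y : Localization.AtPrime Q, ∃ x : Localization.AtPrime (Q.comap ι),
        y - φ x ∈ maximalIdeal (Localization.AtPrime Q) := by
      intro y
      obtain ⟨a, s, rfl⟩ := IsLocalization.exists_mk'_eq Q.primeCompl y
      obtain ⟨a₀, ha₀⟩ := happ a
      obtain ⟨s₀, hs₀⟩ := happ (s : Ph)
      have hs₀Q : ι s₀ ∉ Q := by
        intro h
        apply s.2
        have : (s : Ph) = ((s : Ph) - ι s₀) + ι s₀ := by ring
        rw [this]
        exact Ideal.add_mem _ hs₀ h
      have hs₀Q' : s₀ ∈ (Q.comap ι).primeCompl := hs₀Q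
      refine ⟨IsLocalization.mk' _ a₀ (⟨s₀, hs₀Q'⟩ : (Q.comap ι).primeCompl), ?_⟩
      rw [hφ, Localization.localRingHom_mk', ← IsLocalization.mk'_sub,
        IsLocalization.AtPrime.mk'_mem_maximal_iff (Localization.AtPrime Q) Q]
      have : a * ι s₀ - ι a₀ * (s : Ph) = (a - ι a₀) * ι s₀ - ι a₀ * ((s : Ph) - ι s₀) := by ring
      show a * ι s₀ - ι a₀ * (s : Ph) ∈ Q
      rw [this]
      exact Ideal.sub_mem _ (Ideal.mul_mem_right _ _ ha₀) (Ideal.mul_mem_left _ _ hs₀)
    have hstep : ∀ k : ℕ, ∀ v ∈ (maximalIdeal (Localization.AtPrime (Q.comap ι)) ^ k).map φ,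
        ∃ x ∈ maximalIdeal (Localization.AtPrime (Q.comap ι)) ^ k,
          v - φ x ∈ maximalIdeal (Localization.AtPrime Q) ^ (k + 1) := by
      intro k v hv
      refine Submodule.span_induction (p := fun v _ => ∃ x ∈
        maximalIdeal (Localization.AtPrime (Q.comap ι)) ^ k,
          v - φ x ∈ maximalIdeal (Localization.AtPrime Q) ^ (k + 1)) ?_ ?_ ?_ ?_ hv
      · rintro _ ⟨g, hg, rfl⟩
        exact ⟨g, hg, by rw [sub_self]; exact Ideal.zero_mem _⟩
      · exact ⟨0, Ideal.zero_mem _, by rw [map_zero, sub_self]; exact Ideal.zero_mem _⟩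
      · rintro v₁ v₂ _ _ ⟨x₁, hx₁, h₁⟩ ⟨x₂, hx₂, h₂⟩
        refine ⟨x₁ + x₂, Ideal.add_mem _ hx₁ hx₂, ?_⟩
        have : v₁ + v₂ - φ (x₁ + x₂) = (v₁ - φ x₁) + (v₂ - φ x₂) := by rw [map_add]; ring
        rw [this]
        exact Ideal.add_mem _ h₁ h₂
      · rintro z v _ ⟨x, hx, h⟩
        obtain ⟨w, hw⟩ := hC1 z
        refine ⟨w * x, Ideal.mul_mem_left _ _ hx, ?_⟩
        have : z • v - φ (w * x) = (z - φ w) * φ x + z * (v - φ x) := by
          rw [map_mul, smul_eq_mul]; ring
        rw [this]
        refine Ideal.add_mem _ ?_ (Ideal.mul_mem_left _ _ h)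
        rw [pow_succ']
        refine Ideal.mul_mem_mul hw ?_
        rw [← hpow k]
        exact Ideal.mem_map_of_mem _ hx
    induction m with
    | zero =>
      intro y
      exact ⟨0, by rw [pow_zero, Ideal.one_eq_top]; trivial⟩
    | succ k ih =>
      intro y
      obtain ⟨x₀, hx₀⟩ := ih y
      rw [← hpow k] at hx₀
      obtain ⟨x, -, hx⟩ := hstep k _ hx₀
      refine ⟨x₀ + x, ?_⟩
      have : y - φ (x₀ + x) = (y - φ x₀) - φ x := by rw [map_add]; ring
      rw [this]
      exact hx

end local_compare

section main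

variable (A : Type u) [CommRing A] [IsNoetherianRing A] (I : Ideal A) [IsAdicComplete I A]
  (L : Type u) [CommRing L] [Algebra A L] [IsNoetherianRing L] [Algebra.FiniteType A L]

/-- `L/Q' ≃ L^/Q` data at a rig-closed prime `Q` of the completion over a rig-closed prime of
`A`: approximation modulo `Q` and `Q = Q' L^`. -/
theorem compl_rigClosed_quotient (q : PrimeSpectrum (Compl A I L))
    (hq : Groth.Agent.Lib.Helper44.RigClosed (I.map (algebraMap A (Compl A I L))) q)
    (hp : Groth.Agent.Lib.Helper44.RigClosed I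
      (PrimeSpectrum.comap (algebraMap A (Compl A I L)) q)) :
    (∀ y : Compl A I L, ∃ x : L, y - algebraMap L (Compl A I L) x ∈ q.asIdeal) ∧
      (q.asIdeal.comap (algebraMap L (Compl A I L))).map (algebraMap L (Compl A I L)) =
        q.asIdeal := by
  haveI := isNoetherianRing_compl A I L
  haveI := isAdicComplete_compl A I L
  have hfinQ : Module.Finite A (Compl A I L ⧸ q.asIdeal) :=
    finite_quotient_of_finite_residue I q hq (fun m hm hqm =>
      finite_quotient_maximal_of_rigClosed_comap I (finiteType_compl A I L) q hp m hm hqm)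
  have hfinQ' : Module.Finite A (L ⧸ q.asIdeal.comap (algebraMap L (Compl A I L))) := by
    haveI : IsNoetherian A (Compl A I L ⧸ q.asIdeal) :=
      isNoetherian_of_isNoetherianRing_of_finite A _
    let g : (L ⧸ q.asIdeal.comap (algebraMap L (Compl A I L))) →ₐ[A]
        (Compl A I L ⧸ q.asIdeal) :=
      Ideal.quotientMapₐ q.asIdeal (IsScalarTower.toAlgHom A L (Compl A I L)) le_rfl
    refine Module.Finite.of_injective g.toLinearMap ?_
    exact Ideal.quotientMap_injective
  haveI : IsAdicComplete (I.map (algebraMap A L))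
      (L ⧸ q.asIdeal.comap (algebraMap L (Compl A I L))) :=
    (IsAdicComplete.map_algebraMap_iff I _).mpr (isAdicComplete_of_finite_of_noetherian A I _)
  have hbij := quotientMap_completion_bijective (I.map (algebraMap A L))
    (q.asIdeal.comap (algebraMap L (Compl A I L)))
  have hle : (q.asIdeal.comap (algebraMap L (Compl A I L))).map (algebraMap L (Compl A I L)) ≤
      q.asIdeal := Ideal.map_comap_le
  have happ : ∀ y : Compl A I L, ∃ x : L, y - algebraMap L (Compl A I L) x ∈
      (q.asIdeal.comap (algebraMap L (Compl A I L))).map (algebraMap L (Compl A I L)) := by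
    intro y
    obtain ⟨z, hz⟩ := hbij.2 (Ideal.Quotient.mk _ y)
    obtain ⟨x, rfl⟩ := Ideal.Quotient.mk_surjective z
    refine ⟨x, ?_⟩
    rw [Ideal.quotientMap_mk, eq_comm, Ideal.Quotient.eq] at hz
    exact hz
  refine ⟨fun y => ?_, le_antisymm hle ?_⟩
  · obtain ⟨x, hx⟩ := happ y
    exact ⟨x, hle hx⟩
  · intro y hy
    obtain ⟨x, hx⟩ := happ y
    have hxQ : algebraMap L (Compl A I L) x ∈ q.asIdeal := by
      have : algebraMap L (Compl A I L) x = y - (y - algebraMap L (Compl A I L) x) := by ring
      rw [this]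
      exact Ideal.sub_mem _ hy (hle hx)
    have h1 : algebraMap L (Compl A I L) x ∈
        (q.asIdeal.comap (algebraMap L (Compl A I L))).map (algebraMap L (Compl A I L)) :=
      Ideal.mem_map_of_mem _ hxQ
    have : y = (y - algebraMap L (Compl A I L) x) + algebraMap L (Compl A I L) x := by ring
    rw [this]
    exact Ideal.add_mem _ hx h1

end main

end Groth.Agent.Lib.Helper95.Rig
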