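import Mathlib
import Groth.Agent.Lib.Helper95.RigB
import Groth.Agent.Lib.Helper95.RigD
import Groth.Agent.Lib.Helper78.FibreCritNoeth

/-!
# Abstract core of the étale-reduction lemma for rig-flatness (helper95)
-/

set_option autoImplicit false
universe u

namespace Groth.Agent.Lib.Helper95.Rig

open IsLocalRing

section core

variable {A₁ B₁ A₂ B₂ A₀ B₀ : Type u} [CommRing A₁] [CommRing B₁] [CommRing A₂] [CommRing B₂]
  [CommRing A₀] [CommRing B₀] [IsNoetherianRing A₁] [IsNoetherianRing A₂] [IsNoetherianRing B₂]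

/-- Abstract étale reduction: in the diagram
```
A₁ --ψ₁--> B₁
α|          |β
 v          v
A₂ --ψ₂--> B₂
 ^          ^
χA|         |χB
A₀ --ψ₀--> B₀
```
with all vertical maps flat, if `B₁` is flat over `A₁` at `Q ∩ B₁` and `A₁ → A₂` is unramified at
`Q ∩ A₂`, then `B₀` is flat over `A₀` at `Q ∩ B₀`. -/
theorem flat_atPrime_of_unramified_square (ψ₁ : A₁ →+* B₁) (α : A₁ →+* A₂) (β : B₁ →+* B₂)
    (ψ₂ : A₂ →+* B₂) (χA : A₀ →+* A₂) (χB : B₀ →+* B₂) (ψ₀ : A₀ →+* B₀)
    (hsq1 : β.comp ψ₁ = ψ₂.comp α) (hsq2 : ψ₂.comp χA = χB.comp ψ₀)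
    (hα : α.Flat) (hβ : β.Flat) (hχA : χA.Flat) (hχB : χB.Flat)
    (Q : Ideal B₂) [Q.IsPrime]
    (h1 : ((algebraMap B₁ (Localization.AtPrime (Q.comap β))).comp ψ₁).Flat)
    (hunr : (((Q.comap ψ₂).comap α).map α).map
      (algebraMap A₂ (Localization.AtPrime (Q.comap ψ₂))) =
        maximalIdeal (Localization.AtPrime (Q.comap ψ₂))) :
    ((algebraMap B₀ (Localization.AtPrime (Q.comap χB))).comp ψ₀).Flat := by
  -- `(B₂)_Q` is flat over `A₁`
  have h2 : ((algebraMap B₂ (Localization.AtPrime Q)).comp β).Flat :=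
    RingHom.Flat.comp hβ (RingHom.flat_algebraMap_iff.mpr (IsLocalization.flat _ Q.primeCompl))
  have h3 : ((algebraMap B₂ (Localization.AtPrime Q)).comp (ψ₂.comp α)).Flat := by
    rw [← hsq1]
    exact flat_atPrime_comp ψ₁ β Q h1 h2
  -- fibre criterion
  let a : Localization.AtPrime ((Q.comap ψ₂).comap α) →+* Localization.AtPrime (Q.comap ψ₂) :=
    Localization.localRingHom ((Q.comap ψ₂).comap α) (Q.comap ψ₂) α rfl
  let b : Localization.AtPrime (Q.comap ψ₂) →+* Localization.AtPrime Q :=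
    Localization.localRingHom (Q.comap ψ₂) Q ψ₂ rfl
  have hac : a.comp (algebraMap A₁ (Localization.AtPrime ((Q.comap ψ₂).comap α))) =
      (algebraMap A₂ (Localization.AtPrime (Q.comap ψ₂))).comp α :=
    RingHom.ext fun x => Localization.localRingHom_to_map _ _ _ rfl x
  have hbc : b.comp (algebraMap A₂ (Localization.AtPrime (Q.comap ψ₂))) =
      (algebraMap B₂ (Localization.AtPrime Q)).comp ψ₂ :=
    RingHom.ext fun x => Localization.localRingHom_to_map _ _ _ rfl x
  haveI : IsLocalHom a := Localization.isLocalHom_localRingHom _ _ _ rfl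
  haveI : IsLocalHom b := Localization.isLocalHom_localRingHom _ _ _ rfl
  have hba : (b.comp a).Flat := by
    apply flat_of_comp_isLocalization ((Q.comap ψ₂).comap α).primeCompl
    rw [RingHom.comp_assoc, hac, ← RingHom.comp_assoc, hbc, RingHom.comp_assoc]
    exact h3
  have hmax : (maximalIdeal (Localization.AtPrime ((Q.comap ψ₂).comap α))).map a =
      maximalIdeal (Localization.AtPrime (Q.comap ψ₂)) := by
    rw [← Localization.AtPrime.map_eq_maximalIdeal, Ideal.map_map, hac, ← Ideal.map_map, hunr]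
  have hfield : IsField (Localization.AtPrime (Q.comap ψ₂) ⧸
      (maximalIdeal (Localization.AtPrime ((Q.comap ψ₂).comap α))).map a) := by
    rw [hmax]
    exact (Ideal.Quotient.maximal_ideal_iff_isField_quotient _).mp inferInstance
  have hb : b.Flat :=
    (Groth.Agent.Lib.Helper78.FibreCritNoeth.fibre_criterion_ringHom_noeth a b hba
      (RingHom.Flat.of_isField hfield _)).2
  have h4 : ((algebraMap B₂ (Localization.AtPrime Q)).comp ψ₂).Flat := by
    rw [← hbc]
    exact RingHom.Flat.comp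
      (RingHom.flat_algebraMap_iff.mpr (IsLocalization.flat _ (Q.comap ψ₂).primeCompl)) hb
  -- descent
  apply flat_atPrime_descent ψ₀ χB hχB Q
  rw [← hsq2, ← RingHom.comp_assoc]
  exact RingHom.Flat.comp hχA h4

end core

end Groth.Agent.Lib.Helper95.Rig
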