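import Mathlib
import Groth.Agent.Lib.Helper95.RigE

/-!
# Reductions of completed localizations as quotients of localizations (helper95)

`R⟨r⟩/J R⟨r⟩` is a quotient of the localization `(R/J)_r`; consequently ring-map properties stable
under composition, localization and surjections pass from `A → R/J` to `A → R⟨r⟩/J R⟨r⟩`.
-/

set_option autoImplicit false
universe u

namespace Groth.Agent.Lib.Helper95.Rig

section surj

variable (R : Type u) [CommRing R] [IsNoetherianRing R] (J : Ideal R) (r : R)

theorem exists_away_quot_surj :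
    ∃ ρ : Localization.Away (Ideal.Quotient.mk J r) →+*
        (CLoc R J r ⧸ J.map (algebraMap R (CLoc R J r))),
      Function.Surjective ρ ∧
      ρ.comp ((algebraMap (R ⧸ J) (Localization.Away (Ideal.Quotient.mk J r))).comp
        (Ideal.Quotient.mk J)) =
        (Ideal.Quotient.mk (J.map (algebraMap R (CLoc R J r)))).comp
          (algebraMap R (CLoc R J r)) := by
  let g : R ⧸ J →+* (CLoc R J r ⧸ J.map (algebraMap R (CLoc R J r))) :=
    Ideal.Quotient.lift J ((Ideal.Quotient.mk (J.map (algebraMap R (CLoc R J r)))).comp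
      (algebraMap R (CLoc R J r))) (fun a ha => by
        rw [RingHom.comp_apply, Ideal.Quotient.eq_zero_iff_mem]
        exact Ideal.mem_map_of_mem _ ha)
  have hg : g.comp (Ideal.Quotient.mk J) =
      (Ideal.Quotient.mk (J.map (algebraMap R (CLoc R J r)))).comp (algebraMap R (CLoc R J r)) :=
    Ideal.Quotient.lift_comp_mk _ _ _
  have hgu : IsUnit (g (Ideal.Quotient.mk J r)) := by
    have : g (Ideal.Quotient.mk J r) =
        Ideal.Quotient.mk (J.map (algebraMap R (CLoc R J r))) (algebraMap R (CLoc R J r) r) :=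
      RingHom.congr_fun hg r
    rw [this]
    exact (isUnit_cloc R J r).map _
  let ρ : Localization.Away (Ideal.Quotient.mk J r) →+*
      (CLoc R J r ⧸ J.map (algebraMap R (CLoc R J r))) :=
    IsLocalization.Away.lift (Ideal.Quotient.mk J r) hgu
  have hρ : ρ.comp (algebraMap (R ⧸ J) (Localization.Away (Ideal.Quotient.mk J r))) = g :=
    IsLocalization.Away.lift_comp _ hgu
  refine ⟨ρ, ?_, by rw [← RingHom.comp_assoc, hρ, hg]⟩
  -- surjectivity
  intro y
  obtain ⟨x, rfl⟩ := Ideal.Quotient.mk_surjective y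
  obtain ⟨l, hl⟩ := exists_away_sub_mem R J r x
  obtain ⟨n, a, ha⟩ := IsLocalization.Away.surj r l
  -- `l * r^n = a` in `R_r`; so `mk x * (unit)^n = g (mk a)`
  have hmkx : Ideal.Quotient.mk (J.map (algebraMap R (CLoc R J r))) x =
      Ideal.Quotient.mk _ (algebraMap (Localization.Away r) (CLoc R J r) l) := by
    rw [Ideal.Quotient.eq]
    exact hl
  have h1 : Ideal.Quotient.mk (J.map (algebraMap R (CLoc R J r)))
      (algebraMap (Localization.Away r) (CLoc R J r) l) * g (Ideal.Quotient.mk J r) ^ n =
      g (Ideal.Quotient.mk J a) := by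
    have e1 : g (Ideal.Quotient.mk J r) =
        Ideal.Quotient.mk _ (algebraMap R (CLoc R J r) r) := RingHom.congr_fun hg r
    have e2 : g (Ideal.Quotient.mk J a) =
        Ideal.Quotient.mk _ (algebraMap R (CLoc R J r) a) := RingHom.congr_fun hg a
    rw [e1, e2, ← map_pow, ← map_mul, algebraMap_cloc_eq, RingHom.comp_apply, RingHom.comp_apply,
      ← map_pow, ← map_mul, ha]
  obtain ⟨u, hu⟩ := hgu
  refine ⟨algebraMap _ _ (Ideal.Quotient.mk J a) *
    (IsLocalization.Away.invSelf (Ideal.Quotient.mk J r)) ^ n, ?_⟩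
  rw [map_mul, map_pow]
  have e3 : ρ (algebraMap _ _ (Ideal.Quotient.mk J a)) = g (Ideal.Quotient.mk J a) :=
    RingHom.congr_fun hρ _
  have e4 : ρ (IsLocalization.Away.invSelf (Ideal.Quotient.mk J r)) * g (Ideal.Quotient.mk J r) =
      1 := by
    rw [← RingHom.congr_fun hρ (Ideal.Quotient.mk J r), RingHom.comp_apply, ← map_mul,
      mul_comm, IsLocalization.Away.mul_invSelf, map_one]
  rw [hmkx, e3, ← h1, mul_assoc, ← mul_pow, mul_comm (g _), e4, one_pow, mul_one]

end surj

section transfer

variable {A : Type*} [CommRing A] (R : Type u) [CommRing R] [IsNoetherianRing R] (J : Ideal R)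
  (r : R) (φ : A →+* R)

theorem formallyUnramified_cloc_quot
    (h : ((Ideal.Quotient.mk J).comp φ).FormallyUnramified) :
    ((Ideal.Quotient.mk (J.map (algebraMap R (CLoc R J r)))).comp
      ((algebraMap R (CLoc R J r)).comp φ)).FormallyUnramified := by
  obtain ⟨ρ, hρs, hρ⟩ := exists_away_quot_surj R J r
  rw [← RingHom.comp_assoc, ← hρ, RingHom.comp_assoc, RingHom.comp_assoc]
  refine RingHom.FormallyUnramified.comp ?_ (RingHom.FormallyUnramified.of_surjective hρs)
  exact RingHom.FormallyUnramified.comp h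
    (RingHom.FormallyUnramified.holdsForLocalizationAway _ (Ideal.Quotient.mk J r))

theorem finiteType_cloc_quot
    (h : ((Ideal.Quotient.mk J).comp φ).FiniteType) :
    ((Ideal.Quotient.mk (J.map (algebraMap R (CLoc R J r)))).comp
      ((algebraMap R (CLoc R J r)).comp φ)).FiniteType := by
  obtain ⟨ρ, hρs, hρ⟩ := exists_away_quot_surj R J r
  rw [← RingHom.comp_assoc, ← hρ, RingHom.comp_assoc, RingHom.comp_assoc]
  refine RingHom.FiniteType.comp (RingHom.FiniteType.of_surjective _ hρs) ?_
  exact RingHom.FiniteType.comp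
    (RingHom.finiteType_holdsForLocalizationAway _ (Ideal.Quotient.mk J r)) h

end transfer

end Groth.Agent.Lib.Helper95.Rig
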