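import Mathlib
import Groth.Agent.Lib.Helper95.RigI
import Groth.Agent.Lib.Helper95.RigL
import Groth.Agent.Lib.Helper95.RigM
import Groth.Agent.Lib.Helper44.RigEtale

/-!
# Étale reduction for rig-flatness: generic tools (helper95)
-/

set_option autoImplicit false
universe u

namespace Groth.Agent.Lib.Helper95.Rig

open Groth.Agent.Lib.Helper71.FlatCompletion

section clocmap

variable {R S : Type u} [CommRing R] [CommRing S] [IsNoetherianRing R] [IsNoetherianRing S]

/-- The completed-localization map over a ring map `φ : R → S` with `φ r = s`. -/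
theorem exists_cloc_map (J : Ideal R) (J' : Ideal S) (φ : R →+* S) (hJ : J.map φ ≤ J') (r : R)
    (s : S) (hrs : φ r = s) :
    ∃ ψ : CLoc R J r →+* CLoc S J' s,
      ψ.comp (algebraMap R (CLoc R J r)) = (algebraMap S (CLoc S J' s)).comp φ ∧
      (φ.Flat → ψ.Flat) := by
  haveI := isNoetherianRing_away R r
  haveI := isNoetherianRing_away S s
  have hu : IsUnit (((algebraMap S (Localization.Away s)).comp φ) r) := by
    rw [RingHom.comp_apply, hrs]
    exact IsLocalization.Away.algebraMap_isUnit s
  let φ₀ : Localization.Away r →+* Localization.Away s := IsLocalization.Away.lift r hu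
  have hφ₀ : φ₀.comp (algebraMap R (Localization.Away r)) =
      (algebraMap S (Localization.Away s)).comp φ := IsLocalization.Away.lift_comp r hu
  have hK : (J.map (algebraMap R (Localization.Away r))).map φ₀ ≤
      J'.map (algebraMap S (Localization.Away s)) := by
    rw [Ideal.map_map, hφ₀, ← Ideal.map_map]
    exact Ideal.map_mono hJ
  obtain ⟨ψ, hψ⟩ := exists_map _ _ φ₀ hK
  refine ⟨ψ, ?_, fun hflat => ?_⟩
  · rw [algebraMap_cloc_eq, ← RingHom.comp_assoc, hψ, RingHom.comp_assoc, hφ₀,
      ← RingHom.comp_assoc]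
    rfl
  · have hφ₀f : φ₀.Flat := by
      apply flat_of_comp_isLocalization (Submonoid.powers r)
      rw [hφ₀]
      exact RingHom.Flat.comp hflat
        (RingHom.flat_algebraMap_iff.mpr (IsLocalization.flat _ (Submonoid.powers s)))
    exact flat_of_completion_map _ _ φ₀ hφ₀f hK ψ hψ

/-- Two ring maps out of a completed localization into a separated ring agreeing on `R`
are equal. -/
theorem cloc_ringHom_ext (J : Ideal R) (r : R) {T : Type*} [CommRing T] (JT : Ideal T)
    [IsHausdorff JT T] (ψ₁ ψ₂ : CLoc R J r →+* T)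
    (h : ψ₁.comp (algebraMap R (CLoc R J r)) = ψ₂.comp (algebraMap R (CLoc R J r)))
    (hJ : J.map (ψ₁.comp (algebraMap R (CLoc R J r))) ≤ JT) : ψ₁ = ψ₂ := by
  haveI := isNoetherianRing_away R r
  have h' : ψ₁.comp (algebraMap (Localization.Away r) (CLoc R J r)) =
      ψ₂.comp (algebraMap (Localization.Away r) (CLoc R J r)) := by
    apply IsLocalization.ringHom_ext (Submonoid.powers r)
    rw [RingHom.comp_assoc, RingHom.comp_assoc, ← algebraMap_cloc_eq]
    exact h
  refine ringHom_ext_of_isHausdorff _ (IsNoetherian.noetherian _) JT ψ₁ ψ₂ h' ?_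
  rw [Ideal.map_map, RingHom.comp_assoc, ← algebraMap_cloc_eq]
  exact hJ

end clocmap

section primeext

variable (X : Type u) [CommRing X] [IsNoetherianRing X] (K : Ideal X) [IsAdicComplete K X]
  (q : Ideal X) [hq : q.IsPrime] (x : X) (hx : IsUnit (Ideal.Quotient.mk q x))

include hx in
theorem isPrime_map_cloc : (q.map (algebraMap X (CLoc X K x))).IsPrime := by
  have hbij := quotientMap_cloc_bijective X K q x hx
  let e := RingEquiv.ofBijective _ hbij
  haveI : IsDomain (CLoc X K x ⧸ q.map (algebraMap X (CLoc X K x))) :=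
    e.toMulEquiv.isDomain_iff.mp inferInstance
  exact (Ideal.Quotient.isDomain_iff_prime _).mp inferInstance

include hx in
theorem comap_map_cloc : (q.map (algebraMap X (CLoc X K x))).comap (algebraMap X (CLoc X K x)) =
    q := by
  have hbij := quotientMap_cloc_bijective X K q x hx
  refine le_antisymm ?_ Ideal.le_comap_map
  intro a ha
  rw [Ideal.mem_comap] at ha
  have h1 : Ideal.quotientMap (q.map (algebraMap X (CLoc X K x)))
      (algebraMap X (CLoc X K x)) Ideal.le_comap_map (Ideal.Quotient.mk q a) = 0 := by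
    rw [Ideal.quotientMap_mk]
    exact Ideal.Quotient.eq_zero_iff_mem.mpr ha
  have h2 := hbij.1 (h1.trans (map_zero _).symm)
  exact Ideal.Quotient.eq_zero_iff_mem.mp h2

end primeext

end Groth.Agent.Lib.Helper95.Rig
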