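import Mathlib
import Groth.Agent.Lib.Helper95.RigN

/-!
# Étale reduction for rig-flatness: the abstract statement (helper95)
-/

set_option autoImplicit false
universe u

namespace Groth.Agent.Lib.Helper95.Rig

open Groth.Agent.Lib.Helper71.FlatCompletion

section aux

theorem flat_atPrime_congr {R S : Type*} [CommRing R] [CommRing S] (ψ : R →+* S) (p p' : Ideal S)
    [p.IsPrime] [p'.IsPrime] (h : p = p')
    (hf : ((algebraMap S (Localization.AtPrime p)).comp ψ).Flat) :
    ((algebraMap S (Localization.AtPrime p')).comp ψ).Flat := by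
  subst h
  exact hf

variable (A : Type u) [CommRing A] (I : Ideal A) (B : Type u) [CommRing B] [Algebra A B]

theorem comp_away_cloc_of_comp_algebraMap (f : A)
    (ψ : CLoc A I f →+* CLoc B (I.map (algebraMap A B)) (algebraMap A B f))
    (hψ : ψ.comp (algebraMap A (CLoc A I f)) =
      (algebraMap B (CLoc B (I.map (algebraMap A B)) (algebraMap A B f))).comp (algebraMap A B)) :
    ψ.comp (algebraMap (Localization.Away f) (CLoc A I f)) =
      (algebraMap (Localization.Away (algebraMap A B f))
        (CLoc B (I.map (algebraMap A B)) (algebraMap A B f))).comp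
        (Localization.awayMap (algebraMap A B) f) := by
  apply IsLocalization.ringHom_ext (Submonoid.powers f)
  rw [RingHom.comp_assoc, ← algebraMap_cloc_eq, hψ, RingHom.comp_assoc]
  have : (Localization.awayMap (algebraMap A B) f).comp (algebraMap A (Localization.Away f)) =
      (algebraMap B (Localization.Away (algebraMap A B f))).comp (algebraMap A B) :=
    IsLocalization.map_comp _
  rw [this, ← RingHom.comp_assoc]
  rfl

end aux

section main

variable (A : Type u) [CommRing A] [IsNoetherianRing A] (I : Ideal A) [IsAdicComplete I A]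
  (B : Type u) [CommRing B] [Algebra A B] [IsNoetherianRing B]
  [IsAdicComplete (I.map (algebraMap A B)) B]
  (Y : Type u) [CommRing Y] [Algebra A Y] [IsNoetherianRing Y]
  [IsAdicComplete (I.map (algebraMap A Y)) Y]
  (X : Type u) [CommRing X] [Algebra A X] [Algebra B X] [IsScalarTower A B X] [IsNoetherianRing X]
  [IsAdicComplete (I.map (algebraMap A X)) X]

/-- unramifiedness of `A⟨f⟩ → Y⟨f⟩` at primes over rig-closed primes -/
theorem unramified_cloc
    (hftY : ((Ideal.Quotient.mk (I.map (algebraMap A Y))).comp (algebraMap A Y)).FiniteType)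
    (hunY : ((Ideal.Quotient.mk (I.map (algebraMap A Y))).comp
      (algebraMap A Y)).FormallyUnramified)
    (f : A) (α : CLoc A I f →+* CLoc Y (I.map (algebraMap A Y)) (algebraMap A Y f))
    (hα : α.comp (algebraMap A (CLoc A I f)) =
      (algebraMap Y (CLoc Y (I.map (algebraMap A Y)) (algebraMap A Y f))).comp (algebraMap A Y))
    (P : Ideal (CLoc Y (I.map (algebraMap A Y)) (algebraMap A Y f))) [P.IsPrime]
    (hP1 : ¬ I.map (algebraMap A (CLoc A I f)) ≤ P.comap α)
    (hP2 : ∀ y : PrimeSpectrum (CLoc A I f), P.comap α ≤ y.asIdeal →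
      ¬ I.map (algebraMap A (CLoc A I f)) ≤ y.asIdeal → y.asIdeal = P.comap α) :
    ((P.comap α).map α).map
      (algebraMap (CLoc Y (I.map (algebraMap A Y)) (algebraMap A Y f)) (Localization.AtPrime P)) =
      IsLocalRing.maximalIdeal (Localization.AtPrime P) := by
  haveI : IsNoetherianRing (CLoc A I f) := isNoetherianRing_cloc A I f
  haveI : IsNoetherianRing (CLoc Y (I.map (algebraMap A Y)) (algebraMap A Y f)) :=
    isNoetherianRing_cloc Y _ _
  haveI : IsAdicComplete (I.map (algebraMap A (CLoc A I f))) (CLoc A I f) :=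
    isAdicComplete_cloc A I f
  letI : Algebra (CLoc A I f) (CLoc Y (I.map (algebraMap A Y)) (algebraMap A Y f)) := α.toAlgebra
  have hI₁α : (I.map (algebraMap A (CLoc A I f))).map
      (algebraMap (CLoc A I f) (CLoc Y (I.map (algebraMap A Y)) (algebraMap A Y f))) =
      (I.map (algebraMap A Y)).map
        (algebraMap Y (CLoc Y (I.map (algebraMap A Y)) (algebraMap A Y f))) := by
    change (I.map (algebraMap A (CLoc A I f))).map α = _
    rw [Ideal.map_map (algebraMap A (CLoc A I f)) α, hα]
    exact (Ideal.map_map (algebraMap A Y) _).symm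
  haveI : IsAdicComplete ((I.map (algebraMap A (CLoc A I f))).map
      (algebraMap (CLoc A I f) (CLoc Y (I.map (algebraMap A Y)) (algebraMap A Y f))))
      (CLoc Y (I.map (algebraMap A Y)) (algebraMap A Y f)) := by
    rw [hI₁α]
    exact isAdicComplete_cloc Y _ _
  -- finite type
  have h1 := finiteType_cloc_quot Y (I.map (algebraMap A Y)) (algebraMap A Y f) (algebraMap A Y) hftY
  have h2 := formallyUnramified_cloc_quot Y (I.map (algebraMap A Y)) (algebraMap A Y f)
    (algebraMap A Y) hunY
  rw [← hα, ← hI₁α, ← RingHom.comp_assoc] at h1 h2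
  have hft : Algebra.FiniteType (CLoc A I f) (CLoc Y (I.map (algebraMap A Y)) (algebraMap A Y f) ⧸
      (I.map (algebraMap A (CLoc A I f))).map
        (algebraMap (CLoc A I f) (CLoc Y (I.map (algebraMap A Y)) (algebraMap A Y f)))) := by
    have h3 := RingHom.FiniteType.of_comp_finiteType h1
    exact RingHom.finiteType_algebraMap.mp h3
  haveI hfu : Algebra.FormallyUnramified (CLoc A I f ⧸ I.map (algebraMap A (CLoc A I f)))
      (CLoc Y (I.map (algebraMap A Y)) (algebraMap A Y f) ⧸
      (I.map (algebraMap A (CLoc A I f))).map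
        (algebraMap (CLoc A I f) (CLoc Y (I.map (algebraMap A Y)) (algebraMap A Y f)))) := by
    have h3 := RingHom.FormallyUnramified.of_comp h2
    have h4 : (Ideal.Quotient.mk ((I.map (algebraMap A (CLoc A I f))).map
        (algebraMap (CLoc A I f) (CLoc Y (I.map (algebraMap A Y)) (algebraMap A Y f))))).comp
        α =
        (algebraMap (CLoc A I f ⧸ I.map (algebraMap A (CLoc A I f)))
          (CLoc Y (I.map (algebraMap A Y)) (algebraMap A Y f) ⧸
            (I.map (algebraMap A (CLoc A I f))).map
            (algebraMap (CLoc A I f) (CLoc Y (I.map (algebraMap A Y)) (algebraMap A Y f))))).comp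
          (Ideal.Quotient.mk (I.map (algebraMap A (CLoc A I f)))) := by
      ext x; rfl
    rw [h4] at h3
    exact RingHom.formallyUnramified_algebraMap.mp (RingHom.FormallyUnramified.of_comp h3)
  have hp : Groth.Agent.Lib.Helper44.RigClosed (I.map (algebraMap A (CLoc A I f)))
      (PrimeSpectrum.comap (algebraMap (CLoc A I f)
        (CLoc Y (I.map (algebraMap A Y)) (algebraMap A Y f))) ⟨P, inferInstance⟩) := by
    refine ⟨hP1, fun y hy hIy => ?_⟩
    exact PrimeSpectrum.ext (hP2 y hy hIy)
  exact Groth.Agent.Lib.Helper44.map_map_eq_maximalIdeal_of_rigClosed_comap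
    (I.map (algebraMap A (CLoc A I f))) hft ⟨P, inferInstance⟩ hp

/-- **Étale reduction** (abstract form): `B → X` flat, `A → Y` flat with `A/I → Y/IY` of finite
type and formally unramified, `ψ' : Y → X` an `A`-map. If `A → B` is rig-flat, then `X` is flat
over `Y` at every rig-closed prime of `X`. -/
theorem flat_atPrime_of_etale_reduction
    (hftY : ((Ideal.Quotient.mk (I.map (algebraMap A Y))).comp (algebraMap A Y)).FiniteType)
    (hunY : ((Ideal.Quotient.mk (I.map (algebraMap A Y))).comp
      (algebraMap A Y)).FormallyUnramified)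
    [Module.Flat A Y]
    (hftX : Algebra.FiniteType A (X ⧸ I.map (algebraMap A X)))
    [Module.Flat B X]
    (ψ' : Y →+* X) (hψ' : ψ'.comp (algebraMap A Y) = algebraMap A X)
    (hAB : ∀ f : A, RigFlatAt (I.map (algebraMap A (Localization.Away f)))
      ((I.map (algebraMap A B)).map (algebraMap B (Localization.Away (algebraMap A B f))))
      (Localization.awayMap (algebraMap A B) f))
    (q : PrimeSpectrum X) (hq : Groth.Agent.Lib.Helper44.RigClosed (I.map (algebraMap A X)) q) :
    ((algebraMap X (Localization.AtPrime q.asIdeal)).comp ψ').Flat := by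
  haveI hqprime : q.asIdeal.IsPrime := q.isPrime
  obtain ⟨mX, hmX, hqm⟩ := Ideal.exists_le_maximal q.asIdeal hqprime.ne_top
  letI := Ideal.Quotient.field mX
  have hIXm : I.map (algebraMap A X) ≤ mX :=
    Groth.Agent.Lib.Helper44.le_of_isMaximal_of_isAdicComplete _ mX hmX
  have hft' : Algebra.FiniteType A (X ⧸ mX) :=
    Algebra.FiniteType.of_surjective (Ideal.Quotient.factorₐ A hIXm)
      (Ideal.Quotient.factor_surjective hIXm)
  have hφ : ((Ideal.Quotient.mk mX).comp (algebraMap A X)).FiniteType :=
    RingHom.finiteType_algebraMap.mpr hft'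
  obtain ⟨f, hu, hint⟩ := exists_away_isIntegral ((Ideal.Quotient.mk mX).comp (algebraMap A X)) hφ
  -- Noetherianity and completeness of the completed localizations
  haveI : IsNoetherianRing (CLoc A I f) := isNoetherianRing_cloc A I f
  haveI : IsNoetherianRing (CLoc B (I.map (algebraMap A B)) (algebraMap A B f)) :=
    isNoetherianRing_cloc B _ _
  haveI : IsNoetherianRing (CLoc Y (I.map (algebraMap A Y)) (algebraMap A Y f)) :=
    isNoetherianRing_cloc Y _ _
  haveI : IsNoetherianRing (CLoc X (I.map (algebraMap A X)) (algebraMap A X f)) :=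
    isNoetherianRing_cloc X _ _
  haveI : IsNoetherianRing (Localization.Away (algebraMap A B f)) := isNoetherianRing_away B _
  haveI hCX : IsAdicComplete ((I.map (algebraMap A X)).map
      (algebraMap X (CLoc X (I.map (algebraMap A X)) (algebraMap A X f))))
      (CLoc X (I.map (algebraMap A X)) (algebraMap A X f)) := isAdicComplete_cloc X _ _
  -- the maps
  obtain ⟨ψ₁, hψ₁, -⟩ := exists_cloc_map I (I.map (algebraMap A B)) (algebraMap A B) le_rfl f
    (algebraMap A B f) rfl
  obtain ⟨α, hα, hαf⟩ := exists_cloc_map I (I.map (algebraMap A Y)) (algebraMap A Y) le_rfl f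
    (algebraMap A Y f) rfl
  obtain ⟨β, hβ, hβf⟩ := exists_cloc_map (I.map (algebraMap A B)) (I.map (algebraMap A X))
    (algebraMap B X) (by rw [Ideal.map_map, ← IsScalarTower.algebraMap_eq]) (algebraMap A B f)
    (algebraMap A X f) (IsScalarTower.algebraMap_apply A B X f).symm
  obtain ⟨ψ₂, hψ₂, -⟩ := exists_cloc_map (I.map (algebraMap A Y)) (I.map (algebraMap A X))
    ψ' (by rw [Ideal.map_map, hψ']) (algebraMap A Y f) (algebraMap A X f)
    (RingHom.congr_fun hψ' f)
  have hαflat : α.Flat := hαf (RingHom.flat_algebraMap_iff.mpr inferInstance)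
  have hβflat : β.Flat := hβf (RingHom.flat_algebraMap_iff.mpr inferInstance)
  have hχA : (algebraMap Y (CLoc Y (I.map (algebraMap A Y)) (algebraMap A Y f))).Flat :=
    RingHom.flat_algebraMap_iff.mpr (flat_cloc Y _ _)
  have hχB : (algebraMap X (CLoc X (I.map (algebraMap A X)) (algebraMap A X f))).Flat :=
    RingHom.flat_algebraMap_iff.mpr (flat_cloc X _ _)
  -- the squares
  have e1 : (β.comp ψ₁).comp (algebraMap A (CLoc A I f)) =
      (algebraMap X (CLoc X (I.map (algebraMap A X)) (algebraMap A X f))).comp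
        (algebraMap A X) := by
    rw [RingHom.comp_assoc, hψ₁, ← RingHom.comp_assoc, hβ, RingHom.comp_assoc,
      ← IsScalarTower.algebraMap_eq]
  have e2 : (ψ₂.comp α).comp (algebraMap A (CLoc A I f)) =
      (algebraMap X (CLoc X (I.map (algebraMap A X)) (algebraMap A X f))).comp
        (algebraMap A X) := by
    rw [RingHom.comp_assoc, hα, ← RingHom.comp_assoc, hψ₂, RingHom.comp_assoc, hψ']
  have hsq1 : β.comp ψ₁ = ψ₂.comp α := by
    refine cloc_ringHom_ext I f ((I.map (algebraMap A X)).map
      (algebraMap X (CLoc X (I.map (algebraMap A X)) (algebraMap A X f)))) _ _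
      (e1.trans e2.symm) ?_
    rw [e1]
    exact (Ideal.map_map (algebraMap A X) _).symm.le
  -- the prime `Q`
  have hψ₁₂ := comp_away_cloc_of_comp_algebraMap A I X f (β.comp ψ₁) e1
  have hrc := rigClosed_comap_cloc A I X hftX q hq mX hmX hqm f hu hint (β.comp ψ₁) hψ₁₂
  obtain ⟨hxu, -, hrc1, hrc2⟩ := hrc
  haveI hQ : (q.asIdeal.map
      (algebraMap X (CLoc X (I.map (algebraMap A X)) (algebraMap A X f)))).IsPrime :=
    isPrime_map_cloc X (I.map (algebraMap A X)) q.asIdeal (algebraMap A X f) hxu
  have hQc := comap_map_cloc X (I.map (algebraMap A X)) q.asIdeal (algebraMap A X f) hxu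
  set Q := q.asIdeal.map
      (algebraMap X (CLoc X (I.map (algebraMap A X)) (algebraMap A X f))) with hQdef
  -- flatness of `B⟨f⟩` over `A⟨f⟩` at `Q ∩ B⟨f⟩`
  have hψ₁' := comp_away_cloc_of_comp_algebraMap A I B f ψ₁ hψ₁
  have hnot : ¬ ((I.map (algebraMap A B)).map
      (algebraMap B (Localization.Away (algebraMap A B f)))).map
      (algebraMap (Localization.Away (algebraMap A B f))
        (CLoc B (I.map (algebraMap A B)) (algebraMap A B f))) ≤ Q.comap β := by
    intro hle
    apply hrc1
    rw [Ideal.map_le_iff_le_comap]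
    intro a ha
    rw [Ideal.mem_comap, Ideal.mem_comap, ← RingHom.comp_apply, e1, ← e1, RingHom.comp_apply,
      RingHom.comp_apply]
    have h3 : ψ₁ (algebraMap A (CLoc A I f) a) =
        algebraMap B (CLoc B (I.map (algebraMap A B)) (algebraMap A B f)) (algebraMap A B a) :=
      RingHom.congr_fun hψ₁ a
    rw [h3]
    apply hle
    rw [← map_cloc]
    exact Ideal.mem_map_of_mem _ (Ideal.mem_map_of_mem _ ha)
  have h1 : ((algebraMap (CLoc B (I.map (algebraMap A B)) (algebraMap A B f))
      (Localization.AtPrime (Q.comap β))).comp ψ₁).Flat :=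
    (hAB f).flat_atPrime ψ₁ hψ₁' (Q.comap β) hnot
  -- unramifiedness
  have hcc : (Q.comap ψ₂).comap α = Q.comap (β.comp ψ₁) := by
    rw [Ideal.comap_comap, hsq1]
  have hunr := unramified_cloc A I Y hftY hunY f α hα (Q.comap ψ₂) (hcc ▸ hrc1)
    (fun y hy hIy => by rw [hcc] at hy ⊢; exact hrc2 y hy hIy)
  -- conclusion
  have hfin := flat_atPrime_of_unramified_square ψ₁ α β ψ₂
    (algebraMap Y (CLoc Y (I.map (algebraMap A Y)) (algebraMap A Y f)))
    (algebraMap X (CLoc X (I.map (algebraMap A X)) (algebraMap A X f))) ψ' hsq1 hψ₂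
    hαflat hβflat hχA hχB Q h1 hunr
  exact flat_atPrime_congr ψ' _ _ hQc hfin

end main

end Groth.Agent.Lib.Helper95.Rig
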