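import Mathlib
import Groth.Agent.Lib.Helper95.RigN

/-!
# Completed tensor products of adic rings via their universal property (helper95)
-/

set_option autoImplicit false
universe u

namespace Groth.Agent.Lib.Helper95.Rig

open TensorProduct

section lift

variable {R : Type u} [CommRing R]

/-- A ring map into a complete ring extends to the completion. -/
theorem exists_lift_of_isAdicComplete (K : Ideal R) {W : Type u} [CommRing W] (J : Ideal W)
    [IsAdicComplete J W] (φ : R →+* W) (h : K.map φ ≤ J) :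
    ∃ ψ : AdicCompletion K R →+* W, ψ.comp (algebraMap R (AdicCompletion K R)) = φ := by
  obtain ⟨ψ₀, hψ₀⟩ := exists_map K J φ h
  refine ⟨((AdicCompletion.ofAlgEquiv J).symm : AdicCompletion J W →+* W).comp ψ₀, ?_⟩
  rw [RingHom.comp_assoc, hψ₀]
  ext r
  exact (AdicCompletion.ofAlgEquiv J).symm.commutes (φ r)

/-- A ring map into a complete ring inverting `r` extends to the completed localization. -/
theorem exists_cloc_lift (J : Ideal R) (r : R) {W : Type u} [CommRing W] (JW : Ideal W)
    [IsAdicComplete JW W] (φ : R →+* W) (h : J.map φ ≤ JW) (hu : IsUnit (φ r)) :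
    ∃ ψ : CLoc R J r →+* W, ψ.comp (algebraMap R (CLoc R J r)) = φ := by
  let φ₀ : Localization.Away r →+* W := IsLocalization.Away.lift r hu
  have hφ₀ : φ₀.comp (algebraMap R (Localization.Away r)) = φ :=
    IsLocalization.Away.lift_comp r hu
  have hK : (J.map (algebraMap R (Localization.Away r))).map φ₀ ≤ JW := by
    rw [Ideal.map_map, hφ₀]; exact h
  obtain ⟨ψ, hψ⟩ := exists_lift_of_isAdicComplete _ JW φ₀ hK
  refine ⟨ψ, ?_⟩
  rw [algebraMap_cloc_eq, ← RingHom.comp_assoc, hψ, hφ₀]

end lift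

section ctensor

variable {A C B X : Type u} [CommRing A] [CommRing C] [CommRing B] [CommRing X]

/-- `X` with `c : C → X` and `b : B → X` is a completed tensor product of `C` and `B` over `A`
(for the `I`-adic topologies): universal property among `I`-adically complete rings, with
uniqueness among `I`-adically separated rings. -/
def IsCTensor (I : Ideal A) (aC : A →+* C) (aB : A →+* B) (c : C →+* X) (b : B →+* X) : Prop :=
  c.comp aC = b.comp aB ∧
  (∀ (W : Type u) [CommRing W] (γ : C →+* W) (β : B →+* W),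
    IsAdicComplete (I.map (γ.comp aC)) W → γ.comp aC = β.comp aB →
      ∃ ν : X →+* W, ν.comp c = γ ∧ ν.comp b = β) ∧
  (∀ (W : Type u) [CommRing W] (ν ν' : X →+* W),
    IsHausdorff (I.map (ν.comp (c.comp aC))) W → ν.comp c = ν'.comp c → ν.comp b = ν'.comp b →
      ν = ν')

variable {I : Ideal A} {aC : A →+* C} {aB : A →+* B} {c : C →+* X} {b : B →+* X}

theorem IsCTensor.symm (H : IsCTensor I aC aB c b) : IsCTensor I aB aC b c := by
  obtain ⟨h1, h2, h3⟩ := H
  refine ⟨h1.symm, ?_, ?_⟩
  · intro W _ γ β hW hγβ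
    have hW' : IsAdicComplete (I.map (β.comp aC)) W := by rw [← hγβ]; exact hW
    obtain ⟨ν, hν1, hν2⟩ := h2 W β γ hW' hγβ.symm
    exact ⟨ν, hν2, hν1⟩
  · intro W _ ν ν' hW hb hc
    have hW' : IsHausdorff (I.map (ν.comp (c.comp aC))) W := by rw [h1]; exact hW
    exact h3 W ν ν' hW' hc hb

theorem IsCTensor.cloc_left_aux [IsNoetherianRing C] [IsNoetherianRing X]
    (H : IsCTensor I aC aB c b) (h : C) (x : X) (hx : c h = x)
    (c' : CLoc C (I.map aC) h →+* CLoc X (I.map (c.comp aC)) x)
    (hc' : c'.comp (algebraMap C (CLoc C (I.map aC) h)) =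
      (algebraMap X (CLoc X (I.map (c.comp aC)) x)).comp c) :
    IsCTensor I ((algebraMap C (CLoc C (I.map aC) h)).comp aC) aB c'
      ((algebraMap X (CLoc X (I.map (c.comp aC)) x)).comp b) := by
  obtain ⟨h1, h2, h3⟩ := H
  refine ⟨?_, ?_, ?_⟩
  · rw [← RingHom.comp_assoc, hc', RingHom.comp_assoc, h1, RingHom.comp_assoc]
  · intro W _ γ β hW hγβ
    set γ₀ : C →+* W := γ.comp (algebraMap C (CLoc C (I.map aC) h)) with hγ₀
    have hW₀ : IsAdicComplete (I.map (γ₀.comp aC)) W := hW
    obtain ⟨ν₀, hν₀c, hν₀b⟩ := h2 W γ₀ β hW₀ (by rw [hγ₀, RingHom.comp_assoc]; exact hγβ)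
    have hu : IsUnit (ν₀ x) := by
      rw [← hx, ← RingHom.comp_apply, hν₀c, hγ₀, RingHom.comp_apply]
      exact (isUnit_cloc C (I.map aC) h).map γ
    haveI := hW₀
    obtain ⟨ν, hν⟩ := exists_cloc_lift (I.map (c.comp aC)) x (I.map (γ₀.comp aC)) ν₀
      (by rw [Ideal.map_map, ← RingHom.comp_assoc, hν₀c]) hu
    refine ⟨ν, ?_, ?_⟩
    · refine cloc_ringHom_ext (I.map aC) h (I.map (γ₀.comp aC)) _ _ ?_ ?_
      · rw [RingHom.comp_assoc, hc', ← RingHom.comp_assoc, hν, hν₀c]
      · rw [RingHom.comp_assoc, hc', ← RingHom.comp_assoc, hν, hν₀c, Ideal.map_map]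
    · rw [← RingHom.comp_assoc, hν, hν₀b]
  · intro W _ ν ν' hW hcc hbb
    have e1 : (ν.comp (algebraMap X (CLoc X (I.map (c.comp aC)) x))).comp c =
        (ν'.comp (algebraMap X (CLoc X (I.map (c.comp aC)) x))).comp c := by
      rw [RingHom.comp_assoc, ← hc', ← RingHom.comp_assoc, hcc, RingHom.comp_assoc, hc',
        RingHom.comp_assoc]
    have e2 : (ν.comp (algebraMap X (CLoc X (I.map (c.comp aC)) x))).comp b =
        (ν'.comp (algebraMap X (CLoc X (I.map (c.comp aC)) x))).comp b := by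
      rw [RingHom.comp_assoc, hbb, RingHom.comp_assoc]
    have hcomp : ν.comp (c'.comp ((algebraMap C (CLoc C (I.map aC) h)).comp aC)) =
        (ν.comp (algebraMap X (CLoc X (I.map (c.comp aC)) x))).comp (c.comp aC) := by
      ext a
      simp only [RingHom.comp_apply]
      exact congrArg ν (RingHom.congr_fun hc' (aC a))
    have hW' : IsHausdorff (I.map ((ν.comp (algebraMap X (CLoc X (I.map (c.comp aC)) x))).comp
        (c.comp aC))) W := by
      rw [← hcomp]; exact hW
    have e3 := h3 W _ _ hW' e1 e2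
    haveI := hW
    refine cloc_ringHom_ext (I.map (c.comp aC)) x
      (I.map (ν.comp (c'.comp ((algebraMap C (CLoc C (I.map aC) h)).comp aC)))) ν ν' e3 ?_
    rw [Ideal.map_map, hcomp]

theorem IsCTensor.cloc_left [IsNoetherianRing C] [IsNoetherianRing X]
    (H : IsCTensor I aC aB c b) (JC : Ideal C) (hJC : JC = I.map aC) (JX : Ideal X)
    (hJX : JX = I.map (c.comp aC)) (h : C) (x : X) (hx : c h = x)
    (c' : CLoc C JC h →+* CLoc X JX x)
    (hc' : c'.comp (algebraMap C (CLoc C JC h)) = (algebraMap X (CLoc X JX x)).comp c) :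
    IsCTensor I ((algebraMap C (CLoc C JC h)).comp aC) aB c'
      ((algebraMap X (CLoc X JX x)).comp b) := by
  subst hJC
  subst hJX
  exact H.cloc_left_aux h x hx c' hc'

theorem IsCTensor.enlarge_right_aux [IsNoetherianRing B]
    (H : IsCTensor I aC aB c b) (r : B)
    (b₁ : CLoc B (I.map aB) r →+* X) (hb₁ : b₁.comp (algebraMap B (CLoc B (I.map aB) r)) = b) :
    IsCTensor I aC ((algebraMap B (CLoc B (I.map aB) r)).comp aB) c b₁ := by
  obtain ⟨h1, h2, h3⟩ := H
  refine ⟨?_, ?_, ?_⟩
  · rw [← RingHom.comp_assoc, hb₁, h1]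
  · intro W _ γ β hW hγβ
    obtain ⟨ν, hνc, hνb⟩ := h2 W γ (β.comp (algebraMap B (CLoc B (I.map aB) r))) hW
      (by rw [RingHom.comp_assoc]; exact hγβ)
    refine ⟨ν, hνc, ?_⟩
    haveI := hW
    refine cloc_ringHom_ext (I.map aB) r (I.map (γ.comp aC)) _ _ ?_ ?_
    · rw [RingHom.comp_assoc, hb₁, hνb]
    · rw [RingHom.comp_assoc, hb₁, hνb, Ideal.map_map, RingHom.comp_assoc, ← hγβ]
  · intro W _ ν ν' hW hcc hbb
    refine h3 W ν ν' hW hcc ?_
    rw [← hb₁, ← RingHom.comp_assoc, hbb, RingHom.comp_assoc]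

theorem IsCTensor.enlarge_right [IsNoetherianRing B]
    (H : IsCTensor I aC aB c b) (JB : Ideal B) (hJB : JB = I.map aB) (r : B)
    (b₁ : CLoc B JB r →+* X) (hb₁ : b₁.comp (algebraMap B (CLoc B JB r)) = b) :
    IsCTensor I aC ((algebraMap B (CLoc B JB r)).comp aB) c b₁ := by
  subst hJB
  exact H.enlarge_right_aux r b₁ hb₁

end ctensor

section completion

variable {A C B : Type u} [CommRing A] [CommRing C] [CommRing B] [Algebra A C] [Algebra A B]

/-- The adic completion of `C ⊗[A] B` is a completed tensor product. -/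
theorem isCTensor_completion (I : Ideal A) (hI : I.FG) (K : Ideal (C ⊗[A] B))
    (hK : K = I.map (algebraMap A (C ⊗[A] B))) :
    IsCTensor I (algebraMap A C) (algebraMap A B)
      ((algebraMap (C ⊗[A] B) (AdicCompletion K (C ⊗[A] B))).comp
        (Algebra.TensorProduct.includeLeftRingHom : C →+* C ⊗[A] B))
      ((algebraMap (C ⊗[A] B) (AdicCompletion K (C ⊗[A] B))).comp
        (Algebra.TensorProduct.includeRight : B →ₐ[A] C ⊗[A] B).toRingHom) := by
  subst hK
  have hKfg : (I.map (algebraMap A (C ⊗[A] B))).FG := hI.map _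
  have hAT : algebraMap A (C ⊗[A] B) =
      (Algebra.TensorProduct.includeLeftRingHom : C →+* C ⊗[A] B).comp (algebraMap A C) := by
    ext a
    rfl
  have hAT' : algebraMap A (C ⊗[A] B) =
      (Algebra.TensorProduct.includeRight : B →ₐ[A] C ⊗[A] B).toRingHom.comp (algebraMap A B) := by
    ext a
    exact ((Algebra.TensorProduct.includeRight : B →ₐ[A] C ⊗[A] B).commutes a).symm
  refine ⟨?_, ?_, ?_⟩
  · rw [RingHom.comp_assoc, RingHom.comp_assoc, ← hAT, ← hAT']
  · intro W _ γ β hW hγβ
    letI : Algebra A W := (γ.comp (algebraMap A C)).toAlgebra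
    let γ' : C →ₐ[A] W := { γ with commutes' := fun a => rfl }
    let β' : B →ₐ[A] W := { β with commutes' := fun a => (RingHom.congr_fun hγβ a).symm }
    let t : C ⊗[A] B →ₐ[A] W := Algebra.TensorProduct.lift γ' β' (fun _ _ => Commute.all _ _)
    have ht : ∀ x y, t (x ⊗ₜ y) = γ x * β y := fun x y => Algebra.TensorProduct.lift_tmul _ _ _ x y
    haveI := hW
    obtain ⟨ν, hν⟩ := exists_lift_of_isAdicComplete (I.map (algebraMap A (C ⊗[A] B)))
      (I.map (γ.comp (algebraMap A C))) t.toRingHom (by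
        rw [Ideal.map_map]
        have : t.toRingHom.comp (algebraMap A (C ⊗[A] B)) = γ.comp (algebraMap A C) := by
          ext a
          exact t.commutes a
        rw [this])
    refine ⟨ν, ?_, ?_⟩
    · rw [← RingHom.comp_assoc, hν]
      ext x
      show t (x ⊗ₜ 1) = γ x
      rw [ht, map_one, mul_one]
    · rw [← RingHom.comp_assoc, hν]
      ext y
      show t (1 ⊗ₜ y) = β y
      rw [ht, map_one, one_mul]
  · intro W _ ν ν' hW hcc hbb
    haveI := hW
    have e : ν.comp (algebraMap (C ⊗[A] B) (AdicCompletion _ (C ⊗[A] B))) =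
        ν'.comp (algebraMap (C ⊗[A] B) (AdicCompletion _ (C ⊗[A] B))) := by
      ext x
      · exact RingHom.congr_fun hcc x
      · exact RingHom.congr_fun hbb x
    refine ringHom_ext_of_isHausdorff _ hKfg (I.map (ν.comp
      (((algebraMap (C ⊗[A] B) (AdicCompletion (I.map (algebraMap A (C ⊗[A] B))) (C ⊗[A] B))).comp
        (Algebra.TensorProduct.includeLeftRingHom : C →+* C ⊗[A] B)).comp (algebraMap A C))))
      ν ν' e ?_
    have hh : (ν.comp (algebraMap (C ⊗[A] B)
        (AdicCompletion (I.map (algebraMap A (C ⊗[A] B))) (C ⊗[A] B)))).comp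
        (algebraMap A (C ⊗[A] B)) = ν.comp
      (((algebraMap (C ⊗[A] B) (AdicCompletion (I.map (algebraMap A (C ⊗[A] B))) (C ⊗[A] B))).comp
        (Algebra.TensorProduct.includeLeftRingHom : C →+* C ⊗[A] B)).comp (algebraMap A C)) := by
      ext a
      rfl
    rw [Ideal.map_map, hh]

end completion

end Groth.Agent.Lib.Helper95.Rig
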