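import Mathlib
import Groth.Agent.Lib.Helper95.RigP
import Groth.Agent.S0542

/-!
# The completed tensor product `B ⊗̂_A C` of adic Noetherian rings (helper95)
-/

set_option autoImplicit false
universe u

namespace Groth.Agent.Lib.Helper95.Rig

open TensorProduct Groth.Agent.Lib.Helper71.FlatCompletion

section tensor

variable (A : Type u) [CommRing A] (I : Ideal A)
  (C : Type u) [CommRing C] [Algebra A C] (B : Type u) [CommRing B] [Algebra A B]

theorem algebraMap_tensor_eq_left : algebraMap A (C ⊗[A] B) =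
    (Algebra.TensorProduct.includeLeftRingHom : C →+* C ⊗[A] B).comp (algebraMap A C) := by
  ext a
  rfl

theorem algebraMap_tensor_eq_right : algebraMap A (C ⊗[A] B) =
    (Algebra.TensorProduct.includeRight : B →ₐ[A] C ⊗[A] B).toRingHom.comp (algebraMap A B) := by
  ext a
  exact ((Algebra.TensorProduct.includeRight : B →ₐ[A] C ⊗[A] B).commutes a).symm

/-- `(C ⊗ B)/I` is of finite type over `A` when `C/IC` and `B/IB` are. -/
theorem finiteType_tensor_quot (hftC : Algebra.FiniteType A (C ⧸ I.map (algebraMap A C)))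
    (hftB : Algebra.FiniteType A (B ⧸ I.map (algebraMap A B))) :
    Algebra.FiniteType A ((C ⊗[A] B) ⧸ I.map (algebraMap A (C ⊗[A] B))) := by
  have hL : ∀ x ∈ I.map (algebraMap A C), (x ⊗ₜ[A] (1 : B)) ∈ I.map (algebraMap A (C ⊗[A] B)) := by
    intro x hx
    have h1 : (I.map (algebraMap A C)).map
        (Algebra.TensorProduct.includeLeftRingHom : C →+* C ⊗[A] B) =
        I.map (algebraMap A (C ⊗[A] B)) := by
      rw [Ideal.map_map, ← algebraMap_tensor_eq_left]
    rw [← h1]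
    exact Ideal.mem_map_of_mem _ hx
  have hR : ∀ y ∈ I.map (algebraMap A B), ((1 : C) ⊗ₜ[A] y) ∈ I.map (algebraMap A (C ⊗[A] B)) := by
    intro y hy
    have h1 : (I.map (algebraMap A B)).map
        (Algebra.TensorProduct.includeRight : B →ₐ[A] C ⊗[A] B).toRingHom =
        I.map (algebraMap A (C ⊗[A] B)) := by
      rw [Ideal.map_map, ← algebraMap_tensor_eq_right]
    rw [← h1]
    exact Ideal.mem_map_of_mem _ hy
  let f₁ : C ⧸ I.map (algebraMap A C) →ₐ[A] (C ⊗[A] B) ⧸ I.map (algebraMap A (C ⊗[A] B)) :=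
    Ideal.Quotient.liftₐ _ ((Ideal.Quotient.mkₐ A _).comp
      (Algebra.TensorProduct.includeLeft : C →ₐ[A] C ⊗[A] B))
      (fun x hx => Ideal.Quotient.eq_zero_iff_mem.mpr (hL x hx))
  let f₂ : B ⧸ I.map (algebraMap A B) →ₐ[A] (C ⊗[A] B) ⧸ I.map (algebraMap A (C ⊗[A] B)) :=
    Ideal.Quotient.liftₐ _ ((Ideal.Quotient.mkₐ A _).comp
      (Algebra.TensorProduct.includeRight : B →ₐ[A] C ⊗[A] B))
      (fun y hy => Ideal.Quotient.eq_zero_iff_mem.mpr (hR y hy))
  let Θ : (C ⧸ I.map (algebraMap A C)) ⊗[A] (B ⧸ I.map (algebraMap A B)) →ₐ[A]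
      (C ⊗[A] B) ⧸ I.map (algebraMap A (C ⊗[A] B)) :=
    Algebra.TensorProduct.lift f₁ f₂ (fun _ _ => Commute.all _ _)
  have hΘ : ∀ (x : C) (y : B), Θ (Ideal.Quotient.mk _ x ⊗ₜ Ideal.Quotient.mk _ y) =
      Ideal.Quotient.mk _ (x ⊗ₜ[A] y) := by
    intro x y
    rw [Algebra.TensorProduct.lift_tmul]
    show Ideal.Quotient.mk _ (x ⊗ₜ[A] (1 : B)) * Ideal.Quotient.mk _ ((1 : C) ⊗ₜ[A] y) = _
    rw [← map_mul, Algebra.TensorProduct.tmul_mul_tmul, mul_one, one_mul]
  have hsurj : Function.Surjective Θ := by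
    intro z
    obtain ⟨t, rfl⟩ := Ideal.Quotient.mk_surjective z
    induction t with
    | zero => exact ⟨0, map_zero _⟩
    | add t₁ t₂ h₁ h₂ =>
      obtain ⟨w₁, hw₁⟩ := h₁
      obtain ⟨w₂, hw₂⟩ := h₂
      exact ⟨w₁ + w₂, by rw [map_add, hw₁, hw₂, map_add]⟩
    | tmul x y => exact ⟨_, hΘ x y⟩
  haveI := hftC
  haveI := hftB
  have h1 : Algebra.FiniteType A ((C ⧸ I.map (algebraMap A C)) ⊗[A] (B ⧸ I.map (algebraMap A B))) :=
    Algebra.FiniteType.trans hftC inferInstance
  exact Algebra.FiniteType.of_surjective Θ hsurj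

end tensor

section D

variable (A : Type u) [CommRing A] [IsNoetherianRing A] (I : Ideal A)
  (C : Type u) [CommRing C] [Algebra A C] (B : Type u) [CommRing B] [Algebra A B]
  (K : Ideal (C ⊗[A] B)) (hK : K = I.map (algebraMap A (C ⊗[A] B)))
  (hftC : Algebra.FiniteType A (C ⧸ I.map (algebraMap A C)))
  (hftB : Algebra.FiniteType A (B ⧸ I.map (algebraMap A B)))

include hK in
theorem fg_ctensor_ideal : K.FG := by
  subst hK
  have hI : I.FG := IsNoetherian.noetherian I
  exact hI.map _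

include hK hftC hftB in
theorem isNoetherianRing_ctensor : IsNoetherianRing (AdicCompletion K (C ⊗[A] B)) := by
  have hfg := fg_ctensor_ideal A I C B K hK
  subst hK
  haveI := finiteType_tensor_quot A I C B hftC hftB
  haveI : IsNoetherianRing ((C ⊗[A] B) ⧸ I.map (algebraMap A (C ⊗[A] B))) :=
    Algebra.FiniteType.isNoetherianRing A _
  exact Groth.Agent.S0542.result _ _ hfg

include hK in
theorem isAdicComplete_ctensor :
    IsAdicComplete (K.map (algebraMap (C ⊗[A] B) (AdicCompletion K (C ⊗[A] B))))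
      (AdicCompletion K (C ⊗[A] B)) :=
  isAdicComplete_map K (fg_ctensor_ideal A I C B K hK)

include hK hftC hftB in
theorem finiteType_ctensor_quot :
    Algebra.FiniteType A (AdicCompletion K (C ⊗[A] B) ⧸
      K.map (algebraMap (C ⊗[A] B) (AdicCompletion K (C ⊗[A] B)))) := by
  have hfg := fg_ctensor_ideal A I C B K hK
  subst hK
  haveI := finiteType_tensor_quot A I C B hftC hftB
  let g : (C ⊗[A] B) ⧸ I.map (algebraMap A (C ⊗[A] B)) →ₐ[A]
      AdicCompletion (I.map (algebraMap A (C ⊗[A] B))) (C ⊗[A] B) ⧸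
        (I.map (algebraMap A (C ⊗[A] B))).map (algebraMap (C ⊗[A] B) (AdicCompletion _ _)) :=
    Ideal.quotientMapₐ _ (IsScalarTower.toAlgHom A (C ⊗[A] B) (AdicCompletion _ _))
      Ideal.le_comap_map
  refine Algebra.FiniteType.of_surjective g ?_
  intro y
  obtain ⟨x, rfl⟩ := Ideal.Quotient.mk_surjective y
  obtain ⟨t, ht⟩ := exists_sub_mem_map_pow (I.map (algebraMap A (C ⊗[A] B))) hfg 1 x
  rw [pow_one] at ht
  refine ⟨Ideal.Quotient.mk _ t, ?_⟩
  show Ideal.Quotient.mk _ (algebraMap (C ⊗[A] B) (AdicCompletion _ _) t) = Ideal.Quotient.mk _ x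
  rw [eq_comm, Ideal.Quotient.eq]
  exact ht

end D

end Groth.Agent.Lib.Helper95.Rig
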