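import Mathlib
import Groth.Agent.Lib.Helper95.RigQ
import Groth.Agent.Lib.Helper95.RigJ
import Groth.Agent.H76.LocalCritPow

/-!
# Flatness of a completed tensor product over one factor at a point (helper95)
-/

set_option autoImplicit false
universe u

namespace Groth.Agent.Lib.Helper95.Rig

open TensorProduct

section complete

variable (A : Type u) [CommRing A] (I : Ideal A)
  (B : Type u) [CommRing B] [Algebra A B] [IsNoetherianRing B]
  [IsAdicComplete (I.map (algebraMap A B)) B]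
  (E : Type u) [CommRing E] [Algebra A E] [Module.Finite A E]

/-- `E ⊗[A] B` is `I`-adically complete for `E` finite over `A`. -/
theorem isAdicComplete_tensor_of_finite :
    IsAdicComplete (I.map (algebraMap A (E ⊗[A] B))) (E ⊗[A] B) := by
  have h1 : IsAdicComplete (I.map (algebraMap A B)) (B ⊗[A] E) :=
    isAdicComplete_of_finite_of_noetherian B _ _
  have h2 : IsAdicComplete ((I.map (algebraMap A B)).map (algebraMap B (B ⊗[A] E))) (B ⊗[A] E) :=
    (IsAdicComplete.map_algebraMap_iff (I := I.map (algebraMap A B)) (S := B ⊗[A] E)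
      (M := B ⊗[A] E)).mpr h1
  have h3 := (IsAdicComplete.congr_ringEquiv
    ((I.map (algebraMap A B)).map (algebraMap B (B ⊗[A] E)))
    (Algebra.TensorProduct.comm A B E).toRingEquiv).mpr h2
  have h4 : ((I.map (algebraMap A B)).map (algebraMap B (B ⊗[A] E))).map
      ((Algebra.TensorProduct.comm A B E).toRingEquiv : B ⊗[A] E →+* E ⊗[A] B) =
      I.map (algebraMap A (E ⊗[A] B)) := by
    rw [Ideal.map_map, Ideal.map_map]
    congr 1
    ext a
    simp only [Algebra.TensorProduct.algebraMap_apply, RingHom.comp_apply, RingHom.coe_coe,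
      AlgEquiv.coe_ringEquiv, Algebra.TensorProduct.comm_tmul, Algebra.algebraMap_self,
      RingHom.id_apply]
    rw [Algebra.algebraMap_eq_smul_one, Algebra.algebraMap_eq_smul_one (A := E),
      TensorProduct.tmul_smul, TensorProduct.smul_tmul']
  rw [← h4]
  exact h3

end complete

section iso

variable (A : Type u) [CommRing A] (I : Ideal A)
  (B : Type u) [CommRing B] [Algebra A B] [IsNoetherianRing B]
  [IsAdicComplete (I.map (algebraMap A B)) B]
  (C : Type u) [CommRing C] [Algebra A C]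
  (X : Type u) [CommRing X] [IsNoetherianRing X] (c : C →+* X) (b : B →+* X)
  (H : IsCTensor I (algebraMap A C) (algebraMap A B) c b)
  (hIX : I.map (c.comp (algebraMap A C)) ≤ Ideal.jacobson ⊥)
  (𝔞 : Ideal C) [Module.Finite A (C ⧸ 𝔞)]

include H hIX in
/-- For `C/𝔞` finite over `A`, `X/𝔞X = C/𝔞 ⊗_A B` when `X` is the completed tensor product. -/
theorem exists_tensor_quot_iso :
    ∃ μ : (C ⧸ 𝔞) ⊗[A] B →+* X ⧸ 𝔞.map c, Function.Bijective μ ∧
      μ.comp (algebraMap (C ⧸ 𝔞) ((C ⧸ 𝔞) ⊗[A] B)) =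
        Ideal.quotientMap (𝔞.map c) c Ideal.le_comap_map ∧
      μ.comp (Algebra.TensorProduct.includeRight : B →ₐ[A] (C ⧸ 𝔞) ⊗[A] B).toRingHom =
        (Ideal.Quotient.mk (𝔞.map c)).comp b := by
  obtain ⟨h1, h2, h3⟩ := H
  letI : Algebra A (X ⧸ 𝔞.map c) :=
    ((Ideal.Quotient.mk (𝔞.map c)).comp (c.comp (algebraMap A C))).toAlgebra
  let fE : C ⧸ 𝔞 →ₐ[A] X ⧸ 𝔞.map c :=
    { Ideal.quotientMap (𝔞.map c) c Ideal.le_comap_map with commutes' := fun a => rfl }
  let gB : B →ₐ[A] X ⧸ 𝔞.map c :=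
    { (Ideal.Quotient.mk (𝔞.map c)).comp b with
      commutes' := fun a => by
        show Ideal.Quotient.mk (𝔞.map c) (b (algebraMap A B a)) =
          Ideal.Quotient.mk (𝔞.map c) (c (algebraMap A C a))
        rw [← RingHom.comp_apply b, ← h1]
        rfl }
  let μ : (C ⧸ 𝔞) ⊗[A] B →ₐ[A] X ⧸ 𝔞.map c :=
    Algebra.TensorProduct.lift fE gB (fun _ _ => Commute.all _ _)
  have hμ : ∀ e β, μ (e ⊗ₜ β) = fE e * gB β :=
    fun e β => Algebra.TensorProduct.lift_tmul _ _ _ e β
  have hμ1 : ∀ y : C, μ ((Ideal.Quotient.mk 𝔞 y) ⊗ₜ 1) = Ideal.Quotient.mk (𝔞.map c) (c y) := by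
    intro y
    rw [hμ, map_one, mul_one]
    rfl
  have hμ2 : ∀ β : B, μ (1 ⊗ₜ β) = Ideal.Quotient.mk (𝔞.map c) (b β) := by
    intro β
    rw [hμ, map_one, one_mul]
    rfl
  -- the inverse
  let γ : C →+* (C ⧸ 𝔞) ⊗[A] B :=
    (algebraMap (C ⧸ 𝔞) ((C ⧸ 𝔞) ⊗[A] B)).comp (Ideal.Quotient.mk 𝔞)
  let β₀ : B →+* (C ⧸ 𝔞) ⊗[A] B :=
    (Algebra.TensorProduct.includeRight : B →ₐ[A] (C ⧸ 𝔞) ⊗[A] B).toRingHom
  have hγ : ∀ y : C, γ y = (Ideal.Quotient.mk 𝔞 y) ⊗ₜ 1 := fun y => rfl
  have hβ₀ : ∀ β : B, β₀ β = 1 ⊗ₜ β := fun β => rfl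
  have hγA : γ.comp (algebraMap A C) = algebraMap A ((C ⧸ 𝔞) ⊗[A] B) := by
    ext a
    rfl
  have hβA : β₀.comp (algebraMap A B) = algebraMap A ((C ⧸ 𝔞) ⊗[A] B) :=
    (algebraMap_tensor_eq_right A (C ⧸ 𝔞) B).symm
  have hW : IsAdicComplete (I.map (γ.comp (algebraMap A C))) ((C ⧸ 𝔞) ⊗[A] B) := by
    rw [hγA]
    exact isAdicComplete_tensor_of_finite A I B (C ⧸ 𝔞)
  obtain ⟨ν, hνc, hνb⟩ := h2 _ γ β₀ hW (hγA.trans hβA.symm)
  have hνJ : ∀ x ∈ 𝔞.map c, ν x = 0 := by
    have : 𝔞.map c ≤ RingHom.ker ν := by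
      rw [Ideal.map_le_iff_le_comap]
      intro y hy
      rw [Ideal.mem_comap, RingHom.mem_ker, ← RingHom.comp_apply, hνc, hγ,
        Ideal.Quotient.eq_zero_iff_mem.mpr hy, TensorProduct.zero_tmul]
    exact fun x hx => this hx
  let νbar : X ⧸ 𝔞.map c →+* (C ⧸ 𝔞) ⊗[A] B := Ideal.Quotient.lift (𝔞.map c) ν hνJ
  have hνbar : ∀ x, νbar (Ideal.Quotient.mk _ x) = ν x := fun x => Ideal.Quotient.lift_mk _ _ _
  -- `μ ∘ ν` is the quotient map
  have ec : (μ.toRingHom.comp ν).comp c = (Ideal.Quotient.mk (𝔞.map c)).comp c := by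
    rw [RingHom.comp_assoc, hνc]
    ext y
    show μ (γ y) = _
    rw [hγ, hμ1]
    rfl
  have eb : (μ.toRingHom.comp ν).comp b = (Ideal.Quotient.mk (𝔞.map c)).comp b := by
    rw [RingHom.comp_assoc, hνb]
    ext β
    show μ (β₀ β) = _
    rw [hβ₀, hμ2]
    rfl
  have hV : IsHausdorff (I.map ((μ.toRingHom.comp ν).comp (c.comp (algebraMap A C))))
      (X ⧸ 𝔞.map c) := by
    rw [← RingHom.comp_assoc, ec, RingHom.comp_assoc, ← Ideal.map_map]
    have : IsHausdorff (I.map (c.comp (algebraMap A C))) (X ⧸ 𝔞.map c) :=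
      IsHausdorff.of_le_jacobson _ _ hIX
    exact (IsHausdorff.map_algebraMap_iff (S := X ⧸ 𝔞.map c)).mpr this
  have hμν : μ.toRingHom.comp ν = Ideal.Quotient.mk (𝔞.map c) := h3 _ _ _ hV ec eb
  have hνμ : ∀ w, νbar (μ w) = w := by
    intro w
    induction w with
    | zero => simp
    | add w₁ w₂ h₁ h₂ => rw [map_add, map_add, h₁, h₂]
    | tmul e β =>
      obtain ⟨y, rfl⟩ := Ideal.Quotient.mk_surjective e
      have : (Ideal.Quotient.mk 𝔞 y) ⊗ₜ[A] β =
          ((Ideal.Quotient.mk 𝔞 y) ⊗ₜ[A] (1 : B)) * ((1 : C ⧸ 𝔞) ⊗ₜ[A] β) := by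
        rw [Algebra.TensorProduct.tmul_mul_tmul, mul_one, one_mul]
      rw [this, map_mul, map_mul, hμ1, hμ2, hνbar, hνbar, ← RingHom.comp_apply ν c, hνc,
        ← RingHom.comp_apply ν b, hνb, hγ, hβ₀]
  refine ⟨μ.toRingHom, ?_, ?_, ?_⟩
  · refine Function.bijective_iff_has_inverse.mpr ⟨νbar, hνμ, ?_⟩
    intro v
    obtain ⟨x, rfl⟩ := Ideal.Quotient.mk_surjective v
    rw [hνbar]
    exact RingHom.congr_fun hμν x
  · ext y
    show μ ((Ideal.Quotient.mk 𝔞 y) ⊗ₜ 1) = _
    rw [hμ1]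
    rfl
  · ext β
    show μ (1 ⊗ₜ β) = _
    rw [hμ2]
    rfl

end iso

section flatbc

variable {A B E L : Type u} [CommRing A] [CommRing B] [CommRing E] [CommRing L] [Algebra A B]
  [Algebra A E]

/-- Flat base change at a point: if `B` is `A`-flat at `q₁` and `E ⊗[A] B → L` is flat and inverts
the complement of `q₁`, then `L` is `E`-flat. -/
theorem flat_comp_algebraMap_of_flat_atPrime (lam : E ⊗[A] B →+* L) (hlam : lam.Flat)
    (q₁ : Ideal B) [q₁.IsPrime]
    (hunits : ∀ β : B, β ∉ q₁ → IsUnit (lam ((1 : E) ⊗ₜ[A] β)))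
    (hflat : ((algebraMap B (Localization.AtPrime q₁)).comp (algebraMap A B)).Flat) :
    (lam.comp (algebraMap E (E ⊗[A] B))).Flat := by
  have hN : Module.Flat A (Localization.AtPrime q₁) := by
    rw [← IsScalarTower.algebraMap_eq] at hflat
    exact RingHom.flat_algebraMap_iff.mp hflat
  letI algWG : Algebra (E ⊗[A] B) (E ⊗[A] Localization.AtPrime q₁) :=
    (Algebra.TensorProduct.map (AlgHom.id E E)
      (IsScalarTower.toAlgHom A B (Localization.AtPrime q₁))).toRingHom.toAlgebra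
  have halg : ∀ (e : E) (β : B), algebraMap (E ⊗[A] B) (E ⊗[A] Localization.AtPrime q₁) (e ⊗ₜ β) =
      e ⊗ₜ algebraMap B (Localization.AtPrime q₁) β := fun e β => rfl
  haveI : IsScalarTower E (E ⊗[A] B) (E ⊗[A] Localization.AtPrime q₁) :=
    IsScalarTower.of_algebraMap_eq (fun e => by
      rw [Algebra.TensorProduct.algebraMap_apply, Algebra.TensorProduct.algebraMap_apply, halg,
        map_one])
  have H : (algebraMap (E ⊗[A] B) (E ⊗[A] Localization.AtPrime q₁)).comp
      (Algebra.TensorProduct.includeRight : B →ₐ[A] E ⊗[A] B).toRingHom =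
      (Algebra.TensorProduct.includeRight :
        Localization.AtPrime q₁ →ₐ[A] E ⊗[A] Localization.AtPrime q₁).toRingHom.comp
        (algebraMap B (Localization.AtPrime q₁)) := by
    ext β
    exact halg 1 β
  haveI hloc := IsLocalization.tensorProduct_tensorProduct_right A E q₁.primeCompl
    (Localization.AtPrime q₁) H
  have hM : ∀ y : (q₁.primeCompl.map
      (Algebra.TensorProduct.includeRight : B →ₐ[A] E ⊗[A] B)), IsUnit (lam y) := by
    rintro ⟨_, β, hβ, rfl⟩
    exact hunits β hβ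
  let lam' : E ⊗[A] Localization.AtPrime q₁ →+* L := IsLocalization.lift hM
  have hlam' : lam'.comp (algebraMap (E ⊗[A] B) (E ⊗[A] Localization.AtPrime q₁)) = lam :=
    IsLocalization.lift_comp hM
  have hlam'f : lam'.Flat := by
    apply flat_of_comp_isLocalization (q₁.primeCompl.map
      (Algebra.TensorProduct.includeRight : B →ₐ[A] E ⊗[A] B))
    rw [hlam']
    exact hlam
  have e : lam.comp (algebraMap E (E ⊗[A] B)) =
      lam'.comp (algebraMap E (E ⊗[A] Localization.AtPrime q₁)) := by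
    rw [← hlam', RingHom.comp_assoc, ← IsScalarTower.algebraMap_eq]
  rw [e]
  exact RingHom.Flat.comp (RingHom.flat_algebraMap_iff.mpr inferInstance) hlam'f

end flatbc

section key

variable (A : Type u) [CommRing A] (I : Ideal A)
  (B : Type u) [CommRing B] [Algebra A B] [IsNoetherianRing B]
  [IsAdicComplete (I.map (algebraMap A B)) B]
  (C : Type u) [CommRing C] [Algebra A C]
  (X : Type u) [CommRing X] [IsNoetherianRing X] (c : C →+* X) (b : B →+* X)
  (H : IsCTensor I (algebraMap A C) (algebraMap A B) c b)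
  (hIX : I.map (c.comp (algebraMap A C)) ≤ Ideal.jacobson ⊥)
  (Q : Ideal X) [Q.IsPrime]
  (hflat : ((algebraMap B (Localization.AtPrime (Q.comap b))).comp (algebraMap A B)).Flat)
  (𝔞 : Ideal C) [Module.Finite A (C ⧸ 𝔞)]

include H hIX hflat in
theorem flat_quotientMap_atPrime :
    (Ideal.quotientMap (𝔞.map ((algebraMap X (Localization.AtPrime Q)).comp c))
      ((algebraMap X (Localization.AtPrime Q)).comp c) Ideal.le_comap_map).Flat := by
  obtain ⟨μ, hμbij, hμ1, hμ2⟩ := exists_tensor_quot_iso A I B C X c b H hIX 𝔞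
  have hg : (algebraMap (X ⧸ 𝔞.map c) (Localization.AtPrime Q ⧸
      (𝔞.map c).map (algebraMap X (Localization.AtPrime Q)))).Flat := by
    rw [RingHom.flat_algebraMap_iff]
    exact Module.Flat.of_linearEquiv (Algebra.TensorProduct.quotIdealMapEquivQuotTensor
      (Localization.AtPrime Q) (𝔞.map c)).toLinearEquiv
  have hideal : (𝔞.map c).map (algebraMap X (Localization.AtPrime Q)) =
      𝔞.map ((algebraMap X (Localization.AtPrime Q)).comp c) := Ideal.map_map _ _
  let e' : (Localization.AtPrime Q ⧸ (𝔞.map c).map (algebraMap X (Localization.AtPrime Q))) ≃+*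
      (Localization.AtPrime Q ⧸ 𝔞.map ((algebraMap X (Localization.AtPrime Q)).comp c)) :=
    Ideal.quotEquivOfEq hideal
  have hθ : Ideal.quotientMap (𝔞.map ((algebraMap X (Localization.AtPrime Q)).comp c))
      ((algebraMap X (Localization.AtPrime Q)).comp c) Ideal.le_comap_map =
      (e' : _ →+* _).comp ((algebraMap (X ⧸ 𝔞.map c) (Localization.AtPrime Q ⧸
        (𝔞.map c).map (algebraMap X (Localization.AtPrime Q)))).comp
        (Ideal.quotientMap (𝔞.map c) c Ideal.le_comap_map)) := by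
    ext y
    rfl
  rw [hθ]
  refine RingHom.Flat.comp ?_ (RingHom.Flat.of_bijective e'.bijective)
  rw [← hμ1, ← RingHom.comp_assoc]
  refine flat_comp_algebraMap_of_flat_atPrime _ (RingHom.Flat.comp
    (RingHom.Flat.of_bijective hμbij) hg) (Q.comap b) ?_ hflat
  intro β hβ
  have h1 : μ ((1 : C ⧸ 𝔞) ⊗ₜ[A] β) = Ideal.Quotient.mk (𝔞.map c) (b β) :=
    RingHom.congr_fun hμ2 β
  rw [RingHom.comp_apply, h1]
  have h2 : IsUnit (algebraMap X (Localization.AtPrime Q) (b β)) :=
    IsLocalization.map_units (Localization.AtPrime Q) (⟨b β, hβ⟩ : Q.primeCompl)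
  exact h2.map (Ideal.Quotient.mk _)

end key

section core

theorem finite_quot_pow (A : Type u) [CommRing A] (C : Type u) [CommRing C] [Algebra A C]
    [IsNoetherianRing C] (p : Ideal C) [Module.Finite A (C ⧸ p)] (n : ℕ) :
    Module.Finite A (C ⧸ p ^ (n + 1)) := by
  have hle : p ^ (n + 1) ≤ p := Ideal.pow_le_self (Nat.succ_ne_zero n)
  refine Module.finite_of_surjective_of_ker_le_nilradical (Ideal.Quotient.factorₐ A hle)
    (Ideal.Quotient.factor_surjective hle) ?_ (IsNoetherian.noetherian _)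
  intro x hx
  have hx' : x ∈ RingHom.ker (Ideal.Quotient.factor hle) := hx
  rw [Ideal.Quotient.factor_ker] at hx'
  obtain ⟨y, hy, rfl⟩ := (Ideal.mem_map_iff_of_surjective _ Ideal.Quotient.mk_surjective).mp hx'
  rw [mem_nilradical]
  refine ⟨n + 1, ?_⟩
  rw [← map_pow, Ideal.Quotient.eq_zero_iff_mem]
  exact Ideal.pow_mem_pow hy _

variable (A : Type u) [CommRing A] (I : Ideal A)
  (B : Type u) [CommRing B] [Algebra A B] [IsNoetherianRing B]
  [IsAdicComplete (I.map (algebraMap A B)) B]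
  (C : Type u) [CommRing C] [Algebra A C] [IsNoetherianRing C]
  (X : Type u) [CommRing X] [IsNoetherianRing X] (c : C →+* X) (b : B →+* X)
  (H : IsCTensor I (algebraMap A C) (algebraMap A B) c b)
  (hIX : I.map (c.comp (algebraMap A C)) ≤ Ideal.jacobson ⊥)
  (Q : Ideal X) [Q.IsPrime]
  (hflat : ((algebraMap B (Localization.AtPrime (Q.comap b))).comp (algebraMap A B)).Flat)
  (hfin : Module.Finite A (C ⧸ Q.comap c))

include H hIX hflat hfin in
/-- **Flatness of the completed tensor product over one factor at a point** whose residue ring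
over that factor is finite over the base, given flatness of the other factor over the base. -/
theorem flat_atPrime_of_isCTensor : ((algebraMap X (Localization.AtPrime Q)).comp c).Flat := by
  letI : Algebra C (Localization.AtPrime Q) :=
    ((algebraMap X (Localization.AtPrime Q)).comp c).toAlgebra
  show Module.Flat C (Localization.AtPrime Q)
  have hpS : (Q.comap c).map (algebraMap C (Localization.AtPrime Q)) ≤ Ideal.jacobson ⊥ := by
    rw [IsLocalRing.jacobson_eq_maximalIdeal ⊥ bot_ne_top,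
      ← Localization.AtPrime.map_eq_maximalIdeal (I := Q)]
    show (Q.comap c).map ((algebraMap X (Localization.AtPrime Q)).comp c) ≤ _
    rw [← Ideal.map_map]
    exact Ideal.map_mono Ideal.map_comap_le
  refine Groth.Agent.H76.LocalCritPow.flat_of_flat_mod_pow (Q.comap c) hpS
    (Localization.AtPrime Q) (fun n => ?_)
  haveI := hfin
  haveI hfin' : Module.Finite A (C ⧸ (Q.comap c) ^ (n + 1)) := finite_quot_pow A C _ n
  have hθ := flat_quotientMap_atPrime A I B C X c b H hIX Q hflat ((Q.comap c) ^ (n + 1))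
  have hM : Module.Flat (C ⧸ (Q.comap c) ^ (n + 1)) (Localization.AtPrime Q ⧸
      ((Q.comap c) ^ (n + 1)).map (algebraMap C (Localization.AtPrime Q))) :=
    RingHom.flat_algebraMap_iff.mp hθ
  exact Module.Flat.of_linearEquiv (Algebra.TensorProduct.quotIdealMapEquivQuotTensor
    (Localization.AtPrime Q) ((Q.comap c) ^ (n + 1))).symm.toLinearEquiv

end core

end Groth.Agent.Lib.Helper95.Rig
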