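import Mathlib
import Groth.Agent.Lib.Helper95.RigO
import Groth.Agent.Lib.Helper95.RigR

/-!
# Base change of rig-flatness along completed tensor products: the abstract statement (helper95)
-/

set_option autoImplicit false
universe u

namespace Groth.Agent.Lib.Helper95.Rig

open Groth.Agent.Lib.Helper44

section finq

variable (A : Type u) [CommRing A] [IsNoetherianRing A] (I : Ideal A) [IsAdicComplete I A]
  (B : Type u) [CommRing B] [Algebra A B] [IsNoetherianRing B]
  [IsAdicComplete (I.map (algebraMap A B)) B]

/-- With `f` chosen as in `rigClosed_comap_cloc`, `B⟨f⟩/qB⟨f⟩` is finite over `A⟨f⟩`. -/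
theorem finite_quotient_cloc (hft : Algebra.FiniteType A (B ⧸ I.map (algebraMap A B)))
    (q : PrimeSpectrum B) (hq : Groth.Agent.Lib.Helper44.RigClosed (I.map (algebraMap A B)) q)
    (mB : Ideal B) (hmB : mB.IsMaximal) (hqm : q.asIdeal ≤ mB) (f : A)
    (hu : IsUnit (((Ideal.Quotient.mk mB).comp (algebraMap A B)) f))
    (hint : (IsLocalization.Away.lift (S := Localization.Away f) f hu).IsIntegral)
    (ψ : CLoc A I f →+* CLoc B (I.map (algebraMap A B)) (algebraMap A B f))
    (hψ : ψ.comp (algebraMap (Localization.Away f) (CLoc A I f)) =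
      (algebraMap (Localization.Away (algebraMap A B f))
        (CLoc B (I.map (algebraMap A B)) (algebraMap A B f))).comp
        (Localization.awayMap (algebraMap A B) f)) :
    ((Ideal.Quotient.mk (q.asIdeal.map
      (algebraMap B (CLoc B (I.map (algebraMap A B)) (algebraMap A B f))))).comp ψ).Finite := by
  have hfm : algebraMap A B f ∉ mB := by
    intro h
    have : ((Ideal.Quotient.mk mB).comp (algebraMap A B)) f = 0 :=
      Ideal.Quotient.eq_zero_iff_mem.mpr h
    rw [this] at hu
    haveI : Nontrivial (B ⧸ mB) := Ideal.Quotient.nontrivial_iff.mpr hmB.ne_top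
    exact not_isUnit_zero hu
  have hunitq : IsUnit (Ideal.Quotient.mk q.asIdeal (algebraMap A B f)) :=
    isUnit_mk_of_notMem_maximal _ q hq mB hmB hqm _ hfm
  haveI hNB : IsNoetherianRing (CLoc B (I.map (algebraMap A B)) (algebraMap A B f)) :=
    isNoetherianRing_cloc B _ _
  haveI hNA : IsNoetherianRing (CLoc A I f) := isNoetherianRing_cloc A I f
  haveI hCA : IsAdicComplete (I.map (algebraMap A (CLoc A I f))) (CLoc A I f) :=
    isAdicComplete_cloc A I f
  have hCB : IsAdicComplete ((I.map (algebraMap A B)).map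
      (algebraMap B (CLoc B (I.map (algebraMap A B)) (algebraMap A B f))))
      (CLoc B (I.map (algebraMap A B)) (algebraMap A B f)) := isAdicComplete_cloc B _ _
  haveI hqprime : q.asIdeal.IsPrime := q.isPrime
  have hq'prime := isPrime_map_completedLocalization B (I.map (algebraMap A B)) q.asIdeal
    (algebraMap A B f) hunitq
  have hbij := quotientMap_completedLocalization_bijective B (I.map (algebraMap A B)) q.asIdeal
    (algebraMap A B f) hunitq
  have hcomp := comp_algebraMap_cloc A I B f ψ hψ
  let _ : Algebra (CLoc A I f) (CLoc B (I.map (algebraMap A B)) (algebraMap A B f)) := ψ.toAlgebra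
  have hIeq : (I.map (algebraMap A (CLoc A I f))).map
      (algebraMap (CLoc A I f) (CLoc B (I.map (algebraMap A B)) (algebraMap A B f))) =
      (I.map (algebraMap A B)).map
        (algebraMap B (CLoc B (I.map (algebraMap A B)) (algebraMap A B f))) := by
    show (I.map (algebraMap A (CLoc A I f))).map ψ = _
    rw [Ideal.map_map (algebraMap A (CLoc A I f)) ψ, hcomp]
    exact (Ideal.map_map _ _).symm
  haveI : IsAdicComplete ((I.map (algebraMap A (CLoc A I f))).map
      (algebraMap (CLoc A I f) (CLoc B (I.map (algebraMap A B)) (algebraMap A B f))))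
      (CLoc B (I.map (algebraMap A B)) (algebraMap A B f)) := by
    rw [hIeq]; exact hCB
  let q' : PrimeSpectrum (CLoc B (I.map (algebraMap A B)) (algebraMap A B f)) :=
    ⟨q.asIdeal.map (algebraMap B (CLoc B (I.map (algebraMap A B)) (algebraMap A B f))), hq'prime⟩
  have hq'rig : Groth.Agent.Lib.Helper44.RigClosed ((I.map (algebraMap A (CLoc A I f))).map
      (algebraMap (CLoc A I f) (CLoc B (I.map (algebraMap A B)) (algebraMap A B f)))) q' := by
    rw [rigClosed_iff_dim]
    constructor
    · have e := RingEquiv.ofBijective _ hbij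
      rw [← ringKrullDim_eq_of_ringEquiv e]
      exact ((rigClosed_iff_dim _ q).mp hq).1
    · rw [hIeq]
      intro hle
      apply hq.1
      intro b hb
      have h1 : algebraMap B (CLoc B (I.map (algebraMap A B)) (algebraMap A B f)) b ∈
          q'.asIdeal := hle (Ideal.mem_map_of_mem _ hb)
      have h2 : Ideal.quotientMap (q.asIdeal.map (algebraMap B
          (CLoc B (I.map (algebraMap A B)) (algebraMap A B f)))) (algebraMap B _)
          Ideal.le_comap_map (Ideal.Quotient.mk q.asIdeal b) = 0 := by
        rw [Ideal.quotientMap_mk]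
        exact Ideal.Quotient.eq_zero_iff_mem.mpr h1
      have h3 := hbij.1 (h2.trans (map_zero _).symm)
      exact Ideal.Quotient.eq_zero_iff_mem.mp h3
  have hfin : Module.Finite (CLoc A I f)
      (CLoc B (I.map (algebraMap A B)) (algebraMap A B f) ⧸ q'.asIdeal) := by
    refine finite_quotient_of_finite_residue _ q' hq'rig ?_
    intro m hm hq'm
    have := finite_residue_cloc A I B hft q hq mB hmB hqm f hu hint ψ hψ hunitq m hm hq'm
    exact RingHom.finite_algebraMap.mp this
  exact RingHom.finite_algebraMap.mpr hfin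

end finq

section basechange

variable {A A₁ C B X : Type u} [CommRing A] [CommRing A₁] [CommRing C] [CommRing B] [CommRing X]

/-- Change of the base ring in `IsCTensor`. -/
theorem IsCTensor.base_change {I : Ideal A} (ι : A →+* A₁) {α : A₁ →+* C} {ψ₁ : A₁ →+* B}
    {c : C →+* X} {b : B →+* X} (H : IsCTensor I (α.comp ι) (ψ₁.comp ι) c b)
    (hsq : c.comp α = b.comp ψ₁) : IsCTensor (I.map ι) α ψ₁ c b := by
  obtain ⟨h1, h2, h3⟩ := H
  refine ⟨hsq, ?_, ?_⟩
  · intro W _ γ β hW hγβ
    have hW' : IsAdicComplete (I.map (γ.comp (α.comp ι))) W := by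
      rw [← RingHom.comp_assoc, ← Ideal.map_map]
      exact hW
    exact h2 W γ β hW' (by rw [← RingHom.comp_assoc, hγβ, RingHom.comp_assoc])
  · intro W _ ν ν' hW hcc hbb
    have hW' : IsHausdorff (I.map (ν.comp (c.comp (α.comp ι)))) W := by
      have e : ν.comp (c.comp (α.comp ι)) = (ν.comp (c.comp α)).comp ι := rfl
      rw [e, ← Ideal.map_map]
      exact hW
    exact h3 W ν ν' hW' hcc hbb

end basechange

section main

theorem finite_of_comp_injective {R S T : Type*} [CommRing R] [IsNoetherianRing R] [CommRing S]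
    [CommRing T] (g : R →+* S) (j : S →+* T) (hj : Function.Injective j)
    (h : (j.comp g).Finite) : g.Finite := by
  letI := g.toAlgebra
  letI := (j.comp g).toAlgebra
  letI := j.toAlgebra
  haveI : IsScalarTower R S T := IsScalarTower.of_algebraMap_eq (fun _ => rfl)
  haveI : Module.Finite R T := h
  haveI : IsNoetherian R T := isNoetherian_of_isNoetherianRing_of_finite R T
  exact Module.Finite.of_injective (IsScalarTower.toAlgHom R S T).toLinearMap hj

variable (A : Type u) [CommRing A] [IsNoetherianRing A] (I : Ideal A) [IsAdicComplete I A]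
  (B : Type u) [CommRing B] [Algebra A B] [IsNoetherianRing B]
  [IsAdicComplete (I.map (algebraMap A B)) B]
  (C : Type u) [CommRing C] [Algebra A C] [IsNoetherianRing C]
  (X : Type u) [CommRing X] [Algebra A X] [IsNoetherianRing X]
  [IsAdicComplete (I.map (algebraMap A X)) X]

/-- **Base change of rig-flatness** (abstract form): if `X` is a completed tensor product of `C`
and `B` over `A` and `A → B` is rig-flat, then `X` is flat over `C` at all rig-closed primes. -/
theorem flat_atPrime_of_baseChange
    (hftX : Algebra.FiniteType A (X ⧸ I.map (algebraMap A X)))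
    (c : C →+* X) (hc : c.comp (algebraMap A C) = algebraMap A X)
    (b : B →+* X) (hb : b.comp (algebraMap A B) = algebraMap A X)
    (H : IsCTensor I (algebraMap A C) (algebraMap A B) c b)
    (hAB : ∀ f : A, RigFlatAt (I.map (algebraMap A (Localization.Away f)))
      ((I.map (algebraMap A B)).map (algebraMap B (Localization.Away (algebraMap A B f))))
      (Localization.awayMap (algebraMap A B) f))
    (q : PrimeSpectrum X) (hq : Groth.Agent.Lib.Helper44.RigClosed (I.map (algebraMap A X)) q) :
    ((algebraMap X (Localization.AtPrime q.asIdeal)).comp c).Flat := by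
  haveI hqprime : q.asIdeal.IsPrime := q.isPrime
  obtain ⟨mX, hmX, hqm⟩ := Ideal.exists_le_maximal q.asIdeal hqprime.ne_top
  letI := Ideal.Quotient.field mX
  have hIXm : I.map (algebraMap A X) ≤ mX :=
    Groth.Agent.Lib.Helper44.le_of_isMaximal_of_isAdicComplete _ mX hmX
  have hft' : Algebra.FiniteType A (X ⧸ mX) :=
    Algebra.FiniteType.of_surjective (Ideal.Quotient.factorₐ A hIXm)
      (Ideal.Quotient.factor_surjective hIXm)
  have hφ : ((Ideal.Quotient.mk mX).comp (algebraMap A X)).FiniteType :=
    RingHom.finiteType_algebraMap.mpr hft'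
  obtain ⟨f, hu, hint⟩ := exists_away_isIntegral ((Ideal.Quotient.mk mX).comp (algebraMap A X)) hφ
  -- Noetherianity and completeness of the completed localizations
  haveI : IsNoetherianRing (CLoc A I f) := isNoetherianRing_cloc A I f
  haveI : IsNoetherianRing (CLoc B (I.map (algebraMap A B)) (algebraMap A B f)) :=
    isNoetherianRing_cloc B _ _
  haveI : IsNoetherianRing (CLoc C (I.map (algebraMap A C)) (algebraMap A C f)) :=
    isNoetherianRing_cloc C _ _
  haveI : IsNoetherianRing (CLoc X (I.map (algebraMap A X)) (algebraMap A X f)) :=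
    isNoetherianRing_cloc X _ _
  haveI : IsNoetherianRing (Localization.Away (algebraMap A B f)) := isNoetherianRing_away B _
  haveI hCX : IsAdicComplete ((I.map (algebraMap A X)).map
      (algebraMap X (CLoc X (I.map (algebraMap A X)) (algebraMap A X f))))
      (CLoc X (I.map (algebraMap A X)) (algebraMap A X f)) := isAdicComplete_cloc X _ _
  -- the maps
  obtain ⟨ψ₁, hψ₁, -⟩ := exists_cloc_map I (I.map (algebraMap A B)) (algebraMap A B) le_rfl f
    (algebraMap A B f) rfl
  obtain ⟨α, hα, -⟩ := exists_cloc_map I (I.map (algebraMap A C)) (algebraMap A C) le_rfl f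
    (algebraMap A C f) rfl
  obtain ⟨β, hβ, -⟩ := exists_cloc_map (I.map (algebraMap A B)) (I.map (algebraMap A X))
    b (by rw [Ideal.map_map, hb]) (algebraMap A B f) (algebraMap A X f) (RingHom.congr_fun hb f)
  obtain ⟨ψ₂, hψ₂, -⟩ := exists_cloc_map (I.map (algebraMap A C)) (I.map (algebraMap A X))
    c (by rw [Ideal.map_map, hc]) (algebraMap A C f) (algebraMap A X f) (RingHom.congr_fun hc f)
  have hχC : (algebraMap C (CLoc C (I.map (algebraMap A C)) (algebraMap A C f))).Flat :=
    RingHom.flat_algebraMap_iff.mpr (flat_cloc C _ _)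
  have hχX : (algebraMap X (CLoc X (I.map (algebraMap A X)) (algebraMap A X f))).Flat :=
    RingHom.flat_algebraMap_iff.mpr (flat_cloc X _ _)
  -- the squares
  have e1 : (β.comp ψ₁).comp (algebraMap A (CLoc A I f)) =
      (algebraMap X (CLoc X (I.map (algebraMap A X)) (algebraMap A X f))).comp
        (algebraMap A X) := by
    rw [RingHom.comp_assoc, hψ₁, ← RingHom.comp_assoc, hβ, RingHom.comp_assoc, hb]
  have e2 : (ψ₂.comp α).comp (algebraMap A (CLoc A I f)) =
      (algebraMap X (CLoc X (I.map (algebraMap A X)) (algebraMap A X f))).comp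
        (algebraMap A X) := by
    rw [RingHom.comp_assoc, hα, ← RingHom.comp_assoc, hψ₂, RingHom.comp_assoc, hc]
  have hsq1 : β.comp ψ₁ = ψ₂.comp α := by
    refine cloc_ringHom_ext I f ((I.map (algebraMap A X)).map
      (algebraMap X (CLoc X (I.map (algebraMap A X)) (algebraMap A X f)))) _ _
      (e1.trans e2.symm) ?_
    rw [e1]
    exact (Ideal.map_map (algebraMap A X) _).symm.le
  -- the prime `Q`
  have hψ₁₂ := comp_away_cloc_of_comp_algebraMap A I X f (β.comp ψ₁) e1
  have hrc := rigClosed_comap_cloc A I X hftX q hq mX hmX hqm f hu hint (β.comp ψ₁) hψ₁₂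
  have hfinX := finite_quotient_cloc A I X hftX q hq mX hmX hqm f hu hint (β.comp ψ₁) hψ₁₂
  obtain ⟨hxu, -, hrc1, -⟩ := hrc
  haveI hQ : (q.asIdeal.map
      (algebraMap X (CLoc X (I.map (algebraMap A X)) (algebraMap A X f)))).IsPrime :=
    isPrime_map_cloc X (I.map (algebraMap A X)) q.asIdeal (algebraMap A X f) hxu
  have hQc := comap_map_cloc X (I.map (algebraMap A X)) q.asIdeal (algebraMap A X f) hxu
  set Q := q.asIdeal.map
      (algebraMap X (CLoc X (I.map (algebraMap A X)) (algebraMap A X f))) with hQdef
  -- flatness of `B⟨f⟩` over `A⟨f⟩` at `Q ∩ B⟨f⟩`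
  have hψ₁' := comp_away_cloc_of_comp_algebraMap A I B f ψ₁ hψ₁
  have hnot : ¬ ((I.map (algebraMap A B)).map
      (algebraMap B (Localization.Away (algebraMap A B f)))).map
      (algebraMap (Localization.Away (algebraMap A B f))
        (CLoc B (I.map (algebraMap A B)) (algebraMap A B f))) ≤ Q.comap β := by
    intro hle
    apply hrc1
    rw [Ideal.map_le_iff_le_comap]
    intro a ha
    rw [Ideal.mem_comap, Ideal.mem_comap, ← RingHom.comp_apply, e1, ← e1, RingHom.comp_apply,
      RingHom.comp_apply]
    have h3 : ψ₁ (algebraMap A (CLoc A I f) a) =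
        algebraMap B (CLoc B (I.map (algebraMap A B)) (algebraMap A B f)) (algebraMap A B a) :=
      RingHom.congr_fun hψ₁ a
    rw [h3]
    apply hle
    rw [← map_cloc]
    exact Ideal.mem_map_of_mem _ (Ideal.mem_map_of_mem _ ha)
  have h1 : ((algebraMap (CLoc B (I.map (algebraMap A B)) (algebraMap A B f))
      (Localization.AtPrime (Q.comap β))).comp ψ₁).Flat :=
    (hAB f).flat_atPrime ψ₁ hψ₁' (Q.comap β) hnot
  -- the completed tensor product structure over `A⟨f⟩`
  have H1 := H.cloc_left (I.map (algebraMap A C)) rfl (I.map (algebraMap A X)) (by rw [hc])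
    (algebraMap A C f) (algebraMap A X f) (RingHom.congr_fun hc f) ψ₂ hψ₂
  have H2 := H1.enlarge_right (I.map (algebraMap A B)) rfl (algebraMap A B f) β hβ
  rw [← hα, ← hψ₁] at H2
  have H3 := IsCTensor.base_change (algebraMap A (CLoc A I f)) H2 hsq1.symm
  -- algebra structures over `A⟨f⟩`
  letI : Algebra (CLoc A I f) (CLoc B (I.map (algebraMap A B)) (algebraMap A B f)) :=
    ψ₁.toAlgebra
  letI : Algebra (CLoc A I f) (CLoc C (I.map (algebraMap A C)) (algebraMap A C f)) :=
    α.toAlgebra
  haveI : IsAdicComplete ((I.map (algebraMap A (CLoc A I f))).map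
      (algebraMap (CLoc A I f) (CLoc B (I.map (algebraMap A B)) (algebraMap A B f))))
      (CLoc B (I.map (algebraMap A B)) (algebraMap A B f)) := by
    have : (I.map (algebraMap A (CLoc A I f))).map
        (algebraMap (CLoc A I f) (CLoc B (I.map (algebraMap A B)) (algebraMap A B f))) =
        (I.map (algebraMap A B)).map
          (algebraMap B (CLoc B (I.map (algebraMap A B)) (algebraMap A B f))) := by
      show (I.map (algebraMap A (CLoc A I f))).map ψ₁ = _
      rw [Ideal.map_map (algebraMap A (CLoc A I f)) ψ₁, hψ₁]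
      exact (Ideal.map_map (algebraMap A B) _).symm
    rw [this]
    exact isAdicComplete_cloc B _ _
  have hIX₂ : (I.map (algebraMap A (CLoc A I f))).map (ψ₂.comp
      (algebraMap (CLoc A I f) (CLoc C (I.map (algebraMap A C)) (algebraMap A C f)))) ≤
      Ideal.jacobson ⊥ := by
    show (I.map (algebraMap A (CLoc A I f))).map (ψ₂.comp α) ≤ _
    rw [Ideal.map_map (algebraMap A (CLoc A I f)) (ψ₂.comp α), e2]
    rw [← Ideal.map_map (algebraMap A X)]
    exact IsAdicComplete.le_jacobson_bot _
  have hfin : Module.Finite (CLoc A I f)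
      (CLoc C (I.map (algebraMap A C)) (algebraMap A C f) ⧸ Q.comap ψ₂) := by
    rw [hsq1] at hfinX
    have hj : (Ideal.Quotient.mk Q).comp (ψ₂.comp α) =
        (Ideal.quotientMap Q ψ₂ le_rfl).comp ((Ideal.Quotient.mk (Q.comap ψ₂)).comp α) := by
      ext x
      rfl
    rw [hj] at hfinX
    have := finite_of_comp_injective _ _ (Ideal.quotientMap_injective' (le_refl _)) hfinX
    exact RingHom.finite_algebraMap.mp this
  have hcore := flat_atPrime_of_isCTensor (CLoc A I f) (I.map (algebraMap A (CLoc A I f)))
    (CLoc B (I.map (algebraMap A B)) (algebraMap A B f))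
    (CLoc C (I.map (algebraMap A C)) (algebraMap A C f))
    (CLoc X (I.map (algebraMap A X)) (algebraMap A X f)) ψ₂ β H3 hIX₂ Q h1 hfin
  -- descent
  have h5 : ((algebraMap (CLoc X (I.map (algebraMap A X)) (algebraMap A X f))
      (Localization.AtPrime Q)).comp
      ((algebraMap X (CLoc X (I.map (algebraMap A X)) (algebraMap A X f))).comp c)).Flat := by
    rw [← hψ₂, ← RingHom.comp_assoc]
    exact RingHom.Flat.comp hχC hcore
  have h6 := flat_atPrime_descent c
    (algebraMap X (CLoc X (I.map (algebraMap A X)) (algebraMap A X f))) hχX Q h5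
  exact flat_atPrime_congr c _ _ hQc h6

end main

end Groth.Agent.Lib.Helper95.Rig
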