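import Mathlib
import Groth.Agent.Lib.Helper95.RigS

/-!
# Base change of rig-flatness along `C → B ⊗̂_A C` (helper95)
-/

set_option autoImplicit false
universe u

namespace Groth.Agent.Lib.Helper95.Rig

open TensorProduct

section

variable (A : Type u) [CommRing A] [IsNoetherianRing A] (I : Ideal A) [IsAdicComplete I A]
  (B : Type u) [CommRing B] [Algebra A B] [IsNoetherianRing B]
  [IsAdicComplete (I.map (algebraMap A B)) B]
  (hftB : Algebra.FiniteType A (B ⧸ I.map (algebraMap A B)))
  (hAB : ∀ f : A, RigFlatAt (I.map (algebraMap A (Localization.Away f)))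
      ((I.map (algebraMap A B)).map (algebraMap B (Localization.Away (algebraMap A B f))))
      (Localization.awayMap (algebraMap A B) f))
  (C : Type u) [CommRing C] [Algebra A C] [IsNoetherianRing C]
  [IsAdicComplete (I.map (algebraMap A C)) C]
  (hftC : Algebra.FiniteType A (C ⧸ I.map (algebraMap A C)))

local notation "CTens" A:max I:max C:max B:max => AdicCompletion (Ideal.map (algebraMap C (TensorProduct A C B)) (Ideal.map (algebraMap A C) I)) (TensorProduct A C B)

theorem ctensU_ideal_eq : (I.map (algebraMap A C)).map (algebraMap C (TensorProduct A C B)) =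
    I.map (algebraMap A (TensorProduct A C B)) := by
  rw [Ideal.map_map, ← IsScalarTower.algebraMap_eq]

theorem ctensU_map_eq : (I.map (algebraMap A C)).map (algebraMap C (CTens A I C B)) =
    ((I.map (algebraMap A C)).map (algebraMap C (TensorProduct A C B))).map
      (algebraMap (TensorProduct A C B) (CTens A I C B)) := by
  rw [Ideal.map_map (algebraMap C (TensorProduct A C B))
    (algebraMap (TensorProduct A C B) (CTens A I C B)), ← IsScalarTower.algebraMap_eq]

theorem ctensU_map_eq' : I.map (algebraMap A (CTens A I C B)) =
    (I.map (algebraMap A C)).map (algebraMap C (CTens A I C B)) := by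
  rw [Ideal.map_map (algebraMap A C) (algebraMap C (CTens A I C B)),
    ← IsScalarTower.algebraMap_eq]

include hftB hftC in
theorem isNoetherianRing_ctensU : IsNoetherianRing (CTens A I C B) :=
  isNoetherianRing_ctensor A I C B _ (ctensU_ideal_eq A I B C) hftC hftB

theorem isAdicComplete_ctensU :
    IsAdicComplete ((I.map (algebraMap A C)).map (algebraMap C (CTens A I C B)))
      (CTens A I C B) := by
  rw [ctensU_map_eq]
  exact isAdicComplete_ctensor A I C B _ (ctensU_ideal_eq A I B C)

include hftB hftC in
theorem finiteType_ctensU : ((Ideal.Quotient.mk ((I.map (algebraMap A C)).map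
    (algebraMap C (CTens A I C B)))).comp (algebraMap A (CTens A I C B))).FiniteType := by
  have h := finiteType_ctensor_quot A I C B _ (ctensU_ideal_eq A I B C) hftC hftB
  rw [← ctensU_map_eq] at h
  exact RingHom.finiteType_algebraMap.mpr h

include hftB hftC hAB in
/-- **Base change of rig-flatness**, concrete form: `C⟨h⟩ → (B ⊗̂_A C)⟨h⟩` is flat at rig-closed
primes. -/
theorem flat_atPrime_ctensU_cloc (h : C)
    (ψh : CLoc C (I.map (algebraMap A C)) h →+*
      CLoc (CTens A I C B) ((I.map (algebraMap A C)).map (algebraMap C (CTens A I C B)))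
        (algebraMap C (CTens A I C B) h))
    (hψh : ψh.comp (algebraMap (Localization.Away h) (CLoc C (I.map (algebraMap A C)) h)) =
      (algebraMap (Localization.Away (algebraMap C (CTens A I C B) h))
        (CLoc (CTens A I C B) ((I.map (algebraMap A C)).map (algebraMap C (CTens A I C B)))
          (algebraMap C (CTens A I C B) h))).comp
        (Localization.awayMap (algebraMap C (CTens A I C B)) h))
    (qh : PrimeSpectrum (CLoc (CTens A I C B)
      ((I.map (algebraMap A C)).map (algebraMap C (CTens A I C B)))
      (algebraMap C (CTens A I C B) h)))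
    (hqh : Groth.Agent.Lib.Helper44.RigClosed
      (((I.map (algebraMap A C)).map (algebraMap C (CTens A I C B))).map
        (algebraMap (CTens A I C B) (CLoc (CTens A I C B)
          ((I.map (algebraMap A C)).map (algebraMap C (CTens A I C B)))
          (algebraMap C (CTens A I C B) h)))) qh) :
    ((algebraMap (CLoc (CTens A I C B)
      ((I.map (algebraMap A C)).map (algebraMap C (CTens A I C B)))
      (algebraMap C (CTens A I C B) h)) (Localization.AtPrime qh.asIdeal)).comp ψh).Flat := by
  haveI hND := isNoetherianRing_ctensU A I B hftB C hftC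
  haveI hCD := isAdicComplete_ctensU A I B C
  haveI hNC₁ : IsNoetherianRing (CLoc C (I.map (algebraMap A C)) h) := isNoetherianRing_cloc C _ _
  haveI hNX : IsNoetherianRing (CLoc (CTens A I C B)
      ((I.map (algebraMap A C)).map (algebraMap C (CTens A I C B)))
      (algebraMap C (CTens A I C B) h)) := isNoetherianRing_cloc _ _ _
  -- structure maps
  have hAX : algebraMap A (CLoc (CTens A I C B)
      ((I.map (algebraMap A C)).map (algebraMap C (CTens A I C B)))
      (algebraMap C (CTens A I C B) h)) =
      (algebraMap (CTens A I C B) (CLoc (CTens A I C B)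
        ((I.map (algebraMap A C)).map (algebraMap C (CTens A I C B)))
        (algebraMap C (CTens A I C B) h))).comp (algebraMap A (CTens A I C B)) :=
    IsScalarTower.algebraMap_eq A (CTens A I C B) _
  have hAD : algebraMap A (CTens A I C B) =
      (algebraMap C (CTens A I C B)).comp (algebraMap A C) :=
    IsScalarTower.algebraMap_eq A C (CTens A I C B)
  have hAC₁ : algebraMap A (CLoc C (I.map (algebraMap A C)) h) =
      (algebraMap C (CLoc C (I.map (algebraMap A C)) h)).comp (algebraMap A C) :=
    IsScalarTower.algebraMap_eq A C _
  have hIX : I.map (algebraMap A (CLoc (CTens A I C B)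
      ((I.map (algebraMap A C)).map (algebraMap C (CTens A I C B)))
      (algebraMap C (CTens A I C B) h))) =
      ((I.map (algebraMap A C)).map (algebraMap C (CTens A I C B))).map
        (algebraMap (CTens A I C B) (CLoc (CTens A I C B)
          ((I.map (algebraMap A C)).map (algebraMap C (CTens A I C B)))
          (algebraMap C (CTens A I C B) h))) := by
    rw [hAX, ← ctensU_map_eq']
    exact (Ideal.map_map (algebraMap A (CTens A I C B)) _).symm
  haveI hCX : IsAdicComplete (I.map (algebraMap A (CLoc (CTens A I C B)
      ((I.map (algebraMap A C)).map (algebraMap C (CTens A I C B)))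
      (algebraMap C (CTens A I C B) h)))) (CLoc (CTens A I C B)
      ((I.map (algebraMap A C)).map (algebraMap C (CTens A I C B)))
      (algebraMap C (CTens A I C B) h)) := by
    rw [hIX]
    exact isAdicComplete_cloc (CTens A I C B) _ _
  have hftX : Algebra.FiniteType A (CLoc (CTens A I C B)
      ((I.map (algebraMap A C)).map (algebraMap C (CTens A I C B)))
      (algebraMap C (CTens A I C B) h) ⧸ I.map (algebraMap A (CLoc (CTens A I C B)
      ((I.map (algebraMap A C)).map (algebraMap C (CTens A I C B)))
      (algebraMap C (CTens A I C B) h)))) := by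
    have h1 := finiteType_cloc_quot (CTens A I C B)
      ((I.map (algebraMap A C)).map (algebraMap C (CTens A I C B)))
      (algebraMap C (CTens A I C B) h) (algebraMap A (CTens A I C B))
      (finiteType_ctensU A I B hftB C hftC)
    rw [← hAX, ← hIX] at h1
    exact RingHom.finiteType_algebraMap.mp h1
  have hψC := comp_algebraMap_cloc C (I.map (algebraMap A C)) (CTens A I C B) h ψh hψh
  have hc : ψh.comp (algebraMap A (CLoc C (I.map (algebraMap A C)) h)) =
      algebraMap A (CLoc (CTens A I C B)
        ((I.map (algebraMap A C)).map (algebraMap C (CTens A I C B)))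
        (algebraMap C (CTens A I C B) h)) := by
    rw [hAC₁, ← RingHom.comp_assoc, hψC, RingHom.comp_assoc, ← hAD, ← hAX]
  -- the map from `B`
  have hbD : ((algebraMap (TensorProduct A C B) (CTens A I C B)).comp
      (Algebra.TensorProduct.includeRight : B →ₐ[A] TensorProduct A C B).toRingHom).comp
      (algebraMap A B) = algebraMap A (CTens A I C B) := by
    rw [RingHom.comp_assoc, ← algebraMap_tensor_eq_right]
    exact (IsScalarTower.algebraMap_eq A (TensorProduct A C B) (CTens A I C B)).symm
  have hb : ((algebraMap (CTens A I C B) (CLoc (CTens A I C B)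
      ((I.map (algebraMap A C)).map (algebraMap C (CTens A I C B)))
      (algebraMap C (CTens A I C B) h))).comp
      ((algebraMap (TensorProduct A C B) (CTens A I C B)).comp
      (Algebra.TensorProduct.includeRight : B →ₐ[A] TensorProduct A C B).toRingHom)).comp
      (algebraMap A B) = algebraMap A (CLoc (CTens A I C B)
        ((I.map (algebraMap A C)).map (algebraMap C (CTens A I C B)))
        (algebraMap C (CTens A I C B) h)) := by
    rw [RingHom.comp_assoc, hbD, ← hAX]
  -- the completed tensor product structure
  have hcD : algebraMap C (CTens A I C B) =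
      (algebraMap (TensorProduct A C B) (CTens A I C B)).comp
        (Algebra.TensorProduct.includeLeftRingHom : C →+* TensorProduct A C B) := rfl
  have H0 := isCTensor_completion (A := A) (C := C) (B := B) I (IsNoetherian.noetherian I)
    ((I.map (algebraMap A C)).map (algebraMap C (TensorProduct A C B))) (ctensU_ideal_eq A I B C)
  have H1 := H0.cloc_left (I.map (algebraMap A C)) rfl
    ((I.map (algebraMap A C)).map (algebraMap C (CTens A I C B)))
    (Ideal.map_map (algebraMap A C) (algebraMap C (CTens A I C B))) h
    (algebraMap C (CTens A I C B) h) rfl ψh hψC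
  rw [← hAC₁] at H1
  have hq : Groth.Agent.Lib.Helper44.RigClosed (I.map (algebraMap A (CLoc (CTens A I C B)
      ((I.map (algebraMap A C)).map (algebraMap C (CTens A I C B)))
      (algebraMap C (CTens A I C B) h)))) qh := by
    rw [hIX]
    exact hqh
  exact flat_atPrime_of_baseChange A I B (CLoc C (I.map (algebraMap A C)) h) _ hftX ψh hc _ hb
    H1 hAB qh hq

end

end Groth.Agent.Lib.Helper95.Rig
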