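import Mathlib

/-!
# Invariant quadratic forms on the coweight module of a root pairing

`polar_coroot_of_invariant`: if `Q` is a quadratic form on the coweight module `N` of a root
pairing over a domain of characteristic zero and `Q` is invariant under all coreflections then
`polar Q x (coroot i) = ⟨root i, x⟩ * Q (coroot i)`.
-/

set_option autoImplicit false

namespace Groth.Agent.Lib.Helper95

universe u v w x

theorem polar_coroot_of_invariant {ι : Type u} {R : Type v} {M : Type w} {N : Type x}
    [CommRing R] [IsDomain R] [CharZero R]
    [AddCommGroup M] [Module R M] [AddCommGroup N] [Module R N] (P : RootPairing ι R M N)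
    (Q : QuadraticMap R N R) (hQ : ∀ (i : ι) (y : N), Q (P.coreflection i y) = Q y)
    (i : ι) (x : N) :
    QuadraticMap.polar Q x (P.coroot i) = (P.root' i x) * Q (P.coroot i) := by
  have h2 : (2 : R) ≠ 0 := two_ne_zero
  have hpol : ∀ (x y : N),
      QuadraticMap.polar Q (P.coreflection i x) (P.coreflection i y) = QuadraticMap.polar Q x y := by
    intro x y
    simp only [QuadraticMap.polar, ← map_add, hQ]
  have h1 := hpol x (P.coroot i)
  rw [P.coreflection_apply_self, P.coreflection_apply, QuadraticMap.polar_neg_right,
    QuadraticMap.polar_sub_left, QuadraticMap.polar_smul_left, QuadraticMap.polar_self] at h1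
  have h3 : (2 : R) * QuadraticMap.polar Q x (P.coroot i)
      = 2 * ((P.root' i x) * Q (P.coroot i)) := by
    simp only [smul_eq_mul, nsmul_eq_mul, Nat.cast_ofNat] at h1
    linear_combination (-1 : R) * h1
  exact mul_left_cancel₀ h2 h3

/-- Two invariant quadratic forms agreeing on the coroots have the same polar pairing against
any element of the span of the coroots. -/
theorem polar_eq_of_invariant_of_mem_span {ι : Type u} {R : Type v} {M : Type w} {N : Type x}
    [CommRing R] [IsDomain R] [CharZero R]
    [AddCommGroup M] [Module R M] [AddCommGroup N] [Module R N] (P : RootPairing ι R M N)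
    (Q₁ Q₂ : QuadraticMap R N R)
    (h₁ : ∀ (i : ι) (y : N), Q₁ (P.coreflection i y) = Q₁ y)
    (h₂ : ∀ (i : ι) (y : N), Q₂ (P.coreflection i y) = Q₂ y)
    (h : ∀ i, Q₁ (P.coroot i) = Q₂ (P.coroot i))
    (x : N) {z : N} (hz : z ∈ Submodule.span R (Set.range P.coroot)) :
    QuadraticMap.polar Q₁ x z = QuadraticMap.polar Q₂ x z := by
  induction hz using Submodule.span_induction with
  | mem z hz =>
    obtain ⟨j, rfl⟩ := hz
    rw [polar_coroot_of_invariant P Q₁ h₁, polar_coroot_of_invariant P Q₂ h₂, h]
  | zero => simp
  | add a b _ _ ha hb => rw [QuadraticMap.polar_add_right, QuadraticMap.polar_add_right, ha, hb]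
  | smul c a _ ha => rw [QuadraticMap.polar_smul_right, QuadraticMap.polar_smul_right, ha]

end Groth.Agent.Lib.Helper95
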