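import Mathlib
import Groth.Agent.Lib.Helper95.SMTShape

open MvPolynomial W4bk4grassmannian

namespace Groth.Agent.Lib.Helper95.SMT

theorem sum_split_at {σ : Type*} [Fintype σ] [LinearOrder σ] (x₀ : σ) (f : σ → ℕ) :
    ∑ x, f x = ∑ x ∈ Finset.univ.filter (· < x₀), f x + f x₀ +
      ∑ x ∈ Finset.univ.filter (x₀ < ·), f x := by
  classical
  rw [← Finset.sum_filter_add_sum_filter_not Finset.univ (· < x₀) f, add_assoc]
  congr 1
  have h : Finset.univ.filter (fun x => ¬ x < x₀) = insert x₀ (Finset.univ.filter (x₀ < ·)) := by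
    ext x
    simp only [Finset.mem_filter, Finset.mem_univ, true_and, Finset.mem_insert, not_lt]
    constructor
    · intro h
      rcases eq_or_lt_of_le h with h | h
      · exact Or.inl h.symm
      · exact Or.inr h
    · rintro (h | h)
      · exact le_of_eq h.symm
      · exact h.le
  rw [h, Finset.sum_insert]
  simp

theorem wt_eq_sum {σ : Type*} [Fintype σ] (ω : σ → ℕ) (e : σ →₀ ℕ) :
    Degen.wt ω e = ∑ x, e x * ω x := by
  unfold Degen.wt
  rw [Finsupp.sum_fintype]
  intro i
  exact zero_mul _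

/-- lexicographic comparison of exponents of bounded degree is detected by a base-`B` weight. -/
theorem wt_lt_of_lex_lt {σ : Type*} [Fintype σ] [LinearOrder σ] (B : ℕ) (r : σ → ℕ)
    (hr : StrictAnti r) (e e' : σ →₀ ℕ) (hlt : toLex e < toLex e') (hdeg : (∑ x, e x) < B) :
    Degen.wt (fun x => B ^ r x) e < Degen.wt (fun x => B ^ r x) e' := by
  classical
  obtain ⟨x₀, heq, hx₀⟩ := Finsupp.Lex.lt_iff.mp hlt
  simp only [ofLex_toLex] at heq hx₀
  have hB : 0 < B := by omega
  rw [wt_eq_sum, wt_eq_sum, sum_split_at x₀, sum_split_at x₀ (fun x => e' x * B ^ r x)]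
  have h1 : ∑ x ∈ Finset.univ.filter (· < x₀), e x * B ^ r x =
      ∑ x ∈ Finset.univ.filter (· < x₀), e' x * B ^ r x := by
    refine Finset.sum_congr rfl fun x hx => ?_
    rw [heq x (Finset.mem_filter.mp hx).2]
  have h2 : (∑ x ∈ Finset.univ.filter (x₀ < ·), e x * B ^ r x) * B ≤ (∑ x, e x) * B ^ r x₀ := by
    rw [Finset.sum_mul, Finset.sum_mul]
    calc ∑ x ∈ Finset.univ.filter (x₀ < ·), e x * B ^ r x * B
        ≤ ∑ x ∈ Finset.univ.filter (x₀ < ·), e x * B ^ r x₀ := by
          refine Finset.sum_le_sum fun x hx => ?_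
          have hx' : r x < r x₀ := hr (Finset.mem_filter.mp hx).2
          rw [mul_assoc, ← pow_succ]
          exact Nat.mul_le_mul_left _ (Nat.pow_le_pow_right hB hx')
      _ ≤ ∑ x, e x * B ^ r x₀ :=
          Finset.sum_le_sum_of_subset (Finset.filter_subset _ _)
  have h3 : (∑ x ∈ Finset.univ.filter (x₀ < ·), e x * B ^ r x) < B ^ r x₀ := by
    have h4 : (∑ x, e x) * B ^ r x₀ < B * B ^ r x₀ :=
      Nat.mul_lt_mul_of_pos_right hdeg (Nat.pow_pos hB)
    have h5 := lt_of_le_of_lt h2 h4
    rw [mul_comm B] at h5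
    exact Nat.lt_of_mul_lt_mul_right h5
  have h6 : (e x₀ + 1) * B ^ r x₀ ≤ e' x₀ * B ^ r x₀ := Nat.mul_le_mul_right _ hx₀
  rw [h1]
  have h7 : (e x₀ + 1) * B ^ r x₀ = e x₀ * B ^ r x₀ + B ^ r x₀ := by ring
  omega

open MonomialOrder in
/-- if the difference of two monic polynomials of the same degree is a combination of monic
polynomials of pairwise different degrees, the degrees that occur are smaller. -/
theorem degree_lt_of_monic_sub {K : Type*} [Field K] {σ ι : Type*} (m : MonomialOrder σ)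
    (f g : MvPolynomial σ K) (hf : m.Monic f) (hg : m.Monic g) (hfg : m.degree g = m.degree f)
    (s : Finset ι) (a : ι → K) (F : ι → MvPolynomial σ K) (hF : ∀ i ∈ s, m.Monic (F i))
    (hinj : Set.InjOn (fun i => m.degree (F i)) s)
    (hrel : f - g = ∑ i ∈ s, a i • F i) (i : ι) (hi : i ∈ s) (hai : a i ≠ 0) :
    m.degree (F i) ≺[m] m.degree f := by
  classical
  set s' := s.filter (fun i => a i ≠ 0) with hs'
  have hne : s'.Nonempty := ⟨i, by simp [hs', hi, hai]⟩
  obtain ⟨i₀, hi₀, hmax⟩ := Finset.exists_max_image s' (fun i => m.toSyn (m.degree (F i))) hne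
  have hi₀s : i₀ ∈ s := (Finset.mem_filter.mp hi₀).1
  have hai₀ : a i₀ ≠ 0 := (Finset.mem_filter.mp hi₀).2
  have h1 := congrArg (coeff (m.degree (F i₀))) hrel
  rw [coeff_sum, Finset.sum_eq_single i₀] at h1
  · rw [coeff_smul, (hF i₀ hi₀s).coeff_degree, smul_eq_mul, mul_one, coeff_sub] at h1
    have hlt : m.degree (F i₀) ≺[m] m.degree f := by
      by_contra hcon
      rw [not_lt] at hcon
      rcases eq_or_lt_of_le hcon with h | h
      · have h' : m.degree f = m.degree (F i₀) := m.toSyn.injective h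
        rw [← h', hf.coeff_degree] at h1
        rw [← hfg, hg.coeff_degree, sub_self] at h1
        exact hai₀ h1.symm
      · rw [m.coeff_eq_zero_of_lt h, m.coeff_eq_zero_of_lt (by rw [hfg]; exact h), sub_self] at h1
        exact hai₀ h1.symm
    exact lt_of_le_of_lt (hmax i (by simp [hs', hi, hai])) hlt
  · intro j hj hji
    rw [coeff_smul]
    by_cases hgj : a j = 0
    · rw [hgj, zero_smul]
    · have hj' : j ∈ s' := by simp [hs', hj, hgj]
      have hle := hmax j hj'
      have hne' : m.degree (F j) ≠ m.degree (F i₀) := fun h => hji (hinj hj hi₀s h)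
      have hlt : m.degree (F j) ≺[m] m.degree (F i₀) :=
        lt_of_le_of_ne hle (fun h => hne' (m.toSyn.injective h))
      rw [m.coeff_eq_zero_of_lt hlt, smul_zero]
  · intro h; exact absurd hi₀s h

end Groth.Agent.Lib.Helper95.SMT
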