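import Mathlib
import Groth.Agent.Lib.Helper95.SMTLexWeight

open MvPolynomial W4bk4grassmannian

namespace Groth.Agent.Lib.Helper95.SMT

universe u

variable (K : Type u) [Field K] {d n : ℕ}

/-- rank of a variable: strictly antitone in the lexicographic order. -/
def zRank (d n : ℕ) (x : Lex (Fin d × Fin n)) : ℕ :=
  d * n - 1 - ((ofLex x).1.val * n + (ofLex x).2.val)

theorem zPos_lt (x : Lex (Fin d × Fin n)) : (ofLex x).1.val * n + (ofLex x).2.val < d * n := by
  have h1 := (ofLex x).1.isLt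
  have h2 := (ofLex x).2.isLt
  calc (ofLex x).1.val * n + (ofLex x).2.val < (ofLex x).1.val * n + n := by omega
    _ = ((ofLex x).1.val + 1) * n := by ring
    _ ≤ d * n := Nat.mul_le_mul_right _ h1

theorem zRank_strictAnti : StrictAnti (zRank d n) := by
  intro x y hxy
  obtain ⟨⟨t, a⟩, rfl⟩ := toLex.surjective x
  obtain ⟨⟨t', a'⟩, rfl⟩ := toLex.surjective y
  have hx := zPos_lt (toLex (t, a))
  have hy := zPos_lt (toLex (t', a'))
  unfold zRank
  simp only [ofLex_toLex] at hx hy ⊢
  rw [Prod.Lex.toLex_lt_toLex] at hxy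
  have hpos : t.val * n + a.val < t'.val * n + a'.val := by
    rcases hxy with h | ⟨h1, h2⟩
    · have h' : t.val + 1 ≤ t'.val := h
      have := Nat.mul_le_mul_right n h'
      have ha := a.isLt
      nlinarith
    · simp only at h1 h2
      have h2' : a.val < a'.val := h2
      rw [h1]
      omega
  omega

/-- the lexicographic weight of an exponent. -/
def lexW (d n : ℕ) (e : Lex (Fin d × Fin n) →₀ ℕ) : ℕ :=
  Degen.wt (fun x => (2 * d + 1) ^ zRank d n x) e

theorem lexW_add (e e' : Lex (Fin d × Fin n) →₀ ℕ) : lexW d n (e + e') = lexW d n e + lexW d n e' :=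
  Degen.wt_add _ _ _

theorem chainExpo_pairChain (p : Idx d n × Idx d n) :
    chainExpo (pairChain p).2 = expo p.1 1 + expo p.2 1 := by
  show (∑ k : Fin 2, expo (![p.1, p.2] k) 1) = _
  rw [Fin.sum_univ_two]
  rfl

theorem lexW_lt_of_lt (p p' : Idx d n × Idx d n)
    (h : toLex (chainExpo (pairChain p).2) < toLex (chainExpo (pairChain p').2)) :
    lexW d n (chainExpo (pairChain p).2) < lexW d n (chainExpo (pairChain p').2) := by
  apply wt_lt_of_lex_lt _ _ zRank_strictAnti _ _ h
  rw [← Finsupp.degree_eq_sum, degree_chainExpo]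
  show 2 * d < 2 * d + 1
  omega

variable (w : Idx d n)

/-- the Hibi (toric) weight. -/
noncomputable def hibiW (θ : Below w) : ℕ := lexW d n (expo θ.1 1)

/-- the termination weight. -/
def hibiMu (θ : Below w) : ℕ := (d * n) ^ 2 - sig θ.1 ^ 2

theorem hibiW_add (a b : Below w) :
    hibiW w a + hibiW w b = lexW d n (chainExpo (pairChain (a.1, b.1)).2) := by
  rw [chainExpo_pairChain, lexW_add]
  rfl

theorem schData_rel_mem (ω μ : Below w → ℕ) (r : IncPair w) :
    X r.1.1.1 * X r.1.2.1 - ∑ q ∈ (schData K w ω μ).S r,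
      strCoeff K r.1.1.1 r.1.2.1 (q.1.1, q.2.1) • (X q.1.1 * X q.2.1) ∈
      schubertVanishing K d n w := by
  have h := schData_rel K w ω μ r
  have hlead : (schData K w ω μ).lead r = pairMono w r.1 := rfl
  rw [hlead, aeval_XB_monomial_pairMono, one_smul] at h
  unfold Degen.Data.tail at h
  rw [map_sum] at h
  have hterm : ∀ q ∈ (schData K w ω μ).S r,
      aeval (XB K w) (monomial ((schData K w ω μ).mono q) ((schData K w ω μ).a r q)) =
      strCoeff K r.1.1.1 r.1.2.1 (q.1.1, q.2.1) •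
        Ideal.Quotient.mk (schubertVanishing K d n w) (X q.1.1 * X q.2.1) :=
    fun q _ => aeval_XB_monomial_pairMono K w q _
  rw [Finset.sum_congr rfl hterm] at h
  rw [← Ideal.Quotient.eq, h, map_sum]
  refine Finset.sum_congr rfl fun q _ => ?_
  rw [← Ideal.Quotient.mkₐ_eq_mk K, map_smul]

/-- the join–meet pair of an incomparable pair. -/
def supInfPair (r : IncPair w) : Below w × Below w := (Below.sup r.1.1 r.1.2, Below.inf r.1.1 r.1.2)

theorem supInfPair_mem [Infinite K] (hd : 0 < d) (ω μ : Below w → ℕ) (r : IncPair w) :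
    supInfPair w r ∈ (schData K w ω μ).S r := by
  rw [mem_schData_S]
  refine ⟨mem_stdPairs_sup_inf _ _, ?_⟩
  show strCoeff K r.1.1.1 r.1.2.1 (W4bk4grassmannian.sup r.1.1.1 r.1.2.1,
    W4bk4grassmannian.inf r.1.1.1 r.1.2.1) ≠ 0
  rw [strCoeff_sup_inf K hd]
  exact one_ne_zero

theorem eq_supInfPair_or [Infinite K] (hd : 0 < d) (ω μ : Below w → ℕ) (r : IncPair w)
    (q : Below w × Below w) (hq : q ∈ (schData K w ω μ).S r) :
    q = supInfPair w r ∨
      (W4bk4grassmannian.sup r.1.1.1 r.1.2.1 < q.1.1 ∧ q.2.1 < W4bk4grassmannian.inf r.1.1.1 r.1.2.1) := by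
  obtain ⟨h1, h2⟩ := (mem_schData_S K w ω μ r q).mp hq
  rcases strCoeff_shape K hd _ _ _ h1 h2 with h | h
  · left
    simp only [Prod.mk.injEq] at h
    exact Prod.ext (Subtype.ext h.1) (Subtype.ext h.2)
  · exact Or.inr h

theorem pairChain_le (a b : Below w) : ∀ k, (pairChain (a.1, b.1)).2 k ≤ w := by
  intro k
  simp only [pairChain]
  fin_cases k
  · exact a.2
  · exact b.2

theorem hibiW_lt [Infinite K] (hd : 0 < d) (ω μ : Below w → ℕ) (r : IncPair w)
    (q : Below w × Below w) (hq : q ∈ (schData K w ω μ).S r) (hne : q ≠ supInfPair w r) :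
    hibiW w q.1 + hibiW w q.2 < hibiW w r.1.1 + hibiW w r.1.2 := by
  classical
  rw [hibiW_add, hibiW_add]
  apply lexW_lt_of_lt
  rw [← MonomialOrder.lex_lt_iff]
  set q₀ := supInfPair w r with hq₀
  set F : Below w × Below w → MvPolynomial (Lex (Fin d × Fin n)) K :=
    fun q => Psi K w (chainMon K (pairChain (q.1.1, q.2.1)).2) with hF
  have hFm : ∀ q : Below w × Below w,
      (MonomialOrder.lex (σ := Lex (Fin d × Fin n))).Monic (F q) ∧
      (MonomialOrder.lex (σ := Lex (Fin d × Fin n))).degree (F q) =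
        chainExpo (pairChain (q.1.1, q.2.1)).2 :=
    fun q => Psi_chainMon_monic K w _ (pairChain_le w q.1 q.2)
  have hq₀E : chainExpo (pairChain (q₀.1.1, q₀.2.1)).2 = chainExpo (pairChain (r.1.1.1, r.1.2.1)).2 :=
    chainExpo_pairChain_sup_inf r.1.1.1 r.1.2.1
  -- the relation
  have hmem := Psi_eq_zero_of_mem K w _ (schData_rel_mem K w ω μ r)
  rw [map_sub, map_sum, ← Finset.add_sum_erase _ _ (supInfPair_mem K w hd ω μ r)] at hmem
  have ha₀ : strCoeff K r.1.1.1 r.1.2.1 ((supInfPair w r).1.1, (supInfPair w r).2.1) = 1 :=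
    strCoeff_sup_inf K hd _ _
  rw [ha₀, one_smul, ← sub_sub, sub_eq_zero] at hmem
  have hrel : F r.1 - F q₀ = ∑ q ∈ ((schData K w ω μ).S r).erase q₀,
      strCoeff K r.1.1.1 r.1.2.1 (q.1.1, q.2.1) • F q := by
    simp only [hF, chainMon_pairChain]
    rw [hmem]
    refine Finset.sum_congr rfl fun q _ => ?_
    rw [map_smul]
  have hq' : q ∈ ((schData K w ω μ).S r).erase q₀ := Finset.mem_erase.mpr ⟨hne, hq⟩
  have haq : strCoeff K r.1.1.1 r.1.2.1 (q.1.1, q.2.1) ≠ 0 :=
    ((mem_schData_S K w ω μ r q).mp hq).2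
  have key := degree_lt_of_monic_sub (MonomialOrder.lex (σ := Lex (Fin d × Fin n)))
    (F r.1) (F q₀) (hFm r.1).1 (hFm q₀).1 (by rw [(hFm r.1).2, (hFm q₀).2, hq₀E])
    (((schData K w ω μ).S r).erase q₀) (fun q => strCoeff K r.1.1.1 r.1.2.1 (q.1.1, q.2.1)) F
    (fun q _ => (hFm q).1)
    (by
      intro x hx y hy hxy
      simp only at hxy
      rw [(hFm x).2, (hFm y).2] at hxy
      have hx' := ((mem_schData_S K w ω μ r x).mp (Finset.mem_of_mem_erase hx)).1
      have hy' := ((mem_schData_S K w ω μ r y).mp (Finset.mem_of_mem_erase hy)).1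
      have h1 := sigma_eq_of_chainExpo_eq hd _ _
        (antitone_pairChain (mem_stdPairs.mp hx').1) (antitone_pairChain (mem_stdPairs.mp hy').1) hxy
      have h2 := pairChain_injective h1
      simp only [Prod.mk.injEq] at h2
      exact Prod.ext (Subtype.ext h2.1) (Subtype.ext h2.2))
    hrel q hq' haq
  rw [(hFm q).2, (hFm r.1).2] at key
  exact key

theorem hibiW_supInfPair (r : IncPair w) :
    hibiW w (supInfPair w r).1 + hibiW w (supInfPair w r).2 = hibiW w r.1.1 + hibiW w r.1.2 := by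
  rw [hibiW_add, hibiW_add]
  congr 1
  exact chainExpo_pairChain_sup_inf r.1.1.1 r.1.2.1

theorem hibiW_le [Infinite K] (hd : 0 < d) (ω μ : Below w → ℕ) (r : IncPair w)
    (q : Below w × Below w) (hq : q ∈ (schData K w ω μ).S r) :
    hibiW w q.1 + hibiW w q.2 ≤ hibiW w r.1.1 + hibiW w r.1.2 := by
  by_cases hne : q = supInfPair w r
  · rw [hne, hibiW_supInfPair]
  · exact (hibiW_lt K w hd ω μ r q hq hne).le

theorem sig_lt_of_lt' {τ α : Idx d n} (h : τ ≤ α) (hne : τ ≠ α) : sig τ < sig α := by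
  by_contra hcon
  exact hne (eq_of_le_of_sig_le h (not_lt.mp hcon))

theorem hibiMu_lt [Infinite K] (hd : 0 < d) (ω μ : Below w → ℕ) (r : IncPair w)
    (q : Below w × Below w) (hq : q ∈ (schData K w ω μ).S r) :
    hibiMu w q.1 + hibiMu w q.2 < hibiMu w r.1.1 + hibiMu w r.1.2 := by
  obtain ⟨hq1, hq2⟩ := (mem_schData_S K w ω μ r q).mp hq
  obtain ⟨h1, h2⟩ := le_fst_of_strCoeff_ne_zero K hd _ _ _ hq1 hq2
  simp only at h1 h2
  have hsum := (mem_stdPairs.mp hq1).2
  simp only at hsum
  have hτ : sig r.1.1.1 < sig q.1.1 := by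
    apply sig_lt_of_lt' h1
    intro h
    apply r.2.2
    show r.1.2.1 ≤ r.1.1.1
    rw [h]; exact h2
  have hφ : sig r.1.2.1 < sig q.1.1 := by
    apply sig_lt_of_lt' h2
    intro h
    apply r.2.1
    show r.1.1.1 ≤ r.1.2.1
    rw [h]; exact h1
  unfold hibiMu
  have b1 : sig q.1.1 ^ 2 ≤ (d * n) ^ 2 := Nat.pow_le_pow_left (sig_le_bound _) 2
  have b2 : sig q.2.1 ^ 2 ≤ (d * n) ^ 2 := Nat.pow_le_pow_left (sig_le_bound _) 2
  have b3 : sig r.1.1.1 ^ 2 ≤ (d * n) ^ 2 := Nat.pow_le_pow_left (sig_le_bound _) 2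
  have b4 : sig r.1.2.1 ^ 2 ≤ (d * n) ^ 2 := Nat.pow_le_pow_left (sig_le_bound _) 2
  have key : sig r.1.1.1 ^ 2 + sig r.1.2.1 ^ 2 < sig q.1.1 ^ 2 + sig q.2.1 ^ 2 := by nlinarith
  omega

theorem schData_hibi_good [Infinite K] (hd : 0 < d) :
    (schData K w (hibiW w) (hibiMu w)).Good (XB K w) :=
  schData_good K w hd (hibiW w) (hibiMu w)
    (fun r q hq => hibiW_le K w hd _ _ r q hq) (fun r q hq => hibiMu_lt K w hd _ _ r q hq)

theorem schData_hibi_I0 [Infinite K] (hd : 0 < d) :
    (schData K w (hibiW w) (hibiMu w)).I0 = hibiIdeal K w := by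
  classical
  rw [Degen.Data.I0_eq]
  unfold hibiIdeal
  have hev : ∀ r : IncPair w, Degen.Data.ev0 ((schData K w (hibiW w) (hibiMu w)).relT r) =
      X r.1.1 * X r.1.2 - X (Below.sup r.1.1 r.1.2) * X (Below.inf r.1.1 r.1.2) := by
    intro r
    rw [Degen.Data.ev0_relT]
    congr 1
    · exact monomial_pairMono K w r.1
    · rw [Finset.sum_eq_single (supInfPair w r)]
      · have h2 : Degen.wt (schData K w (hibiW w) (hibiMu w)).ω
            ((schData K w (hibiW w) (hibiMu w)).lead r) -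
            Degen.wt (schData K w (hibiW w) (hibiMu w)).ω
              ((schData K w (hibiW w) (hibiMu w)).mono (supInfPair w r)) = 0 := by
          show Degen.wt (hibiW w) (pairMono w r.1) -
            Degen.wt (hibiW w) (pairMono w (supInfPair w r)) = 0
          rw [wt_pairMono, wt_pairMono, hibiW_supInfPair, Nat.sub_self]
        rw [if_pos h2]
        have h3 : (schData K w (hibiW w) (hibiMu w)).a r (supInfPair w r) = 1 :=
          strCoeff_sup_inf K hd _ _
        rw [h3]
        exact monomial_pairMono K w (supInfPair w r)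
      · intro k hk hne
        have h1 := hibiW_lt K w hd _ _ r k hk hne
        have h2 : Degen.wt (schData K w (hibiW w) (hibiMu w)).ω
            ((schData K w (hibiW w) (hibiMu w)).lead r) -
            Degen.wt (schData K w (hibiW w) (hibiMu w)).ω
              ((schData K w (hibiW w) (hibiMu w)).mono k) ≠ 0 := by
          show Degen.wt (hibiW w) (pairMono w r.1) - Degen.wt (hibiW w) (pairMono w k) ≠ 0
          rw [wt_pairMono, wt_pairMono]
          omega
        rw [if_neg h2, monomial_zero]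
      · intro h
        exact absurd (supInfPair_mem K w hd _ _ r) h
  apply le_antisymm
  · rw [Ideal.span_le]
    rintro _ ⟨r, rfl⟩
    exact Ideal.subset_span ⟨r.1.1, r.1.2, hev r⟩
  · rw [Ideal.span_le]
    rintro _ ⟨a, b, rfl⟩
    by_cases hab : a ≤ b
    · have h1 : Below.sup a b = b := Subtype.ext (Subtype.ext (funext fun t => max_eq_right (hab t)))
      have h2 : Below.inf a b = a := Subtype.ext (Subtype.ext (funext fun t => min_eq_left (hab t)))
      rw [h1, h2, mul_comm, sub_self]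
      exact Ideal.zero_mem _
    · by_cases hba : b ≤ a
      · have h1 : Below.sup a b = a :=
          Subtype.ext (Subtype.ext (funext fun t => max_eq_left (hba t)))
        have h2 : Below.inf a b = b :=
          Subtype.ext (Subtype.ext (funext fun t => min_eq_right (hba t)))
        rw [h1, h2, sub_self]
        exact Ideal.zero_mem _
      · exact Ideal.subset_span ⟨⟨(a, b), hab, hba⟩, hev _⟩

theorem exists_hibi_family [Infinite K] (hd : 0 < d) :
    ∃ (R : Type u) (_ : CommRing R) (_ : Algebra K R) (_ : Algebra (Polynomial K) R)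
      (_ : IsScalarTower K (Polynomial K) R),
      Module.Free (Polynomial K) R ∧
      Nonempty ((R ⧸ Ideal.span {algebraMap (Polynomial K) R Polynomial.X}) ≃ₐ[K]
        (MvPolynomial (Below w) K ⧸ hibiIdeal K w)) ∧
      ∀ c : K, c ≠ 0 →
        Nonempty ((R ⧸ Ideal.span {algebraMap (Polynomial K) R (Polynomial.X - Polynomial.C c)}) ≃ₐ[K]
          (PlRing K d n ⧸ schubertVanishing K d n w)) := by
  obtain ⟨R, i1, i2, i3, i4, hfree, ⟨e0⟩, hc⟩ := (schData_hibi_good K w hd).exists_family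
  exact ⟨R, i1, i2, i3, i4, hfree,
    ⟨e0.trans (Ideal.quotientEquivAlgOfEq K (schData_hibi_I0 K w hd))⟩, hc⟩

end Groth.Agent.Lib.Helper95.SMT
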