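import Mathlib
import Groth.Agent.Lib.Helper95.SMTSchData

open MvPolynomial W4bk4grassmannian

namespace Groth.Agent.Lib.Helper95.SMT

universe u

variable (K : Type u) [Field K] {d n : ℕ} (w : Idx d n)

/-- the Stanley–Reisner weight. -/
def srW (θ : Below w) : ℕ := 3 ^ (d * n) - 3 ^ sig θ.1

theorem sig_lt_of_lt {τ α : Idx d n} (h : τ ≤ α) (hne : τ ≠ α) : sig τ < sig α := by
  by_contra hcon
  exact hne (eq_of_le_of_sig_le h (not_lt.mp hcon))

theorem srW_lt [Infinite K] (hd : 0 < d) (r : IncPair w) (q : Below w × Below w)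
    (hq : q ∈ (schData K w (srW w) (srW w)).S r) :
    srW w q.1 + srW w q.2 < srW w r.1.1 + srW w r.1.2 := by
  obtain ⟨hq1, hq2⟩ := (mem_schData_S K w _ _ r q).mp hq
  obtain ⟨h1, h2⟩ := le_fst_of_strCoeff_ne_zero K hd _ _ _ hq1 hq2
  simp only at h1 h2
  have hτ : sig r.1.1.1 < sig q.1.1 := by
    apply sig_lt_of_lt h1
    intro h
    apply r.2.2
    show r.1.2.1 ≤ r.1.1.1
    rw [h]; exact h2
  have hφ : sig r.1.2.1 < sig q.1.1 := by
    apply sig_lt_of_lt h2
    intro h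
    apply r.2.1
    show r.1.1.1 ≤ r.1.2.1
    rw [h]; exact h1
  unfold srW
  have b1 : (3 : ℕ) ^ sig q.1.1 ≤ 3 ^ (d * n) := Nat.pow_le_pow_right (by norm_num) (sig_le_bound _)
  have b2 : (3 : ℕ) ^ sig q.2.1 ≤ 3 ^ (d * n) := Nat.pow_le_pow_right (by norm_num) (sig_le_bound _)
  have b3 : (3 : ℕ) ^ sig r.1.1.1 ≤ 3 ^ (d * n) := Nat.pow_le_pow_right (by norm_num) (sig_le_bound _)
  have b4 : (3 : ℕ) ^ sig r.1.2.1 ≤ 3 ^ (d * n) := Nat.pow_le_pow_right (by norm_num) (sig_le_bound _)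
  obtain ⟨a, ha⟩ : ∃ a, sig q.1.1 = a + 1 := ⟨sig q.1.1 - 1, by omega⟩
  have c1 : (3 : ℕ) ^ sig r.1.1.1 ≤ 3 ^ a := Nat.pow_le_pow_right (by norm_num) (by omega)
  have c2 : (3 : ℕ) ^ sig r.1.2.1 ≤ 3 ^ a := Nat.pow_le_pow_right (by norm_num) (by omega)
  have c3 : (3 : ℕ) ^ sig q.1.1 = 3 * 3 ^ a := by rw [ha, pow_succ, mul_comm]
  have c4 : 0 < (3 : ℕ) ^ a := Nat.pow_pos (by norm_num)
  have c5 : 0 < (3 : ℕ) ^ sig q.2.1 := Nat.pow_pos (by norm_num)
  omega

theorem schData_sr_I0 [Infinite K] (hd : 0 < d) :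
    (schData K w (srW w) (srW w)).I0 = srIdeal K w := by
  rw [Degen.Data.I0_eq]
  unfold srIdeal
  have hev : ∀ r : IncPair w, Degen.Data.ev0 ((schData K w (srW w) (srW w)).relT r) =
      X r.1.1 * X r.1.2 := by
    intro r
    rw [Degen.Data.ev0_relT]
    have hz : ∑ k ∈ (schData K w (srW w) (srW w)).S r,
        monomial ((schData K w (srW w) (srW w)).mono k)
          (if Degen.wt (schData K w (srW w) (srW w)).ω ((schData K w (srW w) (srW w)).lead r) -
              Degen.wt (schData K w (srW w) (srW w)).ω ((schData K w (srW w) (srW w)).mono k) = 0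
            then (schData K w (srW w) (srW w)).a r k else 0) = 0 := by
      refine Finset.sum_eq_zero fun k hk => ?_
      have h1 : Degen.wt (srW w) (pairMono w k) < Degen.wt (srW w) (pairMono w r.1) := by
        rw [wt_pairMono, wt_pairMono]
        exact srW_lt K w hd r k hk
      have h2 : Degen.wt (schData K w (srW w) (srW w)).ω ((schData K w (srW w) (srW w)).lead r) -
          Degen.wt (schData K w (srW w) (srW w)).ω ((schData K w (srW w) (srW w)).mono k) ≠ 0 := by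
        show Degen.wt (srW w) (pairMono w r.1) - Degen.wt (srW w) (pairMono w k) ≠ 0
        omega
      rw [if_neg h2, monomial_zero]
    rw [hz, sub_zero]
    exact monomial_pairMono K w r.1
  congr 1
  ext f
  constructor
  · rintro ⟨r, rfl⟩
    exact ⟨r.1.1, r.1.2, r.2.1, r.2.2, hev r⟩
  · rintro ⟨a, b, h1, h2, rfl⟩
    exact ⟨⟨(a, b), h1, h2⟩, hev _⟩

theorem exists_sr_family [Infinite K] (hd : 0 < d) :
    ∃ (R : Type u) (_ : CommRing R) (_ : Algebra K R) (_ : Algebra (Polynomial K) R)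
      (_ : IsScalarTower K (Polynomial K) R),
      Module.Free (Polynomial K) R ∧
      Nonempty ((R ⧸ Ideal.span {algebraMap (Polynomial K) R Polynomial.X}) ≃ₐ[K]
        (MvPolynomial (Below w) K ⧸ srIdeal K w)) ∧
      ∀ c : K, c ≠ 0 →
        Nonempty ((R ⧸ Ideal.span {algebraMap (Polynomial K) R (Polynomial.X - Polynomial.C c)}) ≃ₐ[K]
          (PlRing K d n ⧸ schubertVanishing K d n w)) := by
  have hG := schData_good K w hd (srW w) (srW w) (fun r q hq => (srW_lt K w hd r q hq).le)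
    (fun r q hq => srW_lt K w hd r q hq)
  obtain ⟨R, i1, i2, i3, i4, hfree, ⟨e0⟩, hc⟩ := hG.exists_family
  exact ⟨R, i1, i2, i3, i4, hfree,
    ⟨e0.trans (Ideal.quotientEquivAlgOfEq K (schData_sr_I0 K w hd))⟩, hc⟩

end Groth.Agent.Lib.Helper95.SMT
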