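import Mathlib

/-!
# Nagata's criterion in embedded form (helper95)
-/

set_option autoImplicit false

namespace Groth.Agent.Lib.Helper95.UfdA

/-- Nagata's criterion in embedded form: `A` Noetherian domain, `x` prime, `η : A ↪ Q` into a UFD
which becomes surjective after inverting `η x`; then `A` is a UFD. -/
theorem ufd_of_prime {A Q : Type*} [CommRing A] [IsDomain A] [IsNoetherianRing A] [CommRing Q]
    [IsDomain Q] [UniqueFactorizationMonoid Q] (x : A) (hx : Prime x) (η : A →+* Q)
    (hη : Function.Injective η)
    (hsurj : ∀ q : Q, ∃ (a : A) (k : ℕ), η a = q * η x ^ k) : UniqueFactorizationMonoid A := by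
  have hT0 : η x ≠ 0 := (map_ne_zero_iff η hη).mpr hx.ne_zero
  letI : Algebra A (Localization.Away (η x)) :=
    ((algebraMap Q (Localization.Away (η x))).comp η).toAlgebra
  have halg : ∀ a, algebraMap A (Localization.Away (η x)) a =
      algebraMap Q (Localization.Away (η x)) (η a) := fun a => rfl
  have hinjQ : Function.Injective (algebraMap Q (Localization.Away (η x))) :=
    IsLocalization.injective _ (powers_le_nonZeroDivisors_of_noZeroDivisors hT0)
  haveI : IsLocalization.Away x (Localization.Away (η x)) := by
    rw [IsLocalization.Away, isLocalization_iff]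
    refine ⟨?_, ?_, ?_⟩
    · rintro ⟨y, k, rfl⟩
      show IsUnit (algebraMap A (Localization.Away (η x)) (x ^ k))
      rw [halg, map_pow, map_pow]
      exact (IsLocalization.Away.algebraMap_isUnit (η x)).pow k
    · intro s
      obtain ⟨⟨q, ⟨_, l, rfl⟩⟩, hs⟩ := IsLocalization.surj (Submonoid.powers (η x)) s
      obtain ⟨a, k, hak⟩ := hsurj q
      refine ⟨(a, ⟨x ^ (l + k), l + k, rfl⟩), ?_⟩
      show s * algebraMap A (Localization.Away (η x)) (x ^ (l + k)) =
        algebraMap A (Localization.Away (η x)) a
      have hs' : s * algebraMap Q (Localization.Away (η x)) (η x ^ l) =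
          algebraMap Q (Localization.Away (η x)) q := hs
      rw [halg, halg, hak, map_pow η, pow_add, map_mul, map_mul, ← mul_assoc, hs']
    · intro a b hab
      refine ⟨1, ?_⟩
      rw [halg, halg] at hab
      rw [hη (hinjQ hab)]
  exact (UniqueFactorizationMonoid.iff_of_isLocalizationAway_of_prime hx
    (Localization.Away (η x))).mpr
    (UniqueFactorizationMonoid.of_isLocalization (Submonoid.powers (η x)) _)

/-- in a UFD embedded (as an algebra) in a polynomial ring over a field, an element mapping to a
variable is prime. -/
theorem prime_of_ufd (K : Type*) [Field K] {σ : Type*} {A : Type*} [CommRing A] [IsDomain A]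
    [Algebra K A] [UniqueFactorizationMonoid A] (x : A) (η : A →ₐ[K] MvPolynomial σ K)
    (hη : Function.Injective η) (i : σ) (hx : η x = MvPolynomial.X i) : Prime x := by
  rw [← UniqueFactorizationMonoid.irreducible_iff_prime]
  have hXp : Prime (MvPolynomial.X i : MvPolynomial σ K) := MvPolynomial.X_prime
  have key : ∀ a : A, IsUnit (η a) → IsUnit a := by
    intro a ha
    obtain ⟨r, hr, har⟩ := MvPolynomial.isUnit_iff_eq_C_of_isReduced.mp ha
    have : a = algebraMap K A r := by
      apply hη
      rw [har, AlgHom.commutes]
      rfl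
    rw [this]
    exact hr.map _
  refine ⟨fun hu => hXp.not_unit (hx ▸ hu.map η), fun a b hab => ?_⟩
  have h1 : (MvPolynomial.X i : MvPolynomial σ K) = η a * η b := by
    rw [← hx, hab, map_mul]
  rcases hXp.irreducible.isUnit_or_isUnit h1 with h | h
  · exact Or.inl (key a h)
  · exact Or.inr (key b h)

end Groth.Agent.Lib.Helper95.UfdA
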