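import Mathlib
import Groth.Agent.Lib.Helper95.SMTDim

/-!
# Schubert divisors: combinatorics (helper95)
-/

set_option autoImplicit false

open W4bk4grassmannian Groth.Agent.Lib.Helper95.SMTDim

namespace Groth.Agent.Lib.Helper95.UfdB

variable {d n : ℕ}

/-- positions at which `τ` can be lowered by one. -/
def IsPos (τ : Idx d n) (k : Fin d) : Prop :=
  k.val < (τ.1 k).val ∧ ∀ j : Fin d, j.val + 1 = k.val → (τ.1 j).val + 1 < (τ.1 k).val

/-- `τ` lowered by one at the position `k`. -/
def lower (τ : Idx d n) (k : Fin d) (h : IsPos τ k) : Idx d n :=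
  ⟨fun j => if j = k then ⟨(τ.1 k).val - 1, by have := (τ.1 k).isLt; omega⟩ else τ.1 j, by
    intro a b hab
    have hab' : a.val < b.val := hab
    beta_reduce
    by_cases ha : a = k
    · by_cases hb : b = k
      · omega
      · rw [if_pos ha, if_neg hb, Fin.lt_def]
        have : (τ.1 k).val < (τ.1 b).val := τ.2 (ha ▸ hab)
        simp only
        omega
    · by_cases hb : b = k
      · rw [if_neg ha, if_pos hb, Fin.lt_def]
        simp only
        subst hb
        have hb0 : 0 < b.val := by omega
        let j : Fin d := ⟨b.val - 1, by have := b.isLt; omega⟩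
        have hj : j.val + 1 = b.val := by simp only [j]; omega
        have h1 := h.2 j hj
        have h2 : (τ.1 a).val ≤ (τ.1 j).val := by
          have : a ≤ j := by
            rw [Fin.le_def]
            simp only [j]
            omega
          exact Fin.le_def.mp (τ.2.monotone this)
        omega
      · rw [if_neg ha, if_neg hb]
        exact τ.2 hab⟩

theorem lower_apply (τ : Idx d n) (k : Fin d) (h : IsPos τ k) (j : Fin d) :
    ((lower τ k h).1 j).val = if j = k then (τ.1 k).val - 1 else (τ.1 j).val := by
  unfold lower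
  simp only
  split_ifs <;> rfl

theorem lower_mem_divisors (τ : Idx d n) (k : Fin d) (h : IsPos τ k) :
    lower τ k h ∈ divisors τ := by
  constructor
  · refine lt_of_le_of_ne ?_ ?_
    · intro j
      rw [Fin.le_def, lower_apply]
      split_ifs with hj
      · rw [hj]; omega
      · exact le_rfl
    · intro heq
      have := lower_apply τ k h k
      rw [heq, if_pos rfl] at this
      have := h.1
      omega
  · unfold codeg
    have h1 : ∀ j, ((lower τ k h).1 j).val - j.val =
        if j = k then (τ.1 k).val - 1 - k.val else (τ.1 j).val - j.val := by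
      intro j
      rw [lower_apply]
      split_ifs with hj
      · rw [hj]
      · rfl
    rw [Finset.sum_congr rfl (fun j _ => h1 j)]
    rw [← Finset.add_sum_erase Finset.univ _ (Finset.mem_univ k),
      ← Finset.add_sum_erase Finset.univ (fun t => (τ.1 t).val - t.val) (Finset.mem_univ k),
      if_pos rfl]
    have h2 : ∑ j ∈ Finset.univ.erase k,
        (if j = k then (τ.1 k).val - 1 - k.val else (τ.1 j).val - j.val) =
        ∑ j ∈ Finset.univ.erase k, ((τ.1 j).val - j.val) := by
      refine Finset.sum_congr rfl fun j hj => ?_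
      rw [if_neg (Finset.ne_of_mem_erase hj)]
    rw [h2]
    have := h.1
    omega

theorem exists_pos_of_mem_divisors (τ φ : Idx d n) (hφ : φ ∈ divisors τ) :
    ∃ k, IsPos τ k ∧ ∀ j, (φ.1 j).val = if j = k then (τ.1 k).val - 1 else (τ.1 j).val := by
  obtain ⟨hlt, hc⟩ := hφ
  have hle : ∀ j, (φ.1 j).val ≤ (τ.1 j).val := fun j => Fin.le_def.mp (hlt.le j)
  have hne : ∃ k, (φ.1 k).val < (τ.1 k).val := by
    by_contra hcon
    push Not at hcon
    exact hlt.not_ge (fun t => Fin.le_def.mpr (hcon t))
  obtain ⟨k, hk⟩ := hne
  unfold codeg at hc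
  have hsum : ∑ j, ((τ.1 j).val - j.val) =
      ∑ j, ((φ.1 j).val - j.val) + ∑ j, ((τ.1 j).val - (φ.1 j).val) := by
    rw [← Finset.sum_add_distrib]
    refine Finset.sum_congr rfl fun j _ => ?_
    have := val_le_val φ j
    have := hle j
    omega
  have h1 : ∑ j, ((τ.1 j).val - (φ.1 j).val) = 1 := by omega
  rw [← Finset.add_sum_erase Finset.univ _ (Finset.mem_univ k)] at h1
  have hk1 : (τ.1 k).val - (φ.1 k).val = 1 := by omega
  have hrest : ∑ j ∈ Finset.univ.erase k, ((τ.1 j).val - (φ.1 j).val) = 0 := by omega
  rw [Finset.sum_eq_zero_iff] at hrest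
  have hother : ∀ j, j ≠ k → (φ.1 j).val = (τ.1 j).val := by
    intro j hj
    have := hrest j (Finset.mem_erase.mpr ⟨hj, Finset.mem_univ j⟩)
    have := hle j
    omega
  refine ⟨k, ⟨?_, ?_⟩, ?_⟩
  · have := val_le_val φ k
    omega
  · intro j hj
    have hjk : j ≠ k := by
      intro h
      rw [h] at hj
      omega
    have h2 : (φ.1 j).val < (φ.1 k).val := Fin.lt_def.mp (φ.2 (Fin.lt_def.mpr (by omega)))
    rw [hother j hjk] at h2
    omega
  · intro j
    split_ifs with hj
    · rw [hj]; omega
    · exact hother j hj

theorem subsingleton_divisors_iff (τ : Idx d n) :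
    (divisors τ).Subsingleton ↔
      ∃ s : ℕ, (∀ t : Fin d, t.val < s → (τ.1 t).val = t.val) ∧
        ∀ t t' : Fin d, s ≤ t.val → t.val + 1 = t'.val → (τ.1 t).val + 1 = (τ.1 t').val := by
  constructor
  · intro hsub
    have hs : ∃ s : ℕ, ∀ k, IsPos τ k → k.val = s := by
      by_cases h : ∃ k, IsPos τ k
      · obtain ⟨k₀, hk₀⟩ := h
        refine ⟨k₀.val, fun k hk => ?_⟩
        have heq := hsub (lower_mem_divisors τ k hk) (lower_mem_divisors τ k₀ hk₀)
        by_contra hne
        have hkk : k ≠ k₀ := fun h => hne (by rw [h])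
        have h1 := lower_apply τ k hk k
        rw [heq, lower_apply, if_neg hkk, if_pos rfl] at h1
        have := hk.1
        omega
      · push Not at h
        exact ⟨0, fun k hk => absurd hk (h k)⟩
    obtain ⟨s, hs⟩ := hs
    refine ⟨s, ?_, ?_⟩
    · have key : ∀ m : ℕ, ∀ t : Fin d, t.val = m → t.val < s → (τ.1 t).val = t.val := by
        intro m
        induction m using Nat.strong_induction_on with
        | _ m ih =>
          intro t htm hts
          have hnot : ¬ IsPos τ t := fun h => by have := hs t h; omega
          have hge := val_le_val τ t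
          by_contra hne
          have hlt : t.val < (τ.1 t).val := by omega
          unfold IsPos at hnot
          push Not at hnot
          obtain ⟨j, hj1, hj2⟩ := hnot hlt
          have := ih j.val (by omega) j rfl (by omega)
          omega
      intro t ht
      exact key t.val t rfl ht
    · intro t t' hst htt'
      have hnot : ¬ IsPos τ t' := fun h => by have := hs t' h; omega
      have hlt : (τ.1 t).val < (τ.1 t').val := Fin.lt_def.mp (τ.2 (Fin.lt_def.mpr (by omega)))
      have hge := val_le_val τ t
      unfold IsPos at hnot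
      by_cases h1 : t'.val < (τ.1 t').val
      · push Not at hnot
        obtain ⟨j, hj1, hj2⟩ := hnot h1
        have hjt : j = t := Fin.ext (by omega)
        rw [hjt] at hj2
        omega
      · omega
  · rintro ⟨s, hs1, hs2⟩
    have hpos : ∀ k, IsPos τ k → k.val = s := by
      intro k hk
      rcases lt_trichotomy k.val s with h | h | h
      · have := hs1 k h
        have := hk.1
        omega
      · exact h
      · exfalso
        let j : Fin d := ⟨k.val - 1, by have := k.isLt; omega⟩
        have hj : j.val + 1 = k.val := by simp only [j]; omega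
        have h1 := hs2 j k (by simp only [j]; omega) hj
        have h2 := hk.2 j hj
        omega
    intro φ hφ φ' hφ'
    obtain ⟨k, hk, hφk⟩ := exists_pos_of_mem_divisors τ φ hφ
    obtain ⟨k', hk', hφk'⟩ := exists_pos_of_mem_divisors τ φ' hφ'
    have hkk : k = k' := Fin.ext (by rw [hpos k hk, hpos k' hk'])
    subst hkk
    apply Subtype.ext
    funext j
    apply Fin.ext
    rw [hφk j, hφk' j]

end Groth.Agent.Lib.Helper95.UfdB
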