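import Mathlib
import Groth.Agent.Lib.Helper95.UfdA
import Groth.Agent.Lib.Helper95.UfdB
import Groth.Agent.Lib.Helper95.NormE

/-!
# Factoriality of Schubert cones (helper95)
-/

set_option autoImplicit false

open MvPolynomial W4bk4grassmannian Groth.Agent.Lib.Helper95.SMT Groth.Agent.Lib.Helper95.SMTDim
open Groth.Agent.Lib.Helper95.NormB

namespace Groth.Agent.Lib.Helper95.UfdC

universe u

variable (K : Type u) [Field K] [IsAlgClosed K] {d n : ℕ}

/-- the embedding of the Schubert cone into the coordinate ring of (cell) × (line). -/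
noncomputable def etaBar (hd : 0 < d) (τ : Idx d n) :
    (PlRing K d n ⧸ schubertVanishing K d n τ) →ₐ[K] CellQ K τ :=
  haveI : Infinite K := IsAlgClosed.instInfinite
  Ideal.Quotient.liftₐ (schubertVanishing K d n τ) (eta K τ hd)
    (fun f hf => eta_eq_zero_of_mem K τ hd f hf)

theorem etaBar_mk (hd : 0 < d) (τ : Idx d n) (b : PlRing K d n) :
    etaBar K hd τ (Ideal.Quotient.mk _ b) = eta K τ hd b := rfl

theorem etaBar_injective (hd : 0 < d) (τ : Idx d n) : Function.Injective (etaBar K hd τ) := by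
  haveI : Infinite K := IsAlgClosed.instInfinite
  rw [injective_iff_map_eq_zero]
  intro a ha
  obtain ⟨b, rfl⟩ := Ideal.Quotient.mk_surjective a
  rw [etaBar_mk] at ha
  rw [Ideal.Quotient.eq_zero_iff_mem]
  exact ker_eta_le K τ hd (RingHom.mem_ker.mpr ha)

theorem etaBar_surj (hd : 0 < d) (τ : Idx d n) (q : CellQ K τ) :
    ∃ (a : PlRing K d n ⧸ schubertVanishing K d n τ) (k : ℕ),
      etaBar K hd τ a = q * etaBar K hd τ (Ideal.Quotient.mk _ (X τ)) ^ k := by
  obtain ⟨b, k, hb⟩ := exists_eta_eq K τ hd q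
  exact ⟨Ideal.Quotient.mk _ b, k, by rw [etaBar_mk, etaBar_mk, hb]⟩

theorem ufd_iff_prime (hd : 0 < d) (τ : Idx d n) :
    UniqueFactorizationMonoid (PlRing K d n ⧸ schubertVanishing K d n τ) ↔
      Prime (Ideal.Quotient.mk (schubertVanishing K d n τ) (X τ)) := by
  haveI : Infinite K := IsAlgClosed.instInfinite
  haveI hprime : (schubertVanishing K d n τ).IsPrime := isPrime_schubertVanishing K hd τ
  haveI : IsDomain (PlRing K d n ⧸ schubertVanishing K d n τ) := Ideal.Quotient.isDomain _
  constructor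
  · intro hufd
    exact Groth.Agent.Lib.Helper95.UfdA.prime_of_ufd K _ (etaBar K hd τ)
      (etaBar_injective K hd τ) none (by rw [etaBar_mk, eta_X_top])
  · intro hx
    exact Groth.Agent.Lib.Helper95.UfdA.ufd_of_prime _ hx (etaBar K hd τ).toRingHom
      (etaBar_injective K hd τ) (etaBar_surj K hd τ)

theorem isPrime_span_iff (hd : 0 < d) (τ : Idx d n) :
    Prime (Ideal.Quotient.mk (schubertVanishing K d n τ) (X τ)) ↔
      (schubertVanishing K d n τ ⊔ Ideal.span {(X τ : PlRing K d n)}).IsPrime := by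
  haveI : Infinite K := IsAlgClosed.instInfinite
  set J := schubertVanishing K d n τ with hJ
  have hx0 : Ideal.Quotient.mk J (X τ) ≠ 0 := by
    rw [Ne, Ideal.Quotient.eq_zero_iff_mem]
    exact X_notMem_schubertVanishing K hd τ le_rfl
  rw [← Ideal.span_singleton_prime hx0]
  have hspan : Ideal.span {Ideal.Quotient.mk J (X τ)} =
      (Ideal.span {(X τ : PlRing K d n)}).map (Ideal.Quotient.mk J) := by
    rw [Ideal.map_span, Set.image_singleton]
  constructor
  · intro h
    have h1 := Ideal.comap_isPrime (Ideal.Quotient.mk J) (Ideal.span {Ideal.Quotient.mk J (X τ)})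
    rw [hspan, Ideal.comap_map_of_surjective _ Ideal.Quotient.mk_surjective,
      ← RingHom.ker_eq_comap_bot, Ideal.mk_ker, sup_comm] at h1
    exact h1
  · intro h
    have h1 := Ideal.map_isPrime_of_surjective (f := Ideal.Quotient.mk J)
      Ideal.Quotient.mk_surjective (I := J ⊔ Ideal.span {(X τ : PlRing K d n)})
      (by rw [Ideal.mk_ker]; exact le_sup_left)
    rw [Ideal.map_sup, Ideal.map_quotient_self, bot_sup_eq, ← hspan] at h1
    exact h1

theorem prime_iff_subsingleton (hd : 0 < d) (hdn : d < n) (τ : Idx d n) :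
    Prime (Ideal.Quotient.mk (schubertVanishing K d n τ) (X τ)) ↔
      (divisors τ).Subsingleton := by
  classical
  haveI : Infinite K := IsAlgClosed.instInfinite
  rw [isPrime_span_iff K hd τ]
  by_cases hτ : ∃ φ : Idx d n, φ < τ
  · rw [Groth.Agent.S11254.result K d n hd hdn τ hτ]
    obtain ⟨φ₁, hφ₁⟩ := hτ
    obtain ⟨δ₁, hδ₁, -⟩ := Groth.Agent.S11268.result d n φ₁ τ hφ₁
    constructor
    · intro hP
      have hfin : (divisors τ).Finite := Set.toFinite _
      have h2 : (hfin.toFinset.inf fun φ => schubertVanishing K d n φ) =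
          ⨅ φ ∈ divisors τ, schubertVanishing K d n φ := by
        rw [Finset.inf_eq_iInf]
        simp only [Set.Finite.mem_toFinset]
      obtain ⟨φ₀, hφ₀, hle⟩ := (Ideal.IsPrime.inf_le' hP).mp h2.le
      have hφ₀' : φ₀ ∈ divisors τ := hfin.mem_toFinset.mp hφ₀
      have hall : ∀ φ ∈ divisors τ, φ = φ₀ := by
        intro φ hφ
        have h3 : schubertVanishing K d n φ₀ ≤ schubertVanishing K d n φ :=
          hle.trans (iInf₂_le φ hφ)
        have h4 : φ ≤ φ₀ := by
          by_contra hnle
          exact X_notMem_schubertVanishing K hd φ le_rfl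
            (h3 (X_mem_schubertVanishing K φ₀ φ hnle))
        by_contra hne
        have := Groth.Agent.Lib.Helper95.CMSch.codeg_lt_of_lt (lt_of_le_of_ne h4 hne)
        have := hφ.2
        have := hφ₀'.2
        omega
      intro φ hφ φ' hφ'
      rw [hall φ hφ, hall φ' hφ']
    · intro hsub
      have : (⨅ φ ∈ divisors τ, schubertVanishing K d n φ) = schubertVanishing K d n δ₁ := by
        apply le_antisymm
        · exact iInf₂_le δ₁ hδ₁
        · refine le_iInf₂ fun φ hφ => ?_
          rw [hsub hφ hδ₁]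
      rw [this]
      exact isPrime_schubertVanishing K hd δ₁
  · push Not at hτ
    constructor
    · intro _ φ hφ
      exact absurd hφ.1 (hτ φ)
    · intro _
      rw [Groth.Agent.Lib.Helper95.CMSch.sup_span_eq_of_codeg_zero K hd τ
        (codeg_eq_zero_of_forall_not_lt hdn.le τ hτ)]
      exact (Groth.Agent.Lib.Helper95.CMWrap.ker_constantCoeff_isMaximal K (Idx d n)).isPrime

end Groth.Agent.Lib.Helper95.UfdC
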