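import Groth.Prelude.Def_W4c3severiratdpLat
import Mathlib

/-!
# The Picard lattice of a blown-up plane: Weyl elements

Basic lemmas for `W4c3severiratdp.form`, closure properties of `IsWeyl`, reflections in roots
and coordinate permutations.
-/

set_option autoImplicit false

namespace Groth.Agent.Lib.Helper95

open W4c3severiratdp

namespace WeylDP

variable {δ : ℕ}

theorem form_comm (v w : DP δ) : form v w = form w v := by
  unfold form
  rw [mul_comm]
  congr 1
  exact Finset.sum_congr rfl fun i _ => mul_comm _ _

theorem form_add_left (u v w : DP δ) : form (u + v) w = form u w + form v w := by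
  unfold form
  simp only [Pi.add_apply, add_mul, Finset.sum_add_distrib]
  ring

theorem form_smul_left (c : ℤ) (v w : DP δ) : form (c • v) w = c * form v w := by
  unfold form
  simp only [Pi.smul_apply, smul_eq_mul, mul_sub, Finset.mul_sum]
  congr 1
  · ring
  · exact Finset.sum_congr rfl fun i _ => by ring

theorem form_add_right (u v w : DP δ) : form u (v + w) = form u v + form u w := by
  rw [form_comm, form_add_left, form_comm v, form_comm w]

theorem form_smul_right (c : ℤ) (v w : DP δ) : form v (c • w) = c * form v w := by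
  rw [form_comm, form_smul_left, form_comm]

theorem form_neg_left (v w : DP δ) : form (-v) w = -form v w := by
  have := form_smul_left (-1) v w
  simpa using this

theorem form_sub_left (u v w : DP δ) : form (u - v) w = form u w - form v w := by
  rw [sub_eq_add_neg, form_add_left, form_neg_left, sub_eq_add_neg]

theorem form_sub_right (u v w : DP δ) : form u (v - w) = form u v - form u w := by
  rw [form_comm, form_sub_left, form_comm v, form_comm w]

/-- The linear functional `v ↦ form v α`. -/
def formL (α : DP δ) : DP δ →ₗ[ℤ] ℤ where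
  toFun v := form v α
  map_add' u v := form_add_left u v α
  map_smul' c v := by simpa using form_smul_left c v α

@[simp] theorem formL_apply (α v : DP δ) : formL α v = form v α := rfl

/-! ### Closure properties of `IsWeyl` -/

theorem isWeyl_refl : IsWeyl (LinearEquiv.refl ℤ (DP δ)) :=
  ⟨fun _ _ => rfl, rfl⟩

theorem IsWeyl.trans {g h : DP δ ≃ₗ[ℤ] DP δ} (hg : IsWeyl g) (hh : IsWeyl h) :
    IsWeyl (g.trans h) := by
  refine ⟨fun v w => ?_, ?_⟩
  · simp only [LinearEquiv.trans_apply]
    rw [hh.1, hg.1]
  · simp only [LinearEquiv.trans_apply]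
    rw [hg.2, hh.2]

theorem IsWeyl.symm {g : DP δ ≃ₗ[ℤ] DP δ} (hg : IsWeyl g) : IsWeyl g.symm := by
  refine ⟨fun v w => ?_, ?_⟩
  · have := hg.1 (g.symm v) (g.symm w)
    simpa using this.symm
  · have := hg.2
    exact (LinearEquiv.symm_apply_eq g).mpr this.symm

theorem IsWeyl.form_canon {g : DP δ ≃ₗ[ℤ] DP δ} (hg : IsWeyl g) (v : DP δ) :
    form (canon δ) (g v) = form (canon δ) v := by
  have := hg.1 (canon δ) v
  rwa [hg.2] at this

/-! ### Reflections -/

/-- The reflection `v ↦ v + (v · α) α` in a vector `α` with `α · α = -2`, as a linear map. -/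
def reflMap (α : DP δ) : DP δ →ₗ[ℤ] DP δ :=
  LinearMap.id + (formL α).smulRight α

@[simp] theorem reflMap_apply (α v : DP δ) : reflMap α v = v + form v α • α := by
  simp [reflMap]

theorem reflMap_involutive (α : DP δ) (hα : form α α = -2) :
    Function.Involutive (reflMap α) := by
  intro v
  rw [reflMap_apply, reflMap_apply, form_add_left, form_smul_left, hα]
  ext i
  simp only [Pi.add_apply, Pi.smul_apply, smul_eq_mul]
  ring

/-- The reflection in a root `α`. -/
def reflEquiv (α : DP δ) (hα : form α α = -2) : DP δ ≃ₗ[ℤ] DP δ :=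
  LinearEquiv.ofInvolutive (reflMap α) (reflMap_involutive α hα)

@[simp] theorem reflEquiv_apply (α : DP δ) (hα : form α α = -2) (v : DP δ) :
    reflEquiv α hα v = v + form v α • α := by
  simp [reflEquiv]

theorem isWeyl_reflEquiv (α : DP δ) (hα : form α α = -2) (hK : form (canon δ) α = 0) :
    IsWeyl (reflEquiv α hα) := by
  refine ⟨fun v w => ?_, ?_⟩
  · rw [reflEquiv_apply, reflEquiv_apply, form_add_left, form_add_right, form_add_right,
      form_smul_left, form_smul_left, form_smul_right, form_smul_right, hα, form_comm α w]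
    ring
  · rw [reflEquiv_apply, hK, zero_smul, add_zero]

theorem reflEquiv_fixed (α : DP δ) (hα : form α α = -2) (u : DP δ) (hu : form u α = 0) :
    reflEquiv α hα u = u := by
  rw [reflEquiv_apply, hu, zero_smul, add_zero]

/-! ### Coordinate permutations -/

/-- Extension of a permutation of the `δ` exceptional coordinates to all `δ + 1` coordinates. -/
def extPerm (σ : Equiv.Perm (Fin δ)) : Equiv.Perm (Fin (δ + 1)) :=
  Equiv.Perm.decomposeFin.symm (0, σ)

@[simp] theorem extPerm_zero (σ : Equiv.Perm (Fin δ)) : extPerm σ 0 = 0 := by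
  simp [extPerm]

@[simp] theorem extPerm_succ (σ : Equiv.Perm (Fin δ)) (i : Fin δ) :
    extPerm σ i.succ = (σ i).succ := by
  simp [extPerm]

/-- The lattice automorphism permuting the exceptional coordinates. -/
def permEquiv (σ : Equiv.Perm (Fin δ)) : DP δ ≃ₗ[ℤ] DP δ :=
  LinearEquiv.funCongrLeft ℤ ℤ (extPerm σ)

@[simp] theorem permEquiv_apply_zero (σ : Equiv.Perm (Fin δ)) (v : DP δ) :
    permEquiv σ v 0 = v 0 := by
  simp [permEquiv, LinearEquiv.funCongrLeft_apply, LinearMap.funLeft_apply]

@[simp] theorem permEquiv_apply_succ (σ : Equiv.Perm (Fin δ)) (v : DP δ) (i : Fin δ) :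
    permEquiv σ v i.succ = v (σ i).succ := by
  simp [permEquiv, LinearEquiv.funCongrLeft_apply, LinearMap.funLeft_apply]

theorem form_permEquiv (σ : Equiv.Perm (Fin δ)) (v w : DP δ) :
    form (permEquiv σ v) (permEquiv σ w) = form v w := by
  unfold form
  simp only [permEquiv_apply_zero, permEquiv_apply_succ]
  congr 1
  exact Equiv.sum_comp σ (fun i => v i.succ * w i.succ)

theorem permEquiv_canon (σ : Equiv.Perm (Fin δ)) : permEquiv σ (canon δ) = canon δ := by
  ext i
  refine Fin.cases ?_ (fun j => ?_) i
  · simp
  · simp [canon]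

theorem isWeyl_permEquiv (σ : Equiv.Perm (Fin δ)) : IsWeyl (permEquiv σ) :=
  ⟨form_permEquiv σ, permEquiv_canon σ⟩

end WeylDP

end Groth.Agent.Lib.Helper95
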