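import Groth.Agent.Lib.Helper95.WeylDPExc

/-!
# Pairs of conic classes under the Weyl group

Generic lemmas reducing the classification of the orbits of pairs of conic classes to decidable
statements about finite tables.
-/

set_option autoImplicit false

namespace Groth.Agent.Lib.Helper95

open W4c3severiratdp

namespace WeylDP

/-- The standard conic class `ℓ - e₁`. -/
def Q0 (δ : ℕ) : DP δ := fun i => if i.val ≤ 1 then 1 else 0

/-- The region test on coordinate lists: `b₁ + b₂ + b₃ ≤ a`. -/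
def regTest (l : List ℤ) : Bool := decide (l.getD 1 0 + l.getD 2 0 + l.getD 3 0 ≤ l.getD 0 0)

/-- Data for the classification of pairs of conic classes in `DP δ`. -/
structure ConicData (δ : ℕ) where
  /-- the standard conic -/
  q : DP δ
  /-- the table of normal forms of the second conic -/
  T : List (List ℤ)
  full : ∀ Q : DP δ, IsConic Q → ∃ g : DP δ ≃ₗ[ℤ] DP δ, IsWeyl g ∧ g Q = q
  rel : ∀ Q : DP δ, IsConic Q → ∃ g : DP δ ≃ₗ[ℤ] DP δ, IsWeyl g ∧ g q = q ∧ List.ofFn (g Q) ∈ T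
  formq : ∀ v : DP δ, form q v = (List.ofFn v).getD 0 0 - (List.ofFn v).getD 1 0

/-- Every pair of conics can be brought to a normal form `(q, v)` with `v` in the table. -/
theorem ConicData.normal_form {δ : ℕ} (D : ConicData δ) (v₁ v₂ : DP δ) (hv₁ : IsConic v₁)
    (hv₂ : IsConic v₂) :
    ∃ g : DP δ ≃ₗ[ℤ] DP δ, IsWeyl g ∧ g v₁ = D.q ∧ List.ofFn (g v₂) ∈ D.T ∧
      (List.ofFn (g v₂)).getD 0 0 - (List.ofFn (g v₂)).getD 1 0 = form v₁ v₂ := by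
  obtain ⟨g1, hg1W, hg1⟩ := D.full v₁ hv₁
  obtain ⟨k1, hk1W, hk1q, hk1T⟩ := D.rel (g1 v₂) (IsWeyl.isConic hg1W hv₂)
  refine ⟨g1.trans k1, IsWeyl.trans hg1W hk1W, ?_, hk1T, ?_⟩
  · rw [LinearEquiv.trans_apply, hg1, hk1q]
  · rw [LinearEquiv.trans_apply, ← D.formq]
    conv_lhs => rw [← hk1q]
    rw [hk1W.1, ← hg1, hg1W.1]

theorem ConicData.pairs {δ : ℕ} (D : ConicData δ) (P : ℤ → Prop)
    (huniq : ∀ l ∈ D.T, ∀ l' ∈ D.T, l.getD 0 0 - l.getD 1 0 = l'.getD 0 0 - l'.getD 1 0 →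
      P (l.getD 0 0 - l.getD 1 0) → l = l')
    (v₁ v₂ w₁ w₂ : DP δ) (hv₁ : IsConic v₁) (hv₂ : IsConic v₂) (hw₁ : IsConic w₁)
    (hw₂ : IsConic w₂) (heq : form v₁ v₂ = form w₁ w₂) (hP : P (form v₁ v₂)) :
    ∃ g : DP δ ≃ₗ[ℤ] DP δ, IsWeyl g ∧ g v₁ = w₁ ∧ g v₂ = w₂ := by
  obtain ⟨g, hgW, hg1, hgT, hgm⟩ := D.normal_form v₁ v₂ hv₁ hv₂
  obtain ⟨h, hhW, hh1, hhT, hhm⟩ := D.normal_form w₁ w₂ hw₁ hw₂
  have e : List.ofFn (g v₂) = List.ofFn (h w₂) :=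
    huniq _ hgT _ hhT (by rw [hgm, hhm, heq]) (by rw [hgm]; exact hP)
  have e2 : g v₂ = h w₂ := List.ofFn_injective e
  refine ⟨g.trans h.symm, IsWeyl.trans hgW (IsWeyl.symm hhW), ?_, ?_⟩
  · rw [LinearEquiv.trans_apply, hg1, ← hh1]; simp
  · rw [LinearEquiv.trans_apply, e2]; simp

/-! ### Generic construction of the data -/

theorem form_Q0 {δ : ℕ} (hδ : 0 < δ) (v : DP δ) : form (Q0 δ) v = v 0 - v ⟨1, by omega⟩ := by
  unfold form Q0
  have h1 : ∀ i : Fin δ, (if (i.succ : Fin (δ + 1)).val ≤ 1 then (1 : ℤ) else 0) * v i.succ =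
      if i = ⟨0, hδ⟩ then v i.succ else 0 := by
    intro i
    by_cases hi : i = ⟨0, hδ⟩
    · subst hi; simp
    · have : ¬ (i.succ : Fin (δ + 1)).val ≤ 1 := by
        intro h
        apply hi
        ext
        simp only [Fin.val_succ] at h
        simp; omega
      rw [if_neg this, if_neg hi, zero_mul]
  rw [Finset.sum_congr rfl fun i _ => h1 i, Finset.sum_ite_eq' Finset.univ (⟨0, hδ⟩ : Fin δ)]
  simp

theorem full_generic (n : ℕ) (hn : 0 + n ≤ 8) (h3 : 3 ≤ n)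
    (hT : (enum 0 n 0 (-2)).filter regTest = [List.ofFn (Q0 (0 + n))])
    (Q : DP (0 + n)) (hQ : IsConic Q) :
    ∃ g : DP (0 + n) ≃ₗ[ℤ] DP (0 + n), IsWeyl g ∧ g Q = Q0 (0 + n) := by
  obtain ⟨g, hgW, -, hreg⟩ := descent (s := 0) (n := n) hn ⟨0, by omega⟩ ⟨1, by omega⟩
    ⟨2, by omega⟩ (by simp [Fin.ext_iff]) (by simp [Fin.ext_iff]) (by simp [Fin.ext_iff]) Q
  refine ⟨g, hgW, ?_⟩
  have hw := IsWeyl.isConic hgW hQ
  obtain ⟨ha, h144⟩ := conic_bounds hn hw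
  have hmem := mem_enum (s := 0) (n := n) hn 0 (-2) (g Q) hreg.1 hw.1 hw.2 ha h144
  have hmem' : List.ofFn (g Q) ∈ (enum 0 n 0 (-2)).filter regTest := by
    refine List.mem_filter.mpr ⟨hmem, ?_⟩
    unfold regTest
    rw [decide_eq_true_eq, getD_ofFn _ 1 (by omega), getD_ofFn _ 2 (by omega),
      getD_ofFn _ 3 (by omega), getD_ofFn _ 0 (by omega)]
    exact hreg.2
  rw [hT, List.mem_singleton] at hmem'
  exact List.ofFn_injective hmem'

theorem blockConst_Q0 (n : ℕ) : BlockConst 1 n (Q0 (1 + n)) := by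
  intro j j'
  simp [Q0]

theorem rel_generic (n : ℕ) (hn : 1 + n ≤ 8) (h2 : 2 ≤ n)
    (Q : DP (1 + n)) (hQ : IsConic Q) :
    ∃ g : DP (1 + n) ≃ₗ[ℤ] DP (1 + n), IsWeyl g ∧ g (Q0 (1 + n)) = Q0 (1 + n) ∧
      List.ofFn (g Q) ∈ (enum 1 n 0 (-2)).filter regTest := by
  obtain ⟨g, hgW, hfix, hreg⟩ := descent (s := 1) (n := n) hn ⟨0, by omega⟩ ⟨1, by omega⟩
    ⟨2, by omega⟩ (by simp [Fin.ext_iff]) (by simp [Fin.ext_iff]) (by simp [Fin.ext_iff]) Q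
  refine ⟨g, hgW, hfix _ (blockConst_Q0 n) ?_, ?_⟩
  · rw [form_cremRoot]
    show (if ((0 : Fin (1 + n + 1)).val ≤ 1) then (1 : ℤ) else 0) -
      ((if (0 + 1 ≤ 1) then 1 else 0) + (if (1 + 1 ≤ 1) then 1 else 0) +
        (if 2 + 1 ≤ 1 then 1 else 0)) = 0
    simp
  have hw := IsWeyl.isConic hgW hQ
  obtain ⟨ha, h144⟩ := conic_bounds hn hw
  have hmem := mem_enum (s := 1) (n := n) hn 0 (-2) (g Q) hreg.1 hw.1 hw.2 ha h144
  refine List.mem_filter.mpr ⟨hmem, ?_⟩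
  unfold regTest
  rw [decide_eq_true_eq, getD_ofFn _ 1 (by omega), getD_ofFn _ 2 (by omega),
    getD_ofFn _ 3 (by omega), getD_ofFn _ 0 (by omega)]
  exact hreg.2

theorem formq_generic {δ : ℕ} (hδ : 0 < δ) (v : DP δ) :
    form (Q0 δ) v = (List.ofFn v).getD 0 0 - (List.ofFn v).getD 1 0 := by
  rw [form_Q0 hδ, getD_ofFn _ 0 (by omega), getD_ofFn _ 1 (by omega)]
  rfl

end WeylDP

end Groth.Agent.Lib.Helper95
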