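import Groth.Agent.Lib.Helper95.WeylDPConic

/-!
# Pairs of conic classes: the data for `2 ≤ δ ≤ 8`
-/

set_option autoImplicit false

namespace Groth.Agent.Lib.Helper95

open W4c3severiratdp

namespace WeylDP

/-- The data for `δ = 2`, where the Weyl group contains the transposition only. -/
def conicData2 : ConicData 2 where
  q := Q0 2
  T := enum 1 1 0 (-2)
  full := by
    intro Q hQ
    obtain ⟨g, hgW, -, hanti, -, -⟩ := sort_block (s := 0) (n := 2) Q
    refine ⟨g, hgW, ?_⟩
    have hw := IsWeyl.isConic hgW hQ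
    obtain ⟨ha, h144⟩ := conic_bounds (by norm_num) hw
    have hmem := mem_enum (s := 0) (n := 2) (by norm_num) 0 (-2) (g Q) hanti hw.1 hw.2 ha h144
    rw [show enum 0 2 0 (-2) = [List.ofFn (Q0 2)] from by decide, List.mem_singleton] at hmem
    exact List.ofFn_injective hmem
  rel := by
    intro Q hQ
    refine ⟨LinearEquiv.refl _ _, isWeyl_refl, rfl, ?_⟩
    obtain ⟨ha, h144⟩ := conic_bounds (by norm_num) hQ
    exact mem_enum (s := 1) (n := 1) (by norm_num) 0 (-2) Q
      (fun i j _ => by rw [Subsingleton.elim i j]) hQ.1 hQ.2 ha h144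
  formq := formq_generic (by norm_num)

/-- The data for `δ = 3`. -/
def conicData3 : ConicData 3 where
  q := Q0 3
  T := (enum 1 2 0 (-2)).filter regTest
  full := full_generic 3 (by norm_num) (by norm_num) (by decide)
  rel := rel_generic 2 (by norm_num) (by norm_num)
  formq := formq_generic (by norm_num)

/-- The data for `δ = 4`. -/
def conicData4 : ConicData 4 where
  q := Q0 4
  T := (enum 1 3 0 (-2)).filter regTest
  full := full_generic 4 (by norm_num) (by norm_num) (by decide)
  rel := rel_generic 3 (by norm_num) (by norm_num)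
  formq := formq_generic (by norm_num)

/-- The data for `δ = 5`. -/
def conicData5 : ConicData 5 where
  q := Q0 5
  T := (enum 1 4 0 (-2)).filter regTest
  full := full_generic 5 (by norm_num) (by norm_num) (by decide)
  rel := rel_generic 4 (by norm_num) (by norm_num)
  formq := formq_generic (by norm_num)

/-- The data for `δ = 6`. -/
def conicData6 : ConicData 6 where
  q := Q0 6
  T := (enum 1 5 0 (-2)).filter regTest
  full := full_generic 6 (by norm_num) (by norm_num) (by decide)
  rel := rel_generic 5 (by norm_num) (by norm_num)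
  formq := formq_generic (by norm_num)

/-- The data for `δ = 7`. -/
def conicData7 : ConicData 7 where
  q := Q0 7
  T := (enum 1 6 0 (-2)).filter regTest
  full := full_generic 7 (by norm_num) (by norm_num) (by decide)
  rel := rel_generic 6 (by norm_num) (by norm_num)
  formq := formq_generic (by norm_num)

/-- The data for `δ = 8`. -/
def conicData8 : ConicData 8 where
  q := Q0 8
  T := (enum 1 7 0 (-2)).filter regTest
  full := full_generic 8 (by norm_num) (by norm_num) (by decide)
  rel := rel_generic 7 (by norm_num) (by norm_num)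
  formq := formq_generic (by norm_num)

theorem conicData2_uniq : ∀ l ∈ conicData2.T, ∀ l' ∈ conicData2.T,
    l.getD 0 0 - l.getD 1 0 = l'.getD 0 0 - l'.getD 1 0 →
    ¬ ((2 : ℕ) = 8 ∧ l.getD 0 0 - l.getD 1 0 = 4) → l = l' := by
  decide

theorem conicData3_uniq : ∀ l ∈ conicData3.T, ∀ l' ∈ conicData3.T,
    l.getD 0 0 - l.getD 1 0 = l'.getD 0 0 - l'.getD 1 0 →
    ¬ ((3 : ℕ) = 8 ∧ l.getD 0 0 - l.getD 1 0 = 4) → l = l' := by
  decide

theorem conicData4_uniq : ∀ l ∈ conicData4.T, ∀ l' ∈ conicData4.T,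
    l.getD 0 0 - l.getD 1 0 = l'.getD 0 0 - l'.getD 1 0 →
    ¬ ((4 : ℕ) = 8 ∧ l.getD 0 0 - l.getD 1 0 = 4) → l = l' := by
  decide

theorem conicData5_uniq : ∀ l ∈ conicData5.T, ∀ l' ∈ conicData5.T,
    l.getD 0 0 - l.getD 1 0 = l'.getD 0 0 - l'.getD 1 0 →
    ¬ ((5 : ℕ) = 8 ∧ l.getD 0 0 - l.getD 1 0 = 4) → l = l' := by
  decide

theorem conicData6_uniq : ∀ l ∈ conicData6.T, ∀ l' ∈ conicData6.T,
    l.getD 0 0 - l.getD 1 0 = l'.getD 0 0 - l'.getD 1 0 →
    ¬ ((6 : ℕ) = 8 ∧ l.getD 0 0 - l.getD 1 0 = 4) → l = l' := by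
  decide

theorem conicData7_uniq : ∀ l ∈ conicData7.T, ∀ l' ∈ conicData7.T,
    l.getD 0 0 - l.getD 1 0 = l'.getD 0 0 - l'.getD 1 0 →
    ¬ ((7 : ℕ) = 8 ∧ l.getD 0 0 - l.getD 1 0 = 4) → l = l' := by
  decide

theorem conicData8_uniq : ∀ l ∈ conicData8.T, ∀ l' ∈ conicData8.T,
    l.getD 0 0 - l.getD 1 0 = l'.getD 0 0 - l'.getD 1 0 →
    ¬ ((8 : ℕ) = 8 ∧ l.getD 0 0 - l.getD 1 0 = 4) → l = l' := by
  decide

end WeylDP

end Groth.Agent.Lib.Helper95
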