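import Groth.Agent.Lib.Helper95.WeylDPConicData

/-!
# Pairs of conic classes with intersection number four on a del Pezzo surface of degree one
-/

set_option autoImplicit false

namespace Groth.Agent.Lib.Helper95

open W4c3severiratdp

namespace WeylDP

def P2 : DP 8 := ![4, 0, 2, 2, 2, 1, 1, 1, 1]
def Q2 : DP 8 := ![5, 1, 2, 2, 2, 2, 2, 2, 0]

theorem conicData8_four : ∀ l ∈ conicData8.T, l.getD 0 0 - l.getD 1 0 = 4 →
    l = [4, 0, 2, 2, 2, 1, 1, 1, 1] ∨ l = [5, 1, 2, 2, 2, 2, 2, 2, 0] := by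
  decide

theorem conic_pairs_four :
    ∃ p₁ p₂ q₁ q₂ : DP 8, IsConic p₁ ∧ IsConic p₂ ∧ IsConic q₁ ∧ IsConic q₂ ∧ form p₁ p₂ = 4 ∧
      form q₁ q₂ = 4 ∧
      (¬ ∃ g : DP 8 ≃ₗ[ℤ] DP 8, IsWeyl g ∧ g p₁ = q₁ ∧ g p₂ = q₂) ∧
      ∀ v₁ v₂ : DP 8, IsConic v₁ → IsConic v₂ → form v₁ v₂ = 4 →
        ∃ g : DP 8 ≃ₗ[ℤ] DP 8, IsWeyl g ∧ ((g v₁ = p₁ ∧ g v₂ = p₂) ∨ (g v₁ = q₁ ∧ g v₂ = q₂)) := by
  refine ⟨Q0 8, P2, Q0 8, Q2, by constructor <;> decide, by constructor <;> decide,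
    by constructor <;> decide, by constructor <;> decide, by decide, by decide, ?_, ?_⟩
  · rintro ⟨g, -, hg1, hg2⟩
    have h : g (Q0 8 + P2) = (2 : ℤ) • (![3, 1, 1, 1, 1, 1, 1, 1, 0] : DP 8) := by
      rw [map_add, hg1, hg2]; decide
    have h2 : Q0 8 + P2 = (2 : ℤ) • g.symm (![3, 1, 1, 1, 1, 1, 1, 1, 0] : DP 8) := by
      rw [← map_smul, ← h]; simp
    have h3 := congrFun h2 0
    have h4 : (Q0 8 + P2) 0 = 5 := by decide
    rw [h4] at h3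
    simp only [Pi.smul_apply, smul_eq_mul] at h3
    omega
  · intro v₁ v₂ hv₁ hv₂ h4
    obtain ⟨g, hgW, hg1, hgT, hgm⟩ := conicData8.normal_form v₁ v₂ hv₁ hv₂
    refine ⟨g, hgW, ?_⟩
    rcases conicData8_four _ hgT (by rw [hgm, h4]) with h | h
    · left
      refine ⟨hg1, List.ofFn_injective ?_⟩
      rw [h]; simp [P2]
    · right
      refine ⟨hg1, List.ofFn_injective ?_⟩
      rw [h]; simp [Q2]

end WeylDP

end Groth.Agent.Lib.Helper95
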