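import Groth.Agent.Lib.Helper95.WeylDPBasic

/-!
# Descent into a chamber-like region by sorting and a Cremona reflection

For `δ = s + n ≤ 8` and three distinct positions `p, q, r`, every vector of `DP δ` can be moved,
by permutations of the last `n` exceptional coordinates and the reflection in
`ℓ - e_p - e_q - e_r`, to a vector whose last `n` exceptional coordinates are non-increasing and
with `b_p + b_q + b_r ≤ a`.
-/

set_option autoImplicit false

namespace Groth.Agent.Lib.Helper95

open W4c3severiratdp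

namespace WeylDP

/-! ### Block permutations -/

section Block

variable {s n : ℕ}

/-- A permutation of the last `n` of `s + n` indices. -/
def blockPerm (s : ℕ) {n : ℕ} (τ : Equiv.Perm (Fin n)) : Equiv.Perm (Fin (s + n)) :=
  finSumFinEquiv.symm.trans ((Equiv.sumCongr (Equiv.refl (Fin s)) τ).trans finSumFinEquiv)

@[simp] theorem blockPerm_castAdd (τ : Equiv.Perm (Fin n)) (i : Fin s) :
    blockPerm s τ (Fin.castAdd n i) = Fin.castAdd n i := by
  simp [blockPerm]

@[simp] theorem blockPerm_natAdd (τ : Equiv.Perm (Fin n)) (j : Fin n) :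
    blockPerm s τ (Fin.natAdd s j) = Fin.natAdd s (τ j) := by
  simp [blockPerm]

/-- A vector whose last `n` exceptional coordinates are all equal. -/
def BlockConst (s n : ℕ) (u : DP (s + n)) : Prop :=
  ∀ j j' : Fin n, u (Fin.natAdd s j).succ = u (Fin.natAdd s j').succ

theorem permEquiv_blockPerm_fixed (τ : Equiv.Perm (Fin n)) (u : DP (s + n))
    (hu : BlockConst s n u) : permEquiv (blockPerm s τ) u = u := by
  ext i
  refine Fin.cases ?_ (fun k => ?_) i
  · simp
  · rw [permEquiv_apply_succ]
    refine Fin.addCases (fun a => ?_) (fun b => ?_) k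
    · rw [blockPerm_castAdd]
    · rw [blockPerm_natAdd]
      exact hu _ _

theorem exists_blockPerm_antitone (v : DP (s + n)) :
    ∃ τ : Equiv.Perm (Fin n),
      Antitone fun j : Fin n => permEquiv (blockPerm s τ) v (Fin.natAdd s j).succ := by
  refine ⟨Tuple.sort fun j : Fin n => -v (Fin.natAdd s j).succ, ?_⟩
  have h := Tuple.monotone_sort fun j : Fin n => -v (Fin.natAdd s j).succ
  intro j j' hjj'
  have := h hjj'
  simp only [Function.comp_apply, neg_le_neg_iff] at this
  simpa using this

end Block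

/-! ### The Cremona root -/

section Crem

variable {δ : ℕ}

/-- The root `ℓ - e_p - e_q - e_r`. -/
def cremRoot (p q r : Fin δ) : DP δ :=
  Fin.cases 1 fun j => (if j = p then 1 else 0) + (if j = q then 1 else 0) + (if j = r then 1 else 0)

theorem form_cremRoot (p q r : Fin δ) (v : DP δ) :
    form v (cremRoot p q r) = v 0 - (v p.succ + v q.succ + v r.succ) := by
  unfold form cremRoot
  simp [mul_add, Finset.sum_add_distrib]

theorem cremRoot_self (p q r : Fin δ) (hpq : p ≠ q) (hpr : p ≠ r) (hqr : q ≠ r) :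
    form (cremRoot p q r) (cremRoot p q r) = -2 := by
  rw [form_cremRoot]
  simp [cremRoot, hpq, hpr, hqr, hpq.symm, hpr.symm, hqr.symm]

theorem canon_cremRoot (p q r : Fin δ) : form (canon δ) (cremRoot p q r) = 0 := by
  rw [form_cremRoot]
  simp [canon]

end Crem

/-! ### A lower bound for the first coordinate -/

theorem first_coord_lower_bound {δ : ℕ} (hδ : δ ≤ 8) (v : DP δ) :
    0 ≤ v 0 + 3 * form (canon δ) v + (8 * form (canon δ) v ^ 2 - 8 * form v v) := by
  set s1 := ∑ i : Fin δ, v i.succ with hs1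
  set s2 := ∑ i : Fin δ, v i.succ ^ 2 with hs2
  have hd : form (canon δ) v = -3 * v 0 + s1 := by
    unfold form canon
    simp only [Fin.cases_zero, Fin.cases_succ, neg_mul, one_mul, Finset.sum_neg_distrib, hs1]
    ring
  have hc : form v v = v 0 ^ 2 - s2 := by
    unfold form
    rw [hs2]
    congr 1
    · ring
    · exact Finset.sum_congr rfl fun i _ => by ring
  have hcs : s1 ^ 2 ≤ (δ : ℤ) * s2 := by
    have := sq_sum_le_card_mul_sum_sq (s := (Finset.univ : Finset (Fin δ))) (f := fun i => v i.succ)
    simpa using this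
  have hs2nn : 0 ≤ s2 := Finset.sum_nonneg fun i _ => sq_nonneg _
  have hδ' : (δ : ℤ) ≤ 8 := by exact_mod_cast hδ
  have h8 : s1 ^ 2 ≤ 8 * s2 := le_trans hcs (mul_le_mul_of_nonneg_right hδ' hs2nn)
  rw [hd, hc]
  set a := v 0
  -- x = a + 3 d, x ^ 2 ≤ D
  have hx : (a + 3 * (-3 * a + s1)) ^ 2 ≤ 8 * (-3 * a + s1) ^ 2 - 8 * (a ^ 2 - s2) := by
    nlinarith
  have hxx : 0 ≤ (a + 3 * (-3 * a + s1)) + (a + 3 * (-3 * a + s1)) ^ 2 := by
    rcases le_or_gt 0 (a + 3 * (-3 * a + s1)) with h | h
    · positivity
    · nlinarith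
  linarith

/-! ### The descent -/

section Descent

variable {s n : ℕ}

/-- The chamber-like region. -/
def InReg (s n : ℕ) (p q r : Fin (s + n)) (v : DP (s + n)) : Prop :=
  (Antitone fun j : Fin n => v (Fin.natAdd s j).succ) ∧ v p.succ + v q.succ + v r.succ ≤ v 0

theorem descent_aux (hδ : s + n ≤ 8) (p q r : Fin (s + n)) (hpq : p ≠ q) (hpr : p ≠ r)
    (hqr : q ≠ r) (c d : ℤ) :
    ∀ k : ℕ, ∀ v : DP (s + n), form v v = c → form (canon (s + n)) v = d →
      v 0 + 3 * d + (8 * d ^ 2 - 8 * c) < k →
      ∃ g : DP (s + n) ≃ₗ[ℤ] DP (s + n), IsWeyl g ∧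
        (∀ u : DP (s + n), BlockConst s n u → form u (cremRoot p q r) = 0 → g u = u) ∧
        InReg s n p q r (g v) := by
  intro k
  induction k with
  | zero =>
    intro v hc hd hk
    have := first_coord_lower_bound hδ v
    rw [hc, hd] at this
    exact absurd hk (by push_cast; linarith)
  | succ k ih =>
    intro v hc hd hk
    obtain ⟨τ, hτ⟩ := exists_blockPerm_antitone (s := s) (n := n) v
    set g1 := permEquiv (blockPerm s τ) with hg1
    have hg1W : IsWeyl g1 := isWeyl_permEquiv _
    set w := g1 v with hw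
    by_cases hreg : w p.succ + w q.succ + w r.succ ≤ w 0
    · exact ⟨g1, hg1W, fun u hu _ => permEquiv_blockPerm_fixed τ u hu, hτ, hreg⟩
    · -- apply the Cremona reflection
      have hα := cremRoot_self p q r hpq hpr hqr
      set g2 := reflEquiv (cremRoot p q r) hα with hg2
      have hg2W : IsWeyl g2 := isWeyl_reflEquiv _ hα (canon_cremRoot p q r)
      set w' := g2 w with hw'
      have hw0 : w 0 = v 0 := by rw [hw, hg1]; simp
      have hw'0 : w' 0 = w 0 + (w 0 - (w p.succ + w q.succ + w r.succ)) := by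
        rw [hw', hg2, reflEquiv_apply, form_cremRoot]
        simp [cremRoot]
      have hc' : form w' w' = c := by
        rw [hw', hg2W.1, hw, hg1W.1, hc]
      have hd' : form (canon (s + n)) w' = d := by
        rw [hw', IsWeyl.form_canon hg2W, hw, IsWeyl.form_canon hg1W, hd]
      have hk' : w' 0 + 3 * d + (8 * d ^ 2 - 8 * c) < k := by
        push_cast at hk
        have hreg := not_le.mp hreg
        rw [hw'0, hw0]
        rw [hw0] at hreg
        linarith
      obtain ⟨g3, hg3W, hg3fix, hg3reg⟩ := ih w' hc' hd' hk'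
      refine ⟨(g1.trans g2).trans g3, IsWeyl.trans (IsWeyl.trans hg1W hg2W) hg3W, fun u hu hu0 => ?_, ?_⟩
      · simp only [LinearEquiv.trans_apply]
        rw [hg1, permEquiv_blockPerm_fixed τ u hu, hg2, reflEquiv_fixed _ _ _ hu0,
          hg3fix u hu hu0]
      · simpa only [LinearEquiv.trans_apply] using hg3reg

/-- Every vector can be moved into the region by a Weyl element fixing all block-constant vectors
orthogonal to the Cremona root. -/
theorem descent (hδ : s + n ≤ 8) (p q r : Fin (s + n)) (hpq : p ≠ q) (hpr : p ≠ r)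
    (hqr : q ≠ r) (v : DP (s + n)) :
    ∃ g : DP (s + n) ≃ₗ[ℤ] DP (s + n), IsWeyl g ∧
      (∀ u : DP (s + n), BlockConst s n u → form u (cremRoot p q r) = 0 → g u = u) ∧
      InReg s n p q r (g v) := by
  obtain ⟨k, hk⟩ : ∃ k : ℕ, v 0 + 3 * form (canon (s + n)) v +
      (8 * form (canon (s + n)) v ^ 2 - 8 * form v v) < k := by
    refine ⟨(v 0 + 3 * form (canon (s + n)) v +
      (8 * form (canon (s + n)) v ^ 2 - 8 * form v v)).toNat + 1, ?_⟩
    have := Int.self_le_toNat (v 0 + 3 * form (canon (s + n)) v +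
      (8 * form (canon (s + n)) v ^ 2 - 8 * form v v))
    push_cast
    linarith
  exact descent_aux hδ p q r hpq hpr hqr _ _ k v rfl rfl hk

/-- Sorting only: every vector can be moved by a permutation of the block to a vector with
non-increasing block. -/
theorem sort_block (v : DP (s + n)) :
    ∃ g : DP (s + n) ≃ₗ[ℤ] DP (s + n), IsWeyl g ∧
      (∀ u : DP (s + n), BlockConst s n u → g u = u) ∧
      (Antitone fun j : Fin n => (g v) (Fin.natAdd s j).succ) ∧ (g v) 0 = v 0 ∧
      ∀ i : Fin s, (g v) (Fin.castAdd n i).succ = v (Fin.castAdd n i).succ := by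
  obtain ⟨τ, hτ⟩ := exists_blockPerm_antitone (s := s) (n := n) v
  refine ⟨permEquiv (blockPerm s τ), isWeyl_permEquiv _,
    fun u hu => permEquiv_blockPerm_fixed τ u hu, hτ, by simp, fun i => by simp⟩

end Descent

end WeylDP

end Groth.Agent.Lib.Helper95
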