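import Groth.Agent.Lib.Helper95.WeylDPSearch

/-!
# Exceptional classes on the blow-up of the plane at eight points

* `exc_to_e1`: the Weyl group is transitive on exceptional classes.
* `exc_stab_transitive`: the stabilizer of `e₁` is transitive on the exceptional classes with a
  given intersection number with `e₁`.
-/

set_option autoImplicit false

namespace Groth.Agent.Lib.Helper95

open W4c3severiratdp

namespace WeylDP

theorem getD_ofFn {m : ℕ} (w : Fin m → ℤ) (k : ℕ) (hk : k < m) :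
    (List.ofFn w).getD k 0 = w ⟨k, hk⟩ := by
  rw [List.getD_eq_getElem _ _ (by simpa using hk), List.getElem_ofFn]

/-- The exceptional class `e₁`. -/
def e1 : DP 8 := ![0, -1, 0, 0, 0, 0, 0, 0, 0]

/-- The exceptional class `e₈`. -/
def e8 : DP 8 := ![0, 0, 0, 0, 0, 0, 0, 0, -1]

theorem isExc_e1 : IsExc e1 := by
  constructor <;> simp [form, canon, e1, Fin.sum_univ_succ]

theorem IsWeyl.isExc {δ : ℕ} {g : DP δ ≃ₗ[ℤ] DP δ} (hg : IsWeyl g) {v : DP δ} (hv : IsExc v) :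
    IsExc (g v) :=
  ⟨by rw [hg.1]; exact hv.1, by rw [IsWeyl.form_canon hg]; exact hv.2⟩

theorem IsWeyl.isConic {δ : ℕ} {g : DP δ ≃ₗ[ℤ] DP δ} (hg : IsWeyl g) {v : DP δ}
    (hv : IsConic v) : IsConic (g v) :=
  ⟨by rw [hg.1]; exact hv.1, by rw [IsWeyl.form_canon hg]; exact hv.2⟩

theorem exc_bounds {δ : ℕ} (hδ : δ ≤ 8) {v : DP δ} (hv : IsExc v) :
    v 0 * v 0 ≤ 144 ∧ v 0 * v 0 - (-1) ≤ 144 := by
  have hcs := cs_bound hδ v
  rw [hv.1, hv.2] at hcs
  constructor <;> nlinarith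

theorem conic_bounds {δ : ℕ} (hδ : δ ≤ 8) {v : DP δ} (hv : IsConic v) :
    v 0 * v 0 ≤ 144 ∧ v 0 * v 0 - 0 ≤ 144 := by
  have hcs := cs_bound hδ v
  rw [hv.1, hv.2] at hcs
  constructor <;> nlinarith

theorem exc_to_e8 (L : DP 8) (hL : IsExc L) : ∃ g : DP 8 ≃ₗ[ℤ] DP 8, IsWeyl g ∧ g L = e8 := by
  obtain ⟨g, hgW, -, hreg⟩ := descent (s := 0) (n := 8) (by norm_num) (0 : Fin 8) 1 2
    (by decide) (by decide) (by decide) L
  refine ⟨g, hgW, ?_⟩
  have hw : IsExc (g L) := IsWeyl.isExc hgW hL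
  obtain ⟨ha, h144⟩ := exc_bounds le_rfl hw
  have hmem := mem_enum (s := 0) (n := 8) (by norm_num) (-1) (-1) (g L) hreg.1 hw.1 hw.2 ha h144
  have hmem' : List.ofFn (g L) ∈ (enum 0 8 (-1) (-1)).filter
      fun l => decide (l.getD 1 0 + l.getD 2 0 + l.getD 3 0 ≤ l.getD 0 0) := by
    refine List.mem_filter.mpr ⟨hmem, ?_⟩
    rw [decide_eq_true_eq, getD_ofFn _ 1 (by norm_num), getD_ofFn _ 2 (by norm_num),
      getD_ofFn _ 3 (by norm_num), getD_ofFn _ 0 (by norm_num)]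
    exact hreg.2
  rw [show ((enum 0 8 (-1) (-1)).filter
      fun l => decide (l.getD 1 0 + l.getD 2 0 + l.getD 3 0 ≤ l.getD 0 0)) =
      [[0, 0, 0, 0, 0, 0, 0, 0, -1]] from by decide] at hmem'
  have h2 : List.ofFn (g L) = List.ofFn e8 := by
    rw [List.mem_singleton] at hmem'
    rw [hmem']
    simp [e8]
  exact List.ofFn_injective h2

theorem exc_to_e1 (L : DP 8) (hL : IsExc L) : ∃ g : DP 8 ≃ₗ[ℤ] DP 8, IsWeyl g ∧ g L = e1 := by
  obtain ⟨g, hgW, hg⟩ := exc_to_e8 L hL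
  refine ⟨g.trans (permEquiv (Equiv.swap 0 7)), IsWeyl.trans hgW (isWeyl_permEquiv _), ?_⟩
  rw [LinearEquiv.trans_apply, hg]
  ext i
  refine Fin.cases ?_ (fun j => ?_) i
  · simp [e1, e8]
  · rw [permEquiv_apply_succ]
    fin_cases j <;> simp [e1, e8, Equiv.swap_apply_def]

theorem form_e1 (v : DP 8) : form v e1 = v 1 := by
  simp [form, e1, Fin.sum_univ_succ]

theorem blockConst_e1 : BlockConst 1 7 (e1 : DP (1 + 7)) := by
  intro j j'
  fin_cases j <;> fin_cases j' <;> rfl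

theorem e1_cremRoot : form (e1 : DP (1 + 7)) (cremRoot 1 2 3) = 0 := by
  rw [form_cremRoot]
  rfl

/-- The region table for exceptional classes relative to `e₁`. -/
def excTable : List (List ℤ) :=
  (enum 1 7 (-1) (-1)).filter fun l => decide (l.getD 2 0 + l.getD 3 0 + l.getD 4 0 ≤ l.getD 0 0)

theorem excTable_eq : excTable =
    [[6, 3, 2, 2, 2, 2, 2, 2, 2], [3, 2, 1, 1, 1, 1, 1, 1, 0], [1, 1, 1, 0, 0, 0, 0, 0, 0],
     [0, 0, 0, 0, 0, 0, 0, 0, -1], [0, -1, 0, 0, 0, 0, 0, 0, 0]] := by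
  decide

/-- Every exceptional class can be moved into the region relative to `e₁` by an element of the
stabilizer of `e₁`. -/
theorem exc_to_table (E : DP 8) (hE : IsExc E) :
    ∃ g : DP 8 ≃ₗ[ℤ] DP 8, IsWeyl g ∧ g e1 = e1 ∧ List.ofFn (g E) ∈ excTable := by
  obtain ⟨g, hgW, hfix, hreg⟩ := descent (s := 1) (n := 7) (by norm_num) (1 : Fin 8) 2 3
    (by decide) (by decide) (by decide) E
  refine ⟨g, hgW, hfix e1 blockConst_e1 e1_cremRoot, ?_⟩
  have hw : IsExc (g E) := IsWeyl.isExc hgW hE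
  obtain ⟨ha, h144⟩ := exc_bounds le_rfl hw
  have hmem := mem_enum (s := 1) (n := 7) (by norm_num) (-1) (-1) (g E) hreg.1 hw.1 hw.2 ha h144
  refine List.mem_filter.mpr ⟨hmem, ?_⟩
  rw [decide_eq_true_eq, getD_ofFn _ 2 (by norm_num), getD_ofFn _ 3 (by norm_num),
    getD_ofFn _ 4 (by norm_num), getD_ofFn _ 0 (by norm_num)]
  exact hreg.2

theorem excTable_unique : ∀ l ∈ excTable, ∀ l' ∈ excTable, l.getD 1 0 = l'.getD 1 0 → l = l' := by
  rw [excTable_eq]
  decide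

/-- The stabilizer of `e₁` acts transitively on the exceptional classes with a given intersection
number with `e₁`. -/
theorem exc_stab_transitive (E E' : DP 8) (hE : IsExc E) (hE' : IsExc E')
    (h : form E e1 = form E' e1) :
    ∃ g : DP 8 ≃ₗ[ℤ] DP 8, IsWeyl g ∧ g e1 = e1 ∧ g E = E' := by
  obtain ⟨g, hgW, hg1, hgT⟩ := exc_to_table E hE
  obtain ⟨g', hgW', hg1', hgT'⟩ := exc_to_table E' hE'
  have h1 : (g E) 1 = (g' E') 1 := by
    rw [← form_e1 (g E), ← form_e1 (g' E')]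
    conv_lhs => rw [← hg1]
    conv_rhs => rw [← hg1']
    rw [hgW.1, hgW'.1, h]
  have h2 : List.ofFn (g E) = List.ofFn (g' E') := by
    refine excTable_unique _ hgT _ hgT' ?_
    rw [getD_ofFn _ 1 (by norm_num), getD_ofFn _ 1 (by norm_num)]
    exact h1
  have h3 : g E = g' E' := List.ofFn_injective h2
  refine ⟨g.trans g'.symm, IsWeyl.trans hgW (IsWeyl.symm hgW'), ?_, ?_⟩
  · rw [LinearEquiv.trans_apply, hg1]
    exact (LinearEquiv.symm_apply_eq g').mpr hg1'.symm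
  · rw [LinearEquiv.trans_apply, h3]
    simp

/-- The stabilizer of an exceptional class `L` acts transitively on the exceptional classes with a
given intersection number with `L`. -/
theorem exc_stab_transitive' (L L₁ L₂ : DP 8) (hL : IsExc L) (hL₁ : IsExc L₁) (hL₂ : IsExc L₂)
    (h : form L₁ L = form L₂ L) :
    ∃ g : DP 8 ≃ₗ[ℤ] DP 8, IsWeyl g ∧ g L = L ∧ g L₁ = L₂ := by
  obtain ⟨k, hkW, hk⟩ := exc_to_e1 L hL
  obtain ⟨g, hgW, hg1, hg⟩ := exc_stab_transitive (k L₁) (k L₂) (IsWeyl.isExc hkW hL₁)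
    (IsWeyl.isExc hkW hL₂) (by rw [← hk, hkW.1, hkW.1, h])
  refine ⟨(k.trans g).trans k.symm, IsWeyl.trans (IsWeyl.trans hkW hgW) (IsWeyl.symm hkW), ?_, ?_⟩
  · simp only [LinearEquiv.trans_apply]
    rw [hk, hg1, ← hk]
    simp
  · simp only [LinearEquiv.trans_apply]
    rw [hg]
    simp

end WeylDP

end Groth.Agent.Lib.Helper95
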