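import Groth.Agent.Lib.Helper95.WeylDPDescent

/-!
# A certified search for integer vectors with prescribed sum and sum of squares

`search n N M ub` lists all non-increasing integer sequences of length `n`, bounded above by `ub`,
with sum of squares `N ≤ 144` and sum `M`; `usearch` prepends unconstrained entries; `enum`
lists the coordinate vectors of lattice vectors with given self-intersection and canonical degree.
-/

set_option autoImplicit false

namespace Groth.Agent.Lib.Helper95

open W4c3severiratdp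

namespace WeylDP

/-- The candidate values `12, 11, …, -12`. -/
def cands : List ℤ := (List.range 25).map fun i : ℕ => (12 : ℤ) - (i : ℤ)

theorem mem_cands (x : ℤ) (h : x * x ≤ 144) : x ∈ cands := by
  have h1 : x ≤ 12 := by nlinarith
  have h2 : -12 ≤ x := by nlinarith
  have h3 : ((12 - x).toNat : ℤ) = 12 - x := Int.toNat_of_nonneg (by omega)
  have h4 : (12 - x).toNat < 25 := by omega
  exact List.mem_map.mpr ⟨(12 - x).toNat, List.mem_range.mpr h4, by rw [h3]; ring⟩

/-- All non-increasing sequences of length `n` with entries `≤ ub`, sum of squares `N` and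
sum `M`. -/
def search : (n : ℕ) → (N M ub : ℤ) → List (List ℤ)
  | 0, N, M, _ => if N = 0 ∧ M = 0 then [[]] else []
  | n + 1, N, M, ub =>
    if N < 0 ∨ ((n : ℤ) + 1) * N < M * M then []
    else cands.flatMap fun b =>
      if b ≤ ub ∧ b * b ≤ N then (search n (N - b * b) (M - b) b).map (b :: ·) else []

theorem mem_search : ∀ (n : ℕ) (N M ub : ℤ) (f : Fin n → ℤ), Antitone f → (∀ i, f i ≤ ub) →
    ∑ i, f i * f i = N → ∑ i, f i = M → N ≤ 144 → List.ofFn f ∈ search n N M ub := by
  intro n
  induction n with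
  | zero =>
    intro N M ub f _ _ hN hM _
    simp only [Finset.univ_eq_empty, Finset.sum_empty] at hN hM
    simp [search, ← hN, ← hM]
  | succ n ih =>
    intro N M ub f hf hub hN hM h144
    rw [Fin.sum_univ_succ] at hN hM
    have hrest_nn : 0 ≤ ∑ i : Fin n, f i.succ * f i.succ :=
      Finset.sum_nonneg fun i _ => mul_self_nonneg _
    have hNnn : 0 ≤ N := by rw [← hN]; have := mul_self_nonneg (f 0); linarith
    have hcs : M * M ≤ ((n : ℤ) + 1) * N := by
      have := sq_sum_le_card_mul_sum_sq (s := (Finset.univ : Finset (Fin (n + 1)))) (f := f)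
      simp only [Finset.card_univ, Fintype.card_fin, Nat.cast_add, Nat.cast_one] at this
      rw [Fin.sum_univ_succ, Fin.sum_univ_succ] at this
      have e : ∑ i : Fin n, f i.succ ^ 2 = ∑ i : Fin n, f i.succ * f i.succ :=
        Finset.sum_congr rfl fun i _ => by ring
      rw [e] at this
      rw [← hN, ← hM]
      nlinarith
    rw [search, if_neg (by push Not; exact ⟨hNnn, hcs⟩)]
    rw [List.ofFn_succ, List.mem_flatMap]
    have hb : f 0 * f 0 ≤ N := by rw [← hN]; linarith
    refine ⟨f 0, mem_cands _ (le_trans hb h144), ?_⟩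
    rw [if_pos ⟨hub 0, hb⟩]
    refine List.mem_map.mpr ⟨List.ofFn fun i => f i.succ, ?_, rfl⟩
    refine ih _ _ _ (fun i => f i.succ) (fun i j hij => hf (Fin.succ_le_succ_iff.mpr hij))
      (fun i => hf (Fin.zero_le _)) (by rw [← hN]; ring) (by rw [← hM]; ring) ?_
    linarith [mul_self_nonneg (f 0)]

/-- Prepend `s` unconstrained entries. -/
def usearch : (s : ℕ) → (N M : ℤ) → (ℤ → ℤ → List (List ℤ)) → List (List ℤ)
  | 0, N, M, k => k N M
  | s + 1, N, M, k => cands.flatMap fun x =>
      if x * x ≤ N then (usearch s (N - x * x) (M - x) k).map (x :: ·) else []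

theorem mem_usearch (k : ℤ → ℤ → List (List ℤ)) : ∀ (xs : List ℤ) (N M : ℤ) (rest : List ℤ),
    N ≤ 144 → 0 ≤ N - (xs.map fun x => x * x).sum →
    rest ∈ k (N - (xs.map fun x => x * x).sum) (M - xs.sum) →
    xs ++ rest ∈ usearch xs.length N M k := by
  intro xs
  induction xs with
  | nil =>
    intro N M rest _ _ h
    simpa [usearch] using h
  | cons x xs ih =>
    intro N M rest h144 hnn h
    simp only [List.map_cons, List.sum_cons] at hnn h
    have hxs_nn : 0 ≤ (xs.map fun x => x * x).sum :=
      List.sum_nonneg fun y hy => by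
        obtain ⟨z, _, rfl⟩ := List.mem_map.mp hy
        exact mul_self_nonneg z
    have hx : x * x ≤ N := by linarith
    simp only [List.length_cons, usearch, List.cons_append, List.mem_flatMap]
    refine ⟨x, mem_cands x (le_trans hx h144), ?_⟩
    rw [if_pos hx]
    refine List.mem_map.mpr ⟨xs ++ rest, ?_, rfl⟩
    refine ih (N - x * x) (M - x) rest (by linarith [mul_self_nonneg x]) (by linarith) ?_
    have e1 : N - x * x - (xs.map fun x => x * x).sum = N - (x * x + (xs.map fun x => x * x).sum) := by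
      ring
    have e2 : M - x - xs.sum = M - (x + xs.sum) := by ring
    rw [e1, e2]
    exact h

/-- The coordinate lists `a :: specials ++ block` of the vectors `v` of `DP (s + n)` with
non-increasing block, `v · v = c` and `K · v = d`. -/
def enum (s n : ℕ) (c d : ℤ) : List (List ℤ) :=
  cands.flatMap fun a =>
    if (a + 3 * d) ^ 2 ≤ 8 * d ^ 2 - 8 * c ∧ a * a - c ≤ 144 then
      (usearch s (a * a - c) (3 * a + d) fun N M => search n N M 12).map (a :: ·)
    else []

theorem cs_bound {δ : ℕ} (hδ : δ ≤ 8) (v : DP δ) :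
    (v 0 + 3 * form (canon δ) v) ^ 2 ≤ 8 * form (canon δ) v ^ 2 - 8 * form v v := by
  set s1 := ∑ i : Fin δ, v i.succ with hs1
  set s2 := ∑ i : Fin δ, v i.succ ^ 2 with hs2
  have hd : form (canon δ) v = -3 * v 0 + s1 := by
    unfold form canon
    simp only [Fin.cases_zero, Fin.cases_succ, neg_mul, one_mul, Finset.sum_neg_distrib, hs1]
    ring
  have hc : form v v = v 0 ^ 2 - s2 := by
    unfold form
    rw [hs2]
    congr 1
    · ring
    · exact Finset.sum_congr rfl fun i _ => by ring
  have hcs : s1 ^ 2 ≤ (δ : ℤ) * s2 := by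
    have := sq_sum_le_card_mul_sum_sq (s := (Finset.univ : Finset (Fin δ))) (f := fun i => v i.succ)
    simpa using this
  have hs2nn : 0 ≤ s2 := Finset.sum_nonneg fun i _ => sq_nonneg _
  have hδ' : (δ : ℤ) ≤ 8 := by exact_mod_cast hδ
  have h8 : s1 ^ 2 ≤ 8 * s2 := le_trans hcs (mul_le_mul_of_nonneg_right hδ' hs2nn)
  rw [hd, hc]
  nlinarith

theorem sum_sq_eq {δ : ℕ} (v : DP δ) :
    ∑ i : Fin δ, v i.succ * v i.succ = v 0 * v 0 - form v v := by
  unfold form
  ring

theorem sum_eq {δ : ℕ} (v : DP δ) :
    ∑ i : Fin δ, v i.succ = 3 * v 0 + form (canon δ) v := by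
  unfold form canon
  simp only [Fin.cases_zero, Fin.cases_succ, neg_mul, one_mul, Finset.sum_neg_distrib]
  ring

theorem mem_enum {s n : ℕ} (hδ : s + n ≤ 8) (c d : ℤ) (v : DP (s + n))
    (hanti : Antitone fun j : Fin n => v (Fin.natAdd s j).succ)
    (hc : form v v = c) (hd : form (canon (s + n)) v = d) (ha : v 0 * v 0 ≤ 144)
    (h144 : v 0 * v 0 - c ≤ 144) :
    List.ofFn v ∈ enum s n c d := by
  have hcs := cs_bound hδ v
  rw [hc, hd] at hcs
  have hsq := sum_sq_eq v
  have hsum := sum_eq v
  rw [hc, Fin.sum_univ_add] at hsq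
  rw [hd, Fin.sum_univ_add] at hsum
  have hblock_nn : 0 ≤ ∑ j : Fin n, v (Fin.natAdd s j).succ * v (Fin.natAdd s j).succ :=
    Finset.sum_nonneg fun i _ => mul_self_nonneg _
  have hspec_nn : 0 ≤ ∑ i : Fin s, v (Fin.castAdd n i).succ * v (Fin.castAdd n i).succ :=
    Finset.sum_nonneg fun i _ => mul_self_nonneg _
  rw [List.ofFn_succ]
  unfold enum
  rw [List.mem_flatMap]
  refine ⟨v 0, mem_cands _ ha, ?_⟩
  rw [if_pos ⟨hcs, h144⟩]
  refine List.mem_map.mpr ⟨List.ofFn (fun i : Fin (s + n) => v i.succ), ?_, rfl⟩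
  rw [List.ofFn_add]
  have hxs : (List.ofFn fun i : Fin s => v (Fin.succ (Fin.castLE (Nat.le_add_right s n) i))) =
      List.ofFn fun i : Fin s => v (Fin.castAdd n i).succ := rfl
  rw [hxs]
  set xs := List.ofFn fun i : Fin s => v (Fin.castAdd n i).succ with hxsdef
  have hlen : xs.length = s := List.length_ofFn
  have hxs_sq : (xs.map fun x => x * x).sum =
      ∑ i : Fin s, v (Fin.castAdd n i).succ * v (Fin.castAdd n i).succ := by
    rw [hxsdef, List.map_ofFn, List.sum_ofFn]
    rfl
  have hxs_sum : xs.sum = ∑ i : Fin s, v (Fin.castAdd n i).succ := by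
    rw [hxsdef, List.sum_ofFn]
  have key := mem_usearch (fun N M => search n N M 12) xs (v 0 * v 0 - c) (3 * v 0 + d)
    (List.ofFn fun j : Fin n => v (Fin.natAdd s j).succ) h144 (by rw [hxs_sq]; linarith) ?_
  · rwa [hlen] at key
  · rw [hxs_sq, hxs_sum]
    refine mem_search n _ _ 12 (fun j : Fin n => v (Fin.natAdd s j).succ) hanti (fun j => ?_)
      (by linarith) (by linarith) (by linarith)
    -- each block entry is at most 12
    have h1 : v (Fin.natAdd s j).succ * v (Fin.natAdd s j).succ ≤
        ∑ j : Fin n, v (Fin.natAdd s j).succ * v (Fin.natAdd s j).succ :=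
      Finset.single_le_sum (f := fun j : Fin n => v (Fin.natAdd s j).succ * v (Fin.natAdd s j).succ)
        (fun i _ => mul_self_nonneg _) (Finset.mem_univ j)
    nlinarith

end WeylDP

end Groth.Agent.Lib.Helper95
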