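import Groth.Agent.Lib.Helper95.WeylDPExc

/-!
# Triples of exceptional classes summing to `-2K + L` on a del Pezzo surface of degree one

The stabilizer of an exceptional class `L` has exactly four orbits on unordered triples of
exceptional classes with sum `-2K + L`.
-/

set_option autoImplicit false

namespace Groth.Agent.Lib.Helper95

open W4c3severiratdp

namespace WeylDP

theorem excTable_b1 : ∀ l ∈ excTable,
    l.getD 1 0 = -1 ∨ l.getD 1 0 = 0 ∨ l.getD 1 0 = 1 ∨ l.getD 1 0 = 2 ∨ l.getD 1 0 = 3 := by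
  rw [excTable_eq]
  decide

theorem stab_e1_apply_one {g : DP 8 ≃ₗ[ℤ] DP 8} (hg : IsWeyl g) (hg1 : g e1 = e1) (v : DP 8) :
    (g v) 1 = v 1 := by
  rw [← form_e1 (g v), ← form_e1 v]
  conv_lhs => rw [← hg1]
  exact hg.1 v e1

theorem exc_b1_mem (E : DP 8) (hE : IsExc E) :
    E 1 = -1 ∨ E 1 = 0 ∨ E 1 = 1 ∨ E 1 = 2 ∨ E 1 = 3 := by
  obtain ⟨g, hgW, hg1, hT⟩ := exc_to_table E hE
  have := excTable_b1 _ hT
  rwa [getD_ofFn _ 1 (by norm_num), show (⟨1, by norm_num⟩ : Fin 9) = 1 from rfl,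
    stab_e1_apply_one hgW hg1] at this

theorem exc_eq_e1 (E : DP 8) (hE : IsExc E) (h : E 1 = -1) : E = e1 := by
  obtain ⟨g, hgW, hg1, hg⟩ := exc_stab_transitive E e1 hE isExc_e1
    (by rw [form_e1, form_e1, h]; rfl)
  have : g E = g e1 := by rw [hg, hg1]
  exact g.injective this

/-- `e₁ - 2K`. -/
def S1 : DP 8 := e1 - 2 • canon 8

/-- `ℓ - e₁ - e₂`. -/
def G1 : DP 8 := ![1, 1, 1, 0, 0, 0, 0, 0, 0]

def A1 : DP 8 := ![2, 0, 0, 1, 1, 1, 1, 1, 0]
def A1s : DP 8 := ![3, 0, 1, 1, 1, 1, 1, 1, 2]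
def B1 : DP 8 := ![3, 0, 1, 2, 1, 1, 1, 1, 1]
def B1s : DP 8 := ![2, 0, 0, 0, 1, 1, 1, 1, 1]
def Sp : DP 8 := ![5, 0, 1, 2, 2, 2, 2, 2, 2]

/-- The four standard triples. -/
def stdTriple : Fin 4 → Fin 3 → DP 8 :=
  ![![e1, e1, S1 - e1 - e1], ![e1, e8, S1 - e1 - e8], ![e1, G1, S1 - e1 - G1], ![A1, A1s, G1]]

theorem stdTriple_isExc : ∀ j i, IsExc (stdTriple j i) := by
  intro j i
  fin_cases j <;> fin_cases i <;> constructor <;> decide

theorem stdTriple_sum : ∀ j, stdTriple j 0 + stdTriple j 1 + stdTriple j 2 = S1 := by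
  intro j
  fin_cases j <;> decide

theorem stdTriple_inv : ∀ j j' : Fin 4,
    ∑ i, form (stdTriple j i) e1 ^ 2 = ∑ i, form (stdTriple j' i) e1 ^ 2 → j = j' := by
  decide

theorem stab_S1 {g : DP 8 ≃ₗ[ℤ] DP 8} (hg : IsWeyl g) (hg1 : g e1 = e1) : g S1 = S1 := by
  unfold S1
  rw [map_sub, map_nsmul, hg1, hg.2]

theorem blockConst26_e1 : BlockConst 2 6 (e1 : DP (2 + 6)) := by
  intro j j'
  fin_cases j <;> fin_cases j' <;> rfl

theorem blockConst26_G1 : BlockConst 2 6 (G1 : DP (2 + 6)) := by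
  intro j j'
  fin_cases j <;> fin_cases j' <;> rfl

theorem blockConst26_Sp : BlockConst 2 6 (Sp : DP (2 + 6)) := by
  intro j j'
  fin_cases j <;> fin_cases j' <;> rfl

/-- The table for the case `(0, 0, 1)`. -/
def tripTable : List (List ℤ) :=
  (enum 2 6 (-1) (-1)).filter fun l => decide (l.getD 1 0 = 0 ∧
    5 * l.getD 0 0 - (l.getD 2 0 + 2 * (l.getD 3 0 + l.getD 4 0 + l.getD 5 0 + l.getD 6 0 +
      l.getD 7 0 + l.getD 8 0)) = 0)

theorem tripTable_eq : tripTable = [[3, 0, 1, 2, 1, 1, 1, 1, 1], [2, 0, 0, 1, 1, 1, 1, 1, 0]] := by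
  decide

theorem form_Sp (v : DP 8) : form Sp v =
    5 * v 0 - (v 2 + 2 * (v 3 + v 4 + v 5 + v 6 + v 7 + v 8)) := by
  simp [form, Sp, Fin.sum_univ_succ]
  ring

/-- The case `(0, 0, 1)` after normalising the third class to `G1`. -/
theorem trip_case_001 (u0 u1 : DP 8) (h0 : IsExc u0) (h1 : IsExc u1) (hb : u0 1 = 0)
    (hsum : u0 + u1 = Sp) :
    ∃ g : DP 8 ≃ₗ[ℤ] DP 8, IsWeyl g ∧ g e1 = e1 ∧ g G1 = G1 ∧
      ((g u0 = A1 ∧ g u1 = A1s) ∨ (g u0 = A1s ∧ g u1 = A1)) := by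
  obtain ⟨g2, hg2W, hg2fix, hanti, hg20, hg2sp⟩ := sort_block (s := 2) (n := 6) u0
  have hw0 : IsExc (g2 u0) := IsWeyl.isExc hg2W h0
  have hw1 : IsExc (g2 u1) := IsWeyl.isExc hg2W h1
  have hSp : g2 Sp = Sp := hg2fix Sp blockConst26_Sp
  have hsum' : g2 u1 = Sp - g2 u0 := by
    rw [← hSp, ← hsum, map_add]; abel
  have hb' : (g2 u0) 1 = 0 := by
    have := hg2sp 0
    rw [show (Fin.castAdd 6 (0 : Fin 2)).succ = (1 : Fin 9) from rfl] at this
    rw [this, hb]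
  have hSpw : form Sp (g2 u0) = 0 := by
    have e := hw1.1
    rw [hsum', form_sub_left, form_sub_right, form_sub_right, hw0.1, form_comm (g2 u0) Sp] at e
    have : form Sp Sp = 0 := by decide
    rw [this] at e
    linarith
  obtain ⟨ha, h144⟩ := exc_bounds le_rfl hw0
  have hmem := mem_enum (s := 2) (n := 6) (by norm_num) (-1) (-1) (g2 u0) hanti hw0.1 hw0.2 ha h144
  have hT : List.ofFn (g2 u0) ∈ tripTable := by
    refine List.mem_filter.mpr ⟨hmem, ?_⟩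
    rw [decide_eq_true_eq, getD_ofFn _ 1 (by norm_num), getD_ofFn _ 2 (by norm_num),
      getD_ofFn _ 3 (by norm_num), getD_ofFn _ 4 (by norm_num), getD_ofFn _ 0 (by norm_num),
      getD_ofFn _ 5 (by norm_num), getD_ofFn _ 6 (by norm_num), getD_ofFn _ 7 (by norm_num),
      getD_ofFn _ 8 (by norm_num)]
    refine ⟨hb', ?_⟩
    rw [form_Sp] at hSpw
    exact hSpw
  rw [tripTable_eq] at hT
  have he1 : g2 e1 = e1 := hg2fix e1 blockConst26_e1
  have hG1 : g2 G1 = G1 := hg2fix G1 blockConst26_G1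
  rcases List.mem_cons.mp hT with hB | hT'
  · -- `g2 u0 = B1`
    have hu0 : g2 u0 = B1 := by
      apply List.ofFn_injective
      rw [hB]; simp [B1]
    have hu1 : g2 u1 = B1s := by
      rw [hsum', hu0]; decide
    refine ⟨g2.trans (permEquiv (Equiv.swap 2 7)), IsWeyl.trans hg2W (isWeyl_permEquiv _), ?_, ?_,
      Or.inr ⟨?_, ?_⟩⟩
    · rw [LinearEquiv.trans_apply, he1]
      ext i
      refine Fin.cases ?_ (fun j => ?_) i
      · simp
      · rw [permEquiv_apply_succ]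
        fin_cases j <;> simp [e1, Equiv.swap_apply_def]
    · rw [LinearEquiv.trans_apply, hG1]
      ext i
      refine Fin.cases ?_ (fun j => ?_) i
      · simp
      · rw [permEquiv_apply_succ]
        fin_cases j <;> simp [G1, Equiv.swap_apply_def]
    · rw [LinearEquiv.trans_apply, hu0]
      ext i
      refine Fin.cases ?_ (fun j => ?_) i
      · simp [B1, A1s]
      · rw [permEquiv_apply_succ]
        fin_cases j <;> simp [B1, A1s, Equiv.swap_apply_def]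
    · rw [LinearEquiv.trans_apply, hu1]
      ext i
      refine Fin.cases ?_ (fun j => ?_) i
      · simp [B1s, A1]
      · rw [permEquiv_apply_succ]
        fin_cases j <;> simp [B1s, A1, Equiv.swap_apply_def]
  · have hA : List.ofFn (g2 u0) = [2, 0, 0, 1, 1, 1, 1, 1, 0] := List.mem_singleton.mp hT'
    have hu0 : g2 u0 = A1 := by
      apply List.ofFn_injective
      rw [hA]; simp [A1]
    have hu1 : g2 u1 = A1s := by
      rw [hsum', hu0]; decide
    exact ⟨g2, hg2W, he1, hG1, Or.inl ⟨hu0, hu1⟩⟩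

theorem S1_one : S1 1 = 1 := by decide

theorem S1_sub_G1 : S1 - G1 = Sp := by decide

/-- Classification of the triples in `e₁`-coordinates. -/
theorem triples_e1 (t : Fin 3 → DP 8) (ht : ∀ i, IsExc (t i)) (hsum : t 0 + t 1 + t 2 = S1) :
    ∃ j : Fin 4, ∃ g : DP 8 ≃ₗ[ℤ] DP 8, IsWeyl g ∧ g e1 = e1 ∧
      ∃ σ : Equiv.Perm (Fin 3), ∀ i, g (t (σ i)) = stdTriple j i := by
  -- sort by the intersection number with `e₁`
  set τ := Tuple.sort fun i => (t i) 1 with hτ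
  have hmono : Monotone fun i => (t (τ i)) 1 := Tuple.monotone_sort fun i => (t i) 1
  set t' : Fin 3 → DP 8 := fun i => t (τ i) with ht'
  have ht'exc : ∀ i, IsExc (t' i) := fun i => ht _
  have hsum' : t' 0 + t' 1 + t' 2 = S1 := by
    rw [← hsum]
    have := Equiv.sum_comp τ t
    rw [Fin.sum_univ_three, Fin.sum_univ_three] at this
    exact this
  suffices h : ∃ j : Fin 4, ∃ g : DP 8 ≃ₗ[ℤ] DP 8, IsWeyl g ∧ g e1 = e1 ∧
      ∃ σ' : Equiv.Perm (Fin 3), ∀ i, g (t' (σ' i)) = stdTriple j i by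
    obtain ⟨j, g, hgW, hg1, σ', hσ'⟩ := h
    exact ⟨j, g, hgW, hg1, σ'.trans τ, fun i => hσ' i⟩
  have h01 : (t' 0) 1 ≤ (t' 1) 1 := hmono (by decide)
  have h12 : (t' 1) 1 ≤ (t' 2) 1 := hmono (by decide)
  have hs : (t' 0) 1 + (t' 1) 1 + (t' 2) 1 = 1 := by
    have := congrFun hsum' 1
    rw [S1_one] at this
    simpa using this
  have hm0 := exc_b1_mem _ (ht'exc 0)
  have hm1 := exc_b1_mem _ (ht'exc 1)
  have hm2 := exc_b1_mem _ (ht'exc 2)
  have hcases : ((t' 0) 1 = -1 ∧ (t' 1) 1 = -1 ∧ (t' 2) 1 = 3) ∨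
      ((t' 0) 1 = -1 ∧ (t' 1) 1 = 0 ∧ (t' 2) 1 = 2) ∨
      ((t' 0) 1 = -1 ∧ (t' 1) 1 = 1 ∧ (t' 2) 1 = 1) ∨
      ((t' 0) 1 = 0 ∧ (t' 1) 1 = 0 ∧ (t' 2) 1 = 1) := by omega
  rcases hcases with ⟨c0, c1, c2⟩ | ⟨c0, c1, c2⟩ | ⟨c0, c1, c2⟩ | ⟨c0, c1, c2⟩
  · -- (-1, -1, 3)
    have e0 : t' 0 = e1 := exc_eq_e1 _ (ht'exc 0) c0
    have e1' : t' 1 = e1 := exc_eq_e1 _ (ht'exc 1) c1
    have e2 : t' 2 = S1 - e1 - e1 := by rw [← hsum', e0, e1']; abel
    refine ⟨0, LinearEquiv.refl ℤ _, isWeyl_refl, rfl, Equiv.refl _, fun i => ?_⟩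
    fin_cases i
    · exact e0
    · exact e1'
    · exact e2
  · -- (-1, 0, 2)
    have e0 : t' 0 = e1 := exc_eq_e1 _ (ht'exc 0) c0
    obtain ⟨g, hgW, hg1, hg⟩ := exc_stab_transitive (t' 1) e8 (ht'exc 1)
      (by constructor <;> decide) (by rw [form_e1, form_e1, c1]; rfl)
    have e2 : t' 2 = S1 - e1 - t' 1 := by rw [← hsum', e0]; abel
    refine ⟨1, g, hgW, hg1, Equiv.refl _, fun i => ?_⟩
    fin_cases i
    · show g (t' 0) = e1
      rw [e0, hg1]
    · exact hg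
    · show g (t' 2) = S1 - e1 - e8
      rw [e2, map_sub, map_sub, stab_S1 hgW hg1, hg1, hg]
  · -- (-1, 1, 1)
    have e0 : t' 0 = e1 := exc_eq_e1 _ (ht'exc 0) c0
    obtain ⟨g, hgW, hg1, hg⟩ := exc_stab_transitive (t' 1) G1 (ht'exc 1)
      (by constructor <;> decide) (by rw [form_e1, form_e1, c1]; rfl)
    have e2 : t' 2 = S1 - e1 - t' 1 := by rw [← hsum', e0]; abel
    refine ⟨2, g, hgW, hg1, Equiv.refl _, fun i => ?_⟩
    fin_cases i
    · show g (t' 0) = e1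
      rw [e0, hg1]
    · exact hg
    · show g (t' 2) = S1 - e1 - G1
      rw [e2, map_sub, map_sub, stab_S1 hgW hg1, hg1, hg]
  · -- (0, 0, 1)
    obtain ⟨g1, hg1W, hg11, hg1⟩ := exc_stab_transitive (t' 2) G1 (ht'exc 2)
      (by constructor <;> decide) (by rw [form_e1, form_e1, c2]; rfl)
    have hu0 : IsExc (g1 (t' 0)) := IsWeyl.isExc hg1W (ht'exc 0)
    have hu1 : IsExc (g1 (t' 1)) := IsWeyl.isExc hg1W (ht'exc 1)
    have hb : (g1 (t' 0)) 1 = 0 := by rw [stab_e1_apply_one hg1W hg11, c0]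
    have hsumu : g1 (t' 0) + g1 (t' 1) = Sp := by
      have : g1 (t' 0 + t' 1 + t' 2) = S1 := by rw [hsum', stab_S1 hg1W hg11]
      rw [map_add, map_add, hg1] at this
      rw [← S1_sub_G1, ← this]; abel
    obtain ⟨g2, hg2W, hg21, hg2G, hg2⟩ := trip_case_001 _ _ hu0 hu1 hb hsumu
    refine ⟨3, g1.trans g2, IsWeyl.trans hg1W hg2W, by rw [LinearEquiv.trans_apply, hg11, hg21], ?_⟩
    rcases hg2 with ⟨hA, hAs⟩ | ⟨hAs, hA⟩
    · refine ⟨Equiv.refl _, fun i => ?_⟩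
      fin_cases i
      · exact hA
      · exact hAs
      · show g2 (g1 (t' 2)) = G1
        rw [hg1, hg2G]
    · refine ⟨Equiv.swap 0 1, fun i => ?_⟩
      fin_cases i
      · exact hA
      · exact hAs
      · show g2 (g1 (t' 2)) = G1
        rw [hg1, hg2G]

/-- The orbits of the stabilizer of an exceptional class `L` on the unordered triples of
exceptional classes with sum `L - 2K`. -/
theorem triples_orbits (L : DP 8) (hL : IsExc L) :
    ∃ r : Fin 4 → (Fin 3 → DP 8),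
      (∀ j, (∀ i, IsExc (r j i)) ∧ r j 0 + r j 1 + r j 2 = L - 2 • canon 8) ∧
      (∀ j j', (∃ g : DP 8 ≃ₗ[ℤ] DP 8, IsWeyl g ∧ g L = L ∧
        ∃ σ : Equiv.Perm (Fin 3), ∀ i, g (r j (σ i)) = r j' i) → j = j') ∧
      ∀ t : Fin 3 → DP 8, (∀ i, IsExc (t i)) → t 0 + t 1 + t 2 = L - 2 • canon 8 →
        ∃ j, ∃ g : DP 8 ≃ₗ[ℤ] DP 8, IsWeyl g ∧ g L = L ∧
          ∃ σ : Equiv.Perm (Fin 3), ∀ i, g (t (σ i)) = r j i := by
  obtain ⟨k, hkW, hk⟩ := exc_to_e1 L hL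
  have hksW := IsWeyl.symm hkW
  have hks1 : k.symm e1 = L := (LinearEquiv.symm_apply_eq k).mpr hk.symm
  have hkS : k (L - 2 • canon 8) = S1 := by
    rw [map_sub, map_nsmul, hk, hkW.2]; rfl
  refine ⟨fun j i => k.symm (stdTriple j i), fun j => ⟨fun i => IsWeyl.isExc hksW
    (stdTriple_isExc j i), ?_⟩, ?_, ?_⟩
  · rw [← map_add, ← map_add, stdTriple_sum]
    exact (LinearEquiv.symm_apply_eq k).mpr hkS.symm
  · rintro j j' ⟨g, hgW, hgL, σ, hσ⟩
    replace hσ : ∀ i, g (k.symm (stdTriple j (σ i))) = k.symm (stdTriple j' i) := hσ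
    apply stdTriple_inv
    have key : ∀ j i, form (k.symm (stdTriple j i)) L = form (stdTriple j i) e1 := by
      intro j i
      conv_lhs => rw [← hks1]
      exact hksW.1 _ _
    have h1 : ∀ i, form (stdTriple j' i) e1 = form (stdTriple j (σ i)) e1 := by
      intro i
      rw [← key j' i, ← hσ i, ← key j (σ i)]
      conv_lhs => rw [← hgL]
      exact hgW.1 _ _
    calc ∑ i, form (stdTriple j i) e1 ^ 2 = ∑ i, form (stdTriple j (σ i)) e1 ^ 2 :=
          (Equiv.sum_comp σ fun i => form (stdTriple j i) e1 ^ 2).symm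
      _ = ∑ i, form (stdTriple j' i) e1 ^ 2 := Finset.sum_congr rfl fun i _ => by rw [h1 i]
  · intro t ht hsum
    obtain ⟨j, g, hgW, hg1, σ, hσ⟩ := triples_e1 (fun i => k (t i))
      (fun i => IsWeyl.isExc hkW (ht i)) (by
        show k (t 0) + k (t 1) + k (t 2) = S1
        rw [← map_add, ← map_add, hsum, hkS])
    refine ⟨j, (k.trans g).trans k.symm, IsWeyl.trans (IsWeyl.trans hkW hgW) hksW, ?_, σ,
      fun i => ?_⟩
    · simp only [LinearEquiv.trans_apply]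
      rw [hk, hg1, hks1]
    · simp only [LinearEquiv.trans_apply]
      rw [hσ i]

end WeylDP

end Groth.Agent.Lib.Helper95
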